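import Groth.Agent.H9Hens.PairOps
import Mathlib.RingTheory.Spectrum.Maximal.Localization
import Mathlib.RingTheory.Spectrum.Prime.Topology
import Mathlib.RingTheory.HopkinsLevitzki
import Mathlib.RingTheory.LocalRing.ResidueField.Basic
import Mathlib.Algebra.Group.Pi.Units

/-!
Henselian local rings: finite algebras are products of local rings, finite part of finite type
algebras.
-/

namespace Groth.Agent.H9Hens

open IsLocalRing

universe u v w

/-- A local ring henselian at its maximal ideal is a henselian local ring. -/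
theorem henselianLocalRing_of_henselianRing {R : Type u} [CommRing R] [IsLocalRing R]
    [h : HenselianRing R (maximalIdeal R)] : HenselianLocalRing R :=
  ⟨fun f hf a₀ h₁ h₂ => h.is_henselian f hf a₀ h₁ (h₂.map _)⟩

theorem maximalIdeal_le_jac (R : Type u) [CommRing R] [IsLocalRing R] :
    maximalIdeal R ≤ Ideal.jacobson ⊥ :=
  maximalIdeal_le_jacobson ⊥

/-- In a henselian pair, the finite quasi-finite piece cut out by an idempotent modulo `IS` splits
off a finite type algebra. -/
theorem exists_finitePart {A : Type u} [CommRing A] {I : Ideal A} [HenselianRing A I]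
    {S : Type v} [CommRing S] [Algebra A S] [Algebra.FiniteType A S] (f : S)
    (hf : f * f - f ∈ I.map (algebraMap A S))
    (hfin : Module.Finite A (S ⧸ (I.map (algebraMap A S) ⊔ Ideal.span {1 - f})))
    (hqf : ∀ (q : Ideal S) [q.IsPrime],
      I.map (algebraMap A S) ⊔ Ideal.span {1 - f} ≤ q → Algebra.QuasiFiniteAt A q) :
    ∃ e : S, IsIdempotentElem e ∧ e - f ∈ I.map (algebraMap A S) ∧
      Module.Finite A (S ⧸ Ideal.span {1 - e}) := by
  obtain ⟨B, hB, u, hu, -, -, hfinal⟩ :=
    exists_finitePart_subalgebra (HenselianRing.jac (I := I)) f hf hfin hqf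
  have : Module.Finite A B := Module.Finite.of_fg hB
  obtain ⟨e, he, heu⟩ := exists_idem_lift (I := I) u hu
  exact ⟨e, he.map B.val, hfinal e he heu⟩

/-- Over a local ring, lifting of idempotents from the closed fibre of a finite algebra produces an
idempotent isolating each maximal ideal. -/
theorem exists_idem_isolating {R : Type u} [CommRing R] [IsLocalRing R] {B : Type v} [CommRing B]
    [Algebra R B] [Module.Finite R B]
    (hlift : ∀ b : B, b * b - b ∈ (maximalIdeal R).map (algebraMap R B) →
      ∃ e : B, IsIdempotentElem e ∧ e - b ∈ (maximalIdeal R).map (algebraMap R B))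
    (n : MaximalSpectrum B) :
    ∃ e : B, IsIdempotentElem e ∧ e ∉ n.asIdeal ∧
      ∀ n' : MaximalSpectrum B, n' ≠ n → e ∈ n'.asIdeal := by
  classical
  set L := (maximalIdeal R).map (algebraMap R B) with hL
  have hle : ∀ m : MaximalSpectrum B, L ≤ m.asIdeal := fun m =>
    (map_le_jacobson_of_isIntegral (maximalIdeal_le_jac R)).trans (sInf_le ⟨bot_le, m.isMaximal⟩)
  let : Field (R ⧸ maximalIdeal R) := Ideal.Quotient.field _
  have : Module.Finite (R ⧸ maximalIdeal R) (B ⧸ L) :=
    Module.Finite.of_restrictScalars_finite R _ _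
  have : IsArtinianRing (B ⧸ L) := IsArtinianRing.of_finite (R ⧸ maximalIdeal R) _
  let bar : MaximalSpectrum B → PrimeSpectrum (B ⧸ L) := fun m =>
    ⟨m.asIdeal.map (Ideal.Quotient.mk L), Ideal.map_isPrime_of_surjective
      Ideal.Quotient.mk_surjective (by simpa [Ideal.mk_ker] using hle m)⟩
  have hbar : ∀ (m : MaximalSpectrum B) (x : B),
      Ideal.Quotient.mk L x ∈ (bar m).asIdeal → x ∈ m.asIdeal := fun m x hx => by
    have : x ∈ (m.asIdeal.map (Ideal.Quotient.mk L)).comap (Ideal.Quotient.mk L) := hx
    rwa [Ideal.comap_map_of_surjective' _ Ideal.Quotient.mk_surjective, Ideal.mk_ker,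
      sup_eq_left.mpr (hle m)] at this
  obtain ⟨x, hx⟩ :=
    (PrimeSpectrum.toPiLocalization_bijective (R := B ⧸ L)).2 (Pi.single (bar n) 1)
  have hxidem : IsIdempotentElem x := by
    refine (PrimeSpectrum.toPiLocalization_bijective (R := B ⧸ L)).1 ?_
    rw [map_mul, hx]
    funext p
    rw [Pi.mul_apply]
    rcases eq_or_ne p (bar n) with rfl | hp
    · rw [Pi.single_eq_same, mul_one]
    · rw [Pi.single_eq_of_ne hp, mul_zero]
  obtain ⟨b, rfl⟩ := Ideal.Quotient.mk_surjective x
  obtain ⟨e, he, heb⟩ := hlift b (by rw [← Ideal.Quotient.eq, map_mul]; exact hxidem)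
  have hloc : ∀ p : PrimeSpectrum (B ⧸ L), algebraMap (B ⧸ L) (Localization.AtPrime p.asIdeal)
      (Ideal.Quotient.mk L e) = (Pi.single (bar n) 1 : PrimeSpectrum.PiLocalization (B ⧸ L)) p := by
    intro p
    rw [Ideal.Quotient.eq.mpr heb, ← hx]
    rfl
  refine ⟨e, he, fun hmem => ?_, fun n' hn' => ?_⟩
  · have := (bar n).isPrime
    have h1 := hloc (bar n)
    rw [Pi.single_eq_same] at h1
    have := (IsLocalization.AtPrime.isUnit_to_map_iff (Localization.AtPrime (bar n).asIdeal)
      (bar n).asIdeal (Ideal.Quotient.mk L e)).mp (h1 ▸ isUnit_one)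
    exact this (Ideal.mem_map_of_mem _ hmem)
  · have := (bar n').isPrime
    have h1 := hloc (bar n')
    have hne : bar n' ≠ bar n := fun h => hn' <| MaximalSpectrum.ext <| by
      refine n'.isMaximal.eq_of_le n.isMaximal.ne_top fun y hy => hbar n y ?_
      exact h ▸ Ideal.mem_map_of_mem _ hy
    rw [Pi.single_eq_of_ne hne] at h1
    refine hbar n' e (by_contra fun hmem => ?_)
    have := (IsLocalization.AtPrime.isUnit_to_map_iff (Localization.AtPrime (bar n').asIdeal)
      (bar n').asIdeal (Ideal.Quotient.mk L e)).mpr hmem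
    rw [h1, isUnit_zero_iff] at this
    exact zero_ne_one this

/-- A finite algebra over a local ring has finitely many maximal ideals. -/
theorem finite_maximalSpectrum {R : Type u} [CommRing R] [IsLocalRing R] (B : Type v) [CommRing B]
    [Algebra R B] [Module.Finite R B] : Finite (MaximalSpectrum B) := by
  have hle : ∀ m : MaximalSpectrum B, (maximalIdeal R).map (algebraMap R B) ≤ m.asIdeal := fun m =>
    (map_le_jacobson_of_isIntegral (maximalIdeal_le_jac R)).trans (sInf_le ⟨bot_le, m.isMaximal⟩)
  let : Field (R ⧸ maximalIdeal R) := Ideal.Quotient.field _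
  set L := (maximalIdeal R).map (algebraMap R B) with hL
  have : Module.Finite (R ⧸ maximalIdeal R) (B ⧸ L) :=
    Module.Finite.of_restrictScalars_finite R _ _
  have : IsArtinianRing (B ⧸ L) := IsArtinianRing.of_finite (R ⧸ maximalIdeal R) _
  refine Finite.of_injective (β := MaximalSpectrum (B ⧸ L))
    (fun m => ⟨m.asIdeal.map (Ideal.Quotient.mk L),
      (Ideal.map_eq_top_or_isMaximal_of_surjective _ Ideal.Quotient.mk_surjective
        m.isMaximal).resolve_left fun h => m.isMaximal.ne_top (by
          have h' := congrArg (Ideal.comap (Ideal.Quotient.mk L)) h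
          simpa [Ideal.comap_map_of_surjective' _ Ideal.Quotient.mk_surjective, Ideal.mk_ker,
            hle] using h')⟩) fun m m' h => MaximalSpectrum.ext ?_
  have h' := congrArg (fun z : MaximalSpectrum (B ⧸ L) => z.asIdeal.comap (Ideal.Quotient.mk L)) h
  simpa [Ideal.comap_map_of_surjective' _ Ideal.Quotient.mk_surjective, Ideal.mk_ker, hle] using h'

/-- Over a local ring, a finite algebra to which idempotents of the closed fibre lift is the product
of its localizations at maximal ideals. -/
theorem toPiLocalization_bijective_of_idem_lift {R : Type u} [CommRing R] [IsLocalRing R]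
    {B : Type v} [CommRing B] [Algebra R B] [Module.Finite R B]
    (hlift : ∀ b : B, b * b - b ∈ (maximalIdeal R).map (algebraMap R B) →
      ∃ e : B, IsIdempotentElem e ∧ e - b ∈ (maximalIdeal R).map (algebraMap R B)) :
    Function.Bijective (MaximalSpectrum.toPiLocalization B) := by
  classical
  have := finite_maximalSpectrum (R := R) B
  let : Fintype (MaximalSpectrum B) := Fintype.ofFinite _
  choose e he hen hen' using exists_idem_isolating hlift
  refine ⟨MaximalSpectrum.toPiLocalization_injective B, fun x => ?_⟩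
  choose a s has using fun n : MaximalSpectrum B =>
    IsLocalization.exists_mk'_eq n.asIdeal.primeCompl (x n)
  have hu : ∀ n, IsUnit (e n * (s n : B) + (1 - e n)) := fun n => by
    refine by_contra fun h => ?_
    obtain ⟨M, hM, hmem⟩ := exists_max_ideal_of_mem_nonunits h
    rcases eq_or_ne (⟨M, hM⟩ : MaximalSpectrum B) n with rfl | hne
    · have h1 := M.mul_mem_left (e ⟨M, hM⟩) hmem
      have : e ⟨M, hM⟩ * (e ⟨M, hM⟩ * (s ⟨M, hM⟩ : B) + (1 - e ⟨M, hM⟩)) =
          e ⟨M, hM⟩ * (s ⟨M, hM⟩ : B) := by
        linear_combination ((s ⟨M, hM⟩ : B) - 1) * (he ⟨M, hM⟩).eq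
      rw [this] at h1
      exact (hM.isPrime.mem_or_mem h1).elim (hen ⟨M, hM⟩) (s ⟨M, hM⟩).2
    · have hEM : e n ∈ M := hen' n ⟨M, hM⟩ hne
      have : (1 : B) ∈ M := by
        have h1 := M.sub_mem hmem (M.mul_mem_left ((s n : B) - 1) hEM)
        convert h1 using 1
        ring
      exact hM.ne_top ((Ideal.eq_top_iff_one _).mpr this)
  choose w hw using fun n => isUnit_iff_exists_inv.mp (hu n)
  refine ⟨∑ n, e n * a n * w n, ?_⟩
  funext m
  rw [MaximalSpectrum.toPiLocalization_apply_apply, ← has, map_sum]
  set φ := algebraMap B (Localization.AtPrime m.asIdeal)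
  have h1 : φ (e m) = 1 := by
    have hu := (IsLocalization.AtPrime.isUnit_to_map_iff (Localization.AtPrime m.asIdeal)
      m.asIdeal (e m)).mpr (hen m)
    exact (IsIdempotentElem.iff_eq_one_of_isUnit hu).mp ((he m).map φ)
  have h0 : ∀ n, n ≠ m → φ (e n) = 0 := fun n hn => by
    have hu := (IsLocalization.AtPrime.isUnit_to_map_iff (Localization.AtPrime m.asIdeal)
      m.asIdeal (1 - e n)).mpr fun h => by
        have : (1 : B) ∈ m.asIdeal := by simpa using add_mem h (hen' n m hn.symm)
        exact m.isMaximal.ne_top ((Ideal.eq_top_iff_one _).mpr this)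
    have := (IsIdempotentElem.iff_eq_one_of_isUnit hu).mp ((he n).one_sub.map φ)
    simpa using this
  rw [Finset.sum_eq_single m (fun n _ hn => by simp [h0 n hn]) (by simp), map_mul, map_mul, h1,
    one_mul, IsLocalization.eq_mk'_iff_mul_eq]
  have h2 := congrArg φ (hw m)
  rw [map_mul, map_add, map_mul, map_sub, h1, one_mul, map_one, sub_self, add_zero] at h2
  linear_combination φ (a m) * h2

/-- In a finite product of local rings, idempotents lift modulo any ideal in the Jacobson radical. -/
theorem exists_idem_lift_of_ringEquiv_pi {B : Type v} [CommRing B] {ι : Type w} {C : ι → Type w}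
    [∀ i, CommRing (C i)] [∀ i, IsLocalRing (C i)] (e : B ≃+* ∀ i, C i) {L : Ideal B}
    (hL : L ≤ Ideal.jacobson ⊥) (b : B) (hb : b * b - b ∈ L) :
    ∃ x : B, IsIdempotentElem x ∧ x - b ∈ L := by
  classical
  have hzero : ∀ i, e (b * b - b) i ∈ maximalIdeal (C i) := fun i => by
    rw [mem_maximalIdeal, mem_nonunits_iff]
    intro hu
    let ev : B →+* C i := (Pi.evalRingHom C i).comp e.toRingHom
    obtain ⟨c, hc⟩ := isUnit_iff_exists_inv.mp hu
    let d : B := e.symm (Pi.single i c)
    have hunit := Ideal.mem_jacobson_bot.mp (hL hb) (-d)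
    have h1 := hunit.map ev
    rw [map_add, map_mul, map_neg, map_one] at h1
    have h2 : ev d = c := by simp [ev, d]
    have h3 : ev (b * b - b) * c = 1 := hc
    rw [h2, mul_neg, h3, neg_add_cancel, isUnit_zero_iff] at h1
    exact zero_ne_one h1
  let x : B := e.symm fun i => if IsUnit (e b i) then 1 else 0
  have hx : IsIdempotentElem x := by
    refine e.injective ?_
    rw [map_mul]
    simp only [x, RingEquiv.apply_symm_apply]
    funext i
    simp
  refine ⟨x, hx, ?_⟩
  have hu : IsUnit ((x - b) - (2 * x - 1)) := by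
    rw [← isUnit_map_iff e, Pi.isUnit_iff]
    intro i
    have hz := hzero i
    simp only [map_sub, map_mul, map_one, map_ofNat, Pi.sub_apply, Pi.mul_apply, Pi.one_apply,
      Pi.ofNat_apply, x, RingEquiv.apply_symm_apply] at hz ⊢
    rw [mem_maximalIdeal, mem_nonunits_iff] at hz
    by_cases h : IsUnit (e b i)
    · rw [if_pos h]
      have h' : ¬ IsUnit (e b i - 1) := fun h' => hz (by
        have h1 := h.mul h'
        rwa [mul_sub, mul_one] at h1)
      rcases isUnit_or_isUnit_one_sub_self (1 - e b i) with h1 | h1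
      · exact absurd (by simpa using h1.neg) h'
      · exact (by simpa using h1.neg : IsUnit (-e b i)) |> fun h2 => by
          convert h2 using 1
          ring
    · rw [if_neg h]
      rcases isUnit_or_isUnit_one_sub_self (e b i) with h1 | h1
      · exact absurd h1 h
      · convert h1 using 1
        ring
  have hprod : (x - b) * ((x - b) - (2 * x - 1)) = b * b - b := by
    linear_combination -hx.eq
  obtain ⟨w, hw⟩ := isUnit_iff_exists_inv.mp hu
  have : x - b = (b * b - b) * w := by linear_combination w * hprod - (x - b) * hw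
  rw [this]
  exact L.mul_mem_right _ hb

end Groth.Agent.H9Hens
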