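import Groth.Agent.H9Hens.EtaleLift
import Mathlib.RingTheory.Polynomial.UniversalFactorizationRing
import Mathlib.RingTheory.AdjoinRoot

/-!
Henselian pairs (Mathlib's `HenselianRing`): equivalence with lifting of sections of etale algebras,
lifting of monic coprime factorisations, lifting of idempotents, and Gabber's criterion.
-/

namespace Groth.Agent.H9Hens

open Polynomial

universe u v

variable {A : Type u} [CommRing A] {I : Ideal A}

/-- Gabber's criterion holds in a henselian pair. -/
theorem gabber_root [HenselianRing A I] (n : ℕ) (hn : 0 < n) (p : A[X])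
    (hpdeg : p.natDegree ≤ n) (hp : ∀ i, p.coeff i ∈ I) :
    ∃ α : A, α - 1 ∈ I ∧ IsRoot (X ^ n * (X - 1) + p) α := by
  nontriviality A
  have hpmap : p.map (Ideal.Quotient.mk I) = 0 := by
    ext i
    simpa [Polynomial.coeff_map, Ideal.Quotient.eq_zero_iff_mem] using hp i
  have hm : (X ^ n * (X - 1) + p).Monic := by
    refine Monic.add_of_left ((monic_X_pow n).mul (monic_X_sub_C 1)) ?_
    refine lt_of_le_of_lt degree_le_natDegree ?_
    rw [← C_1, (monic_X_sub_C (1 : A)).degree_mul, degree_X_pow, degree_X_sub_C]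
    exact_mod_cast Nat.lt_succ_of_le hpdeg
  have h1 : (X ^ n * (X - 1) + p).eval 1 ∈ I := by
    rw [← Ideal.Quotient.eq_zero_iff_mem, ← eval_map_apply]
    simp [hpmap]
  have h2 : IsUnit (Ideal.Quotient.mk I ((X ^ n * (X - 1) + p).derivative.eval 1)) := by
    rw [← eval_map_apply, ← derivative_map]
    simp [hpmap]
  obtain ⟨α, hα, hα1⟩ := HenselianRing.is_henselian _ hm 1 h1 h2
  exact ⟨α, hα1, hα⟩

/-- In a henselian pair, maps from etale algebras to the quotient lift. -/
theorem exists_algHom_lift [HenselianRing A I] {S : Type v} [CommRing S] [Algebra A S]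
    [Algebra.Etale A S] (σ : S →ₐ[A] A ⧸ I) :
    ∃ τ : S →ₐ[A] A, (Ideal.Quotient.mkₐ A I).comp τ = σ :=
  exists_algHom_lift_of_cyclic HenselianRing.jac σ fun B hB b hb hc =>
    have : Module.Finite A B := Module.Finite.of_fg hB
    exists_idem_of_cyclic HenselianRing.jac gabber_root b hb hc

/-- In a henselian pair, maps from etale algebras to the quotient lift uniquely. -/
theorem existsUnique_algHom_lift [HenselianRing A I] {S : Type v} [CommRing S] [Algebra A S]
    [Algebra.Etale A S] (σ : S →ₐ[A] A ⧸ I) :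
    ∃! τ : S →ₐ[A] A, (Ideal.Quotient.mkₐ A I).comp τ = σ := by
  obtain ⟨τ, hτ⟩ := exists_algHom_lift σ
  refine ⟨τ, hτ, fun τ' hτ' => algHom_eq_of_sub_mem (HenselianRing.jac (I := I)) fun x => ?_⟩
  exact Ideal.Quotient.eq.mp (AlgHom.congr_fun (hτ'.trans hτ.symm) x)

/-- Lifting of sections of etale algebras implies henselian. -/
theorem henselianRing_of_lift
    (h : ∀ (S : Type u) [CommRing S] [Algebra A S] [Algebra.Etale A S] (σ : S →ₐ[A] A ⧸ I),
      ∃ τ : S →ₐ[A] A, (Ideal.Quotient.mkₐ A I).comp τ = σ) :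
    HenselianRing A I where
  jac := by
    intro x hx
    rw [Ideal.mem_jacobson_bot]
    intro y
    have : Algebra.Etale A (Localization.Away (x * y + 1)) :=
      Algebra.Etale.of_isLocalizationAway (x * y + 1)
    have hu : IsUnit (Ideal.Quotient.mk I (x * y + 1)) := by
      rw [map_add, Ideal.Quotient.eq_zero_iff_mem.mpr (I.mul_mem_right y hx), zero_add, map_one]
      exact isUnit_one
    let σ : Localization.Away (x * y + 1) →ₐ[A] A ⧸ I :=
      { IsLocalization.Away.lift (x * y + 1) (g := Ideal.Quotient.mk I) hu with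
        commutes' := fun a => IsLocalization.Away.lift_eq _ hu a }
    obtain ⟨τ, -⟩ := h _ σ
    have := (IsLocalization.Away.algebraMap_isUnit (S := Localization.Away (x * y + 1))
      (x * y + 1)).map τ
    rwa [τ.commutes] at this
  is_henselian f hf a₀ h₁ h₂ := by
    let P : StandardEtalePair A := ⟨f, hf, f.derivative, 1, 0, 1, by simp⟩
    have hP : P.HasMap (Ideal.Quotient.mk I a₀) := by
      refine ⟨?_, ?_⟩
      · show aeval (algebraMap A (A ⧸ I) a₀) f = 0
        rw [aeval_algebraMap_apply, Ideal.Quotient.algebraMap_eq, coe_aeval_eq_eval,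
          Ideal.Quotient.eq_zero_iff_mem.mpr h₁]
      · show IsUnit (aeval (algebraMap A (A ⧸ I) a₀) f.derivative)
        rw [aeval_algebraMap_apply, Ideal.Quotient.algebraMap_eq, coe_aeval_eq_eval]
        exact h₂
    obtain ⟨τ, hτ⟩ := h P.Ring (P.lift _ hP)
    refine ⟨τ P.X, ?_, ?_⟩
    · have := (P.hasMap_X.map τ).1
      rwa [coe_aeval_eq_eval] at this
    · have := AlgHom.congr_fun hτ P.X
      simp only [AlgHom.comp_apply, StandardEtalePair.lift_X] at this
      exact Ideal.Quotient.eq.mp this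

/-- Lifting of idempotents in finite algebras implies henselian. -/
theorem henselianRing_of_idem_lift (hI : I ≤ Ideal.jacobson ⊥)
    (h : ∀ (B : Type u) [CommRing B] [Algebra A B], Module.Finite A B → ∀ b : B,
      b * b - b ∈ I.map (algebraMap A B) →
        ∃ e : B, IsIdempotentElem e ∧ e - b ∈ I.map (algebraMap A B)) :
    HenselianRing A I :=
  henselianRing_of_lift fun _ _ _ _ σ =>
    exists_algHom_lift_of_cyclic hI σ fun B hB b hb _ => h B (Module.Finite.of_fg hB) b hb

/-- Gabber's criterion implies henselian. -/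
theorem henselianRing_of_gabber (hI : I ≤ Ideal.jacobson ⊥)
    (h : ∀ (n : ℕ), 0 < n → ∀ p : A[X], p.natDegree ≤ n → (∀ i, p.coeff i ∈ I) →
      ∃ α : A, α - 1 ∈ I ∧ IsRoot (X ^ n * (X - 1) + p) α) :
    HenselianRing A I :=
  henselianRing_of_lift fun _ _ _ _ σ =>
    exists_algHom_lift_of_cyclic hI σ fun B hB b hb hc =>
      have : Module.Finite A B := Module.Finite.of_fg hB
      exists_idem_of_cyclic hI h b hb hc

/-- Coprimality of a monic polynomial with another one can be checked modulo an ideal in the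
Jacobson radical. -/
theorem isCoprime_of_map (hI : I ≤ Ideal.jacobson ⊥) {g h : A[X]} (hg : g.Monic)
    (hc : IsCoprime (g.map (Ideal.Quotient.mk I)) (h.map (Ideal.Quotient.mk I))) :
    IsCoprime g h := by
  obtain ⟨u₀, v₀, huv⟩ := hc
  obtain ⟨u, rfl⟩ := Polynomial.map_surjective _ Ideal.Quotient.mk_surjective u₀
  obtain ⟨v, rfl⟩ := Polynomial.map_surjective _ Ideal.Quotient.mk_surjective v₀
  have : Module.Finite A (AdjoinRoot g) := hg.finite_adjoinRoot
  have hjac : I.map (algebraMap A (AdjoinRoot g)) ≤ Ideal.jacobson ⊥ :=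
    map_le_jacobson_of_isIntegral hI
  have h1 : u * g + v * h - 1 ∈ I.map (C : A →+* A[X]) := by
    rw [Ideal.mem_map_C_iff]
    intro i
    rw [← Ideal.Quotient.eq_zero_iff_mem, ← Polynomial.coeff_map]
    simp [huv]
  have h2 : AdjoinRoot.mk g (v * h) - 1 ∈ I.map (algebraMap A (AdjoinRoot g)) := by
    have := Ideal.mem_map_of_mem (AdjoinRoot.mk g) h1
    rw [Ideal.map_map] at this
    simpa [AdjoinRoot.mk_self, AdjoinRoot.algebraMap_eq, AdjoinRoot.of] using this
  have h3 := isUnit_of_sub_one_mem hjac h2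
  rw [map_mul] at h3
  obtain ⟨w, hw⟩ := isUnit_iff_exists_inv.mp (isUnit_of_mul_isUnit_right h3)
  obtain ⟨w, rfl⟩ := AdjoinRoot.mk_surjective w
  rw [← map_mul, ← map_one (AdjoinRoot.mk g), AdjoinRoot.mk_eq_mk] at hw
  obtain ⟨c, hc⟩ := hw
  exact ⟨-c, w, by linear_combination hc⟩

/-- In a henselian pair, coprime monic factorisations lift. -/
theorem exists_monic_factor_lift [HenselianRing A I] {f : A[X]} (hf : f.Monic)
    {g₀ h₀ : (A ⧸ I)[X]} (hg₀ : g₀.Monic) (hh₀ : h₀.Monic) (hc : IsCoprime g₀ h₀)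
    (hfgh : f.map (Ideal.Quotient.mk I) = g₀ * h₀) :
    ∃ g h : A[X], g.Monic ∧ h.Monic ∧ IsCoprime g h ∧ f = g * h ∧
      g.map (Ideal.Quotient.mk I) = g₀ ∧ h.map (Ideal.Quotient.mk I) = h₀ := by
  rcases subsingleton_or_nontrivial (A ⧸ I) with hs | hn
  · have : Subsingleton A := by
      refine subsingleton_of_zero_eq_one (isUnit_zero_iff.mp ?_)
      exact isUnit_of_isUnit_mk (HenselianRing.jac (I := I)) (isUnit_of_subsingleton _)
    exact ⟨f, 1, hf, monic_one, isCoprime_one_right, Subsingleton.elim _ _, Subsingleton.elim _ _,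
      Subsingleton.elim _ _⟩
  have hdeg : f.natDegree = g₀.natDegree + h₀.natDegree := by
    rw [← hf.natDegree_map (Ideal.Quotient.mk I), hfgh, hg₀.natDegree_mul hh₀]
  let p : Polynomial.MonicDegreeEq A f.natDegree := .mk f hf rfl
  let σ : UniversalCoprimeFactorizationRing g₀.natDegree h₀.natDegree hdeg p →ₐ[A] A ⧸ I :=
    (UniversalCoprimeFactorizationRing.homEquiv (A ⧸ I) _ _ hdeg p).symm
      ⟨(.mk g₀ hg₀ rfl, .mk h₀ hh₀ rfl), by simpa [p, MonicDegreeEq.mk] using hfgh.symm, hc⟩
  obtain ⟨τ, hτ⟩ := exists_algHom_lift σ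
  let q := UniversalCoprimeFactorizationRing.homEquiv A _ _ hdeg p τ
  have h1 := UniversalCoprimeFactorizationRing.homEquiv_comp_fst A g₀.natDegree
    h₀.natDegree hdeg p τ (Ideal.Quotient.mkₐ A I)
  have h2 := UniversalCoprimeFactorizationRing.homEquiv_comp_snd A g₀.natDegree
    h₀.natDegree hdeg p τ (Ideal.Quotient.mkₐ A I)
  rw [hτ, Equiv.apply_symm_apply] at h1 h2
  refine ⟨q.1.1.1, q.1.2.1, q.1.1.monic, q.1.2.monic, q.2.2, ?_, ?_, ?_⟩
  · simpa [p, MonicDegreeEq.mk] using q.2.1.symm
  · exact (congrArg Subtype.val h1).symm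
  · exact (congrArg Subtype.val h2).symm

/-- In a henselian pair, idempotents lift along finite algebras. -/
theorem exists_idem_lift [HenselianRing A I] {B : Type v} [CommRing B] [Algebra A B]
    [Module.Finite A B] (b : B) (hb : b * b - b ∈ I.map (algebraMap A B)) :
    ∃ e : B, IsIdempotentElem e ∧ e - b ∈ I.map (algebraMap A B) := by
  nontriviality B
  have : Nontrivial A := Module.nontrivial A B
  have hrange : LinearMap.range (LinearMap.mulLeft A (b * b - b)) ≤ I • (⊤ : Submodule A B) := by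
    rintro _ ⟨y, rfl⟩
    rw [Ideal.smul_top_eq_map]
    exact Ideal.mul_mem_right y _ hb
  obtain ⟨P₀, hP₀, -, hP₀I, hP₀0⟩ :=
    LinearMap.exists_monic_and_natDegree_eq_and_coeff_mem_pow_and_aeval_eq_zero A _ I hrange
  set P := X * P₀ with hPdef
  have hP : P.Monic := monic_X.mul hP₀
  have hPb : aeval (b * b - b) P = 0 := by
    have h3 : aeval (LinearMap.mulLeft A (b * b - b)) P₀ =
        LinearMap.mulLeft A (aeval (b * b - b) P₀) := by
      rw [show LinearMap.mulLeft A (b * b - b) = Algebra.lmul A B (b * b - b) from rfl,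
        aeval_algHom_apply]
      rfl
    have := LinearMap.congr_fun (h3.symm.trans hP₀0) 1
    simp only [LinearMap.mulLeft_apply, mul_one, LinearMap.zero_apply] at this
    rw [hPdef, map_mul, this, mul_zero]
  set N := P.natDegree with hN
  have hN1 : N = P₀.natDegree + 1 := by
    rw [hN, hPdef, monic_X.natDegree_mul hP₀, natDegree_X]; omega
  have hPmap : P.map (Ideal.Quotient.mk I) = X ^ N := by
    rw [hN1, hPdef, Polynomial.map_mul, map_X, pow_succ']
    congr 1
    ext i
    rw [Polynomial.coeff_map, coeff_X_pow]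
    rcases lt_trichotomy i P₀.natDegree with h | h | h
    · rw [if_neg h.ne, Ideal.Quotient.eq_zero_iff_mem]
      exact Ideal.pow_le_self (by omega) (hP₀I i)
    · rw [if_pos h, h, hP₀.coeff_natDegree, map_one]
    · rw [if_neg h.ne', coeff_eq_zero_of_natDegree_lt h, map_zero]
  let sq : A[X] := X * X - X
  have hsqdeg : sq.natDegree = 2 := by simp [sq, ← pow_two, natDegree_sub_eq_left_of_natDegree_lt]
  have hsq : sq.Monic := by
    refine Monic.sub_of_left (monic_X.mul monic_X) ?_
    rw [monic_X.degree_mul, degree_X]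
    norm_num
  let G := P.comp sq
  have hG : G.Monic := hP.comp hsq (by omega)
  have hGmap : G.map (Ideal.Quotient.mk I) = X ^ N * (X - 1) ^ N := by
    rw [Polynomial.map_comp, hPmap, X_pow_comp, ← mul_pow]
    congr 1
    simp [sq]
    ring
  have hcop : IsCoprime ((X : (A ⧸ I)[X]) ^ N) ((X - 1) ^ N) :=
    IsCoprime.pow (⟨1, -1, by ring⟩)
  obtain ⟨g, h, hgm, -, ⟨u, v, huv⟩, hgh, hgmap, hhmap⟩ := exists_monic_factor_lift (I := I) hG
    (monic_X_pow N) (((monic_X_sub_C (1 : A ⧸ I)).pow N) |> fun h => by simpa using h) hcop hGmap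
  set IB := I.map (algebraMap A B)
  have hGb : aeval b g * aeval b h = 0 := by
    rw [← map_mul, ← hgh, aeval_comp]
    simp only [sq, map_sub, map_mul, aeval_X]
    exact hPb
  refine ⟨aeval b u * aeval b g, ?_, ?_⟩
  · have := congrArg (aeval b) huv
    rw [map_add, map_mul, map_mul, map_one] at this
    rw [IsIdempotentElem]
    linear_combination (aeval b u * aeval b g) * this - aeval b u * aeval b v * hGb
  · rw [← Ideal.Quotient.eq]
    set π := Ideal.Quotient.mk IB
    have hcomp : π.comp (algebraMap A B) =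
        (Ideal.quotientMap IB (algebraMap A B) Ideal.le_comap_map).comp (Ideal.Quotient.mk I) :=
      (Ideal.quotientMap_comp_mk _).symm
    have hidem : π b * π b = π b := by rw [← map_mul]; exact Ideal.Quotient.eq.mpr hb
    have hev : ∀ r : A[X], π (aeval b r) = eval₂
        (Ideal.quotientMap IB (algebraMap A B) Ideal.le_comap_map) (π b)
        (r.map (Ideal.Quotient.mk I)) := fun r => by
      rw [aeval_def, hom_eval₂, hcomp, eval₂_map]
    have hg' : π (aeval b g) = π b := by
      rw [hev, hgmap, eval₂_X_pow, hN1]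
      exact IsIdempotentElem.pow_succ_eq _ hidem
    have hh' : π b * π (aeval b h) = 0 := by
      rw [hev, hhmap, eval₂_pow, eval₂_sub, eval₂_X, eval₂_one, hN1, pow_succ]
      linear_combination (π b - 1) ^ P₀.natDegree * hidem
    have h1 := congrArg (fun x => π b * π x) (congrArg (aeval b) huv)
    simp only [map_add, map_mul, map_one, hg'] at h1
    rw [map_mul, hg']
    linear_combination h1 - π (aeval b v) * hh' - π (aeval b u) * hidem

/-- In a henselian pair, idempotents lift along integral algebras. -/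
theorem exists_idem_lift_integral [HenselianRing A I] {B : Type v} [CommRing B] [Algebra A B]
    [Algebra.IsIntegral A B] (b : B) (hb : b * b - b ∈ I.map (algebraMap A B)) :
    ∃ e : B, IsIdempotentElem e ∧ e - b ∈ I.map (algebraMap A B) := by
  classical
  have hb' : b * b - b ∈ I • (⊤ : Submodule A B) := by rw [Ideal.smul_top_eq_map]; exact hb
  obtain ⟨t, ht⟩ : ∃ t : Finset B, b * b - b ∈ I • (Algebra.adjoin A (t : Set B)).toSubmodule := by
    refine Submodule.smul_induction_on hb' (fun a ha x _ => ⟨{x}, Submodule.smul_mem_smul ha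
      (Algebra.subset_adjoin (by simp))⟩) ?_
    rintro x y ⟨s, hs⟩ ⟨t, ht⟩
    refine ⟨s ∪ t, add_mem (Submodule.smul_mono le_rfl ?_ hs) (Submodule.smul_mono le_rfl ?_ ht)⟩
    all_goals exact fun z hz => Algebra.adjoin_mono (by simp) hz
  let C := Algebra.adjoin A (↑(insert b t) : Set B)
  have : Module.Finite A C := Module.Finite.of_fg
    (fg_adjoin_of_finite (Finset.finite_toSet _) fun x _ => Algebra.IsIntegral.isIntegral x)
  have hbC : b ∈ C := Algebra.subset_adjoin (by simp)
  obtain ⟨e, he, heb⟩ := exists_idem_lift (I := I) (⟨b, hbC⟩ : C) (by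
    rw [mem_map_subalgebra_iff]
    exact Submodule.smul_mono le_rfl (fun z hz => Algebra.adjoin_mono (by simp) hz) ht)
  refine ⟨e, he.map C.val, ?_⟩
  have := Ideal.mem_map_of_mem C.val.toRingHom heb
  rwa [Ideal.map_map, AlgHom.toRingHom_eq_coe, AlgHom.comp_algebraMap, map_sub] at this

/-- Being henselian at `I` passes to integral algebras. -/
theorem henselianRing_of_isIntegral [HenselianRing A I] (B : Type v) [CommRing B] [Algebra A B]
    [Algebra.IsIntegral A B] : HenselianRing B (I.map (algebraMap A B)) := by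
  refine henselianRing_of_idem_lift (map_le_jacobson_of_isIntegral (HenselianRing.jac (I := I)))
    fun C _ _ _ b hb => ?_
  let : Algebra A C := ((algebraMap B C).comp (algebraMap A B)).toAlgebra
  have : IsScalarTower A B C := IsScalarTower.of_algebraMap_eq fun _ => rfl
  have : Algebra.IsIntegral B C := Algebra.IsIntegral.of_finite B C
  have : Algebra.IsIntegral A C := Algebra.IsIntegral.trans B
  rw [Ideal.map_map, ← IsScalarTower.algebraMap_eq] at hb ⊢
  exact exists_idem_lift_integral b hb

/-- Lifting of roots follows from lifting of monic coprime factorisations. -/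
theorem henselianRing_of_factor_lift (hI : I ≤ Ideal.jacobson ⊥)
    (H : ∀ f : A[X], f.Monic → ∀ g₀ h₀ : (A ⧸ I)[X], g₀.Monic → h₀.Monic → IsCoprime g₀ h₀ →
      f.map (Ideal.Quotient.mk I) = g₀ * h₀ →
        ∃ g h : A[X], g.Monic ∧ h.Monic ∧ f = g * h ∧ g.map (Ideal.Quotient.mk I) = g₀ ∧
          h.map (Ideal.Quotient.mk I) = h₀) :
    HenselianRing A I := by
  refine ⟨hI, fun f hf a₀ h₁ h₂ => ?_⟩
  rcases subsingleton_or_nontrivial (A ⧸ I) with hs | hn
  · have : Subsingleton A := subsingleton_of_zero_eq_one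
      (isUnit_zero_iff.mp (isUnit_of_isUnit_mk hI (isUnit_of_subsingleton _)))
    exact ⟨a₀, Subsingleton.elim _ _, by simp⟩
  set a := Ideal.Quotient.mk I a₀
  set F := f.map (Ideal.Quotient.mk I) with hF
  have hF0 : F.IsRoot a := by
    rw [IsRoot, hF, eval_map_apply, Ideal.Quotient.eq_zero_iff_mem]
    exact h₁
  obtain ⟨h₀, hh₀⟩ := dvd_iff_isRoot.mpr hF0
  have hm : h₀.Monic := (monic_X_sub_C a).of_mul_monic_left (hh₀ ▸ hf.map _)
  have hu : IsUnit (h₀.eval a) := by
    have h2' : F.derivative.eval a = h₀.eval a := by simp [hh₀]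
    rw [← h2', hF, derivative_map, eval_map_apply]
    exact h₂
  have hcop : IsCoprime (X - C a) h₀ := by
    obtain ⟨t, ht⟩ := X_sub_C_dvd_sub_C_eval (a := a) (p := h₀)
    obtain ⟨w, hw⟩ := isUnit_iff_exists_inv.mp (hu.map (C : A ⧸ I →+* (A ⧸ I)[X]))
    exact ⟨-(w * t), w, by linear_combination w * ht + hw⟩
  obtain ⟨g, h, hg, -, hfgh, hgmap, -⟩ := H f hf _ _ (monic_X_sub_C a) hm hcop hh₀
  have hgdeg : g.natDegree = 1 := by
    rw [← hg.natDegree_map (Ideal.Quotient.mk I), hgmap, natDegree_X_sub_C]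
  have hgX : g = X + C (g.coeff 0) := by
    conv_lhs => rw [hg.eq_X_add_C hgdeg]
  refine ⟨-g.coeff 0, ?_, ?_⟩
  · rw [IsRoot, hfgh, eval_mul, hgX]
    simp
  · rw [← Ideal.Quotient.eq, map_neg, ← Polynomial.coeff_map, hgmap]
    simp [a]

end Groth.Agent.H9Hens
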