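import Groth.Agent.H9Hens.Pair
import Mathlib.RingTheory.TensorProduct.Quotient

/-!
Operations on henselian pairs: smaller ideals, extensions, locally nilpotent ideals, radicals,
uniqueness of simple roots, relative lifting of maps from etale algebras.
-/

namespace Groth.Agent.H9Hens

open Polynomial TensorProduct

universe u v w

variable {A : Type u} [CommRing A] {I J : Ideal A}

/-- Henselian at `J` implies henselian at any smaller ideal. -/
theorem henselianRing_of_le [HenselianRing A J] (hIJ : I ≤ J) : HenselianRing A I := by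
  refine henselianRing_of_idem_lift (hIJ.trans HenselianRing.jac) fun B _ _ _ b hb => ?_
  obtain ⟨e, he, heb⟩ := exists_idem_lift (I := J) b (Ideal.map_mono hIJ hb)
  refine ⟨e, he, ?_⟩
  set IB := I.map (algebraMap A B)
  have hJjac : J.map (algebraMap A (B ⧸ IB)) ≤ Ideal.jacobson ⊥ :=
    map_le_jacobson_of_isIntegral HenselianRing.jac
  rw [← Ideal.Quotient.eq]
  refine idem_eq_of_sub_mem hJjac (he.map (Ideal.Quotient.mk IB)) ?_ ?_
  · rw [IsIdempotentElem, ← map_mul]
    exact Ideal.Quotient.eq.mpr hb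
  · rw [← map_sub, IsScalarTower.algebraMap_eq A B (B ⧸ IB), ← Ideal.map_map]
    exact Ideal.mem_map_of_mem _ heb

/-- Henselian at `J` passes to the quotient by any ideal. -/
theorem henselianRing_quotient [HenselianRing A J] (I : Ideal A) :
    HenselianRing (A ⧸ I) (J.map (Ideal.Quotient.mk I)) :=
  henselianRing_of_isIntegral (I := J) (A ⧸ I)

/-- Extensions of henselian pairs are henselian. -/
theorem henselianRing_of_quotient [HenselianRing A I] (hIJ : I ≤ J)
    [HenselianRing (A ⧸ I) (J.map (Ideal.Quotient.mk I))] : HenselianRing A J := by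
  have hjac : J ≤ Ideal.jacobson ⊥ := fun x hx => by
    rw [Ideal.mem_jacobson_bot]
    intro y
    refine isUnit_of_isUnit_mk (HenselianRing.jac (I := I)) ?_
    rw [map_add, map_mul, map_one]
    exact Ideal.mem_jacobson_bot.mp
      (HenselianRing.jac (Ideal.mem_map_of_mem (Ideal.Quotient.mk I) hx)) _
  refine henselianRing_of_idem_lift hjac fun B _ _ _ b hb => ?_
  set IB := I.map (algebraMap A B)
  set π := Ideal.Quotient.mk IB
  have : Module.Finite (A ⧸ I) (B ⧸ IB) := Module.Finite.of_restrictScalars_finite A _ _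
  have hmap : (J.map (Ideal.Quotient.mk I)).map (algebraMap (A ⧸ I) (B ⧸ IB)) =
      (J.map (algebraMap A B)).map π := by
    rw [Ideal.map_map, Ideal.map_map]
    rfl
  obtain ⟨e₁, he₁, he₁b⟩ := exists_idem_lift (I := J.map (Ideal.Quotient.mk I)) (π b) (by
    rw [hmap, ← map_mul, ← map_sub]; exact Ideal.mem_map_of_mem π hb)
  obtain ⟨b₁, rfl⟩ := Ideal.Quotient.mk_surjective e₁
  obtain ⟨e, he, heb⟩ := exists_idem_lift (I := I) b₁ (by
    rw [← Ideal.Quotient.eq, map_mul]; exact he₁)
  refine ⟨e, he, ?_⟩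
  rw [hmap, ← map_sub, ← Ideal.mem_comap, Ideal.comap_map_of_surjective' π
    Ideal.Quotient.mk_surjective, Ideal.mk_ker] at he₁b
  have h1 : b₁ - b ∈ J.map (algebraMap A B) :=
    (sup_le le_rfl (Ideal.map_mono hIJ) : J.map (algebraMap A B) ⊔ IB ≤ _) he₁b
  simpa using add_mem (Ideal.map_mono hIJ heb) h1

/-- A locally nilpotent ideal is henselian. -/
theorem henselianRing_of_isNilpotent (hI : ∀ x ∈ I, IsNilpotent x) : HenselianRing A I := by
  have hjac : I ≤ Ideal.jacobson ⊥ := fun x hx =>
    Ideal.radical_le_jacobson (hI x hx)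
  refine henselianRing_of_idem_lift hjac fun B _ _ _ b hb => ?_
  have hIB : I.map (algebraMap A B) ≤ nilradical B :=
    Ideal.map_le_iff_le_comap.mpr fun x hx => mem_nilradical.mpr ((hI x hx).map _)
  obtain ⟨e, he, heb⟩ := exists_isIdempotentElem_eq_of_ker_isNilpotent
    (Ideal.Quotient.mk (I.map (algebraMap A B)))
    (fun x hx => mem_nilradical.mp (hIB (Ideal.mk_ker (I := I.map (algebraMap A B)) ▸ hx)))
    (Ideal.Quotient.mk _ b) ⟨b, rfl⟩ (by
      rw [IsIdempotentElem, ← map_mul]; exact Ideal.Quotient.eq.mpr hb)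
  exact ⟨e, he, Ideal.Quotient.eq.mp heb⟩

/-- Henselian at `I` implies henselian at its radical. -/
theorem henselianRing_radical [HenselianRing A I] : HenselianRing A I.radical := by
  have : HenselianRing (A ⧸ I) (I.radical.map (Ideal.Quotient.mk I)) := by
    refine henselianRing_of_isNilpotent fun x hx => ?_
    obtain ⟨y, hy, rfl⟩ :=
      (Ideal.mem_map_iff_of_surjective _ Ideal.Quotient.mk_surjective).mp hx
    obtain ⟨n, hn⟩ := hy
    exact ⟨n, by rw [← map_pow, Ideal.Quotient.eq_zero_iff_mem]; exact hn⟩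
  exact henselianRing_of_quotient (I := I) Ideal.le_radical

/-- Simple roots congruent modulo an ideal in the Jacobson radical are equal. -/
theorem root_unique (hI : I ≤ Ideal.jacobson ⊥) {f : A[X]} {a b : A} (ha : f.IsRoot a)
    (hb : f.IsRoot b) (h : a - b ∈ I) (hu : IsUnit (Ideal.Quotient.mk I (f.derivative.eval a))) :
    a = b := by
  obtain ⟨c, hc⟩ := exists_mul_sq_add_linear_part_eq_eval_add f a (b - a)
  rw [add_sub_cancel] at hc
  rw [ha.eq_zero, hb.eq_zero, add_zero] at hc
  have h0 : (c * (b - a) + f.derivative.eval a) * (b - a) = 0 := by linear_combination hc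
  have hunit : IsUnit (c * (b - a) + f.derivative.eval a) := by
    refine isUnit_of_isUnit_mk hI ?_
    rwa [map_add, Ideal.Quotient.eq_zero_iff_mem.mpr (I.mul_mem_left c (sub_mem_comm_iff.mp h)),
      zero_add]
  exact (sub_eq_zero.mp (hunit.mul_right_eq_zero.mp h0)).symm

/-- In a henselian pair over `R`, maps to the quotient from etale `R`-algebras lift uniquely. -/
theorem existsUnique_algHom_lift_rel [HenselianRing A I] {R : Type v} [CommRing R] [Algebra R A]
    {S : Type w} [CommRing S] [Algebra R S] [Algebra.Etale R S] (σ : S →ₐ[R] A ⧸ I) :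
    ∃! τ : S →ₐ[R] A, (Ideal.Quotient.mkₐ R I).comp τ = σ := by
  let σ' : A ⊗[R] S →ₐ[A] A ⧸ I :=
    Algebra.TensorProduct.lift (Algebra.ofId A (A ⧸ I)) σ fun _ _ => Commute.all _ _
  obtain ⟨τ, hτ⟩ := exists_algHom_lift σ'
  refine ⟨(τ.restrictScalars R).comp Algebra.TensorProduct.includeRight, AlgHom.ext fun x => ?_,
    fun τ' hτ' => ?_⟩
  · have := AlgHom.congr_fun hτ (1 ⊗ₜ[R] x)
    simpa [σ'] using this
  · refine algHom_eq_of_sub_mem (HenselianRing.jac (I := I)) fun x => ?_
    rw [← Ideal.Quotient.eq]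
    have h1 := AlgHom.congr_fun hτ (1 ⊗ₜ[R] x)
    have h2 := AlgHom.congr_fun hτ' x
    simp only [σ', AlgHom.comp_apply, Ideal.Quotient.mkₐ_eq_mk, Algebra.TensorProduct.lift_tmul,
      map_one, one_mul] at h1 h2
    rw [h2]
    simpa using h1.symm

end Groth.Agent.H9Hens
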