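import Groth.Agent.H9Hens.Pair
import Groth.Agent.H9Hens.PairOps
import Mathlib.RingTheory.Etale.StandardEtale
import Mathlib.RingTheory.Flat.EquationalCriterion
import Mathlib.RingTheory.Unramified.Finite

/-!
Colimits of pointed etale algebras.

For an `A`-algebra `k`, a pointed etale algebra is an etale `A`-algebra `S` with a point
`σ : S →ₐ[A] k`. `IsPtColim A π` says that `π : H →ₐ[A] k` is the colimit of all of them.
For `k = A / I` this is the henselization of the pair `(A, I)`, for `k` the residue field of a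
local ring its henselization, for `k` a separable closure of the residue field its strict
henselization.
-/

namespace Groth.Agent.H9Hens

universe u

open scoped TensorProduct
open Polynomial

variable {A : Type u} [CommRing A] {k : Type u} [CommRing k] [Algebra A k]

/-- Two maps of pointed etale algebras are equalised by a further one. -/
theorem exists_pt_equalizer {S₁ : Type u} [CommRing S₁] [Algebra A S₁] [Algebra.Etale A S₁]
    {S₂ : Type u} [CommRing S₂] [Algebra A S₂] [Algebra.Etale A S₂]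
    (σ : S₂ →ₐ[A] k) (f g : S₁ →ₐ[A] S₂) (h : σ.comp f = σ.comp g) :
    ∃ (T : Type u) (_ : CommRing T) (_ : Algebra A T) (_ : Algebra.Etale A T) (σT : T →ₐ[A] k)
      (χ : S₂ →ₐ[A] T), σT.comp χ = σ ∧ χ.comp f = χ.comp g := by
  obtain ⟨t, ht, ht1⟩ := Algebra.FormallyUnramified.iff_exists_tensorProduct.mp
    (inferInstance : Algebra.FormallyUnramified A S₁)
  let L : S₁ ⊗[A] S₁ →ₐ[A] S₂ := Algebra.TensorProduct.lift f g fun _ _ => Commute.all _ _
  have hL : σ.comp L = (σ.comp f).comp (Algebra.TensorProduct.lmul' A) := by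
    refine Algebra.TensorProduct.ext' fun a b => ?_
    have hb : σ (f b) = σ (g b) := DFunLike.congr_fun h b
    simp [L, hb]
  have hu : IsUnit (σ (L t)) := by
    have := DFunLike.congr_fun hL t
    simp only [AlgHom.comp_apply, ht1, map_one] at this
    rw [this]; exact isUnit_one
  let T := Localization.Away (L t)
  have : Algebra.Etale S₂ T := Algebra.Etale.of_isLocalizationAway (L t)
  refine ⟨T, inferInstance, inferInstance, Algebra.Etale.comp A S₂ T,
    IsLocalization.Away.liftAlgHom (L t) (f := σ) hu, IsScalarTower.toAlgHom A S₂ T,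
    AlgHom.ext fun x => ?_, AlgHom.ext fun s => ?_⟩
  · show IsLocalization.Away.liftAlgHom (L t) (f := σ) hu (algebraMap S₂ T x) = σ x
    simp
  · have h := congrArg ((IsScalarTower.toAlgHom A S₂ T).comp L) (ht s)
    simp only [map_mul, map_sub, map_zero, L, AlgHom.comp_apply, Algebra.TensorProduct.lift_tmul,
      map_one, one_mul, mul_one] at h
    exact (sub_eq_zero.mp
      ((IsLocalization.Away.algebraMap_isUnit (S := T) (L t)).mul_left_eq_zero.mp h)).symm

/-- `π : H →ₐ[A] k` is the colimit of the pointed etale algebras `(S, σ : S →ₐ[A] k)`. -/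
structure IsPtColim {H : Type u} [CommRing H] [Algebra A H] (π : H →ₐ[A] k) : Prop where
  exists_rep : ∀ x : H, ∃ (S : Type u) (_ : CommRing S) (_ : Algebra A S) (_ : Algebra.Etale A S)
    (φ : S →ₐ[A] H) (s : S), φ s = x
  exists_map : ∀ (S : Type u) [CommRing S] [Algebra A S] [Algebra.Etale A S] (σ : S →ₐ[A] k),
    ∃ φ : S →ₐ[A] H, π.comp φ = σ
  jac : RingHom.ker π ≤ Ideal.jacobson ⊥
  exists_eq_zero : ∀ (S : Type u) [CommRing S] [Algebra A S] [Algebra.Etale A S] (φ : S →ₐ[A] H)
    (s : S), φ s = 0 → ∃ (T : Type u) (_ : CommRing T) (_ : Algebra A T) (_ : Algebra.Etale A T)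
      (ψ : S →ₐ[A] T) (φT : T →ₐ[A] H), φT.comp ψ = φ ∧ ψ s = 0

namespace IsPtColim

variable {H : Type u} [CommRing H] [Algebra A H] {π : H →ₐ[A] k} (hH : IsPtColim π)
include hH

/-- Maps from etale algebras are determined by their composite with the point. -/
theorem hom_ext {S : Type u} [CommRing S] [Algebra A S] [Algebra.Etale A S] {φ φ' : S →ₐ[A] H}
    (h : π.comp φ = π.comp φ') : φ = φ' :=
  algHom_eq_of_sub_mem hH.jac fun x => by
    rw [RingHom.mem_ker, map_sub, sub_eq_zero]
    exact DFunLike.congr_fun h x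

theorem existsUnique_map (S : Type u) [CommRing S] [Algebra A S] [Algebra.Etale A S]
    (σ : S →ₐ[A] k) : ∃! φ : S →ₐ[A] H, π.comp φ = σ := by
  obtain ⟨φ, hφ⟩ := hH.exists_map S σ
  exact ⟨φ, hφ, fun φ' h => hH.hom_ext (h.trans hφ.symm)⟩

/-- Finitely many elements come from a common etale algebra. -/
theorem exists_rep_finset {ι : Type*} (s : Finset ι) (x : ι → H) :
    ∃ (S : Type u) (_ : CommRing S) (_ : Algebra A S) (_ : Algebra.Etale A S)
      (φ : S →ₐ[A] H) (y : ι → S), ∀ i ∈ s, φ (y i) = x i := by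
  classical
  induction s using Finset.induction with
  | empty => exact ⟨A, inferInstance, inferInstance, inferInstance, Algebra.ofId A H, 0,
      fun i hi => absurd hi (Finset.notMem_empty i)⟩
  | insert i s his ih =>
    obtain ⟨S₁, _, _, _, φ₁, y, hy⟩ := ih
    obtain ⟨S₂, _, _, _, φ₂, z, hz⟩ := hH.exists_rep (x i)
    let φ : S₁ ⊗[A] S₂ →ₐ[A] H := Algebra.TensorProduct.lift φ₁ φ₂ fun _ _ => Commute.all _ _
    refine ⟨S₁ ⊗[A] S₂, inferInstance, inferInstance, Algebra.Etale.comp A S₁ (S₁ ⊗[A] S₂), φ,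
      Function.update (fun j => y j ⊗ₜ 1) i (1 ⊗ₜ z), fun j hj => ?_⟩
    rcases Finset.mem_insert.mp hj with rfl | hj
    · simp [φ, hz]
    · have hne : j ≠ i := fun h => his (h ▸ hj)
      simp [φ, hne, hy j hj]

theorem exists_rep_fin {n : ℕ} (x : Fin n → H) :
    ∃ (S : Type u) (_ : CommRing S) (_ : Algebra A S) (_ : Algebra.Etale A S)
      (φ : S →ₐ[A] H) (y : Fin n → S), ∀ i, φ (y i) = x i := by
  obtain ⟨S, i₁, i₂, i₃, φ, y, hy⟩ := hH.exists_rep_finset Finset.univ x
  exact ⟨S, i₁, i₂, i₃, φ, y, fun i => hy i (Finset.mem_univ i)⟩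

/-- An element is a unit as soon as its image at the point is. -/
theorem isUnit_of_isUnit {x : H} (hx : IsUnit (π x)) : IsUnit x := by
  obtain ⟨S, _, _, _, φ, s, rfl⟩ := hH.exists_rep x
  let T := Localization.Away s
  have : Algebra.Etale S T := Algebra.Etale.of_isLocalizationAway s
  have : Algebra.Etale A T := Algebra.Etale.comp A S T
  obtain ⟨φT, hφT⟩ := hH.exists_map T
    (IsLocalization.Away.liftAlgHom s (f := π.comp φ) hx)
  have h : φT.comp (IsScalarTower.toAlgHom A S T) = φ := hH.hom_ext (AlgHom.ext fun a =>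
    (DFunLike.congr_fun hφT (algebraMap S T a)).trans (IsLocalization.Away.lift_eq s hx a))
  rw [← h]
  exact (IsLocalization.Away.algebraMap_isUnit (S := T) s).map φT

/-- The colimit of pointed etale algebras is henselian along the kernel of the point. -/
theorem henselianRing : HenselianRing H (RingHom.ker π) := by
  refine henselianRing_of_gabber hH.jac fun n hn p hpdeg hp => ?_
  obtain ⟨S, _, _, _, φ, y, hy⟩ := hH.exists_rep_fin fun i : Fin (n + 1) => p.coeff i
  let q : S[X] := ∑ i : Fin (n + 1), C (y i) * X ^ (i : ℕ)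
  have hqmap : q.map φ.toRingHom = p := by
    rw [as_sum_range_C_mul_X_pow' p (Nat.lt_succ_of_le hpdeg),
      ← Fin.sum_univ_eq_sum_range (fun i => C (p.coeff i) * X ^ i)]
    simp [q, Polynomial.map_sum, hy]
  have hqdeg : q.degree ≤ (n : ℕ) :=
    (degree_sum_le _ _).trans (Finset.sup_le fun i _ => (degree_C_mul_X_pow_le _ _).trans
      (by exact_mod_cast Nat.lt_succ_iff.mp i.2))
  let F : S[X] := X ^ (n + 1) + (q - X ^ n)
  have hF : F.Monic := monic_X_pow_add (lt_of_le_of_lt (degree_sub_le _ _)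
    (max_lt (hqdeg.trans_lt (by exact_mod_cast Nat.lt_succ_self n))
      ((degree_X_pow_le _).trans_lt (by exact_mod_cast Nat.lt_succ_self n))))
  let P : StandardEtalePair S := ⟨F, hF, F.derivative, ⟨1, 0, 1, by simp⟩⟩
  let σ : S →ₐ[A] k := π.comp φ
  let : Algebra S k := σ.toRingHom.toAlgebra
  have : IsScalarTower A S k := IsScalarTower.of_algebraMap_eq fun a => (σ.commutes a).symm
  have hq0 : q.map σ.toRingHom = 0 := by
    show q.map (π.toRingHom.comp φ.toRingHom) = 0
    rw [← Polynomial.map_map, hqmap]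
    ext i
    rw [coeff_map, coeff_zero]
    exact RingHom.mem_ker.mp (hp i)
  have h1 : P.HasMap (1 : k) := by
    have hFk : F.map (algebraMap S k) = X ^ (n + 1) - X ^ n := by
      have : q.map (algebraMap S k) = 0 := hq0
      simp [F, this, ← sub_eq_add_neg]
    refine ⟨?_, ?_⟩
    · rw [aeval_def, ← eval_map, hFk]; simp
    · rw [aeval_def, ← eval_map, ← derivative_map, hFk]
      simp [derivative_X_pow]
  let : Algebra A P.Ring := ((algebraMap S P.Ring).comp (algebraMap A S)).toAlgebra
  have : IsScalarTower A S P.Ring := IsScalarTower.of_algebraMap_eq fun _ => rfl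
  have : Algebra.Etale A P.Ring := Algebra.Etale.comp A S P.Ring
  obtain ⟨φT, hφT⟩ := hH.exists_map P.Ring ((P.lift 1 h1).restrictScalars A)
  have hres : φT.comp (IsScalarTower.toAlgHom A S P.Ring) = φ := hH.hom_ext (AlgHom.ext fun a => by
    have := DFunLike.congr_fun hφT (algebraMap S P.Ring a)
    simpa [σ, RingHom.algebraMap_toAlgebra] using this)
  refine ⟨φT P.X, ?_, ?_⟩
  · rw [RingHom.mem_ker, map_sub, map_one, sub_eq_zero]
    exact (DFunLike.congr_fun hφT P.X).trans (P.lift_X 1 h1)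
  · let : Algebra S H := φ.toRingHom.toAlgebra
    have : IsScalarTower A S H := IsScalarTower.of_algebraMap_eq fun a => (φ.commutes a).symm
    let φT' : P.Ring →ₐ[S] H :=
      { φT with commutes' := fun a => DFunLike.congr_fun hres a }
    have h := (StandardEtalePair.hasMap_X (P := P)).map φT'
    have h2 : (F.map φ.toRingHom).eval (φT P.X) = 0 := (eval_map _ _).trans h.1
    show IsRoot _ _
    rw [IsRoot, ← h2]
    have h3 : q.map (φ : S →+* H) = p := hqmap
    simp [F, h3]
    ring

/-- The colimit of pointed etale algebras is flat. -/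
theorem flat : Module.Flat A H := by
  refine Module.Flat.iff_forall_isTrivialRelation.mpr fun {l} a x hax => ?_
  obtain ⟨S, _, _, _, φ, y, hy⟩ := hH.exists_rep_fin x
  obtain ⟨T, _, _, _, ψ, φT, hcomp, hz⟩ := hH.exists_eq_zero S φ (∑ i, a i • y i) (by
    simpa [map_sum, hy] using hax)
  rw [map_sum] at hz
  simp only [map_smul] at hz
  obtain ⟨κ, c, z, hc, hca⟩ :=
    Module.Flat.iff_forall_isTrivialRelation.mp (inferInstance : Module.Flat A T) hz
  refine ⟨κ, c, fun j => φT (z j), fun i => ?_, hca⟩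
  rw [← hy i, ← hcomp, AlgHom.comp_apply, show ψ (y i) = _ from hc i, map_sum]
  simp only [map_smul]

/-- Compatible maps on the etale algebras glue to a map on the colimit. -/
theorem exists_desc {B : Type u} [CommRing B] [Algebra A B]
    (F : ∀ (S : Type u) [CommRing S] [Algebra A S] [Algebra.Etale A S] (_φ : S →ₐ[A] H), S →ₐ[A] B)
    (compat : ∀ (S : Type u) [CommRing S] [Algebra A S] [Algebra.Etale A S] (φ : S →ₐ[A] H)
      (T : Type u) [CommRing T] [Algebra A T] [Algebra.Etale A T] (φT : T →ₐ[A] H)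
      (ψ : S →ₐ[A] T), φT.comp ψ = φ → (F T φT).comp ψ = F S φ) :
    ∃ g : H →ₐ[A] B, ∀ (S : Type u) [CommRing S] [Algebra A S] [Algebra.Etale A S]
      (φ : S →ₐ[A] H), g.comp φ = F S φ := by
  choose Sx i₁ i₂ i₃ φx sx hx using hH.exists_rep
  let g : H → B := fun x => F (Sx x) (φx x) (sx x)
  have key : ∀ (S : Type u) [CommRing S] [Algebra A S] [Algebra.Etale A S] (φ : S →ₐ[A] H)
      (s : S), g (φ s) = F S φ s := by
    intro S _ _ _ φ s
    let φ₁ := φx (φ s)
    let L : Sx (φ s) ⊗[A] S →ₐ[A] H :=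
      Algebra.TensorProduct.lift φ₁ φ fun _ _ => Commute.all _ _
    have : Algebra.Etale A (Sx (φ s) ⊗[A] S) := Algebra.Etale.comp A (Sx (φ s)) _
    obtain ⟨T, _, _, _, ψ, φT, hcomp, hz⟩ := hH.exists_eq_zero _ L
      (sx (φ s) ⊗ₜ 1 - 1 ⊗ₜ s) (by simp [L, φ₁, hx])
    rw [map_sub, sub_eq_zero] at hz
    have h1 := compat _ φ₁ T φT (ψ.comp Algebra.TensorProduct.includeLeft) (by
      rw [← AlgHom.comp_assoc, hcomp]; exact AlgHom.ext fun a => by simp [L])
    have h2 := compat _ φ T φT (ψ.comp Algebra.TensorProduct.includeRight) (by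
      rw [← AlgHom.comp_assoc, hcomp]; exact AlgHom.ext fun a => by simp [L])
    show F _ φ₁ (sx (φ s)) = _
    rw [← h1, ← h2]
    exact congrArg (F T φT) hz
  have hom : ∀ x y, g (x + y) = g x + g y ∧ g (x * y) = g x * g y := by
    intro x y
    obtain ⟨S, _, _, _, φ, z, hz⟩ := hH.exists_rep_fin ![x, y]
    have hx' : φ (z 0) = x := hz 0
    have hy' : φ (z 1) = y := hz 1
    rw [← hx', ← hy', ← map_add, ← map_mul, key, key, key, key, map_add, map_mul]
    exact ⟨rfl, rfl⟩
  have hc : ∀ a, g (algebraMap A H a) = algebraMap A B a := fun a => by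
    have := key A (Algebra.ofId A H) a
    rwa [Algebra.ofId_apply, show F A (Algebra.ofId A H) a = algebraMap A B a from
      (F A (Algebra.ofId A H)).commutes a] at this
  exact ⟨{ toFun := g, map_one' := by simpa using hc 1, map_mul' := fun x y => (hom x y).2
           map_zero' := by simpa using hc 0, map_add' := fun x y => (hom x y).1
           commutes' := hc }, fun S _ _ _ φ => AlgHom.ext fun s => key S φ s⟩

/-- The colimit of pointed etale algebras is formally etale. -/
theorem formallyEtale : Algebra.FormallyEtale A H := by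
  rw [Algebra.FormallyEtale.iff_comp_bijective]
  intro B _ _ J hJ
  refine ⟨fun g g' hg => ?_, fun f => ?_⟩
  · refine AlgHom.ext fun x => ?_
    obtain ⟨S, _, _, _, φ, s, rfl⟩ := hH.exists_rep x
    have h := (Algebra.FormallyEtale.comp_bijective A S J hJ).1 (a₁ := g.comp φ) (a₂ := g'.comp φ)
      (by simp only [← AlgHom.comp_assoc]; exact congrArg (·.comp φ) hg)
    exact DFunLike.congr_fun h s
  · choose lift hlift using fun (S : Type u) [CommRing S] [Algebra A S] [Algebra.Etale A S]
      (φ : S →ₐ[A] H) => (Algebra.FormallyEtale.comp_bijective A S J hJ).2 (f.comp φ)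
    have compat : ∀ (S : Type u) [CommRing S] [Algebra A S] [Algebra.Etale A S] (φ : S →ₐ[A] H)
        (T : Type u) [CommRing T] [Algebra A T] [Algebra.Etale A T] (φT : T →ₐ[A] H)
        (ψ : S →ₐ[A] T), φT.comp ψ = φ → (lift T φT).comp ψ = lift S φ :=
      fun S _ _ _ φ T _ _ _ φT ψ h => (Algebra.FormallyEtale.comp_bijective A S J hJ).1 (by
        simp only [← AlgHom.comp_assoc, hlift]
        rw [AlgHom.comp_assoc, h])
    obtain ⟨g, hg⟩ := hH.exists_desc lift compat
    refine ⟨g, AlgHom.ext fun x => ?_⟩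
    obtain ⟨S, _, _, _, φ, s, rfl⟩ := hH.exists_rep x
    rw [← AlgHom.comp_apply, AlgHom.comp_assoc, hg, hlift]
    rfl

/-- Maps out of the colimit of pointed etale algebras into a henselian pair. -/
theorem existsUnique_algHom {C : Type u} [CommRing C] [Algebra A C] {J : Ideal C} [HenselianRing C J]
    (ρ : k →ₐ[A] C ⧸ J) :
    ∃! g : H →ₐ[A] C, (Ideal.Quotient.mkₐ A J).comp g = ρ.comp π := by
  choose F hF hFu using fun (S : Type u) [CommRing S] [Algebra A S] [Algebra.Etale A S]
    (φ : S →ₐ[A] H) => existsUnique_algHom_lift_rel (I := J) ((ρ.comp π).comp φ)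
  obtain ⟨g, hg⟩ := hH.exists_desc F fun S _ _ _ φ T _ _ _ φT ψ h => hFu S φ _ (by
    show (Ideal.Quotient.mkₐ A J).comp ((F T φT).comp ψ) = _
    rw [← AlgHom.comp_assoc, hF, AlgHom.comp_assoc, h])
  refine ⟨g, AlgHom.ext fun x => ?_, fun g' hg' => AlgHom.ext fun x => ?_⟩
  · obtain ⟨S, _, _, _, φ, s, rfl⟩ := hH.exists_rep x
    rw [← AlgHom.comp_apply, AlgHom.comp_assoc, hg, hF]
    rfl
  · obtain ⟨S, _, _, _, φ, s, rfl⟩ := hH.exists_rep x
    rw [← AlgHom.comp_apply, ← AlgHom.comp_apply g, hg]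
    exact DFunLike.congr_fun (hFu S φ _ (show (Ideal.Quotient.mkₐ A J).comp (g'.comp φ) = _ by
      rw [← AlgHom.comp_assoc, hg'])) s

/-- Being the colimit of pointed etale algebras is invariant under isomorphisms. -/
theorem of_algEquiv {H' : Type u} [CommRing H'] [Algebra A H'] (e : H ≃ₐ[A] H') :
    IsPtColim (π.comp e.symm.toAlgHom) where
  exists_rep x := by
    obtain ⟨S, i₁, i₂, i₃, φ, s, hs⟩ := hH.exists_rep (e.symm x)
    exact ⟨S, i₁, i₂, i₃, e.toAlgHom.comp φ, s, by
      rw [AlgHom.comp_apply, hs]; exact e.apply_symm_apply x⟩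
  exists_map S _ _ _ σ := by
    obtain ⟨φ, hφ⟩ := hH.exists_map S σ
    refine ⟨e.toAlgHom.comp φ, AlgHom.ext fun s => ?_⟩
    show π (e.symm (e (φ s))) = σ s
    rw [e.symm_apply_apply]
    exact DFunLike.congr_fun hφ s
  jac x hx := by
    rw [Ideal.mem_jacobson_bot]
    intro y
    have h := Ideal.mem_jacobson_bot.mp (hH.jac (x := e.symm x) hx) (e.symm y)
    have h2 := h.map e
    simpa using h2
  exists_eq_zero S _ _ _ φ s hs := by
    obtain ⟨T, i₁, i₂, i₃, ψ, φT, hT, hz⟩ := hH.exists_eq_zero S (e.symm.toAlgHom.comp φ) s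
      (by rw [AlgHom.comp_apply, hs, map_zero])
    refine ⟨T, i₁, i₂, i₃, ψ, e.toAlgHom.comp φT, AlgHom.ext fun a => ?_, hz⟩
    have := DFunLike.congr_fun hT a
    show e (φT (ψ a)) = φ a
    rw [show φT (ψ a) = e.symm (φ a) from this, e.apply_symm_apply]

end IsPtColim

end Groth.Agent.H9Hens
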