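import Groth.Agent.H9Hens.Local
import Mathlib.RingTheory.Jacobson.Artinian
import Mathlib.RingTheory.Ideal.MinimalPrime.Noetherian

/-!
Finite type algebras over henselian local rings: splitting off the finite part.
-/

namespace Groth.Agent.H9Hens

open IsLocalRing

universe u v

variable {R : Type u} [CommRing R]

section Fibre

variable [IsLocalRing R] {S : Type v} [CommRing S] [Algebra R S]

/-- A prime containing `mS` lies over the maximal ideal. -/
theorem liesOver_of_map_le (q : Ideal S) [q.IsPrime]
    (h : (maximalIdeal R).map (algebraMap R S) ≤ q) : q.LiesOver (maximalIdeal R) :=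
  ⟨((maximalIdeal.isMaximal R).eq_of_le Ideal.IsPrime.ne_top' (Ideal.map_le_iff_le_comap.mp h))⟩

/-- Quasi-finiteness at a point of the closed fibre is isolatedness in the closed fibre. -/
theorem quasiFiniteAt_iff_isOpen_singleton_closedFibre [Algebra.FiniteType R S]
    (x : PrimeSpectrum (S ⧸ (maximalIdeal R).map (algebraMap R S))) :
    Algebra.QuasiFiniteAt R (PrimeSpectrum.comap
        (Ideal.Quotient.mk ((maximalIdeal R).map (algebraMap R S))) x).asIdeal ↔ IsOpen {x} := by
  have hemb := PrimeSpectrum.isClosedEmbedding_comap_of_surjective _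
    (Ideal.Quotient.mk ((maximalIdeal R).map (algebraMap R S))) Ideal.Quotient.mk_surjective
  have hp : ∀ y : PrimeSpectrum (S ⧸ ((maximalIdeal R).map (algebraMap R S))), PrimeSpectrum.comap (algebraMap R S)
      (PrimeSpectrum.comap (Ideal.Quotient.mk ((maximalIdeal R).map (algebraMap R S))) y) = closedPoint R := by
    intro y
    apply PrimeSpectrum.ext
    refine (((maximalIdeal.isMaximal R).eq_of_le
      (PrimeSpectrum.comap (algebraMap R S)
        (PrimeSpectrum.comap (Ideal.Quotient.mk ((maximalIdeal R).map (algebraMap R S))) y)).isPrime.ne_top) fun r hr => ?_).symm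
    show Ideal.Quotient.mk ((maximalIdeal R).map (algebraMap R S)) (algebraMap R S r) ∈ y.asIdeal
    rw [Ideal.Quotient.eq_zero_iff_mem.mpr (Ideal.mem_map_of_mem _ hr)]
    exact zero_mem _
  let φ : PrimeSpectrum (S ⧸ ((maximalIdeal R).map (algebraMap R S))) → (PrimeSpectrum.comap (algebraMap R S) ⁻¹'
      {(PrimeSpectrum.comap (Ideal.Quotient.mk ((maximalIdeal R).map (algebraMap R S))) x).comap (algebraMap R S)} :
        Set (PrimeSpectrum S)) :=
    fun y => ⟨PrimeSpectrum.comap (Ideal.Quotient.mk ((maximalIdeal R).map (algebraMap R S))) y, (hp y).trans (hp x).symm⟩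
  have hcont : Continuous φ := hemb.continuous.subtype_mk _
  have hinj : Function.Injective φ := fun y z h => hemb.injective (congrArg Subtype.val h)
  rw [Algebra.quasiFiniteAt_iff_isOpen_singleton_fiber]
  constructor
  · intro h
    have h' := hcont.isOpen_preimage ({φ x} : Set _) h
    convert h'
    ext y
    exact ⟨fun hy => congrArg φ hy, fun hy => hinj hy⟩
  · intro h
    obtain ⟨V, hV, hVx⟩ := hemb.isInducing.isOpen_iff.mp h
    refine isOpen_induced_iff.mpr ⟨V, hV, ?_⟩
    ext ⟨z, hz⟩
    simp only [Set.mem_preimage, Set.mem_singleton_iff]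
    constructor
    · intro hzV
      have hzm : PrimeSpectrum.comap (algebraMap R S) z = closedPoint R :=
        (Set.mem_singleton_iff.mp hz).trans (hp x)
      have hLz : ((maximalIdeal R).map (algebraMap R S)) ≤ z.asIdeal := Ideal.map_le_iff_le_comap.mpr
        (le_of_eq (congrArg PrimeSpectrum.asIdeal hzm).symm)
      obtain ⟨y, rfl⟩ : z ∈ Set.range (PrimeSpectrum.comap (Ideal.Quotient.mk ((maximalIdeal R).map (algebraMap R S)))) := by
        rw [range_comap_of_surjective _ _ Ideal.Quotient.mk_surjective, Ideal.mk_ker]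
        exact hLz
      have hy : y ∈ PrimeSpectrum.comap (Ideal.Quotient.mk ((maximalIdeal R).map (algebraMap R S))) ⁻¹' V := hzV
      rw [hVx, Set.mem_singleton_iff] at hy
      exact Subtype.ext (congrArg (PrimeSpectrum.comap (Ideal.Quotient.mk _)) hy)
    · intro h'
      have hx : x ∈ PrimeSpectrum.comap (Ideal.Quotient.mk ((maximalIdeal R).map (algebraMap R S))) ⁻¹' V := hVx.symm ▸ rfl
      have h'' := congrArg Subtype.val h'
      simp only at h''
      rw [h'']
      exact hx

end Fibre

/-- A finite type algebra over a henselian local ring splits off a finite algebra containing all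
quasi-finite points of the closed fibre. -/
theorem exists_idem_split [HenselianLocalRing R] (S : Type v) [CommRing S] [Algebra R S]
    [Algebra.FiniteType R S] :
    ∃ e : S, IsIdempotentElem e ∧ Module.Finite R (S ⧸ Ideal.span {1 - e}) ∧
      ∀ (q : Ideal S) [q.IsPrime], q.LiesOver (maximalIdeal R) → Algebra.QuasiFiniteAt R q →
        e ∉ q := by
  classical
  set L := (maximalIdeal R).map (algebraMap R S) with hL
  let : Field (R ⧸ maximalIdeal R) := Ideal.Quotient.field _
  have : Algebra.FiniteType R (S ⧸ L) :=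
    .of_surjective (Ideal.Quotient.mkₐ R L) Ideal.Quotient.mk_surjective
  have : Algebra.FiniteType (R ⧸ maximalIdeal R) (S ⧸ L) :=
    .of_restrictScalars_finiteType R _ _
  have : IsNoetherianRing (S ⧸ L) := Algebra.FiniteType.isNoetherianRing (R ⧸ maximalIdeal R) _
  have : IsJacobsonRing (S ⧸ L) := isJacobsonRing_of_finiteType (A := R ⧸ maximalIdeal R)
  let U : Set (PrimeSpectrum (S ⧸ L)) := {x | IsOpen {x}}
  have hUmin : ∀ x ∈ U, x.asIdeal ∈ minimalPrimes (S ⧸ L) := by
    intro x hx
    refine ⟨⟨x.isPrime, bot_le⟩, fun p ⟨hp, _⟩ hle => ?_⟩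
    have hspec : (⟨p, hp⟩ : PrimeSpectrum (S ⧸ L)) ⤳ x :=
      (PrimeSpectrum.le_iff_specializes _ _).mp hle
    have := hspec.mem_open hx rfl
    exact (congrArg PrimeSpectrum.asIdeal this).ge
  have hUfin : U.Finite :=
    ((minimalPrimes.finite_of_isNoetherianRing (S ⧸ L)).preimage
      (fun _ _ _ _ h => PrimeSpectrum.ext h)).subset hUmin
  have hclopen : ∀ x ∈ U, IsClopen ({x} : Set (PrimeSpectrum (S ⧸ L))) := fun x hx =>
    ((PrimeSpectrum.isOpen_singleton_tfae_of_isNoetherian_of_isJacobsonRing x).out 0 1).mp hx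
  have hUclopen : IsClopen U := by
    have h1 : U = ⋃ x ∈ U, {x} := (Set.biUnion_of_singleton U).symm
    rw [h1]
    exact hUfin.isClopen_biUnion hclopen
  obtain ⟨ē, hē, hUe⟩ := PrimeSpectrum.isClopen_iff.mp hUclopen
  obtain ⟨f, rfl⟩ := Ideal.Quotient.mk_surjective ē
  have hf : f * f - f ∈ L := by rw [← Ideal.Quotient.eq, map_mul]; exact hē
  set J := L ⊔ Ideal.span {1 - f}
  have hJU : ∀ x : PrimeSpectrum (S ⧸ L),
      J ≤ (PrimeSpectrum.comap (Ideal.Quotient.mk L) x).asIdeal → x ∈ U := by
    intro x hx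
    rw [hUe]
    intro hfx
    have h1 : Ideal.Quotient.mk L (1 - f) ∈ x.asIdeal :=
      hx (Ideal.mem_sup_right (Ideal.subset_span rfl))
    rw [map_sub, map_one] at h1
    exact x.isPrime.ne_top ((Ideal.eq_top_iff_one _).mpr (by simpa using add_mem h1 hfx))
  have hfin : Module.Finite R (S ⧸ J) := by
    set J' := J.map (Ideal.Quotient.mk L)
    have : IsNoetherianRing ((S ⧸ L) ⧸ J') := inferInstance
    have : Ring.KrullDimLE 0 ((S ⧸ L) ⧸ J') := by
      refine Ring.krullDimLE_zero_iff.mpr fun P hP => ?_
      let x : PrimeSpectrum (S ⧸ L) := ⟨P.comap (Ideal.Quotient.mk J'), inferInstance⟩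
      have hx : x ∈ U := hJU x fun s hs => by
        show Ideal.Quotient.mk J' (Ideal.Quotient.mk L s) ∈ P
        rw [Ideal.Quotient.eq_zero_iff_mem.mpr (Ideal.mem_map_of_mem _ hs)]
        exact zero_mem _
      have hxmax : x.asIdeal.IsMaximal :=
        (PrimeSpectrum.isClosed_singleton_iff_isMaximal x).mp (hclopen x hx).isClosed
      exact ((Ideal.map_eq_top_or_isMaximal_of_surjective _
        Ideal.Quotient.mk_surjective hxmax).resolve_left fun h => hP.ne_top (by
          rw [Ideal.map_comap_of_surjective _ Ideal.Quotient.mk_surjective] at h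
          exact h)) |> fun hm => by
            rwa [Ideal.map_comap_of_surjective _ Ideal.Quotient.mk_surjective] at hm
    have : IsArtinianRing ((S ⧸ L) ⧸ J') :=
      isArtinianRing_iff_isNoetherianRing_krullDimLE_zero.mpr ⟨inferInstance, inferInstance⟩
    have : Algebra.FiniteType (R ⧸ maximalIdeal R) ((S ⧸ L) ⧸ J') :=
      .of_surjective (Ideal.Quotient.mkₐ _ J') Ideal.Quotient.mk_surjective
    have : Module.Finite (R ⧸ maximalIdeal R) ((S ⧸ L) ⧸ J') :=
      (Module.finite_iff_isArtinianRing (R ⧸ maximalIdeal R) _).mpr inferInstance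
    have : Module.Finite R ((S ⧸ L) ⧸ J') := Module.Finite.trans (R ⧸ maximalIdeal R) _
    have : Module.Finite R ((S ⧸ L) ⧸ J.map (Ideal.Quotient.mkₐ R L)) := ‹_›
    exact Module.Finite.equiv
      (DoubleQuot.quotQuotEquivQuotOfLEₐ R (le_sup_left : L ≤ J)).toLinearEquiv
  obtain ⟨e, he, hef, hC⟩ := exists_finitePart (I := maximalIdeal R) f hf hfin fun q _ hq => by
    have hLq : L ≤ q := le_sup_left.trans hq
    obtain ⟨x, hx⟩ : (⟨q, ‹_›⟩ : PrimeSpectrum S) ∈
        Set.range (PrimeSpectrum.comap (Ideal.Quotient.mk L)) := by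
      rw [range_comap_of_surjective _ _ Ideal.Quotient.mk_surjective, Ideal.mk_ker]
      exact hLq
    have hxU : x ∈ U := hJU x (by rw [hx]; exact hq)
    have h1 := (quasiFiniteAt_iff_isOpen_singleton_closedFibre x).mpr hxU
    have h2 : (PrimeSpectrum.comap (Ideal.Quotient.mk L) x).asIdeal = q :=
      congrArg PrimeSpectrum.asIdeal hx
    convert h1 using 2 <;> exact h2.symm
  refine ⟨e, he, hC, fun q _ hlies hqf heq => ?_⟩
  have hLq : L ≤ q := Ideal.map_le_iff_le_comap.mpr hlies.over.le
  obtain ⟨x, hx⟩ : (⟨q, ‹_›⟩ : PrimeSpectrum S) ∈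
      Set.range (PrimeSpectrum.comap (Ideal.Quotient.mk L)) := by
    rw [range_comap_of_surjective _ _ Ideal.Quotient.mk_surjective, Ideal.mk_ker]
    exact hLq
  have h2 : (PrimeSpectrum.comap (Ideal.Quotient.mk L) x).asIdeal = q :=
    congrArg PrimeSpectrum.asIdeal hx
  have h1 : Algebra.QuasiFiniteAt R (PrimeSpectrum.comap (Ideal.Quotient.mk L) x).asIdeal := by
    convert hqf using 2 <;> exact h2
  have hxU : x ∈ U := (quasiFiniteAt_iff_isOpen_singleton_closedFibre x).mp h1
  rw [hUe] at hxU
  refine hxU ?_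
  rw [← Ideal.Quotient.eq.mpr hef]
  show e ∈ (PrimeSpectrum.comap (Ideal.Quotient.mk L) x).asIdeal
  rw [h2]
  exact heq

/-- Quasi-finiteness at a prime of the summand `S/(e)` comes from quasi-finiteness in `S`. -/
theorem quasiFiniteAt_of_summand {S : Type v} [CommRing S] [Algebra R S] {e : S}
    (he : IsIdempotentElem e) (q : Ideal (S ⧸ Ideal.span {e})) [q.IsPrime]
    [Algebra.QuasiFiniteAt R q] :
    Algebra.QuasiFiniteAt R (q.comap (Ideal.Quotient.mk (Ideal.span {e}))) := by
  have : IsLocalization.Away (1 - e) (S ⧸ Ideal.span {e}) :=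
    IsLocalization.away_of_isIdempotentElem he.one_sub
      (by rw [Ideal.Quotient.algebraMap_eq, Ideal.mk_ker, sub_sub_cancel])
      Ideal.Quotient.mk_surjective
  let q' := q.comap (algebraMap S (S ⧸ Ideal.span {e}))
  have : IsLocalization.AtPrime (Localization.AtPrime q) q' :=
    IsLocalization.isLocalization_isLocalization_atPrime_isLocalization
      (.powers (1 - e)) (Localization.AtPrime q) q
  let φ := (IsLocalization.algEquiv q'.primeCompl (Localization.AtPrime q)
    (Localization.AtPrime q')).restrictScalars R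
  exact (Algebra.QuasiFinite.iff_of_algEquiv φ).mp ‹_›

/-- Over a henselian local ring, the local ring of a finite type algebra at a quasi-finite point of
the closed fibre is finite. -/
theorem finite_localization_of_quasiFiniteAt [HenselianLocalRing R] {S : Type v} [CommRing S]
    [Algebra R S] [Algebra.FiniteType R S] (q : Ideal S) [q.IsPrime]
    (hlies : q.LiesOver (maximalIdeal R)) [Algebra.QuasiFiniteAt R q] :
    Module.Finite R (Localization.AtPrime q) := by
  obtain ⟨e, he, hC, hq⟩ := exists_idem_split (R := R) S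
  have heq := hq q hlies ‹_›
  set P : Ideal S := Ideal.span {1 - e}
  have hPq : P ≤ q := by
    rw [Ideal.span_le, Set.singleton_subset_iff]
    have : e * (1 - e) ∈ q := by rw [mul_sub, mul_one, he.eq, sub_self]; exact zero_mem _
    exact ((‹q.IsPrime›.mem_or_mem this).resolve_left heq)
  let qC : Ideal (S ⧸ P) := q.map (Ideal.Quotient.mk P)
  have : qC.IsPrime := Ideal.map_isPrime_of_surjective Ideal.Quotient.mk_surjective
    (by rwa [Ideal.mk_ker])
  have hcomap : qC.comap (Ideal.Quotient.mk P) = q := by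
    rw [Ideal.comap_map_of_surjective' _ Ideal.Quotient.mk_surjective, Ideal.mk_ker,
      sup_eq_left.mpr hPq]
  have hunder : qC.comap (algebraMap R (S ⧸ P)) = maximalIdeal R := by
    rw [IsScalarTower.algebraMap_eq R S (S ⧸ P), ← Ideal.comap_comap,
      Ideal.Quotient.algebraMap_eq, hcomap]
    exact hlies.over.symm
  have hmax : qC.IsMaximal :=
    Ideal.isMaximal_of_isIntegral_of_isMaximal_comap (R := R) qC
      (hunder ▸ maximalIdeal.isMaximal R)
  have hsurj : Function.Surjective (algebraMap (S ⧸ P) (Localization.AtPrime qC)) := fun y => by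
    classical
    obtain ⟨x, hx⟩ := (toPiLocalization_bijective_of_idem_lift (R := R) (B := S ⧸ P)
      fun b hb => exists_idem_lift b hb).2 (Pi.single ⟨qC, hmax⟩ y)
    exact ⟨x, (congr_fun hx ⟨qC, hmax⟩).trans (Pi.single_eq_same _ _)⟩
  have : Module.Finite R (Localization.AtPrime qC) := Module.Finite.of_surjective
    (IsScalarTower.toAlgHom R (S ⧸ P) (Localization.AtPrime qC)).toLinearMap hsurj
  have : IsLocalization.Away e (S ⧸ P) :=
    IsLocalization.away_of_isIdempotentElem he
      (by rw [Ideal.Quotient.algebraMap_eq, Ideal.mk_ker]) Ideal.Quotient.mk_surjective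
  have : IsLocalization.AtPrime (Localization.AtPrime qC) q := by
    have h := IsLocalization.isLocalization_isLocalization_atPrime_isLocalization
      (.powers e) (Localization.AtPrime qC) qC
    have hM : (qC.comap (algebraMap S (S ⧸ P))).primeCompl = q.primeCompl := by
      ext x
      rw [Ideal.mem_primeCompl_iff, Ideal.mem_primeCompl_iff, Ideal.Quotient.algebraMap_eq, hcomap]
    show IsLocalization q.primeCompl _
    rw [← hM]
    exact h
  exact Module.Finite.equiv ((IsLocalization.algEquiv q.primeCompl (Localization.AtPrime qC)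
    (Localization.AtPrime q)).restrictScalars R).toLinearEquiv

end Groth.Agent.H9Hens
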