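import Groth.Agent.H9Hens.BranchFlat
import Groth.Agent.H9Hens.PairOps
import Groth.Agent.S13598
import Groth.Prelude.Def_EGA4b
import Mathlib.RingTheory.Ideal.MinimalPrime.Basic
import Mathlib.RingTheory.Ideal.GoingDown
import Mathlib.Algebra.BigOperators.Finprod

/-!
Branches are summed over the minimal primes.
-/

namespace Groth.Agent.H9Hens

universe u v

open IsLocalRing

theorem enatCard_sigma {ι : Type*} [Fintype ι] (β : ι → Type*) :
    ENat.card (Σ i, β i) = ∑ i, ENat.card (β i) := by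
  by_cases h : ∀ i, Finite (β i)
  · simp only [ENat.card_eq_coe_natCard, Nat.card_sigma, Nat.cast_sum]
  · push Not at h
    obtain ⟨i, hi⟩ := h
    have : Infinite (Σ i, β i) :=
      Infinite.of_injective (Sigma.mk i) sigma_mk_injective
    rw [ENat.card_eq_top_of_infinite]
    refine (eq_top_iff.mpr ?_).symm
    rw [← ENat.card_eq_top_of_infinite (α := β i)]
    exact Finset.single_le_sum (f := fun i => ENat.card (β i)) (fun _ _ => zero_le) (Finset.mem_univ i)

/-- Minimal primes of a flat algebra, sorted by the minimal primes of the base. -/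
theorem nonempty_minimalPrimes_equiv_sigma (A S : Type u) [CommRing A] [CommRing S] [Algebra A S]
    [Module.Flat A S] :
    Nonempty (minimalPrimes S ≃
      Σ p : minimalPrimes A, minimalPrimes (S ⧸ p.1.map (algebraMap A S))) := by
  have hcomap : ∀ P : minimalPrimes S, P.1.comap (algebraMap A S) ∈ minimalPrimes A := fun P => by
    have := P.2.1.1
    refine ⟨⟨inferInstance, bot_le⟩, fun p hp hle => ?_⟩
    have := hp.1
    have : P.1.LiesOver (P.1.comap (algebraMap A S)) := ⟨rfl⟩
    obtain ⟨P', hP'le, hP', hlo⟩ :=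
      Ideal.exists_ideal_le_liesOver_of_le (q := P.1.comap (algebraMap A S)) P.1 hle
    have hPP : P.1 = P' := le_antisymm (P.2.2 ⟨hP', bot_le⟩ hP'le) hP'le
    exact le_of_eq ((congrArg (Ideal.comap (algebraMap A S)) hPP).trans hlo.over.symm)
  have hiff : ∀ (p : minimalPrimes A) (P : Ideal S),
      P ∈ (p.1.map (algebraMap A S)).minimalPrimes ↔
        P ∈ minimalPrimes S ∧ P.comap (algebraMap A S) = p.1 := fun p P => by
    constructor
    · intro hP
      have := hP.1.1
      have hle : p.1 ≤ P.comap (algebraMap A S) := Ideal.map_le_iff_le_comap.mp hP.1.2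
      obtain ⟨P₀, hP₀, hP₀le⟩ := Ideal.exists_minimalPrimes_le (I := ⊥) (J := P) bot_le
      have : P.LiesOver (P.comap (algebraMap A S)) := ⟨rfl⟩
      have := p.2.1.1
      obtain ⟨P', hP'le, hP', hlo⟩ :=
        Ideal.exists_ideal_le_liesOver_of_le (q := P.comap (algebraMap A S)) P hle
      have hPP : P = P' := le_antisymm
        (hP.2 ⟨hP', Ideal.map_le_iff_le_comap.mpr (le_of_eq hlo.over)⟩ hP'le) hP'le
      have hcp : P.comap (algebraMap A S) = p.1 :=
        (congrArg (Ideal.comap (algebraMap A S)) hPP).trans hlo.over.symm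
      have h0le : P₀.comap (algebraMap A S) ≤ p.1 := hcp ▸ Ideal.comap_mono hP₀le
      have h0 : P₀.comap (algebraMap A S) = p.1 :=
        le_antisymm h0le (p.2.2 (hcomap ⟨P₀, hP₀⟩).1 h0le)
      have : P₀ = P := le_antisymm hP₀le
        (hP.2 ⟨hP₀.1.1, Ideal.map_le_iff_le_comap.mpr h0.ge⟩ hP₀le)
      exact ⟨this ▸ hP₀, hcp⟩
    · rintro ⟨hP, hcp⟩
      exact ⟨⟨hP.1.1, Ideal.map_le_iff_le_comap.mpr hcp.ge⟩,
        fun Q hQ hle => hP.2 ⟨hQ.1, bot_le⟩ hle⟩
  have hq : ∀ (p : minimalPrimes A) (Q : minimalPrimes (S ⧸ p.1.map (algebraMap A S))),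
      Q.1.comap (Ideal.Quotient.mk (p.1.map (algebraMap A S))) ∈ minimalPrimes S ∧
      (Q.1.comap (Ideal.Quotient.mk (p.1.map (algebraMap A S)))).comap (algebraMap A S) = p.1 :=
    fun p Q => (hiff p _).mp (by rw [Ideal.minimalPrimes_eq_comap]; exact ⟨Q.1, Q.2, rfl⟩)
  refine ⟨(Equiv.ofBijective (fun z => (⟨_, (hq z.1 z.2).1⟩ : minimalPrimes S)) ⟨?_, ?_⟩).symm⟩
  · rintro ⟨p, Q⟩ ⟨p', Q'⟩ h
    have h' := congrArg Subtype.val h
    obtain rfl : p = p' := Subtype.ext (by
      rw [← (hq p Q).2, ← (hq p' Q').2]; exact congrArg (Ideal.comap (algebraMap A S)) h')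
    obtain rfl : Q = Q' :=
      Subtype.ext (Ideal.comap_injective_of_surjective _ Ideal.Quotient.mk_surjective h')
    rfl
  · intro P
    have h := (hiff ⟨_, hcomap P⟩ P.1).mpr ⟨P.2, rfl⟩
    rw [Ideal.minimalPrimes_eq_comap] at h
    obtain ⟨Q, hQ, hQP⟩ := h
    exact ⟨⟨⟨_, hcomap P⟩, ⟨Q, hQ⟩⟩, Subtype.ext hQP⟩

section quotient

variable {A S : Type u} [CommRing A] [IsLocalRing A] [CommRing S] [IsLocalRing S] [Algebra A S]
  [IsLocalHom (algebraMap A S)]

theorem map_le_maximalIdeal (I : Ideal A) (hI : I ≠ ⊤) :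
    I.map (algebraMap A S) ≤ maximalIdeal S :=
  (Ideal.map_mono (le_maximalIdeal hI)).trans (map_maximalIdeal_le _)

theorem isLocalRing_quotient {S : Type v} [CommRing S] [IsLocalRing S] {J : Ideal S} (hJ : J ≠ ⊤) :
    IsLocalRing (S ⧸ J) :=
  have : Nontrivial (S ⧸ J) := Ideal.Quotient.nontrivial_iff.mpr hJ
  IsLocalRing.of_surjective' (Ideal.Quotient.mk J) Ideal.Quotient.mk_surjective

theorem isLocalHom_quotient (I : Ideal A) [IsLocalRing (A ⧸ I)]
    [IsLocalRing (S ⧸ I.map (algebraMap A S))] :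
    IsLocalHom (algebraMap (A ⧸ I) (S ⧸ I.map (algebraMap A S))) := ⟨fun x hx => by
  obtain ⟨a, rfl⟩ := Ideal.Quotient.mk_surjective x
  have : IsLocalHom (Ideal.Quotient.mk (I.map (algebraMap A S))) :=
    IsLocalHom.of_surjective _ Ideal.Quotient.mk_surjective
  exact ((isUnit_of_map_unit (algebraMap A S) a
    (isUnit_of_map_unit (Ideal.Quotient.mk (I.map (algebraMap A S))) _ hx))).map _⟩

/-- Quotients of strict henselizations are strict henselizations of quotients. -/
theorem isStrictHenselization_quotient [Hensel.IsStrictHenselization A S] (I : Ideal A)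
    [IsLocalRing (A ⧸ I)] [IsLocalRing (S ⧸ I.map (algebraMap A S))]
    [IsLocalHom (algebraMap (A ⧸ I) (S ⧸ I.map (algebraMap A S)))] :
    Hensel.IsStrictHenselization (A ⧸ I) (S ⧸ I.map (algebraMap A S)) := by
  have := Hensel.IsStrictHenselization.henselian (R := A) (S := S)
  have hsc := Hensel.IsStrictHenselization.isSepClosure (R := A) (S := S)
  set J := I.map (algebraMap A S)
  have : IsLocalHom (Ideal.Quotient.mk I) :=
    IsLocalHom.of_surjective _ Ideal.Quotient.mk_surjective
  have : IsLocalHom (Ideal.Quotient.mk J) :=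
    IsLocalHom.of_surjective _ Ideal.Quotient.mk_surjective
  have hsJ : Function.Surjective (ResidueField.map (Ideal.Quotient.mk J)) := fun y => by
    obtain ⟨z, rfl⟩ := residue_surjective y
    obtain ⟨x, rfl⟩ := Ideal.Quotient.mk_surjective z
    exact ⟨residue S x, rfl⟩
  have hsI : Function.Surjective (ResidueField.map (Ideal.Quotient.mk I)) := fun y => by
    obtain ⟨z, rfl⟩ := residue_surjective y
    obtain ⟨x, rfl⟩ := Ideal.Quotient.mk_surjective z
    exact ⟨residue A x, rfl⟩
  let eJ := RingEquiv.ofBijective _ ⟨RingHom.injective _, hsJ⟩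
  let eI := RingEquiv.ofBijective _ ⟨RingHom.injective _, hsI⟩
  have : HenselianRing (S ⧸ J) (maximalIdeal (S ⧸ J)) := by
    have := henselianRing_quotient (J := maximalIdeal S) J
    refine henselianRing_of_le (J := (maximalIdeal S).map (Ideal.Quotient.mk J)) fun x hx => ?_
    obtain ⟨y, rfl⟩ := Ideal.Quotient.mk_surjective x
    exact Ideal.mem_map_of_mem _ ((mem_maximalIdeal y).mpr fun hy =>
      (mem_maximalIdeal _).mp hx (hy.map _))
  refine ⟨henselianLocalRing_of_henselianRing, ⟨?_, ?_⟩, fun T _ _ f _ τ hτ => ?_⟩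
  · have := hsc.1
    exact IsSepClosed.of_exists_root _ fun p hp hirr hsep => by
      have hd : (p.map eJ.symm.toRingHom).degree ≠ 0 := by
        rw [Polynomial.degree_map]; exact hirr.degree_pos.ne'
      obtain ⟨x, hx⟩ := IsSepClosed.exists_root _ hd hsep.map
      refine ⟨eJ x, ?_⟩
      have h := hx.map (f := eJ.toRingHom)
      rwa [Polynomial.map_map, show eJ.toRingHom.comp eJ.symm.toRingHom = RingHom.id _ from
        RingHom.ext eJ.apply_symm_apply, Polynomial.map_id] at h
  · have := hsc.2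
    refine Algebra.IsSeparable.of_equiv_equiv eI eJ (RingHom.ext fun y => ?_)
    obtain ⟨a, rfl⟩ := residue_surjective y
    rfl
  have hτ' : (τ.comp eJ.toRingHom).comp (ResidueField.map (algebraMap A S)) =
      ResidueField.map (f.comp (Ideal.Quotient.mk I)) := RingHom.ext fun y => by
    obtain ⟨a, rfl⟩ := residue_surjective y
    exact RingHom.congr_fun hτ (residue (A ⧸ I) (Ideal.Quotient.mk I a))
  obtain ⟨g, ⟨hg, hgτ⟩, hgu⟩ :=
    Hensel.IsStrictHenselization.universal (R := A) (S := S) T (f.comp (Ideal.Quotient.mk I))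
      (τ.comp eJ.toRingHom) hτ'
  have hJ : J ≤ RingHom.ker g := Ideal.map_le_iff_le_comap.mpr fun x hx => by
    rw [Ideal.mem_comap, RingHom.mem_ker, ← RingHom.comp_apply, hg, RingHom.comp_apply,
      Ideal.Quotient.eq_zero_iff_mem.mpr hx, map_zero]
  refine ⟨Ideal.Quotient.lift J g hJ, ⟨?_, fun x => ?_⟩, fun g' hg' => ?_⟩
  · refine Ideal.Quotient.ringHom_ext (RingHom.ext fun a => ?_)
    exact RingHom.congr_fun hg a
  · obtain ⟨y, rfl⟩ := Ideal.Quotient.mk_surjective x
    exact hgτ y
  · refine Ideal.Quotient.ringHom_ext ?_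
    refine (hgu _ ⟨RingHom.ext fun a => RingHom.congr_fun hg'.1 (Ideal.Quotient.mk I a),
      fun y => hg'.2 (Ideal.Quotient.mk J y)⟩).trans (Ideal.Quotient.lift_comp_mk J g hJ).symm

end quotient

theorem numBranches_eq_finsum (A : Type u) [CommRing A] [IsLocalRing A]
    (h : (minimalPrimes A).Finite) :
    Brnch.numBranches A =
      ∑ᶠ p : minimalPrimes A,
        haveI : p.1.IsPrime := p.2.1.1
        Brnch.numBranches (A ⧸ p.1) := by
  obtain ⟨S, _, _, _, _, π, hπ, hS⟩ := exists_isHenselization_colim A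
  have := hπ.flat
  have := h.to_subtype
  let := Fintype.ofFinite (minimalPrimes A)
  obtain ⟨e⟩ := nonempty_minimalPrimes_equiv_sigma A S
  rw [finsum_eq_sum_of_fintype, ← card_minimalPrimes_henselization A S, ENat.card_congr e,
    enatCard_sigma]
  refine Finset.sum_congr rfl fun p _ => ?_
  have := p.2.1.1
  have : IsLocalRing (A ⧸ p.1) := isLocalRing_quotient (Ideal.IsPrime.ne_top ‹_›)
  have : IsLocalRing (S ⧸ p.1.map (algebraMap A S)) := isLocalRing_quotient (ne_top_of_le_ne_top
    (maximalIdeal.isMaximal S).ne_top (map_le_maximalIdeal p.1 (Ideal.IsPrime.ne_top ‹_›)))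
  have := isLocalHom_quotient (S := S) p.1
  have := S13598.result (S := S) p.1 (le_maximalIdeal (Ideal.IsPrime.ne_top ‹_›))
  exact card_minimalPrimes_henselization _ _

theorem numGeomBranches_eq_finsum (A : Type u) [CommRing A] [IsLocalRing A]
    (h : (minimalPrimes A).Finite) :
    Brnch.numGeomBranches A =
      ∑ᶠ p : minimalPrimes A,
        haveI : p.1.IsPrime := p.2.1.1
        Brnch.numGeomBranches (A ⧸ p.1) := by
  obtain ⟨k, _, _, _, _, _, S, _, _, _, _, π, hπ, hS⟩ := exists_isStrictHenselization_colim A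
  have := hπ.flat
  have := h.to_subtype
  let := Fintype.ofFinite (minimalPrimes A)
  obtain ⟨e⟩ := nonempty_minimalPrimes_equiv_sigma A S
  rw [finsum_eq_sum_of_fintype, ← card_minimalPrimes_strictHenselization A S, ENat.card_congr e,
    enatCard_sigma]
  refine Finset.sum_congr rfl fun p _ => ?_
  have := p.2.1.1
  have : IsLocalRing (A ⧸ p.1) := isLocalRing_quotient (Ideal.IsPrime.ne_top ‹_›)
  have : IsLocalRing (S ⧸ p.1.map (algebraMap A S)) := isLocalRing_quotient (ne_top_of_le_ne_top
    (maximalIdeal.isMaximal S).ne_top (map_le_maximalIdeal p.1 (Ideal.IsPrime.ne_top ‹_›)))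
  have := isLocalHom_quotient (S := S) p.1
  have := isStrictHenselization_quotient (S := S) p.1
  exact card_minimalPrimes_strictHenselization _ _

end Groth.Agent.H9Hens
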