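import Groth.Agent.H9Hens.Pair
import Groth.Agent.H9Hens.PairOps

/-!
Limits and filtered colimits of henselian pairs.
-/

namespace Groth.Agent.H9Hens

universe u v w

open Polynomial

/-- The root of a Gabber polynomial congruent to `1` modulo `I` is unique. -/
theorem gabber_root_unique {A : Type u} [CommRing A] {I : Ideal A} (hI : I ≤ Ideal.jacobson ⊥)
    (n : ℕ) {p : A[X]} (hp : ∀ i, p.coeff i ∈ I) {α β : A}
    (hα : α - 1 ∈ I ∧ IsRoot (X ^ n * (X - 1) + p) α)
    (hβ : β - 1 ∈ I ∧ IsRoot (X ^ n * (X - 1) + p) β) : α = β := by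
  refine root_unique hI hα.2 hβ.2 (by simpa using I.sub_mem hα.1 hβ.1) ?_
  have hp0 : p.map (Ideal.Quotient.mk I) = 0 := by
    ext i; simpa [Polynomial.coeff_map, Ideal.Quotient.eq_zero_iff_mem] using hp i
  have hα1 : Ideal.Quotient.mk I α = 1 := by
    rw [← map_one (Ideal.Quotient.mk I)]; exact Ideal.Quotient.eq.mpr hα.1
  rw [← eval₂_at_apply, ← eval_map, ← derivative_map]
  simp [hp0, hα1, derivative_mul]

/-- A ring which is the limit of henselian pairs along transition maps is a henselian pair. -/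
theorem henselianRing_of_components {A : Type u} [CommRing A] {ι : Type v} {B : ι → Type w}
    [∀ j, CommRing (B j)] (π : ∀ j, A →+* B j) (J : ∀ j, Ideal (B j))
    (hJ : ∀ j, HenselianRing (B j) (J j))
    {E : Type*} (s d : E → ι) (t : ∀ e, B (s e) →+* B (d e))
    (htJ : ∀ e, (J (s e)).map (t e) ≤ J (d e))
    (hcomm : ∀ e, (t e).comp (π (s e)) = π (d e))
    (hinj : ∀ a b : A, (∀ j, π j a = π j b) → a = b)
    (hsurj : ∀ x : ∀ j, B j, (∀ e, t e (x (s e)) = x (d e)) → ∃ a, ∀ j, π j a = x j) :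
    HenselianRing A (⨅ j, (J j).comap (π j)) := by
  have hmem : ∀ {a : A}, a ∈ (⨅ j, (J j).comap (π j)) ↔ ∀ j, π j a ∈ J j := fun {a} => by
    simp [Submodule.mem_iInf, Ideal.mem_comap]
  have hjac : (⨅ j, (J j).comap (π j)) ≤ Ideal.jacobson ⊥ := by
    intro a ha
    rw [Ideal.mem_jacobson_bot]
    intro y
    have hu : ∀ j, IsUnit (π j (a * y + 1)) := fun j => by
      rw [map_add, map_mul, map_one]
      exact Ideal.mem_jacobson_bot.mp ((hJ j).jac (hmem.mp ha j)) _
    choose u hu' using fun j => hu j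
    obtain ⟨b, hb⟩ := hsurj (fun j => ((u j)⁻¹ : (B j)ˣ)) fun e => by
      refine eq_comm.mp (Units.inv_eq_of_mul_eq_one_right ?_)
      rw [hu', ← hcomm e, RingHom.comp_apply, ← map_mul, ← hu' (s e), Units.mul_inv, map_one]
    exact IsUnit.of_mul_eq_one b (hinj _ _ fun j => by rw [map_mul, hb, ← hu' j, Units.mul_inv, map_one])
  refine henselianRing_of_gabber hjac fun n hn p hpdeg hp => ?_
  have hpj : ∀ j i, (p.map (π j)).coeff i ∈ J j := fun j i => by
    rw [coeff_map]; exact hmem.mp (hp i) j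
  choose α hα using fun j => @gabber_root (B j) _ (J j) (hJ j) n hn (p.map (π j))
    (natDegree_map_le.trans hpdeg) (hpj j)
  obtain ⟨a, ha⟩ := hsurj α fun e => by
    refine gabber_root_unique (hJ (d e)).jac n (hpj (d e)) ⟨?_, ?_⟩ (hα (d e))
    · rw [← map_one (t e), ← map_sub]
      exact htJ e (Ideal.mem_map_of_mem _ (hα (s e)).1)
    · have h := (hα (s e)).2.map (f := t e)
      rwa [Polynomial.map_add, Polynomial.map_mul, Polynomial.map_pow, Polynomial.map_sub,
        Polynomial.map_X, Polynomial.map_one, Polynomial.map_map, hcomm e] at h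
  refine ⟨a, hmem.mpr fun j => by rw [map_sub, ha, map_one]; exact (hα j).1, hinj _ _ fun j => ?_⟩
  rw [map_zero, ← (hα j).2.eq_zero, ← ha j, ← eval₂_at_apply, ← eval_map]
  simp

/-- A ring which is the filtered union of the images of henselian pairs is a henselian pair. -/
theorem henselianRing_of_jointly_surjective {A : Type u} [CommRing A] {ι : Type v} [Nonempty ι]
    {B : ι → Type w} [∀ j, CommRing (B j)] (π : ∀ j, B j →+* A) (J : ∀ j, Ideal (B j))
    (hJ : ∀ j, HenselianRing (B j) (J j)) (hsurj : ∀ a : A, ∃ j b, π j b = a)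
    (hdir : ∀ i j, ∃ (k : ι) (f : B i →+* B k) (g : B j →+* B k),
      (π k).comp f = π i ∧ (π k).comp g = π j ∧ (J i).map f ≤ J k ∧ (J j).map g ≤ J k) :
    HenselianRing A (⨆ j, (J j).map (π j)) := by
  classical
  have hmem : ∀ a ∈ (⨆ j, (J j).map (π j)), ∃ (j : ι) (b : B j), b ∈ J j ∧ π j b = a := by
    intro a ha
    let T : Ideal A :=
      { carrier := {a | ∃ (j : ι) (b : B j), b ∈ J j ∧ π j b = a}
        zero_mem' := ⟨Classical.arbitrary ι, 0, zero_mem _, map_zero _⟩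
        add_mem' := by
          rintro _ _ ⟨i, b, hb, rfl⟩ ⟨j, c, hc, rfl⟩
          obtain ⟨k, f, g, hf, hg, hfJ, hgJ⟩ := hdir i j
          exact ⟨k, f b + g c, add_mem (hfJ (Ideal.mem_map_of_mem _ hb))
            (hgJ (Ideal.mem_map_of_mem _ hc)), by rw [map_add, ← hf, ← hg]; rfl⟩
        smul_mem' := by
          rintro r _ ⟨j, c, hc, rfl⟩
          obtain ⟨i, b, rfl⟩ := hsurj r
          obtain ⟨k, f, g, hf, hg, -, hgJ⟩ := hdir i j
          exact ⟨k, f b * g c, Ideal.mul_mem_left _ _ (hgJ (Ideal.mem_map_of_mem _ hc)),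
            by rw [map_mul, ← hf, ← hg]; rfl⟩ }
    exact (iSup_le fun j => Ideal.map_le_iff_le_comap.mpr fun b hb => ⟨j, b, hb, rfl⟩ :
      (⨆ j, (J j).map (π j)) ≤ T) ha
  have hjac : (⨆ j, (J j).map (π j)) ≤ Ideal.jacobson ⊥ := by
    intro a ha
    rw [Ideal.mem_jacobson_bot]
    intro y
    obtain ⟨j, c, hc, rfl⟩ := hmem a ha
    obtain ⟨i, b, rfl⟩ := hsurj y
    obtain ⟨k, f, g, hf, hg, -, hgJ⟩ := hdir i j
    have h := Ideal.mem_jacobson_bot.mp ((hJ k).jac (hgJ (Ideal.mem_map_of_mem _ hc))) (f b)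
    have h2 := h.map (π k)
    rwa [map_add, map_mul, map_one, ← RingHom.comp_apply, ← RingHom.comp_apply, hf, hg] at h2
  refine henselianRing_of_gabber hjac fun n hn p hpdeg hp => ?_
  suffices key : ∀ q : A[X], (∀ i, q.coeff i ∈ ⨆ j, (J j).map (π j)) → q.natDegree ≤ n →
      ∃ (k : ι) (q' : (B k)[X]), q'.natDegree ≤ n ∧ (∀ i, q'.coeff i ∈ J k) ∧ q'.map (π k) = q by
    obtain ⟨k, q, hqdeg, hq, rfl⟩ := key p hp hpdeg
    obtain ⟨α, hα1, hα⟩ := @gabber_root (B k) _ (J k) (hJ k) n hn q hqdeg hq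
    refine ⟨π k α, ?_, ?_⟩
    · rw [← map_one (π k), ← map_sub]
      exact le_iSup (fun j => (J j).map (π j)) k (Ideal.mem_map_of_mem _ hα1)
    · have h := hα.map (f := π k)
      rwa [Polynomial.map_add, Polynomial.map_mul, Polynomial.map_pow, Polynomial.map_sub,
        Polynomial.map_X, Polynomial.map_one] at h
  intro q hq hqdeg
  suffices h : ∀ s : Finset ℕ, (∀ i ∈ s, i ≤ n) → ∃ (k : ι) (q' : (B k)[X]),
      q'.natDegree ≤ n ∧ (∀ i, q'.coeff i ∈ J k) ∧ q'.map (π k) = ∑ i ∈ s, C (q.coeff i) * X ^ i by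
    obtain ⟨k, q', h1, h2, h3⟩ := h (Finset.range (n + 1)) fun i hi =>
      Nat.lt_succ_iff.mp (Finset.mem_range.mp hi)
    exact ⟨k, q', h1, h2, h3.trans (as_sum_range_C_mul_X_pow' q (Nat.lt_succ_of_le hqdeg)).symm⟩
  intro s
  induction s using Finset.induction with
  | empty => exact fun _ => ⟨Classical.arbitrary ι, 0, by simp, by simp, by simp⟩
  | insert i s his ih =>
    intro hs
    obtain ⟨k₁, q₁, hd₁, hc₁, hm₁⟩ := ih fun l hl => hs l (Finset.mem_insert_of_mem hl)
    obtain ⟨k₂, c, hc, hcm⟩ := hmem _ (hq i)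
    obtain ⟨k, f, g, hf, hg, hfJ, hgJ⟩ := hdir k₁ k₂
    refine ⟨k, C (g c) * X ^ i + q₁.map f, ?_, fun l => ?_, ?_⟩
    · exact natDegree_add_le_of_degree_le ((natDegree_C_mul_X_pow_le _ _).trans
        (hs i (Finset.mem_insert_self _ _))) (natDegree_map_le.trans hd₁)
    · rw [coeff_add, coeff_C_mul_X_pow, coeff_map]
      refine add_mem ?_ (hfJ (Ideal.mem_map_of_mem _ (hc₁ l)))
      split
      · exact hgJ (Ideal.mem_map_of_mem _ hc)
      · exact zero_mem _
    · rw [Polynomial.map_add, Polynomial.map_map, hf, hm₁, Polynomial.map_mul, Polynomial.map_pow,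
        map_X, map_C, Finset.sum_insert his, ← hcm, ← hg]
      rfl

end Groth.Agent.H9Hens
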