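import Groth.Agent.H9Hens.PtConstruct
import Groth.Agent.H9Hens.Local
import Mathlib.RingTheory.Unramified.LocalRing
import Mathlib.RingTheory.Localization.Ideal
import Mathlib.RingTheory.LocalRing.ResidueField.Basic
import Mathlib.RingTheory.Flat.FaithfullyFlat.Algebra
import Mathlib.FieldTheory.Separable

/-!
Colimits of pointed etale algebras at a point with values in a field, over a local ring.
-/

namespace Groth.Agent.H9Hens

universe u

open IsLocalRing Polynomial

variable {A : Type u} [CommRing A] {k : Type u} [Field k] [Algebra A k]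
variable {H : Type u} [CommRing H] [Algebra A H] {π : H →ₐ[A] k}

theorem IsPtColim.isUnit_iff_ne_zero (hH : IsPtColim π) {x : H} : IsUnit x ↔ π x ≠ 0 :=
  ⟨fun h => (h.map π).ne_zero, fun h => hH.isUnit_of_isUnit (_root_.isUnit_iff_ne_zero.mpr h)⟩

/-- The colimit of pointed etale algebras at a field valued point is local. -/
theorem IsPtColim.isLocalRing (hH : IsPtColim π) : IsLocalRing H := by
  have : Nontrivial H := ⟨⟨0, 1, fun h => zero_ne_one (α := k) (by
    rw [← map_zero π, h, map_one])⟩⟩
  refine IsLocalRing.of_isUnit_or_isUnit_one_sub_self fun a => ?_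
  rw [hH.isUnit_iff_ne_zero, hH.isUnit_iff_ne_zero, map_sub, map_one]
  by_cases h : π a = 0
  · exact Or.inr (by rw [h, sub_zero]; exact one_ne_zero)
  · exact Or.inl h

theorem IsPtColim.maximalIdeal_eq [IsLocalRing H] (hH : IsPtColim π) :
    maximalIdeal H = RingHom.ker π := by
  ext x
  rw [mem_maximalIdeal, mem_nonunits_iff, hH.isUnit_iff_ne_zero, not_not, RingHom.mem_ker]

theorem IsPtColim.henselianLocalRing [IsLocalRing H] (hH : IsPtColim π) : HenselianLocalRing H := by
  have h := hH.henselianRing
  rw [← hH.maximalIdeal_eq] at h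
  exact henselianLocalRing_of_henselianRing

section LocalBase

variable [IsLocalRing A] (hk : RingHom.ker (algebraMap A k) = maximalIdeal A)
include hk

theorem IsPtColim.isLocalHom [IsLocalRing H] (hH : IsPtColim π) :
    IsLocalHom (algebraMap A H) := by
  refine ⟨fun a ha => ?_⟩
  rw [hH.isUnit_iff_ne_zero, π.commutes] at ha
  exact IsLocalRing.notMem_maximalIdeal.mp (hk ▸ fun h => ha (RingHom.mem_ker.mp h))

/-- The maximal ideal of the base generates the maximal ideal of the colimit. -/
theorem IsPtColim.ker_eq_map_maximalIdeal (hH : IsPtColim π) :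
    RingHom.ker π = (maximalIdeal A).map (algebraMap A H) := by
  refine le_antisymm (fun x hx => ?_) (Ideal.map_le_iff_le_comap.mpr fun a ha => ?_)
  swap
  · rw [Ideal.mem_comap, RingHom.mem_ker, π.commutes, ← RingHom.mem_ker, hk]; exact ha
  obtain ⟨S, _, _, _, φ, s, rfl⟩ := hH.exists_rep x
  let q : Ideal S := RingHom.ker (π.comp φ)
  have : q.IsPrime := RingHom.ker_isPrime _
  let Sq := Localization.AtPrime q
  have : IsLocalHom (algebraMap A Sq) := by
    refine ⟨fun a ha => IsLocalRing.notMem_maximalIdeal.mp fun h => ?_⟩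
    rw [IsScalarTower.algebraMap_apply A S Sq] at ha
    refine (IsLocalization.AtPrime.isUnit_to_map_iff Sq q _).mp ha ?_
    show (π.comp φ) (algebraMap A S a) = 0
    rw [AlgHom.commutes]
    exact RingHom.mem_ker.mp (hk ▸ h)
  have : Algebra.FormallyUnramified A Sq := inferInstance
  have : Algebra.EssFiniteType A Sq := Algebra.EssFiniteType.comp A S Sq
  have hs : algebraMap S Sq s ∈
      ((maximalIdeal A).map (algebraMap A S)).map (algebraMap S Sq) := by
    rw [Ideal.map_map, ← IsScalarTower.algebraMap_eq, Algebra.FormallyUnramified.map_maximalIdeal]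
    exact (IsLocalization.AtPrime.to_map_mem_maximal_iff Sq q s).mpr hx
  rw [IsLocalization.algebraMap_mem_map_algebraMap_iff q.primeCompl] at hs
  obtain ⟨c, hc, hcs⟩ := hs
  have h := Ideal.mem_map_of_mem φ.toRingHom hcs
  rw [Ideal.map_map, AlgHom.toRingHom_eq_coe, AlgHom.comp_algebraMap, RingHom.coe_coe, map_mul] at h
  exact (Ideal.unit_mul_mem_iff_mem _
    (hH.isUnit_iff_ne_zero.mpr fun h0 => hc (RingHom.mem_ker.mpr h0))).mp h

theorem IsPtColim.map_maximalIdeal [IsLocalRing H] (hH : IsPtColim π) :
    (maximalIdeal A).map (algebraMap A H) = maximalIdeal H := by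
  rw [hH.maximalIdeal_eq, hH.ker_eq_map_maximalIdeal hk]

theorem IsPtColim.faithfullyFlat [IsLocalRing H] (hH : IsPtColim π) :
    Module.FaithfullyFlat A H := by
  have := hH.flat
  have := hH.isLocalHom hk
  exact Module.FaithfullyFlat.of_flat_of_isLocalHom

omit hk in
/-- If `k` is separable over the residue field, the point of the colimit is surjective. -/
theorem IsPtColim.surjective [Algebra (ResidueField A) k] [IsScalarTower A (ResidueField A) k]
    [Algebra.IsSeparable (ResidueField A) k] (hH : IsPtColim π) : Function.Surjective π := by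
  intro α
  let f₀ := minpoly (ResidueField A) α
  have hf₀ : f₀.Monic := minpoly.monic (Algebra.IsSeparable.isIntegral _ α)
  obtain ⟨F, hF, -, hFm⟩ := Polynomial.lifts_and_degree_eq_and_monic
    (Polynomial.map_surjective _ residue_surjective f₀ : f₀ ∈ lifts (residue A)) hf₀
  let P : StandardEtalePair A := ⟨F, hFm, F.derivative, ⟨1, 0, 1, by simp⟩⟩
  have h0 : ∀ p : A[X], aeval α p = aeval α (p.map (residue A)) := fun p =>
    (aeval_map_algebraMap (ResidueField A) α p).symm
  have hα : P.HasMap α := by
    refine ⟨?_, ?_⟩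
    · rw [h0, hF, minpoly.aeval]
    · refine _root_.isUnit_iff_ne_zero.mpr ?_
      rw [h0, ← derivative_map, hF]
      exact (Algebra.IsSeparable.isSeparable (ResidueField A) α).aeval_derivative_ne_zero
        (minpoly.aeval _ _)
  obtain ⟨φ, hφ⟩ := hH.exists_map P.Ring (P.lift α hα)
  exact ⟨φ P.X, (DFunLike.congr_fun hφ P.X).trans (P.lift_X α hα)⟩

end LocalBase

end Groth.Agent.H9Hens
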