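import Groth.Agent.H9Hens.PairHens
import Groth.Agent.H9Hens.PtField
import Mathlib.RingTheory.LocalRing.ResidueField.Basic
import Groth.Prelude.Def_Hensel

/-!
Henselization of local rings: existence and description as a colimit of pointed etale algebras.
-/

namespace Groth.Agent.H9Hens

universe u

open IsLocalRing

variable {R : Type u} [CommRing R] [IsLocalRing R]

/-- The residue field as a point: kernel of the structure map. -/
theorem ker_algebraMap_residueField :
    RingHom.ker (algebraMap R (ResidueField R)) = maximalIdeal R := by
  rw [ResidueField.algebraMap_eq, ker_residue]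

/-- The henselization of the pair `(R, m)` is a henselization of the local ring `R`. -/
theorem IsPtColim.isHenselization {H : Type u} [CommRing H] [Algebra R H] [IsLocalRing H]
    [IsLocalHom (algebraMap R H)] {π : H →ₐ[R] ResidueField R} (hH : IsPtColim π) :
    Hensel.IsHenselization R H where
  henselian := hH.henselianLocalRing
  universal T _ _ f hf := by
    have hp : Hens2.IsPairHenselization R (maximalIdeal R) H :=
      IsPtColim.isPairHenselization (π := π) hH
    exact hp.2 T (maximalIdeal T) f inferInstance (map_maximalIdeal_le f)

variable (R) in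
/-- The henselization of a local ring exists. -/
theorem exists_isHenselization_colim :
    ∃ (H : Type u) (_ : CommRing H) (_ : IsLocalRing H) (_ : Algebra R H)
      (_ : IsLocalHom (algebraMap R H)) (π : H →ₐ[R] ResidueField R),
      IsPtColim π ∧ Hensel.IsHenselization R H := by
  obtain ⟨H, _, _, π, hπ⟩ := exists_isPtColim R (ResidueField R)
  have := hπ.isLocalRing
  have := hπ.isLocalHom ker_algebraMap_residueField
  exact ⟨H, inferInstance, inferInstance, inferInstance, inferInstance, π, hπ, hπ.isHenselization⟩

/-- Henselizations of a local ring are unique. -/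
theorem henselization_algEquiv (S S' : Type u) [CommRing S] [IsLocalRing S] [Algebra R S]
    [IsLocalHom (algebraMap R S)] [CommRing S'] [IsLocalRing S'] [Algebra R S']
    [IsLocalHom (algebraMap R S')] [hS : Hensel.IsHenselization R S]
    [hS' : Hensel.IsHenselization R S'] : Nonempty (S ≃ₐ[R] S') := by
  have := hS.henselian
  have := hS'.henselian
  obtain ⟨f, hf, -⟩ := hS.universal S' (algebraMap R S') inferInstance
  obtain ⟨g, hg, -⟩ := hS'.universal S (algebraMap R S) inferInstance
  let F : S →ₐ[R] S' := { f with commutes' := fun a => RingHom.congr_fun hf a }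
  let G : S' →ₐ[R] S := { g with commutes' := fun a => RingHom.congr_fun hg a }
  refine ⟨AlgEquiv.ofAlgHom F G ?_ ?_⟩
  · exact AlgHom.coe_ringHom_injective ((hS'.universal S' (algebraMap R S') inferInstance).unique
      (AlgHom.comp_algebraMap (F.comp G)) (AlgHom.comp_algebraMap (AlgHom.id R S')))
  · exact AlgHom.coe_ringHom_injective ((hS.universal S (algebraMap R S) inferInstance).unique
      (AlgHom.comp_algebraMap (G.comp F)) (AlgHom.comp_algebraMap (AlgHom.id R S)))

/-- A henselization is the colimit of pointed etale algebras. -/
theorem exists_isPtColim_of_isHenselization (S : Type u) [CommRing S] [IsLocalRing S] [Algebra R S]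
    [IsLocalHom (algebraMap R S)] [Hensel.IsHenselization R S] :
    ∃ π : S →ₐ[R] ResidueField R, IsPtColim π := by
  obtain ⟨H, _, _, _, _, π, hπ, hH⟩ := exists_isHenselization_colim R
  obtain ⟨e⟩ := henselization_algEquiv (R := R) H S
  exact ⟨_, hπ.of_algEquiv e⟩

/-- A henselization is a henselization of the pair `(R, m)`. -/
theorem isPairHenselization_of_isHenselization (S : Type u) [CommRing S] [IsLocalRing S]
    [Algebra R S] [IsLocalHom (algebraMap R S)] [Hensel.IsHenselization R S] :
    Hens2.IsPairHenselization R (maximalIdeal R) S := by
  obtain ⟨π, hπ⟩ := exists_isPtColim_of_isHenselization (R := R) S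
  exact IsPtColim.isPairHenselization (π := π) hπ

end Groth.Agent.H9Hens
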