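import Groth.Agent.H9Hens.PtColim
import Mathlib.RingTheory.Unramified.Field
import Mathlib.RingTheory.Artinian.Ring
import Mathlib.RingTheory.HopkinsLevitzki
import Mathlib.RingTheory.EssentialFiniteness
import Mathlib.RingTheory.LocalRing.ResidueField.Ideal

/-!
Fibres of colimits of pointed etale algebras: finite products of separable field extensions.
-/

namespace Groth.Agent.H9Hens

universe u

open TensorProduct

/-- Images of etale algebras over a field in a field are separable. -/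
theorem isSeparable_algHom_etale (K : Type u) [Field K] {T : Type u} [CommRing T] [Algebra K T] [Algebra.Etale K T]
    {L : Type u} [Field L] [Algebra K L] (g : T →ₐ[K] L) (w : T) : IsSeparable K (g w) := by
  have : Module.Finite K T := Algebra.FormallyUnramified.finite_of_free K _
  have : IsArtinianRing T := isArtinian_of_tower K inferInstance
  have : (RingHom.ker g).IsPrime := RingHom.ker_isPrime _
  have : (RingHom.ker g).IsMaximal := IsArtinianRing.isMaximal_of_isPrime _
  let := Ideal.Quotient.field (RingHom.ker g)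
  have : Algebra.IsSeparable K (T ⧸ RingHom.ker g) := Algebra.FormallyUnramified.isSeparable K _
  have h := Algebra.IsSeparable.isSeparable K (Ideal.Quotient.mk (RingHom.ker g) w)
  have h3 := IsSeparable.map (Ideal.kerLiftAlg g) (Ideal.kerLiftAlg_injective g) h
  rwa [Ideal.kerLiftAlg_mk] at h3

variable {A : Type u} [CommRing A] {k : Type u} [CommRing k] [Algebra A k]
variable {H : Type u} [CommRing H] [Algebra A H] {π : H →ₐ[A] k}
variable (K : Type u) [Field K] [Algebra A K]

/-- Elements of a fibre come from fibres of etale algebras. -/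
theorem IsPtColim.exists_rep_fibre (hH : IsPtColim π) (z : K ⊗[A] H) :
    ∃ (S : Type u) (_ : CommRing S) (_ : Algebra A S) (_ : Algebra.Etale A S) (φ : S →ₐ[A] H)
      (w : K ⊗[A] S), Algebra.TensorProduct.map (AlgHom.id K K) φ w = z := by
  induction z with
  | zero => exact ⟨A, inferInstance, inferInstance, inferInstance, Algebra.ofId A H, 0, map_zero _⟩
  | tmul c x =>
    obtain ⟨S, i₁, i₂, i₃, φ, s, rfl⟩ := hH.exists_rep x
    exact ⟨S, i₁, i₂, i₃, φ, c ⊗ₜ s, Algebra.TensorProduct.map_tmul _ _ _ _⟩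
  | add x y hx hy =>
    obtain ⟨S₁, _, _, _, φ₁, w₁, rfl⟩ := hx
    obtain ⟨S₂, _, _, _, φ₂, w₂, rfl⟩ := hy
    let φ : S₁ ⊗[A] S₂ →ₐ[A] H := Algebra.TensorProduct.lift φ₁ φ₂ fun _ _ => Commute.all _ _
    let i₁ : S₁ →ₐ[A] S₁ ⊗[A] S₂ := Algebra.TensorProduct.includeLeft
    let i₂ : S₂ →ₐ[A] S₁ ⊗[A] S₂ := Algebra.TensorProduct.includeRight
    refine ⟨S₁ ⊗[A] S₂, inferInstance, inferInstance, Algebra.Etale.comp A S₁ (S₁ ⊗[A] S₂), φ,
      Algebra.TensorProduct.map (AlgHom.id K K) i₁ w₁ +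
        Algebra.TensorProduct.map (AlgHom.id K K) i₂ w₂, ?_⟩
    have e₁ : (Algebra.TensorProduct.map (AlgHom.id K K) φ).comp
        (Algebra.TensorProduct.map (AlgHom.id K K) i₁) =
        Algebra.TensorProduct.map (AlgHom.id K K) φ₁ := Algebra.TensorProduct.ext' fun a b => by
      simp [φ, i₁]
    have e₂ : (Algebra.TensorProduct.map (AlgHom.id K K) φ).comp
        (Algebra.TensorProduct.map (AlgHom.id K K) i₂) =
        Algebra.TensorProduct.map (AlgHom.id K K) φ₂ := Algebra.TensorProduct.ext' fun a b => by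
      simp [φ, i₂]
    rw [map_add]
    congr 1
    · exact DFunLike.congr_fun e₁ w₁
    · exact DFunLike.congr_fun e₂ w₂

/-- Fibres are von Neumann regular. -/
theorem IsPtColim.exists_mul_sq_eq (hH : IsPtColim π) (z : K ⊗[A] H) : ∃ m, z * z * m = z := by
  obtain ⟨S, _, _, _, φ, w, rfl⟩ := hH.exists_rep_fibre K z
  have : Module.Finite K (K ⊗[A] S) := Algebra.FormallyUnramified.finite_of_free K _
  have : IsArtinianRing (K ⊗[A] S) := isArtinian_of_tower K inferInstance
  have : IsReduced (K ⊗[A] S) := Algebra.FormallyUnramified.isReduced_of_field K _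
  obtain ⟨n, m, hm⟩ := IsArtinian.exists_pow_succ_smul_dvd w (1 : K ⊗[A] S)
  simp only [smul_eq_mul, mul_one] at hm
  have h0 : w ^ n * (1 - w * m) = 0 := by
    rw [mul_sub, mul_one, ← mul_assoc, ← pow_succ, hm, sub_self]
  have h1 : w * (1 - w * m) = 0 := by
    refine IsReduced.eq_zero _ ⟨n + 1, ?_⟩
    rw [mul_pow, pow_succ (1 - w * m), pow_succ' w, mul_assoc w, mul_comm w, mul_comm ((1 - w * m) ^ n),
      ← mul_assoc, h0, zero_mul, zero_mul]
  refine ⟨Algebra.TensorProduct.map (AlgHom.id K K) φ m, ?_⟩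
  rw [← map_mul, ← map_mul]
  congr 1
  linear_combination -h1

theorem IsPtColim.isReduced_fibre (hH : IsPtColim π) : IsReduced (K ⊗[A] H) := by
  refine ⟨fun z ⟨n, hn⟩ => ?_⟩
  obtain ⟨m, hm⟩ := hH.exists_mul_sq_eq K z
  have h : ∀ j, z = z * (z * m) ^ j := fun j => by
    induction j with
    | zero => rw [pow_zero, mul_one]
    | succ j ih => rw [pow_succ', ← mul_assoc, ← mul_assoc z z m, hm, ← ih]
  rw [h n, mul_pow, hn, zero_mul, mul_zero]

theorem IsPtColim.krullDimLE_fibre (hH : IsPtColim π) : Ring.KrullDimLE 0 (K ⊗[A] H) := by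
  refine Ring.KrullDimLE.mk₀ fun P hP => ?_
  rw [Ideal.Quotient.maximal_ideal_iff_isField_quotient]
  refine ⟨exists_pair_ne _, mul_comm, fun {a} ha => ?_⟩
  obtain ⟨z, rfl⟩ := Ideal.Quotient.mk_surjective a
  obtain ⟨m, hm⟩ := hH.exists_mul_sq_eq K z
  refine ⟨Ideal.Quotient.mk P m, mul_left_cancel₀ ha ?_⟩
  rw [mul_one, ← map_mul, ← map_mul, ← mul_assoc, hm]

/-- Residue fields of a fibre are separable. -/
theorem IsPtColim.isSeparable_fibre (hH : IsPtColim π) (M : Ideal (K ⊗[A] H)) [M.IsMaximal] :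
    Algebra.IsSeparable K ((K ⊗[A] H) ⧸ M) := by
  refine ⟨fun a => ?_⟩
  obtain ⟨z, rfl⟩ := Ideal.Quotient.mk_surjective a
  obtain ⟨S, _, _, _, φ, w, rfl⟩ := hH.exists_rep_fibre K z
  let := Ideal.Quotient.field M
  exact isSeparable_algHom_etale K
    ((Ideal.Quotient.mkₐ K M).comp (Algebra.TensorProduct.map (AlgHom.id K K) φ)) w

/-- A noetherian fibre is a finite product of separable field extensions. -/
theorem IsPtColim.fibre_equiv_pi_separable (hH : IsPtColim π) [IsNoetherianRing H]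
    [Algebra.EssFiniteType A K] :
    ∃ (n : ℕ) (L : Fin n → Type u) (_ : ∀ i, Field (L i)) (_ : ∀ i, Algebra K (L i)),
      (∀ i, Algebra.IsSeparable K (L i)) ∧ Nonempty ((K ⊗[A] H) ≃ₐ[K] (Π i, L i)) := by
  have : IsNoetherianRing (H ⊗[A] K) := Algebra.EssFiniteType.isNoetherianRing H _
  let c := (Algebra.TensorProduct.comm A H K).toRingEquiv
  have : IsNoetherianRing (K ⊗[A] H) := isNoetherianRing_of_ringEquiv _ c
  have := hH.krullDimLE_fibre K
  have : IsArtinianRing (K ⊗[A] H) := isArtinianRing_iff_krullDimLE_zero.mpr inferInstance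
  have := hH.isReduced_fibre K
  obtain ⟨n, ⟨e⟩⟩ := Finite.exists_equiv_fin (MaximalSpectrum (K ⊗[A] H))
  let L : Fin n → Type u := fun i => (K ⊗[A] H) ⧸ (e.symm i).asIdeal
  refine ⟨n, L, fun i => Ideal.Quotient.field _, fun i => inferInstance,
    fun i => hH.isSeparable_fibre K _, ⟨AlgEquiv.ofBijective
      (AlgHom.pi fun i => Ideal.Quotient.mkₐ K (e.symm i).asIdeal) ⟨?_, ?_⟩⟩⟩
  · rw [injective_iff_map_eq_zero]
    intro z hz
    refine (map_eq_zero_iff _ (IsArtinianRing.equivPi (K ⊗[A] H)).injective).mp (funext fun M => ?_)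
    have h1 : z ∈ (e.symm (e M)).asIdeal := Ideal.Quotient.eq_zero_iff_mem.mp (congrFun hz (e M))
    rw [Equiv.symm_apply_apply] at h1
    rw [IsArtinianRing.equivPi_apply]
    exact Ideal.Quotient.eq_zero_iff_mem.mpr h1
  · intro y
    have hcop : Pairwise (Function.onFun IsCoprime fun i => (e.symm i).asIdeal) := fun i j hij =>
      Ideal.isCoprime_iff_sup_eq.mpr (Ideal.IsMaximal.coprime_of_ne (e.symm i).isMaximal
        (e.symm j).isMaximal fun h => hij (e.symm.injective (MaximalSpectrum.ext h)))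
    obtain ⟨z, hz⟩ := Ideal.pi_quotient_surjective hcop y
    exact ⟨z, funext hz⟩

end Groth.Agent.H9Hens
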