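import Groth.Agent.H9Hens.Noetherian
import Groth.Agent.H02CA.FlatRegular
import Groth.Agent.H05EGA4.Regular
import Groth.Agent.H8Props.FlatDepth

/-!
Regularity, depth and Cohen-Macaulayness of colimits of pointed etale algebras over a noetherian
local ring.
-/

namespace Groth.Agent.H9Hens

universe u

open IsLocalRing

/-- Noetherianity descends along faithfully flat algebras. -/
theorem isNoetherianRing_of_faithfullyFlat (A B : Type*) [CommRing A] [CommRing B] [Algebra A B]
    [Module.FaithfullyFlat A B] [IsNoetherianRing B] : IsNoetherianRing A := by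
  have hinj : Function.Injective (Ideal.map (algebraMap A B)) := fun I J h => by
    rw [← Ideal.comap_map_eq_self_of_faithfullyFlat (B := B) I, h,
      Ideal.comap_map_eq_self_of_faithfullyFlat]
  have hsm : StrictMono (Ideal.map (algebraMap A B)) := fun I J h =>
    lt_of_le_of_ne (Ideal.map_mono h.le) fun e => h.ne (hinj e)
  exact isNoetherianRing_iff.mpr (isNoetherian_mk hsm.wellFoundedGT)

variable (A B : Type u) [CommRing A] [CommRing B] [IsLocalRing A] [IsLocalRing B]
  [IsNoetherianRing A] [IsNoetherianRing B] [Algebra A B] [IsLocalHom (algebraMap A B)]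
  [Module.Flat A B]

omit [IsNoetherianRing A] [IsNoetherianRing B] [Module.Flat A B] [IsLocalHom (algebraMap A B)] in
theorem isField_fibre (h : (maximalIdeal A).map (algebraMap A B) = maximalIdeal B) :
    IsField (B ⧸ (maximalIdeal A).map (algebraMap A B)) := by
  rw [h]
  exact (Ideal.Quotient.maximal_ideal_iff_isField_quotient _).mp (maximalIdeal.isMaximal B)

theorem isRegularLocalRing_iff_of_map_maximalIdeal
    (h : (maximalIdeal A).map (algebraMap A B) = maximalIdeal B) :
    IsRegularLocalRing A ↔ IsRegularLocalRing B := by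
  refine ⟨fun _ => ?_, fun _ => H05EGA4.isRegularLocalRing_of_flat (B := B)⟩
  let := (isField_fibre A B h).toField
  exact H02CA.isRegularLocalRing_of_flat_of_fibre A B inferInstance

omit [IsNoetherianRing A] [IsLocalHom (algebraMap A B)] [Module.Flat A B] in
theorem depth_fibre_eq_zero (h : (maximalIdeal A).map (algebraMap A B) = maximalIdeal B)
    [IsLocalRing (B ⧸ (maximalIdeal A).map (algebraMap A B))] :
    LocCoh.depth (B ⧸ (maximalIdeal A).map (algebraMap A B))
      (B ⧸ (maximalIdeal A).map (algebraMap A B)) = 0 := by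
  let C := B ⧸ (maximalIdeal A).map (algebraMap A B)
  have hC := H8Props.FlatDepth.depth_le_dim C
  rw [ringKrullDim_eq_zero_of_isField (isField_fibre A B h)] at hC
  exact le_antisymm (by exact_mod_cast hC) bot_le

theorem depth_eq_of_map_maximalIdeal
    (h : (maximalIdeal A).map (algebraMap A B) = maximalIdeal B) :
    LocCoh.depth B B = LocCoh.depth A A := by
  have := H8Props.FlatDepth.map_maximalIdeal_ne_top A B
  have : Nontrivial (B ⧸ (maximalIdeal A).map (algebraMap A B)) :=
    Ideal.Quotient.nontrivial_iff.mpr this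
  have : IsLocalRing (B ⧸ (maximalIdeal A).map (algebraMap A B)) :=
    .of_surjective' _ Ideal.Quotient.mk_surjective
  rw [H8Props.FlatDepth.depth_eq_add A B, depth_fibre_eq_zero A B h, add_zero]

theorem isCohenMacaulayLocalRing_iff_of_map_maximalIdeal
    (h : (maximalIdeal A).map (algebraMap A B) = maximalIdeal B) :
    LocCoh.IsCohenMacaulayLocalRing B ↔ LocCoh.IsCohenMacaulayLocalRing A := by
  have := H8Props.FlatDepth.map_maximalIdeal_ne_top A B
  have : Nontrivial (B ⧸ (maximalIdeal A).map (algebraMap A B)) :=
    Ideal.Quotient.nontrivial_iff.mpr this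
  have : IsLocalRing (B ⧸ (maximalIdeal A).map (algebraMap A B)) :=
    .of_surjective' _ Ideal.Quotient.mk_surjective
  rw [H8Props.FlatDepth.isCohenMacaulayLocalRing_iff A B, and_iff_left_iff_imp]
  intro _
  rw [H8Props.FlatDepth.isCM_iff_dim, ringKrullDim_eq_zero_of_isField (isField_fibre A B h),
    depth_fibre_eq_zero A B h]
  rfl

end Groth.Agent.H9Hens
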