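import Groth.Agent.H05EGA4.GRingPoly
import Groth.Agent.H05EGA4.LocalToGlobal
import Groth.Agent.H24Adic.HensQuotCompletion
import Groth.Agent.H9Hens.PtFibre
import Groth.Agent.H9Hens.LocalHens
import Groth.Agent.S0510
import Groth.Agent.S0511

/-!
# Formal fibres of henselizations
-/

set_option linter.style.haveILetI false

universe u

open IsLocalRing TensorProduct Groth.Agent Groth.Agent.H05EGA4

namespace Groth.Agent.H9Hens

/-- Descent of a finite extension of a residue field to a smaller ring: the extension is a localization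
of the base change of the small one. -/
theorem isLocalization_fibre_descent {T S : Type u} [CommRing T] [CommRing S] [Algebra T S]
    (Q : Ideal S) [Q.IsPrime] (P : Ideal T) [P.IsPrime] [Q.LiesOver P] (hQ : P.map (algebraMap T S) = Q)
    [Algebra P.ResidueField Q.ResidueField] [IsScalarTower T P.ResidueField Q.ResidueField]
    (L : Type u) [Field L] [Algebra Q.ResidueField L] [Algebra S L] [IsScalarTower S Q.ResidueField L]
    [Algebra T L] [IsScalarTower T S L]
    (L0 : Type u) [CommRing L0] [Algebra P.ResidueField L0] [Algebra T L0] [IsScalarTower T P.ResidueField L0]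
    [Algebra L0 L] [IsScalarTower T L0 L]
    {ι : Type*} [Fintype ι] (b0 : Module.Basis ι P.ResidueField L0) (b : Module.Basis ι Q.ResidueField L)
    (hb : ∀ i, algebraMap L0 L (b0 i) = b i) :
    letI : Algebra (S ⊗[T] L0) L := (Algebra.TensorProduct.lift (Algebra.ofId S L)
      (IsScalarTower.toAlgHom T L0 L) fun _ _ => Commute.all _ _).toRingHom.toAlgebra
    IsLocalization (Q.primeCompl.map (algebraMap S (S ⊗[T] L0))) L := by
  let θ : S ⊗[T] L0 →ₐ[S] L := Algebra.TensorProduct.lift (Algebra.ofId S L)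
    (IsScalarTower.toAlgHom T L0 L) fun _ _ => Commute.all _ _
  letI : Algebra (S ⊗[T] L0) L := θ.toRingHom.toAlgebra
  have hθ : ∀ (s : S) (x : L0), θ (s ⊗ₜ x) = algebraMap S L s * algebraMap L0 L x := fun s x =>
    Algebra.TensorProduct.lift_tmul _ _ _ _ _
  have hQ0 : ∀ s, algebraMap S L s = 0 ↔ s ∈ Q := fun s => by
    rw [IsScalarTower.algebraMap_apply S Q.ResidueField L, map_eq_zero, Ideal.algebraMap_residueField_eq_zero]
  have hPQ : ∀ d, algebraMap T S d ∈ Q ↔ d ∈ P := fun d => by
    rw [Ideal.LiesOver.over (P := Q) (p := P), Ideal.under, Ideal.mem_comap]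
  refine ⟨⟨?_, ?_, ?_⟩⟩
  · rintro ⟨_, s, hs, rfl⟩
    refine isUnit_iff_ne_zero.mpr fun h => hs ((hQ0 s).mp ?_)
    rw [← h]
    exact (θ.commutes s).symm
  · -- surjectivity
    let G : L → Prop := fun l => ∃ (w : S ⊗[T] L0) (d : S), d ∉ Q ∧ l * algebraMap S L d = θ w
    have hadd : ∀ l m, G l → G m → G (l + m) := by
      rintro l m ⟨w, d, hd, h⟩ ⟨w', d', hd', h'⟩
      refine ⟨w * algebraMap S _ d' + w' * algebraMap S _ d, d * d', Q.primeCompl.mul_mem hd hd', ?_⟩
      rw [map_add, map_mul, map_mul, map_mul, θ.commutes, θ.commutes, ← h, ← h']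
      ring
    have hmul : ∀ l m, G l → G m → G (l * m) := by
      rintro l m ⟨w, d, hd, h⟩ ⟨w', d', hd', h'⟩
      exact ⟨w * w', d * d', Q.primeCompl.mul_mem hd hd', by rw [map_mul, map_mul, ← h, ← h']; ring⟩
    have hall : ∀ l, G l := fun l => by
      rw [← b.sum_repr l]
      refine Finset.sum_induction _ G hadd ⟨0, 1, Q.primeCompl.one_mem, by simp⟩ fun i _ => ?_
      rw [Algebra.smul_def]
      refine hmul _ _ ?_ ⟨1 ⊗ₜ b0 i, 1, Q.primeCompl.one_mem, by rw [hθ, hb, map_one, one_mul, mul_one]⟩
      obtain ⟨a, d, hd, he⟩ := IsFractionRing.div_surjective (S ⧸ Q) (b.repr l i)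
      obtain ⟨a, rfl⟩ := Ideal.Quotient.mk_surjective a
      obtain ⟨d, rfl⟩ := Ideal.Quotient.mk_surjective d
      have hd' : d ∉ Q := fun h => nonZeroDivisors.ne_zero hd (Ideal.Quotient.eq_zero_iff_mem.mpr h)
      refine ⟨algebraMap S _ a, d, hd', ?_⟩
      rw [θ.commutes, ← he, map_div₀]
      have ha : ∀ s, algebraMap Q.ResidueField L (algebraMap (S ⧸ Q) Q.ResidueField (Ideal.Quotient.mk Q s))
          = algebraMap S L s := fun s => (IsScalarTower.algebraMap_apply S Q.ResidueField L s).symm
      rw [ha, ha, div_mul_cancel₀ _ fun h => hd' ((hQ0 d).mp h)]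
    intro l
    obtain ⟨w, d, hd, h⟩ := hall l
    refine ⟨(w, ⟨_, d, hd, rfl⟩), ?_⟩
    show l * θ (algebraMap S _ d) = θ w
    rw [θ.commutes, h]
  · -- kernel
    intro x y hxy
    let K : S ⊗[T] L0 → Prop := fun w => ∃ d ∉ P, ∃ s : ι → S,
      w * (algebraMap T S d ⊗ₜ 1) = ∑ i, s i ⊗ₜ b0 i
    have hadd : ∀ w w', K w → K w' → K (w + w') := by
      rintro w w' ⟨d, hd, s, h⟩ ⟨d', hd', s', h'⟩
      refine ⟨d * d', P.primeCompl.mul_mem hd hd', fun i => algebraMap T S d' * s i + algebraMap T S d * s' i, ?_⟩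
      simp only [TensorProduct.add_tmul, Finset.sum_add_distrib]
      have e : ∀ (c : S) (f : ι → S), ∑ i, (c * f i) ⊗ₜ[T] b0 i = (c ⊗ₜ (1 : L0)) * ∑ i, f i ⊗ₜ[T] b0 i := fun c f => by
        simp [Finset.mul_sum]
      rw [e, e, ← h, ← h', map_mul, ← one_mul (1 : L0), ← Algebra.TensorProduct.tmul_mul_tmul]
      ring
    have hzero : K 0 := ⟨1, P.primeCompl.one_mem, 0, by simp⟩
    have hsmul : ∀ (c : S) (w), K w → K (c • w) := by
      rintro c w ⟨d, hd, s, h⟩
      refine ⟨d, hd, fun i => c * s i, ?_⟩
      rw [smul_mul_assoc, h, Finset.smul_sum]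
      simp [TensorProduct.smul_tmul']
    have hall : ∀ w, K w := fun w => by
      induction w using TensorProduct.induction_on with
      | zero => exact hzero
      | add w w' hw hw' => exact hadd _ _ hw hw'
      | tmul s l =>
        rw [show s ⊗ₜ[T] l = s • ((1 : S) ⊗ₜ[T] l) by rw [TensorProduct.smul_tmul', smul_eq_mul, mul_one],
          ← b0.sum_repr l, TensorProduct.tmul_sum]
        refine hsmul _ _ (Finset.sum_induction _ K hadd hzero fun i _ => ?_)
        classical
        obtain ⟨a, d, hd, he⟩ := IsFractionRing.div_surjective (T ⧸ P) (b0.repr l i)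
        obtain ⟨a, rfl⟩ := Ideal.Quotient.mk_surjective a
        obtain ⟨d, rfl⟩ := Ideal.Quotient.mk_surjective d
        have hd' : d ∉ P := fun h => nonZeroDivisors.ne_zero hd (Ideal.Quotient.eq_zero_iff_mem.mpr h)
        have ha : ∀ t, algebraMap (T ⧸ P) P.ResidueField (Ideal.Quotient.mk P t) = algebraMap T P.ResidueField t :=
          fun t => rfl
        rw [ha, ha] at he
        refine ⟨d, hd', Pi.single i (algebraMap T S a), ?_⟩
        rw [Finset.sum_eq_single i (fun j _ hj => by simp [hj]) (fun h => absurd (Finset.mem_univ i) h),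
          Pi.single_eq_same, Algebra.TensorProduct.tmul_mul_tmul, one_mul, mul_one,
          Algebra.algebraMap_eq_smul_one, Algebra.algebraMap_eq_smul_one, TensorProduct.smul_tmul,
          TensorProduct.smul_tmul]
        congr 1
        rw [← algebraMap_smul P.ResidueField d, ← algebraMap_smul P.ResidueField a, smul_smul]
        congr 1
        rw [← he, mul_div_cancel₀]
        rwa [Ne, Ideal.algebraMap_residueField_eq_zero]
    obtain ⟨d, hd, s, h⟩ := hall (x - y)
    refine ⟨⟨_, algebraMap T S d, fun h => hd ((hPQ d).mp h), rfl⟩, ?_⟩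
    show algebraMap S (S ⊗[T] L0) (algebraMap T S d) * x = algebraMap S (S ⊗[T] L0) (algebraMap T S d) * y
    rw [← sub_eq_zero, ← mul_sub, mul_comm, Algebra.TensorProduct.algebraMap_apply, Algebra.algebraMap_self_apply, h]
    have h0 : ∑ i, algebraMap S Q.ResidueField (s i) • b i = 0 := by
      have := congrArg θ h
      rw [map_mul, map_sub, show θ x = θ y from hxy, sub_self, zero_mul, map_sum] at this
      rw [this]
      refine Finset.sum_congr rfl fun i _ => ?_
      rw [hθ, hb, Algebra.smul_def, ← IsScalarTower.algebraMap_apply]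
    refine Finset.sum_eq_zero fun i _ => ?_
    have hs : s i ∈ P.map (algebraMap T S) := by
      rw [hQ, ← Ideal.algebraMap_residueField_eq_zero]
      exact Fintype.linearIndependent_iff.mp b.linearIndependent _ h0 i
    generalize b0 i = z
    refine Submodule.span_induction ?_ ?_ ?_ ?_ hs
    · rintro _ ⟨p, hp, rfl⟩
      rw [Algebra.algebraMap_eq_smul_one, TensorProduct.smul_tmul, ← algebraMap_smul P.ResidueField p,
        Ideal.algebraMap_residueField_eq_zero.mpr hp, zero_smul, TensorProduct.tmul_zero]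
    · exact TensorProduct.zero_tmul _ _
    · intro u v _ _ hu hv; rw [TensorProduct.add_tmul, hu, hv, add_zero]
    · intro c u _ hu
      rw [show (c • u) ⊗ₜ[T] z = c • (u ⊗ₜ[T] z) from (TensorProduct.smul_tmul' _ _ _).symm, hu, smul_zero]

/-- An etale stage of a henselization has the same completion. -/
theorem exists_completion_stage (R S : Type u) [CommRing R] [IsLocalRing R] [IsNoetherianRing R] [CommRing S]
    [IsLocalRing S] [Algebra R S] [IsLocalHom (algebraMap R S)] [Hensel.IsHenselization R S]
    (T : Type u) [CommRing T] [IsLocalRing T] [IsNoetherianRing T] [Algebra R T] [Algebra T S]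
    [IsScalarTower R T S] [IsLocalHom (algebraMap T S)] [Algebra.FormallyUnramified R T]
    [Algebra.EssFiniteType R T] :
    Nonempty (EGA4.Cpl T ≃ₐ[T] EGA4.Cpl S) := by
  haveI : IsLocalHom (algebraMap R T) := ⟨fun r hr => by
    have := hr.map (algebraMap T S)
    rw [← IsScalarTower.algebraMap_apply] at this
    exact IsUnit.of_map (algebraMap R S) r this⟩
  obtain ⟨π, hπ⟩ := exists_isPtColim_of_isHenselization (R := R) S
  have hm : (maximalIdeal R).map (algebraMap R S) = maximalIdeal S :=
    hπ.map_maximalIdeal ker_algebraMap_residueField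
  have hmT : (maximalIdeal R).map (algebraMap R T) = maximalIdeal T := Algebra.FormallyUnramified.map_maximalIdeal
  have hmTS : (maximalIdeal T).map (algebraMap T S) = maximalIdeal S := by
    rw [← hmT, Ideal.map_map, ← IsScalarTower.algebraMap_eq, hm]
  have hsurj : ∀ n (t : T), ∃ r : R, t - algebraMap R T r ∈ (maximalIdeal T) ^ n := by
    have h1 : ∀ t : T, ∃ r : R, t - algebraMap R T r ∈ maximalIdeal T := fun t => by
      obtain ⟨y, hy⟩ := (S0510.result R S 1).2 (Ideal.Quotient.mk _ (algebraMap T S t))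
      obtain ⟨r, rfl⟩ := Ideal.Quotient.mk_surjective y
      rw [Ideal.quotientMap_mk, Ideal.Quotient.eq, pow_one, hm] at hy
      refine ⟨r, fun hu => hy ?_⟩
      have := hu.map (algebraMap T S)
      rw [map_sub, ← IsScalarTower.algebraMap_apply] at this
      rw [← neg_sub]
      exact this.neg
    intro n
    induction n with
    | zero => exact fun t => ⟨0, by simp⟩
    | succ n ih =>
      intro t
      obtain ⟨r, hr⟩ := ih t
      rw [← hmT, ← Ideal.map_pow] at hr
      suffices ∀ x ∈ (maximalIdeal R ^ n).map (algebraMap R T),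
          ∃ r : R, x - algebraMap R T r ∈ maximalIdeal T ^ (n + 1) by
        obtain ⟨r', hr'⟩ := this _ hr
        exact ⟨r + r', by rwa [map_add, ← sub_sub]⟩
      intro x hx
      refine Submodule.span_induction ?_ ⟨0, by simp⟩ ?_ ?_ hx
      · rintro _ ⟨p, _, rfl⟩; exact ⟨p, by simp⟩
      · rintro u v _ _ ⟨a, ha⟩ ⟨c, hc⟩
        refine ⟨a + c, ?_⟩
        rw [map_add, add_sub_add_comm]
        exact add_mem ha hc
      · intro c u hu ⟨a, ha⟩
        obtain ⟨c', hc'⟩ := h1 c
        refine ⟨c' * a, ?_⟩
        rw [smul_eq_mul, map_mul, show c * u - algebraMap R T c' * algebraMap R T a =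
          (c - algebraMap R T c') * u + algebraMap R T c' * (u - algebraMap R T a) by ring]
        refine add_mem ?_ (Ideal.mul_mem_left _ _ ha)
        rw [pow_succ']
        refine Ideal.mul_mem_mul hc' ?_
        rw [← hmT, ← Ideal.map_pow]
        exact hu
  have hg : ∀ n, Function.Bijective (Ideal.quotientMapₐ _ (Algebra.ofId T S)
      (H24Adic.map_pow_le_comap (maximalIdeal T) (Algebra.ofId T S) n)) := fun n => by
    obtain ⟨hi, hs⟩ := S0510.result R S n
    refine ⟨(injective_iff_map_eq_zero _).mpr fun z hz => ?_, fun z => ?_⟩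
    · obtain ⟨t, rfl⟩ := Ideal.Quotient.mk_surjective z
      rw [Ideal.quotient_map_mkₐ, Ideal.Quotient.mkₐ_eq_mk, Ideal.Quotient.eq_zero_iff_mem] at hz
      rw [Ideal.Quotient.eq_zero_iff_mem, Algebra.algebraMap_self, Ideal.map_id]
      obtain ⟨r, hr⟩ := hsurj n t
      have h2 : algebraMap R S r ∈ (maximalIdeal R).map (algebraMap R S) ^ n := by
        have := Ideal.mem_map_of_mem (algebraMap T S) hr
        rw [Ideal.map_pow, hmTS, map_sub, ← IsScalarTower.algebraMap_apply] at this
        rw [hm]
        have hz' : algebraMap T S t ∈ maximalIdeal S ^ n := by rw [← hmTS]; exact hz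
        simpa using sub_mem hz' this
      have h3 : r ∈ maximalIdeal R ^ n := by
        rw [← Ideal.Quotient.eq_zero_iff_mem]
        exact (injective_iff_map_eq_zero _).mp hi _ (by rw [Ideal.quotientMap_mk, Ideal.Quotient.eq_zero_iff_mem, Ideal.map_pow]; exact h2)
      have h4 : algebraMap R T r ∈ maximalIdeal T ^ n := by
        rw [← hmT, ← Ideal.map_pow]
        exact Ideal.mem_map_of_mem _ h3
      simpa using add_mem hr h4
    · obtain ⟨s, rfl⟩ := Ideal.Quotient.mk_surjective z
      obtain ⟨y, hy⟩ := hs (Ideal.Quotient.mk _ s)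
      obtain ⟨r, rfl⟩ := Ideal.Quotient.mk_surjective y
      refine ⟨Ideal.Quotient.mk _ (algebraMap R T r), ?_⟩
      rw [Ideal.quotientMap_mk, Ideal.Quotient.eq, Ideal.map_pow, hm] at hy
      rw [Ideal.quotient_map_mkₐ, Ideal.Quotient.mkₐ_eq_mk, Ideal.Quotient.eq]
      show algebraMap T S (algebraMap R T r) - s ∈ _
      rw [← IsScalarTower.algebraMap_apply, hmTS]
      exact hy
  obtain ⟨e⟩ := H24Adic.nonempty_algEquiv_adicCompletion (maximalIdeal T) (Algebra.ofId T S) hg
  rw [Algebra.algebraMap_self, Ideal.map_id, hmTS] at e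
  exact ⟨e⟩

variable {r n : WithBot ℕ∞}

/-- A henselization is geometrically `(R_r)`, `(S_n)` over the ring. -/
theorem grsHom_henselization_self (R S : Type u) [CommRing R] [IsLocalRing R] [IsNoetherianRing R] [CommRing S]
    [IsLocalRing S] [Algebra R S] [IsLocalHom (algebraMap R S)] [Hensel.IsHenselization R S] :
    GRSHom r n R S := by
  have : IsNoetherianRing S := (S0511.result R S).mp inferInstance
  obtain ⟨π, hπ⟩ := exists_isPtColim_of_isHenselization (R := R) S
  refine grsHom_of_forall hπ.flat fun p _ k' _ _ _ _ _ _ => ?_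
  have := hπ.isReduced_fibre k'
  have := hπ.krullDimLE_fibre k'
  have : IsNoetherianRing (k' ⊗[R] S) := H02CA.isNoetherianRing_tensor_of_essFiniteType _ _ _
  intro q _
  have hd : Ring.KrullDimLE 0 (Localization.AtPrime q) :=
    Ring.krullDimLE_iff.mpr ((IsLocalization.AtPrime.ringKrullDim_eq_height q _).le.trans
      ((Ideal.height_le_ringKrullDim_of_ne_top Ideal.IsPrime.ne_top').trans (Ring.krullDimLE_iff.mp ‹_›)))
  have hf : IsField (Localization.AtPrime q) := Ring.KrullDimLE.isField_of_isReduced
  let := hf.toField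
  exact rsLocal_of_isRegularLocalRing _

/-- Localizing one factor of a tensor product. -/
theorem rs_tensor_of_isLocalization (S C W L : Type u) [CommRing S] [CommRing C] [CommRing W] [CommRing L]
    [Algebra S C] [Algebra S W] [Algebra S L] [Algebra W L] [IsScalarTower S W L] [IsNoetherianRing (C ⊗[S] W)]
    (M : Submonoid W) [IsLocalization M L] (h : RS r n (C ⊗[S] W)) : RS r n (L ⊗[S] C) := by
  let : Algebra (C ⊗[S] W) (C ⊗[S] L) :=
    (Algebra.TensorProduct.map (AlgHom.id C C) (IsScalarTower.toAlgHom S W L)).toRingHom.toAlgebra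
  have : IsScalarTower C (C ⊗[S] W) (C ⊗[S] L) := IsScalarTower.of_algebraMap_eq fun c =>
    ((Algebra.TensorProduct.map (AlgHom.id C C) (IsScalarTower.toAlgHom S W L)).commutes c).symm
  have := IsLocalization.tensorProduct_tensorProduct_right S C M L (by
    refine RingHom.ext fun w => ?_
    exact Algebra.TensorProduct.map_tmul _ _ _ _)
  have : IsNoetherianRing (C ⊗[S] L) := IsLocalization.isNoetherianRing
    (M.map (Algebra.TensorProduct.includeRight (R := S) (A := C))) _ inferInstance
  exact (h.of_isLocalization (M.map (Algebra.TensorProduct.includeRight (R := S) (A := C)))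
    (C ⊗[S] L)).of_ringEquiv (Algebra.TensorProduct.comm S C L).toRingEquiv

/-- Properties of formal fibres pass to the henselization. -/
theorem grsHom_cpl_henselization (R S : Type u) [CommRing R] [IsLocalRing R] [IsNoetherianRing R] [CommRing S]
    [IsLocalRing S] [Algebra R S] [IsLocalHom (algebraMap R S)] [Hensel.IsHenselization R S]
    (h : GRSHom r n R (EGA4.Cpl R)) : GRSHom r n S (EGA4.Cpl S) := by
  classical
  have : IsNoetherianRing S := (S0511.result R S).mp inferInstance
  obtain ⟨π, hπ⟩ := exists_isPtColim_of_isHenselization (R := R) S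
  haveI := isNoetherianRing_cpl S
  refine grsHom_of_forall (flat_cpl S) fun Q _ L _ _ _ _ _ _ => ?_
  let κ := Q.ResidueField
  let b := Module.finBasis κ L
  let ι := Fin (Module.finrank κ L)
  obtain ⟨F, hF⟩ := (IsNoetherian.noetherian Q : Q.FG)
  -- numerators and denominators
  have hfr : ∀ c : κ, ∃ a d : S, d ∉ Q ∧ algebraMap S κ a / algebraMap S κ d = c := fun c => by
    obtain ⟨a, d, hd, he⟩ := IsFractionRing.div_surjective (S ⧸ Q) c
    obtain ⟨a, rfl⟩ := Ideal.Quotient.mk_surjective a
    obtain ⟨d, rfl⟩ := Ideal.Quotient.mk_surjective d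
    exact ⟨a, d, fun h => nonZeroDivisors.ne_zero hd (Ideal.Quotient.eq_zero_iff_mem.mpr h), he⟩
  choose num den hden hfrac using hfr
  let cst : Finset κ := Finset.univ.image (fun i : ι => b.repr 1 i) ∪
    Finset.univ.image (fun x : ι × ι × ι => b.repr (b x.1 * b x.2.1) x.2.2)
  obtain ⟨T, _, _, _, φ, y, hy⟩ := hπ.exists_rep_finset (F ∪ cst.image num ∪ cst.image den) id
  let M : Ideal T := (maximalIdeal S).comap φ.toRingHom
  let T0 := Localization.AtPrime M
  let ψ : T0 →ₐ[R] S := IsLocalization.liftAlgHom (M := M.primeCompl) (f := φ) fun t =>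
    IsLocalRing.notMem_maximalIdeal.mp t.2
  let : Algebra T0 S := ψ.toRingHom.toAlgebra
  have : IsScalarTower R T0 S := IsScalarTower.of_algebraMap_eq fun x => (ψ.commutes x).symm
  have hψ : ∀ t, algebraMap T0 S (algebraMap T T0 t) = φ t := fun t => IsLocalization.lift_eq _ t
  have : IsLocalHom (algebraMap T0 S) := ⟨fun x hx => by
    obtain ⟨t, d, rfl⟩ := IsLocalization.exists_mk'_eq M.primeCompl x
    rw [IsLocalization.AtPrime.isUnit_mk'_iff T0 M]
    intro ht
    have h' := hx.mul ((IsLocalization.map_units T0 d).map (algebraMap T0 S))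
    rw [← map_mul, IsLocalization.mk'_spec, hψ] at h'
    exact (mem_maximalIdeal _).mp ht h'⟩
  have : IsNoetherianRing T := Algebra.FiniteType.isNoetherianRing R T
  have : IsNoetherianRing T0 := IsLocalization.isNoetherianRing M.primeCompl _ inferInstance
  haveI : Algebra.EssFiniteType T T0 := Algebra.EssFiniteType.of_isLocalization T0 M.primeCompl
  haveI : Algebra.EssFiniteType R T0 := Algebra.EssFiniteType.comp R T T0
  haveI : Algebra.FormallyUnramified T T0 := Algebra.FormallyUnramified.of_isLocalization M.primeCompl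
  haveI : Algebra.FormallyUnramified R T0 := Algebra.FormallyUnramified.comp R T T0
  obtain ⟨e⟩ := exists_completion_stage R S T0
  have hT0 : GRSHom r n T0 (EGA4.Cpl S) := by
    haveI := isNoetherianRing_cpl T0
    exact (h.cpl_essFiniteType T0).of_algEquiv e
  -- the prime and the residue fields
  have hrep : ∀ x ∈ F ∪ cst.image num ∪ cst.image den, ∃ t : T0, algebraMap T0 S t = x := fun x hx =>
    ⟨algebraMap T T0 (y x), (hψ _).trans (hy x hx)⟩
  let P : Ideal T0 := Q.comap (algebraMap T0 S)
  haveI : Q.LiesOver P := ⟨rfl⟩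
  have hQ : P.map (algebraMap T0 S) = Q := by
    refine le_antisymm Ideal.map_comap_le ?_
    conv_lhs => rw [← hF]
    rw [Submodule.span_le]
    intro x hx
    obtain ⟨t, rfl⟩ := hrep x (by simp [Finset.mem_coe.mp hx])
    exact Ideal.mem_map_of_mem _ (show algebraMap T0 S t ∈ Q from hF ▸ Submodule.subset_span hx)
  let k0 := P.ResidueField
  let : Algebra k0 κ := (Ideal.ResidueField.map P Q (algebraMap T0 S) rfl).toAlgebra
  have : IsScalarTower T0 k0 κ := IsScalarTower.of_algebraMap_eq fun t => by
    rw [RingHom.algebraMap_toAlgebra, Ideal.ResidueField.map_algebraMap]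
    exact IsScalarTower.algebraMap_apply T0 S κ t
  let : Algebra k0 L := ((algebraMap κ L).comp (algebraMap k0 κ)).toAlgebra
  have : IsScalarTower k0 κ L := IsScalarTower.of_algebraMap_eq fun _ => rfl
  let : Algebra T0 L := ((algebraMap S L).comp (algebraMap T0 S)).toAlgebra
  have : IsScalarTower T0 S L := IsScalarTower.of_algebraMap_eq fun _ => rfl
  have : IsScalarTower T0 k0 L := IsScalarTower.of_algebraMap_eq fun t => by
    show algebraMap S L (algebraMap T0 S t) = algebraMap κ L (algebraMap k0 κ (algebraMap T0 k0 t))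
    rw [← IsScalarTower.algebraMap_apply T0 k0 κ, IsScalarTower.algebraMap_apply T0 S κ,
      ← IsScalarTower.algebraMap_apply S κ L]
  have hcst : ∀ c ∈ cst, ∃ c0 : k0, algebraMap k0 κ c0 = c := fun c hc => by
    obtain ⟨a, ha⟩ := hrep (num c) (by simp [Finset.mem_image_of_mem num hc])
    obtain ⟨d, hd⟩ := hrep (den c) (by simp [Finset.mem_image_of_mem den hc])
    refine ⟨algebraMap T0 k0 a / algebraMap T0 k0 d, ?_⟩
    rw [map_div₀, ← IsScalarTower.algebraMap_apply, ← IsScalarTower.algebraMap_apply,
      IsScalarTower.algebraMap_apply T0 S κ, IsScalarTower.algebraMap_apply T0 S κ, ha, hd, hfrac]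
  let N : Submodule k0 L := Submodule.span k0 (Set.range b)
  have hmem : ∀ l : L, (∀ i, b.repr l i ∈ cst) → l ∈ N := fun l hl => by
    rw [← b.sum_repr l]
    refine Submodule.sum_mem _ fun i _ => ?_
    obtain ⟨c0, hc0⟩ := hcst _ (hl i)
    rw [← hc0, algebraMap_smul]
    exact Submodule.smul_mem _ _ (Submodule.subset_span ⟨i, rfl⟩)
  have h1 : (1 : L) ∈ N := hmem 1 fun i => Finset.mem_union_left _ (Finset.mem_image_of_mem _ (Finset.mem_univ i))
  have hmul : ∀ x z, x ∈ N → z ∈ N → x * z ∈ N := fun x z hx hz => by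
    have := Submodule.mul_mem_mul hx hz
    rw [Submodule.span_mul_span] at this
    refine Submodule.span_le.mpr ?_ this
    rintro _ ⟨_, ⟨i, rfl⟩, _, ⟨j, rfl⟩, rfl⟩
    exact hmem _ fun l => Finset.mem_union_right _
      (Finset.mem_image.mpr ⟨(i, j, l), Finset.mem_univ _, rfl⟩)
  let L0 : Subalgebra k0 L := N.toSubalgebra h1 hmul
  have hli : LinearIndependent k0 b := b.linearIndependent.restrict_scalars (by
    intro x z hxz
    exact (algebraMap k0 κ).injective (by simpa [Algebra.smul_def] using hxz))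
  let b0 : Module.Basis ι k0 L0 := Module.Basis.span hli
  have hb0 : ∀ i, algebraMap L0 L (b0 i) = b i := fun i => congrArg Subtype.val (Module.Basis.span_apply hli i)
  have : Module.Finite k0 L0 := Module.Finite.of_basis b0
  have hL0 : IsField L0 := isField_of_isIntegral_of_isField' (R := k0) (Field.toIsField k0)
  let := hL0.toField
  have : Algebra.EssFiniteType k0 L0 := inferInstance
  have : Algebra.EssFiniteType T0 L0 := Algebra.EssFiniteType.comp T0 k0 L0
  haveI : IsNoetherianRing (L0 ⊗[T0] EGA4.Cpl S) := H02CA.isNoetherianRing_tensor_of_essFiniteType _ _ _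
  have h0 : RS r n (L0 ⊗[T0] EGA4.Cpl S) := hT0.tensor_field L0 (.inl inferInstance)
  let C := EGA4.Cpl S
  let W := S ⊗[T0] L0
  let e' : L0 ⊗[T0] C ≃+* C ⊗[S] W := (Algebra.TensorProduct.comm T0 L0 C).toRingEquiv.trans
    (Algebra.TensorProduct.cancelBaseChange T0 S S C L0).symm.toRingEquiv
  haveI : IsNoetherianRing (C ⊗[S] W) := isNoetherianRing_of_ringEquiv (L0 ⊗[T0] C) e'
  let : Algebra W L := (Algebra.TensorProduct.lift (Algebra.ofId S L)
    (IsScalarTower.toAlgHom T0 L0 L) fun _ _ => Commute.all _ _).toRingHom.toAlgebra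
  have : IsScalarTower S W L := IsScalarTower.of_algebraMap_eq fun s =>
    (AlgHom.commutes (Algebra.TensorProduct.lift (Algebra.ofId S L)
      (IsScalarTower.toAlgHom T0 L0 L) fun _ _ => Commute.all _ _) s).symm
  have hloc : IsLocalization (Q.primeCompl.map (algebraMap S W)) L :=
    isLocalization_fibre_descent Q P hQ L L0 b0 b hb0
  exact rs_tensor_of_isLocalization S C W L (Q.primeCompl.map (algebraMap S W)) (h0.of_ringEquiv e')

/-- Properties of formal fibres are the same for a ring and its henselization. -/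
theorem grsHom_cpl_henselization_iff (R S : Type u) [CommRing R] [IsLocalRing R] [IsNoetherianRing R] [CommRing S]
    [IsLocalRing S] [Algebra R S] [IsLocalHom (algebraMap R S)] [Hensel.IsHenselization R S] :
    GRSHom r n S (EGA4.Cpl S) ↔ GRSHom r n R (EGA4.Cpl R) := by
  have : IsNoetherianRing S := (S0511.result R S).mp inferInstance
  exact ⟨fun h => GRSHom.cpl_of_flat_local (grsHom_henselization_self R S) h,
    grsHom_cpl_henselization R S⟩

end Groth.Agent.H9Hens
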