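import Groth.Prelude.Def_EGA4b
import Groth.Agent.H05EGA4.GRingPoly
import Groth.Agent.H05EGA4.CompleteNormalization
import Groth.Agent.H05EGA4.NorLocus

/-!
# Local rings with geometrically regular formal fibres
-/

set_option linter.style.haveILetI false

universe u

open IsLocalRing TensorProduct Groth.Agent Groth.Agent.H05EGA4

namespace Groth.Agent.H9Hens

/-- A local ring of a G-ring at a maximal ideal equal to the ring. -/
theorem grsHom_cpl_of_isGRing (R : Type u) [CommRing R] [IsLocalRing R] (h : CAlg.IsGRing R) :
    GRSHom ⊤ ⊤ R (EGA4.Cpl R) := by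
  haveI := h.1
  haveI : IsNoetherianRing (Localization.AtPrime (maximalIdeal R)) :=
    IsLocalization.isNoetherianRing (maximalIdeal R).primeCompl _ inferInstance
  haveI : IsLocalization (maximalIdeal R).primeCompl R :=
    IsLocalization.self fun x hx => IsLocalRing.notMem_maximalIdeal.mp hx
  let e := IsLocalization.algEquiv (maximalIdeal R).primeCompl (Localization.AtPrime (maximalIdeal R)) R
  exact GRSHom.cpl_of_surjective e.toRingEquiv.toRingHom e.surjective (grsHom_of_isRegularHom (h.2 _))

/-- A Noetherian local ring with geometrically regular formal fibres is a G-ring. -/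
theorem isGRing_of_grsHom_cpl (R : Type u) [CommRing R] [IsLocalRing R] [IsNoetherianRing R]
    (h : GRSHom ⊤ ⊤ R (EGA4.Cpl R)) : CAlg.IsGRing R := by
  refine isGRing_of_maximal fun m hm => ?_
  obtain rfl := IsLocalRing.eq_maximalIdeal hm
  haveI : IsNoetherianRing (Localization.AtPrime (maximalIdeal R)) :=
    IsLocalization.isNoetherianRing (maximalIdeal R).primeCompl _ inferInstance
  haveI := isNoetherianRing_cpl (Localization.AtPrime (maximalIdeal R))
  exact isRegularHom_iff_grsHom.mpr (h.cpl_atPrime (maximalIdeal R))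

/-- A Noetherian local ring with geometrically regular formal fibres is J-2. -/
theorem isJ2_of_grsHom_cpl (R : Type u) [CommRing R] [IsLocalRing R] [IsNoetherianRing R]
    (h : GRSHom ⊤ ⊤ R (EGA4.Cpl R)) : EGA4.IsJ2 R := by
  intro B _ _ hB
  haveI : IsNoetherianRing B := Algebra.FiniteType.isNoetherianRing R B
  haveI := isNoetherianRing_cpl R
  haveI := faithfullyFlat_cpl R
  let Rh := EGA4.Cpl R
  haveI : IsAdicComplete (maximalIdeal Rh) Rh := by
    rw [AdicCompletion.maximalIdeal_eq_map]
    exact AdicCompletion.isAdicComplete_self _ (IsNoetherian.noetherian _)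
  letI : Algebra Rh (B ⊗[R] Rh) := Algebra.TensorProduct.rightAlgebra
  haveI : Algebra.FiniteType Rh (B ⊗[R] Rh) :=
    Algebra.FiniteType.equiv (inferInstance : Algebra.FiniteType Rh (Rh ⊗[R] B))
      (Algebra.TensorProduct.commRight R Rh B)
  haveI : IsNoetherianRing (B ⊗[R] Rh) := Algebra.FiniteType.isNoetherianRing Rh _
  have hopen := isJ2_of_isAdicComplete Rh (B ⊗[R] Rh) inferInstance
  rw [regLocus_eq] at hopen ⊢
  exact isOpen_rs_of_grsHom (h.baseChange (.inl inferInstance)) hopen

end Groth.Agent.H9Hens
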