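import Groth.Agent.H9Hens.PtField
import Mathlib.FieldTheory.IsSepClosed
import Groth.Prelude.Def_Hensel

/-!
Strict henselization of local rings: existence and description as a colimit of pointed etale
algebras.
-/

namespace Groth.Agent.H9Hens

universe u

open IsLocalRing

variable {R : Type u} [CommRing R] [IsLocalRing R]

section

variable {k : Type u} [Field k] [Algebra R k] [Algebra (ResidueField R) k]
  [IsScalarTower R (ResidueField R) k] [IsSepClosure (ResidueField R) k]

omit [IsSepClosure (ResidueField R) k] in
theorem ker_algebraMap_of_tower : RingHom.ker (algebraMap R k) = maximalIdeal R := by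
  rw [IsScalarTower.algebraMap_eq R (ResidueField R) k,
    RingHom.ker_comp_of_injective _ (algebraMap (ResidueField R) k).injective,
    ResidueField.algebraMap_eq, ker_residue]

variable {H : Type u} [CommRing H] [IsLocalRing H] [Algebra R H] [IsLocalHom (algebraMap R H)]
  {π : H →ₐ[R] k}

/-- The residue field of the colimit at a separable closure is that separable closure. -/
theorem IsPtColim.exists_residueField_equiv (hH : IsPtColim π) :
    ∃ e : ResidueField H ≃ₐ[ResidueField R] k, ∀ x, e (residue H x) = π x := by
  have : Algebra.IsSeparable (ResidueField R) k := IsSepClosure.separable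
  let g : ResidueField H →+* k := Ideal.Quotient.lift (maximalIdeal H) π.toRingHom fun x hx => by
    rw [hH.maximalIdeal_eq] at hx; exact hx
  have hgb : Function.Bijective g :=
    ⟨RingHom.injective _, fun y => (hH.surjective y).elim fun x hx => ⟨residue H x, hx⟩⟩
  let e₀ := RingEquiv.ofBijective g hgb
  refine ⟨AlgEquiv.ofRingEquiv (f := e₀) fun x => ?_, fun x => rfl⟩
  obtain ⟨r, rfl⟩ := residue_surjective x
  show g (algebraMap (ResidueField R) (ResidueField H) (residue R r)) = _
  rw [← ResidueField.algebraMap_eq R, ← IsScalarTower.algebraMap_apply,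
    ← IsScalarTower.algebraMap_apply, IsScalarTower.algebraMap_apply R H (ResidueField H)]
  exact π.commutes r

/-- The colimit of pointed etale algebras at a separable closure is a strict henselization. -/
theorem IsPtColim.isStrictHenselization (hH : IsPtColim π) :
    Hensel.IsStrictHenselization R H := by
  obtain ⟨e, he⟩ := hH.exists_residueField_equiv
  have hk : IsSepClosure (ResidueField R) k := inferInstance
  have hsep : IsSepClosure (ResidueField R) (ResidueField H) := by
    have : IsSepClosed k := hk.sep_closed
    have : Algebra.IsSeparable (ResidueField R) k := hk.separable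
    refine ⟨IsSepClosed.of_exists_root _ fun p hp hirr hsepp => ?_,
      Algebra.IsSeparable.of_algHom (ResidueField R) k e.toAlgHom⟩
    have hd : (p.map (e : ResidueField H →+* k)).degree ≠ 0 := by
      rw [Polynomial.degree_map]; exact hirr.degree_pos.ne'
    obtain ⟨x, hx⟩ := IsSepClosed.exists_root _ hd hsepp.map
    refine ⟨e.symm x, e.injective ?_⟩
    rw [map_zero, ← hx.eq_zero]
    rw [show e (p.eval (e.symm x)) = (e : ResidueField H →+* k) (p.eval (e.symm x)) from rfl,
      ← Polynomial.eval_map_apply]
    congr 1
    exact e.apply_symm_apply x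
  refine ⟨hH.henselianLocalRing, hsep, fun T _ _ f _ τ hτ => ?_⟩
  let : Algebra R T := f.toAlgebra
  let ρ : k →ₐ[R] T ⧸ maximalIdeal T :=
    { τ.comp e.symm.toAlgHom.toRingHom with
      commutes' := fun r => by
        show τ (e.symm (algebraMap R k r)) = residue T (f r)
        rw [IsScalarTower.algebraMap_apply R (ResidueField R) k, AlgEquiv.commutes,
          ← IsScalarTower.algebraMap_apply, IsScalarTower.algebraMap_apply R H (ResidueField H)]
        exact RingHom.congr_fun hτ (residue R r) }
  have hρ : ∀ x, ρ (π x) = τ (residue H x) := fun x => by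
    show τ (e.symm (π x)) = _
    rw [← he, e.symm_apply_apply]
  obtain ⟨g, hg, hgu⟩ := hH.existsUnique_algHom ρ
  refine ⟨g.toRingHom, ⟨g.comp_algebraMap, fun x => ?_⟩, fun g' hg' => ?_⟩
  · exact (DFunLike.congr_fun hg x).trans (hρ x)
  · let g'' : H →ₐ[R] T := { g' with commutes' := fun a => RingHom.congr_fun hg'.1 a }
    have h : g'' = g := hgu g'' (AlgHom.ext fun x => (hg'.2 x).trans (hρ x).symm)
    exact congrArg AlgHom.toRingHom h

end

variable (R) in
/-- The strict henselization of a local ring exists. -/
theorem exists_isStrictHenselization_colim :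
    ∃ (k : Type u) (_ : Field k) (_ : Algebra R k) (_ : Algebra (ResidueField R) k)
      (_ : IsScalarTower R (ResidueField R) k) (_ : IsSepClosure (ResidueField R) k)
      (H : Type u) (_ : CommRing H) (_ : IsLocalRing H) (_ : Algebra R H)
      (_ : IsLocalHom (algebraMap R H)) (π : H →ₐ[R] k),
      IsPtColim π ∧ Hensel.IsStrictHenselization R H := by
  let k := SeparableClosure (ResidueField R)
  let : Algebra R k := ((algebraMap (ResidueField R) k).comp (algebraMap R (ResidueField R))).toAlgebra
  have : IsScalarTower R (ResidueField R) k := IsScalarTower.of_algebraMap_eq fun _ => rfl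
  obtain ⟨H, _, _, π, hπ⟩ := exists_isPtColim R k
  have := hπ.isLocalRing
  have := hπ.isLocalHom (ker_algebraMap_of_tower (R := R) (k := k))
  exact ⟨k, inferInstance, inferInstance, inferInstance, inferInstance, inferInstance, H,
    inferInstance, inferInstance, inferInstance, inferInstance, π, hπ,
    hπ.isStrictHenselization⟩

/-- Strict henselizations of a local ring are unique. -/
theorem strictHenselization_algEquiv (S S' : Type u) [CommRing S] [IsLocalRing S] [Algebra R S]
    [IsLocalHom (algebraMap R S)] [CommRing S'] [IsLocalRing S'] [Algebra R S']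
    [IsLocalHom (algebraMap R S')] [hS : Hensel.IsStrictHenselization R S]
    [hS' : Hensel.IsStrictHenselization R S'] : Nonempty (S ≃ₐ[R] S') := by
  have := hS.henselian
  have := hS'.henselian
  have := hS.isSepClosure
  have := hS'.isSepClosure
  let e := IsSepClosure.equiv (ResidueField R) (ResidueField S) (ResidueField S')
  have hc : ∀ (T T' : Type u) [CommRing T] [IsLocalRing T] [Algebra R T]
      [IsLocalHom (algebraMap R T)] [CommRing T'] [IsLocalRing T'] [Algebra R T']
      [IsLocalHom (algebraMap R T')] (j : ResidueField T →ₐ[ResidueField R] ResidueField T'),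
      j.toRingHom.comp (ResidueField.map (algebraMap R T)) = ResidueField.map (algebraMap R T') := by
    intro T T' _ _ _ _ _ _ _ _ j
    refine RingHom.ext fun x => ?_
    exact j.commutes x
  obtain ⟨f, ⟨hf, hf'⟩, -⟩ := hS.universal S' (algebraMap R S') e.toAlgHom.toRingHom (hc S S' _)
  obtain ⟨g, ⟨hg, hg'⟩, -⟩ := hS'.universal S (algebraMap R S) e.symm.toAlgHom.toRingHom (hc S' S _)
  let F : S →ₐ[R] S' := { f with commutes' := fun a => RingHom.congr_fun hf a }
  let G : S' →ₐ[R] S := { g with commutes' := fun a => RingHom.congr_fun hg a }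
  refine ⟨AlgEquiv.ofAlgHom F G ?_ ?_⟩
  · refine AlgHom.coe_ringHom_injective ((hS'.universal S' (algebraMap R S')
      (RingHom.id _) (hc S' S' (AlgHom.id _ _))).unique
      ⟨AlgHom.comp_algebraMap (F.comp G), fun x => ?_⟩
      ⟨AlgHom.comp_algebraMap (AlgHom.id R S'), fun x => rfl⟩)
    show residue S' (f (g x)) = residue S' x
    rw [hf', hg']
    exact e.apply_symm_apply _
  · refine AlgHom.coe_ringHom_injective ((hS.universal S (algebraMap R S)
      (RingHom.id _) (hc S S (AlgHom.id _ _))).unique
      ⟨AlgHom.comp_algebraMap (G.comp F), fun x => ?_⟩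
      ⟨AlgHom.comp_algebraMap (AlgHom.id R S), fun x => rfl⟩)
    show residue S (g (f x)) = residue S x
    rw [hg', hf']
    exact e.symm_apply_apply _

/-- A strict henselization is the colimit of pointed etale algebras at a separable closure of the
residue field. -/
theorem exists_isPtColim_of_isStrictHenselization (S : Type u) [CommRing S] [IsLocalRing S]
    [Algebra R S] [IsLocalHom (algebraMap R S)] [Hensel.IsStrictHenselization R S] :
    ∃ (k : Type u) (_ : Field k) (_ : Algebra R k) (_ : Algebra (ResidueField R) k)
      (_ : IsScalarTower R (ResidueField R) k) (_ : IsSepClosure (ResidueField R) k)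
      (π : S →ₐ[R] k), IsPtColim π := by
  obtain ⟨k, i₁, i₂, i₃, i₄, i₅, H, _, _, _, _, π, hπ, hH⟩ := exists_isStrictHenselization_colim R
  obtain ⟨e⟩ := strictHenselization_algEquiv (R := R) H S
  exact ⟨k, i₁, i₂, i₃, i₄, i₅, _, hπ.of_algEquiv e⟩

end Groth.Agent.H9Hens
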