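import Groth.Agent.H9Hens.BranchCore
import Groth.Agent.H9Hens.LocalHens
import Groth.Agent.H9Hens.StrictHens
import Groth.Prelude.Def_Brnch
import Mathlib.FieldTheory.PurelyInseparable.Basic
import Mathlib.RingTheory.Ideal.GoingUp

/-!
Minimal primes of henselization and strict henselization count branches and geometric branches.
-/

namespace Groth.Agent.H9Hens

universe u v

open TensorProduct IsLocalRing

section fractionRing

variable (A : Type u) [CommRing A]

theorem isReduced_red : IsReduced (CAlg2.red A) :=
  (Ideal.isRadical_iff_quotient_reduced _).mp (Ideal.radical_isRadical _)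

theorem minimalPrimes_eq_comap_red :
    minimalPrimes A = Ideal.comap (Ideal.Quotient.mk (nilradical A)) '' minimalPrimes (CAlg2.red A) := by
  rw [← Ideal.minimalPrimes_eq_comap, show nilradical A = (⊥ : Ideal A).radical from rfl,
    Ideal.radical_minimalPrimes]

theorem fractionRing_red_exists (q : FractionRing (CAlg2.red A)) :
    ∃ a s : A, IsUnit (algebraMap A (FractionRing (CAlg2.red A)) s) ∧
      algebraMap A (FractionRing (CAlg2.red A)) s * q =
        algebraMap A (FractionRing (CAlg2.red A)) a := by
  let R := CAlg2.red A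
  obtain ⟨a, s, rfl⟩ := IsLocalization.exists_mk'_eq (nonZeroDivisors R) q
  obtain ⟨a', ha'⟩ := Ideal.Quotient.mk_surjective a
  obtain ⟨s', hs'⟩ := Ideal.Quotient.mk_surjective (s : R)
  refine ⟨a', s', ?_, ?_⟩ <;>
    rw [IsScalarTower.algebraMap_apply A R (FractionRing R) s', Ideal.Quotient.algebraMap_eq, hs']
  · exact IsLocalization.map_units _ s
  · rw [IsScalarTower.algebraMap_apply A R (FractionRing R) a', Ideal.Quotient.algebraMap_eq, ha',
      IsLocalization.mk'_spec']

theorem fractionRing_red_comap_mem (hfin : (minimalPrimes A).Finite)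
    (q : Ideal (FractionRing (CAlg2.red A))) (hq : q.IsPrime) :
    q.comap (algebraMap A (FractionRing (CAlg2.red A))) ∈ minimalPrimes A := by
  let R := CAlg2.red A
  have := isReduced_red A
  have hfin' : (minimalPrimes R).Finite := by
    rw [minimalPrimes_eq_comap_red] at hfin
    exact hfin.of_finite_image (Ideal.comap_injective_of_surjective _
      Ideal.Quotient.mk_surjective).injOn
  obtain ⟨hp, hdis⟩ := (IsLocalization.isPrime_iff_isPrime_disjoint (nonZeroDivisors R) _ q).mp hq
  set p := q.comap (algebraMap R (FractionRing R))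
  have hsub : (p : Set R) ⊆ ⋃ r ∈ (⊥ : Ideal R).minimalPrimes, r := by
    intro x hx
    rw [Ideal.iUnion_minimalPrimes]
    have hx' : x ∉ nonZeroDivisors R := fun h => Set.disjoint_left.mp hdis h hx
    rw [mem_nonZeroDivisors_iff_right] at hx'
    push Not at hx'
    obtain ⟨y, hy, hy0⟩ := hx'
    refine ⟨y, fun h => hy0 ?_, ?_⟩
    · have : y ∈ nilradical R := h
      simpa [nilradical_eq_zero] using this
    · rw [mul_comm, hy]; exact zero_mem _
  obtain ⟨r, hr, hle⟩ := (Ideal.subset_union_prime_finite hfin' (f := id) ⊥ ⊥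
    fun r hr _ _ => hr.1.1).1 hsub
  have hpr : p = r := le_antisymm hle (hr.2 ⟨hp, bot_le⟩ hle)
  rw [minimalPrimes_eq_comap_red]
  refine ⟨r, hr, ?_⟩
  rw [← hpr, Ideal.comap_comap]
  rfl

theorem fractionRing_red_lift (L : Type u) [Field L] (g : A →+* L)
    (hg : RingHom.ker g ∈ minimalPrimes A) :
    ∃ g' : FractionRing (CAlg2.red A) →+* L,
      g'.comp (algebraMap A (FractionRing (CAlg2.red A))) = g := by
  let R := CAlg2.red A
  rw [minimalPrimes_eq_comap_red] at hg
  obtain ⟨r, hr, hrg⟩ := hg
  have hnil : ∀ a ∈ nilradical A, g a = 0 := fun a ha => ((mem_nilradical.mp ha).map g).eq_zero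
  let gbar : R →+* L := Ideal.Quotient.lift _ g hnil
  have hu : ∀ y : nonZeroDivisors R, IsUnit (gbar y) := fun y => by
    obtain ⟨a, ha⟩ := Ideal.Quotient.mk_surjective (y : R)
    rw [← ha, isUnit_iff_ne_zero]
    intro h
    have hmem : a ∈ RingHom.ker g := h
    rw [← hrg, Ideal.mem_comap, ha] at hmem
    exact notMem_nonZeroDivisors_of_mem_mem_minimalPrimes hmem hr y.2
  refine ⟨IsLocalization.lift hu, RingHom.ext fun a => ?_⟩
  rw [RingHom.comp_apply, IsScalarTower.algebraMap_apply A R (FractionRing R),
    IsLocalization.lift_eq]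
  rfl

theorem fractionRing_red_isArtinianRing (hfin : (minimalPrimes A).Finite) :
    IsArtinianRing (FractionRing (CAlg2.red A)) := by
  let R := CAlg2.red A
  let Q := FractionRing R
  have := isReduced_red A
  have hinj : Function.Injective (fun P : PrimeSpectrum Q => P.asIdeal.comap (algebraMap A Q)) := by
    intro P P' h
    refine PrimeSpectrum.ext ((IsLocalization.orderEmbedding (nonZeroDivisors R) Q).injective ?_)
    exact Ideal.comap_injective_of_surjective _ Ideal.Quotient.mk_surjective h
  have hmax : ∀ P : PrimeSpectrum Q, P.asIdeal.IsMaximal := fun P => by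
    obtain ⟨M, hM, hle⟩ := P.asIdeal.exists_le_maximal (Ideal.IsPrime.ne_top inferInstance)
    have h2 := (fractionRing_red_comap_mem A hfin M hM.isPrime).2 ⟨inferInstance, bot_le⟩
      (Ideal.comap_mono hle)
    rw [show P = ⟨M, hM.isPrime⟩ from hinj (le_antisymm (Ideal.comap_mono hle) h2)]
    exact hM
  have : Finite (PrimeSpectrum Q) := by
    have := hfin.to_subtype
    exact Finite.of_injective (β := minimalPrimes A)
      (fun P => ⟨_, fractionRing_red_comap_mem A hfin P.asIdeal inferInstance⟩)
      fun P P' h => hinj (congrArg Subtype.val h)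
  let F : Q →+* ∀ P : PrimeSpectrum Q, Q ⧸ P.asIdeal := RingHom.pi fun P => Ideal.Quotient.mk P.asIdeal
  have hsurj : Function.Surjective F := fun y => by
    obtain ⟨z, hz⟩ := Ideal.pi_quotient_surjective (I := fun P : PrimeSpectrum Q => P.asIdeal)
      (fun P P' hne => Ideal.isCoprime_iff_sup_eq.mpr ((hmax P).coprime_of_ne (hmax P')
        fun h => hne (PrimeSpectrum.ext h))) y
    exact ⟨z, funext hz⟩
  have hinjF : Function.Injective F := (injective_iff_map_eq_zero _).mpr fun z hz => by
    have : z ∈ nilradical Q := (Ideal.radical_eq_sInf (⊥ : Ideal Q)).ge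
      (Submodule.mem_sInf.mpr fun J hJ =>
        Ideal.Quotient.eq_zero_iff_mem.mp (congrFun hz ⟨J, hJ.2⟩))
    simpa [nilradical_eq_zero] using this
  have : ∀ P : PrimeSpectrum Q, IsArtinianRing (Q ⧸ P.asIdeal) := fun P => by
    have := hmax P
    let := Ideal.Quotient.field P.asIdeal
    infer_instance
  let e := RingEquiv.ofBijective F ⟨hinjF, hsurj⟩
  exact Function.Surjective.isArtinianRing (f := e.symm.toRingHom) e.symm.surjective

/-- The integral closure of `A` in the total ring of fractions of `A_red` is `normRed A`. -/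
theorem nonempty_integralClosure_algEquiv_normRed :
    Nonempty (integralClosure A (FractionRing (CAlg2.red A)) ≃ₐ[A] CAlg2.normRed A) := by
  have : Algebra.IsIntegral A (CAlg2.red A) :=
    Algebra.IsIntegral.of_surjective (Algebra.ofId A _) Ideal.Quotient.mk_surjective
  refine ⟨Subalgebra.equivOfEq _ ((integralClosure (CAlg2.red A)
    (FractionRing (CAlg2.red A))).restrictScalars A) (Subalgebra.ext fun x => ?_)⟩
  exact ⟨IsIntegral.tower_top, fun h => isIntegral_trans (R := A) x h⟩

end fractionRing

variable {A : Type u} [CommRing A] [IsLocalRing A]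
variable {H : Type u} [CommRing H] [Algebra A H] [IsLocalRing H] [IsLocalHom (algebraMap A H)]
variable (P : Type u) [CommRing P] [Algebra A P] [Algebra.IsIntegral A P]

/-- With trivial residue field extension, maximal ideals do not change. -/
theorem nonempty_maximalSpectrum_tensor_equiv
    (hm : ∀ x : H, ∃ a : A, x - algebraMap A H a ∈ maximalIdeal H) :
    Nonempty (MaximalSpectrum (H ⊗[A] P) ≃ MaximalSpectrum P) := by
  let i : P →ₐ[A] H ⊗[A] P := Algebra.TensorProduct.includeRight
  have : Algebra.IsIntegral H (H ⊗[A] P) := inferInstance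
  have hlie : ∀ M : MaximalSpectrum (H ⊗[A] P),
      M.asIdeal.comap (algebraMap H (H ⊗[A] P)) = maximalIdeal H := fun M =>
    (isMaximal_iff H).mp (Ideal.isMaximal_comap_of_isIntegral_of_isMaximal M.asIdeal)
  have hcm : (maximalIdeal H).comap (algebraMap A H) = maximalIdeal A :=
    ((local_hom_TFAE (algebraMap A H)).out (a := IsLocalHom (algebraMap A H)) 0 4).mp ‹_›
  have hmax : ∀ M : MaximalSpectrum (H ⊗[A] P), (M.asIdeal.comap i.toRingHom).IsMaximal := fun M => by
    refine Ideal.isMaximal_of_isIntegral_of_isMaximal_comap (R := A) _ ?_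
    rw [Ideal.comap_comap, AlgHom.toRingHom_eq_coe, AlgHom.comp_algebraMap,
      IsScalarTower.algebraMap_eq A H (H ⊗[A] P), ← Ideal.comap_comap, hlie,
      hcm]
    infer_instance
  have key : ∀ t : H ⊗[A] P, ∃ p : P, ∀ M : MaximalSpectrum (H ⊗[A] P),
      t - i p ∈ M.asIdeal := fun t => by
    induction t with
    | zero => exact ⟨0, fun M => by simp⟩
    | tmul x p =>
      obtain ⟨a, ha⟩ := hm x
      refine ⟨a • p, fun M => ?_⟩
      have h1 : (x - algebraMap A H a) ⊗ₜ[A] (1 : P) ∈ M.asIdeal := by
        have := (hlie M).ge ha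
        exact this
      have h2 : x ⊗ₜ[A] p - i (a • p) = (x - algebraMap A H a) ⊗ₜ[A] 1 * (1 ⊗ₜ[A] p) := by
        show x ⊗ₜ[A] p - (1 : H) ⊗ₜ[A] (a • p) = _
        rw [← TensorProduct.smul_tmul, ← TensorProduct.sub_tmul, Algebra.TensorProduct.tmul_mul_tmul,
          mul_one, one_mul, Algebra.algebraMap_eq_smul_one]
      rw [h2]
      exact Ideal.mul_mem_right _ _ h1
    | add t t' ht ht' =>
      obtain ⟨p, hp⟩ := ht
      obtain ⟨p', hp'⟩ := ht'
      exact ⟨p + p', fun M => by rw [map_add, add_sub_add_comm]; exact add_mem (hp M) (hp' M)⟩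
  refine ⟨Equiv.ofBijective (fun M => ⟨_, hmax M⟩) ⟨fun M M' h => ?_, fun N => ?_⟩⟩
  · have h' : M.asIdeal.comap i.toRingHom = M'.asIdeal.comap i.toRingHom :=
      congrArg MaximalSpectrum.asIdeal h
    refine MaximalSpectrum.ext (Ideal.ext fun t => ?_)
    obtain ⟨p, hp⟩ := key t
    rw [← sub_add_cancel t (i p), Ideal.add_mem_iff_right _ (hp M),
      Ideal.add_mem_iff_right _ (hp M')]
    exact Ideal.ext_iff.mp h' p
  · let Nf := P ⧸ N.asIdeal
    have := N.isMaximal
    let := Ideal.Quotient.field N.asIdeal
    have hker : RingHom.ker (algebraMap A Nf) = maximalIdeal A := (isMaximal_iff A).mp (by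
      rw [IsScalarTower.algebraMap_eq A P Nf, ← RingHom.comap_ker, Ideal.Quotient.algebraMap_eq,
        Ideal.mk_ker]
      exact Ideal.isMaximal_comap_of_isIntegral_of_isMaximal N.asIdeal)
    have hres : Function.Bijective (ResidueField.map (algebraMap A H)) := by
      refine ⟨RingHom.injective _, fun y => ?_⟩
      obtain ⟨x, rfl⟩ := residue_surjective y
      obtain ⟨a, ha⟩ := hm x
      exact ⟨residue A a, (Ideal.Quotient.eq.mpr ha).symm⟩
    let e := RingEquiv.ofBijective _ hres
    let l : ResidueField A →+* Nf := Ideal.Quotient.lift (maximalIdeal A) (algebraMap A Nf)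
      fun a ha => RingHom.mem_ker.mp (hker ▸ ha)
    let f : H →ₐ[A] Nf :=
      { l.comp (e.symm.toRingHom.comp (residue H)) with
        commutes' := fun a => by
          have : e.symm (residue H (algebraMap A H a)) = residue A a := e.symm_apply_eq.mpr rfl
          show l (e.symm (residue H (algebraMap A H a))) = _
          rw [this]; rfl }
    let F := Algebra.TensorProduct.lift f (Ideal.Quotient.mkₐ A N.asIdeal) fun _ _ => Commute.all _ _
    have hF : Function.Surjective F := fun y => by
      obtain ⟨p, rfl⟩ := Ideal.Quotient.mk_surjective y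
      exact ⟨1 ⊗ₜ p, by simp [F]; rfl⟩
    refine ⟨⟨RingHom.ker F.toRingHom, RingHom.ker_isMaximal_of_surjective F.toRingHom hF⟩,
      MaximalSpectrum.ext ?_⟩
    show (RingHom.ker F.toRingHom).comap i.toRingHom = N.asIdeal
    rw [RingHom.comap_ker]
    refine Eq.trans ?_ (Ideal.mk_ker (I := N.asIdeal))
    congr 1
    ext p
    simp [F, i]
    rfl

omit [IsLocalRing A] [IsLocalHom (algebraMap A H)] in
/-- Maximal ideals over a ring with separably closed residue field are embeddings into an algebraic
closure. -/
theorem nonempty_maximalSpectrum_tensor_equiv_algHom [IsSepClosed (ResidueField H)]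
    (K : Type v) [Field K] [IsAlgClosed K] [Algebra A K] (ψ : H →ₐ[A] K)
    (hψ : RingHom.ker ψ = maximalIdeal H) :
    Nonempty (MaximalSpectrum (H ⊗[A] P) ≃ (P →ₐ[A] K)) := by
  let T := H ⊗[A] P
  let : Algebra (ResidueField H) K :=
    (Ideal.Quotient.lift (maximalIdeal H) ψ.toRingHom
      fun x hx => RingHom.mem_ker.mp (hψ.ge hx)).toAlgebra
  have hk : ∀ x : H, algebraMap (ResidueField H) K (residue H x) = ψ x := fun _ => rfl
  have : Algebra.IsIntegral H T := inferInstance
  let L : (P →ₐ[A] K) → T →ₐ[A] K := fun f =>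
    Algebra.TensorProduct.lift ψ f fun _ _ => Commute.all _ _
  have hL : ∀ f x, L f (algebraMap H T x) = ψ x := fun f x => by simp [L, T]
  have hmax : ∀ f, (RingHom.ker (L f).toRingHom).IsMaximal := fun f => by
    have : (RingHom.ker (L f).toRingHom).IsPrime := RingHom.ker_isPrime _
    refine Ideal.isMaximal_of_isIntegral_of_isMaximal_comap (R := H) _ ?_
    rw [RingHom.comap_ker, show (L f).toRingHom.comp (algebraMap H T) = ψ.toRingHom from
      RingHom.ext (hL f)]
    show (RingHom.ker ψ).IsMaximal
    rw [hψ]; infer_instance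
  refine ⟨(Equiv.ofBijective (fun f => (⟨_, hmax f⟩ : MaximalSpectrum T)) ⟨fun f g h => ?_,
    fun M => ?_⟩).symm⟩
  · have hker : RingHom.ker (L f).toRingHom = RingHom.ker (L g).toRingHom :=
      congrArg MaximalSpectrum.asIdeal h
    let M := RingHom.ker (L f).toRingHom
    have := hmax f
    let := Ideal.Quotient.field M
    let lift : ∀ (φ : T →ₐ[A] K), M ≤ RingHom.ker φ.toRingHom → (T ⧸ M →+* K) := fun φ hφ =>
      Ideal.Quotient.lift M φ.toRingHom fun t ht => RingHom.mem_ker.mp (hφ ht)
    have hM : maximalIdeal H ≤ M.comap (algebraMap H T) := fun x hx => by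
      show L f (algebraMap H T x) = 0
      rw [hL]; exact RingHom.mem_ker.mp (hψ.ge hx)
    let : Algebra (ResidueField H) (T ⧸ M) := (Ideal.quotientMap M (algebraMap H T) hM).toAlgebra
    have : IsScalarTower H (ResidueField H) (T ⧸ M) :=
      IsScalarTower.of_algebraMap_eq fun _ => rfl
    have : Algebra.IsIntegral (ResidueField H) (T ⧸ M) := Algebra.IsIntegral.tower_top (R := H)
    have : Algebra.IsAlgebraic (ResidueField H) (T ⧸ M) := Algebra.IsIntegral.isAlgebraic
    have hc : ∀ (φ : P →ₐ[A] K) (hφ : M ≤ RingHom.ker (L φ).toRingHom) (y : ResidueField H),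
        lift (L φ) hφ (algebraMap _ (T ⧸ M) y) = algebraMap _ K y := fun φ hφ y => by
      obtain ⟨x, rfl⟩ := residue_surjective y
      exact hL φ x
    let uf : T ⧸ M →ₐ[ResidueField H] K :=
      { lift (L f) le_rfl with commutes' := hc f le_rfl }
    let ug : T ⧸ M →ₐ[ResidueField H] K :=
      { lift (L g) hker.le with commutes' := hc g hker.le }
    have huv : uf = ug := Subsingleton.elim _ _
    refine AlgHom.ext fun p => ?_
    have h := DFunLike.congr_fun huv (Ideal.Quotient.mk M (1 ⊗ₜ p))
    have hLp : ∀ φ, L φ (1 ⊗ₜ p) = φ p := fun φ => by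
      show (Algebra.TensorProduct.lift ψ φ fun _ _ => Commute.all _ _) ((1 : H) ⊗ₜ[A] p) = φ p
      rw [Algebra.TensorProduct.lift_tmul, map_one, one_mul]
    rw [← hLp f, ← hLp g]
    exact h
  · have := M.isMaximal
    let := Ideal.Quotient.field M.asIdeal
    have hlie : M.asIdeal.comap (algebraMap H T) = maximalIdeal H :=
      (isMaximal_iff H).mp (Ideal.isMaximal_comap_of_isIntegral_of_isMaximal M.asIdeal)
    let : Algebra (ResidueField H) (T ⧸ M.asIdeal) :=
      (Ideal.quotientMap M.asIdeal (algebraMap H T) hlie.ge).toAlgebra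
    have : IsScalarTower H (ResidueField H) (T ⧸ M.asIdeal) :=
      IsScalarTower.of_algebraMap_eq fun _ => rfl
    have : Algebra.IsIntegral (ResidueField H) (T ⧸ M.asIdeal) :=
      Algebra.IsIntegral.tower_top (R := H)
    have : Algebra.IsAlgebraic (ResidueField H) (T ⧸ M.asIdeal) := Algebra.IsIntegral.isAlgebraic
    let v : T ⧸ M.asIdeal →ₐ[ResidueField H] K := IsAlgClosed.lift
    let g : P →ₐ[A] K :=
      { v.toRingHom.comp ((Ideal.Quotient.mk M.asIdeal).comp
          (Algebra.TensorProduct.includeRight : P →ₐ[A] T).toRingHom) with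
        commutes' := fun a => by
          show v (Ideal.Quotient.mk M.asIdeal
            ((Algebra.TensorProduct.includeRight : P →ₐ[A] T) (algebraMap A P a))) = _
          rw [AlgHom.commutes, IsScalarTower.algebraMap_apply A H T, ← ψ.commutes]
          exact (v.commutes (residue H (algebraMap A H a))).trans (hk _) }
    refine ⟨g, MaximalSpectrum.ext (((hmax g).eq_of_le M.isMaximal.ne_top fun t ht => ?_))⟩
    have hv : (L g).toRingHom = v.toRingHom.comp (Ideal.Quotient.mk M.asIdeal) := by
      refine RingHom.ext fun t => ?_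
      induction t using TensorProduct.induction_on with
      | zero => exact (map_zero _).trans (map_zero _).symm
      | add a b ha hb => rw [map_add, map_add, ha, hb]
      | tmul x p =>
        have hx : x ⊗ₜ[A] p = algebraMap H T x * ((1 : H) ⊗ₜ[A] p) := by
          show x ⊗ₜ[A] p = (x ⊗ₜ[A] (1 : P)) * ((1 : H) ⊗ₜ[A] p)
          rw [Algebra.TensorProduct.tmul_mul_tmul, mul_one, one_mul]
        rw [hx, map_mul, map_mul]
        congr 1
        · exact ((hL g x).trans (hk x).symm).trans (v.commutes (residue H x)).symm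
        · show (Algebra.TensorProduct.lift ψ g fun _ _ => Commute.all _ _) ((1 : H) ⊗ₜ[A] p) = _
          rw [Algebra.TensorProduct.lift_tmul, map_one, one_mul]
          rfl
    rw [hv, RingHom.mem_ker, RingHom.comp_apply, map_eq_zero,
      Ideal.Quotient.eq_zero_iff_mem] at ht
    exact ht

omit [IsLocalRing A] [IsLocalRing H] [IsLocalHom (algebraMap A H)] in
/-- Infinitely many minimal primes lift to infinitely many ones along faithfully flat maps. -/
theorem card_minimalPrimes_eq_top [Module.FaithfullyFlat A H] (h : ¬ (minimalPrimes A).Finite) :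
    ENat.card (minimalPrimes H) = ⊤ := by
  have : Infinite (minimalPrimes A) := Set.infinite_coe_iff.mpr h
  have hex : ∀ p : minimalPrimes A, ∃ P : minimalPrimes H, P.1.comap (algebraMap A H) = p.1 := fun p => by
    have := p.2.1.1
    obtain ⟨P, hP⟩ := PrimeSpectrum.comap_surjective_of_faithfullyFlat (A := A) (B := H) ⟨p.1, inferInstance⟩
    obtain ⟨P₀, hP₀, hle⟩ := Ideal.exists_minimalPrimes_le (I := ⊥) (J := P.asIdeal) bot_le
    refine ⟨⟨P₀, hP₀⟩, ?_⟩
    have hle' : P₀.comap (algebraMap A H) ≤ p.1 :=
      (Ideal.comap_mono hle).trans (le_of_eq (congrArg PrimeSpectrum.asIdeal hP))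
    have := hP₀.1.1
    exact le_antisymm hle' (p.2.2 ⟨inferInstance, bot_le⟩ hle')
  choose F hF using hex
  have : Infinite (minimalPrimes H) := Infinite.of_injective F fun p p' h => Subtype.ext (by
    rw [← hF p, ← hF p', h])
  exact ENat.card_eq_top_of_infinite

variable (A)

theorem nonempty_sigma_emb_equiv :
    letI : Algebra A (AlgebraicClosure (ResidueField A)) := (Brnch.toClosure A).toAlgebra
    Nonempty ((Σ m' : MaximalSpectrum (CAlg2.normRed A), Brnch.Emb A m') ≃
      (CAlg2.normRed A →ₐ[A] AlgebraicClosure (ResidueField A))) := by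
  let : Algebra A (AlgebraicClosure (ResidueField A)) := (Brnch.toClosure A).toAlgebra
  let N := CAlg2.normRed A
  have : Algebra.IsIntegral A N := by
    obtain ⟨e⟩ := nonempty_integralClosure_algEquiv_normRed A
    exact ⟨fun x => by
      simpa using (Algebra.IsIntegral.isIntegral (R := A) (e.symm x)).map e.toAlgHom⟩
  have hto : ∀ (m' : MaximalSpectrum N) (a : A),
      Ideal.Quotient.mk m'.asIdeal (algebraMap A N a) = Brnch.toResidue A m' a := fun _ _ => rfl
  let G : (Σ m' : MaximalSpectrum N, Brnch.Emb A m') → (N →ₐ[A] AlgebraicClosure (ResidueField A)) :=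
    fun z =>
      { z.2.1.comp (Ideal.Quotient.mk z.1.asIdeal) with
        commutes' := fun a => by
          show z.2.1 (Ideal.Quotient.mk z.1.asIdeal (algebraMap A N a)) = Brnch.toClosure A a
          rw [hto]
          exact RingHom.congr_fun z.2.2 a }
  have hker : ∀ z, RingHom.ker (G z).toRingHom = z.1.asIdeal := fun z => by
    have := z.1.isMaximal
    refine (this.eq_of_le (RingHom.ker_ne_top _) fun x hx => ?_).symm
    show z.2.1 (Ideal.Quotient.mk z.1.asIdeal x) = 0
    rw [Ideal.Quotient.eq_zero_iff_mem.mpr hx, map_zero]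
  refine ⟨Equiv.ofBijective G ⟨?_, fun f => ?_⟩⟩
  · rintro ⟨m, σ⟩ ⟨m', σ'⟩ h
    obtain rfl : m = m' := MaximalSpectrum.ext (by rw [← hker ⟨m, σ⟩, h, hker ⟨m', σ'⟩])
    congr 1
    exact Subtype.ext (Ideal.Quotient.ringHom_ext (congrArg AlgHom.toRingHom h))
  · have hm : (RingHom.ker f.toRingHom).IsMaximal := by
      have : (RingHom.ker f.toRingHom).IsPrime := RingHom.ker_isPrime _
      refine Ideal.isMaximal_of_isIntegral_of_isMaximal_comap (R := A) _ ?_
      rw [RingHom.comap_ker, AlgHom.toRingHom_eq_coe, AlgHom.comp_algebraMap]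
      show (RingHom.ker (Brnch.toClosure A)).IsMaximal
      have hkc : RingHom.ker (Brnch.toClosure A) = maximalIdeal A := by
        ext a
        show algebraMap (ResidueField A) (AlgebraicClosure (ResidueField A)) (residue A a) = 0 ↔ _
        rw [map_eq_zero, residue_eq_zero_iff]
      rw [hkc]
      infer_instance
    refine ⟨⟨⟨_, hm⟩, ⟨Ideal.Quotient.lift _ f.toRingHom fun x hx => hx, ?_⟩⟩,
      AlgHom.ext fun x => rfl⟩
    ext a
    rw [RingHom.comp_apply, ← hto]
    exact f.commutes a

end Groth.Agent.H9Hens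

namespace Groth.Agent.H9Hens

universe u v

open TensorProduct IsLocalRing

theorem nonempty_maximalSpectrum_congr {R S : Type*} [CommRing R] [CommRing S] (e : R ≃+* S) :
    Nonempty (MaximalSpectrum R ≃ MaximalSpectrum S) :=
  ⟨{ toFun := fun M => ⟨M.asIdeal.comap e.symm.toRingHom,
        @Ideal.comap_isMaximal_of_surjective _ _ _ _ _ _ _ _ e.symm.surjective _ M.isMaximal⟩
     invFun := fun M => ⟨M.asIdeal.comap e.toRingHom,
        @Ideal.comap_isMaximal_of_surjective _ _ _ _ _ _ _ _ e.surjective _ M.isMaximal⟩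
     left_inv := fun M => MaximalSpectrum.ext (Ideal.ext fun x => by
       show e.symm (e x) ∈ M.asIdeal ↔ x ∈ M.asIdeal
       rw [e.symm_apply_apply])
     right_inv := fun M => MaximalSpectrum.ext (Ideal.ext fun x => by
       show e (e.symm x) ∈ M.asIdeal ↔ x ∈ M.asIdeal
       rw [e.apply_symm_apply]) }⟩

/-- Minimal primes of a colimit of pointed etale algebras which is henselian local are the maximal
ideals of its tensor product with the integral closure of `A` in the fraction ring of `A_red`. -/
theorem IsPtColim.nonempty_minimalPrimes_equiv {A : Type u} [CommRing A] {k : Type u} [CommRing k]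
    [Algebra A k] {H : Type u} [CommRing H] [Algebra A H] [HenselianLocalRing H] {π : H →ₐ[A] k}
    (hH : IsPtColim π) (hfin : (minimalPrimes A).Finite) :
    Nonempty (minimalPrimes H ≃
      MaximalSpectrum (H ⊗[A] integralClosure A (FractionRing (CAlg2.red A)))) := by
  have := fractionRing_red_isArtinianRing A hfin
  obtain ⟨e₁⟩ := hH.nonempty_primeSpectrum_equiv_minimalPrimes (fractionRing_red_exists A)
    (fractionRing_red_comap_mem A hfin) (fractionRing_red_lift A)
  obtain ⟨e₂⟩ := hH.nonempty_primeSpectrum_equiv_maximalSpectrum (fractionRing_red_exists A)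
    (fractionRing_red_comap_mem A hfin)
  exact ⟨e₁.symm.trans e₂⟩

variable (A S : Type u) [CommRing A] [IsLocalRing A] [CommRing S] [IsLocalRing S] [Algebra A S]
  [IsLocalHom (algebraMap A S)]

/-- The minimal primes of the henselization count the branches. -/
theorem card_minimalPrimes_henselization [Hensel.IsHenselization A S] :
    ENat.card (minimalPrimes S) = Brnch.numBranches A := by
  obtain ⟨π, hπ⟩ := exists_isPtColim_of_isHenselization (R := A) S
  have := hπ.faithfullyFlat (ker_algebraMap_residueField (R := A))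
  have := Hensel.IsHenselization.henselian (R := A) (S := S)
  unfold Brnch.numBranches
  by_cases hfin : (minimalPrimes A).Finite
  · rw [if_pos hfin]
    obtain ⟨e₁⟩ := hπ.nonempty_minimalPrimes_equiv hfin
    have hm : ∀ x : S, ∃ a : A, x - algebraMap A S a ∈ maximalIdeal S := fun x => by
      obtain ⟨a, ha⟩ := residue_surjective (π x)
      refine ⟨a, ?_⟩
      rw [hπ.maximalIdeal_eq, RingHom.mem_ker, map_sub, π.commutes, ← ha]
      exact sub_self _
    obtain ⟨e₂⟩ := nonempty_maximalSpectrum_tensor_equiv
      (integralClosure A (FractionRing (CAlg2.red A))) hm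
    obtain ⟨e₃⟩ := nonempty_integralClosure_algEquiv_normRed A
    obtain ⟨e₄⟩ := nonempty_maximalSpectrum_congr e₃.toRingEquiv
    exact ENat.card_congr (e₁.trans (e₂.trans e₄))
  · rw [if_neg hfin]
    exact card_minimalPrimes_eq_top hfin

/-- The minimal primes of the strict henselization count the geometric branches. -/
theorem card_minimalPrimes_strictHenselization [Hensel.IsStrictHenselization A S] :
    ENat.card (minimalPrimes S) = Brnch.numGeomBranches A := by
  obtain ⟨k, _, _, _, _, _, π, hπ⟩ := exists_isPtColim_of_isStrictHenselization (R := A) S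
  have := hπ.faithfullyFlat (ker_algebraMap_of_tower (R := A) (k := k))
  have := Hensel.IsStrictHenselization.henselian (R := A) (S := S)
  have hsc := Hensel.IsStrictHenselization.isSepClosure (R := A) (S := S)
  have := hsc.1
  have := hsc.2
  unfold Brnch.numGeomBranches
  by_cases hfin : (minimalPrimes A).Finite
  · rw [if_pos hfin]
    obtain ⟨e₁⟩ := hπ.nonempty_minimalPrimes_equiv hfin
    let : Algebra A (AlgebraicClosure (ResidueField A)) := (Brnch.toClosure A).toAlgebra
    let j : ResidueField S →ₐ[ResidueField A] AlgebraicClosure (ResidueField A) := IsAlgClosed.lift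
    let ψ : S →ₐ[A] AlgebraicClosure (ResidueField A) :=
      { j.toRingHom.comp (residue S) with
        commutes' := fun a => by
          show j (residue S (algebraMap A S a)) = Brnch.toClosure A a
          exact j.commutes (residue A a) }
    have hψ : RingHom.ker ψ = maximalIdeal S := by
      ext x
      show j (residue S x) = 0 ↔ _
      rw [map_eq_zero, residue_eq_zero_iff]
    obtain ⟨e₂⟩ := nonempty_maximalSpectrum_tensor_equiv_algHom
      (integralClosure A (FractionRing (CAlg2.red A))) (AlgebraicClosure (ResidueField A)) ψ hψ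
    obtain ⟨e₃⟩ := nonempty_integralClosure_algEquiv_normRed A
    obtain ⟨e₄⟩ := nonempty_sigma_emb_equiv A
    exact ENat.card_congr (e₁.trans (e₂.trans ((AlgEquiv.arrowCongr e₃ AlgEquiv.refl).trans e₄.symm)))
  · rw [if_neg hfin]
    exact card_minimalPrimes_eq_top hfin

end Groth.Agent.H9Hens
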