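import Groth.Agent.H9Hens.EtaleLift
import Mathlib.RingTheory.Etale.Basic

/-!
Etale neighbourhoods of `Spec (A/I)`: localising an etale algebra with a section so that it becomes
an isomorphism modulo `I`.
-/

namespace Groth.Agent.H9Hens

universe u v

variable {A : Type u} [CommRing A] {I : Ideal A}

/-- `A' / IA'` is `A / I` exactly when the structure map is surjective modulo `IA'` and a retraction
to `A / I` exists. -/
theorem quotientMap_bijective_of {A' : Type v} [CommRing A'] [Algebra A A'] (σ : A' →ₐ[A] A ⧸ I)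
    (hsurj : ∀ x : A', ∃ a : A, x - algebraMap A A' a ∈ I.map (algebraMap A A')) :
    Function.Bijective (Ideal.quotientMap (I.map (algebraMap A A')) (algebraMap A A')
      Ideal.le_comap_map) := by
  refine ⟨(injective_iff_map_eq_zero _).mpr fun y hy => ?_, fun y => ?_⟩
  · obtain ⟨a, rfl⟩ := Ideal.Quotient.mk_surjective y
    rw [Ideal.quotientMap_mk, Ideal.Quotient.eq_zero_iff_mem] at hy
    have hle : I.map (algebraMap A A') ≤ RingHom.ker σ := Ideal.map_le_iff_le_comap.mpr fun b hb =>
      by simp [Ideal.mem_comap, RingHom.mem_ker, σ.commutes, Ideal.Quotient.eq_zero_iff_mem, hb]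
    have := RingHom.mem_ker.mp (hle hy)
    rwa [σ.commutes] at this
  · obtain ⟨x, rfl⟩ := Ideal.Quotient.mk_surjective y
    obtain ⟨a, ha⟩ := hsurj x
    exact ⟨Ideal.Quotient.mk I a, by rw [Ideal.quotientMap_mk]; exact (Ideal.Quotient.eq.mpr ha).symm⟩

/-- If `A' / IA'` is `A / I`, a section `A' → A / I` computes the reduction modulo `IA'`. -/
theorem mk_eq_quotientMap_section {A' : Type v} [CommRing A'] [Algebra A A']
    (hb : Function.Surjective (Ideal.quotientMap (I.map (algebraMap A A')) (algebraMap A A')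
      Ideal.le_comap_map)) (σ : A' →ₐ[A] A ⧸ I) (x : A') :
    Ideal.Quotient.mk (I.map (algebraMap A A')) x =
      Ideal.quotientMap (I.map (algebraMap A A')) (algebraMap A A') Ideal.le_comap_map (σ x) := by
  obtain ⟨y, hy⟩ := hb (Ideal.Quotient.mk _ x)
  obtain ⟨a, rfl⟩ := Ideal.Quotient.mk_surjective y
  have hle : I.map (algebraMap A A') ≤ RingHom.ker σ := Ideal.map_le_iff_le_comap.mpr fun b hb =>
    by simp [Ideal.mem_comap, RingHom.mem_ker, σ.commutes, Ideal.Quotient.eq_zero_iff_mem, hb]
  rw [Ideal.quotientMap_mk, Ideal.Quotient.eq] at hy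
  have h1 := RingHom.mem_ker.mp (hle hy)
  rw [map_sub, σ.commutes, sub_eq_zero] at h1
  rw [← h1, Ideal.Quotient.algebraMap_eq, Ideal.quotientMap_mk]
  exact (Ideal.Quotient.eq.mpr hy).symm

/-- If `A' / IA'` is `A / I`, then `A'` has a section to `A / I`. -/
theorem exists_section_of_bijective {A' : Type v} [CommRing A'] [Algebra A A']
    (hb : Function.Bijective (Ideal.quotientMap (I.map (algebraMap A A')) (algebraMap A A')
      Ideal.le_comap_map)) :
    Nonempty (A' →ₐ[A] A ⧸ I) :=
  ⟨{ (RingEquiv.ofBijective _ hb).symm.toRingHom.comp (Ideal.Quotient.mk _) with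
      commutes' := fun a => (RingEquiv.symm_apply_eq (RingEquiv.ofBijective _ hb)).mpr
        (by rw [RingEquiv.ofBijective_apply, Ideal.Quotient.algebraMap_eq, Ideal.quotientMap_mk]) }⟩

/-- If `A' / IA'` is `A / I`, the section `A' → A / I` is unique. -/
theorem section_unique {A' : Type v} [CommRing A'] [Algebra A A']
    (hb : Function.Bijective (Ideal.quotientMap (I.map (algebraMap A A')) (algebraMap A A')
      Ideal.le_comap_map)) (σ τ : A' →ₐ[A] A ⧸ I) : σ = τ :=
  AlgHom.ext fun x => hb.1 ((mk_eq_quotientMap_section hb.2 σ x).symm.trans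
    (mk_eq_quotientMap_section hb.2 τ x))

/-- An etale algebra with a section modulo `I` has an etale localization which is an isomorphism
modulo `I`, on which any prescribed element invertible at the section becomes a unit. -/
theorem exists_etale_nbhd (S : Type u) [CommRing S] [Algebra A S] [Algebra.Etale A S]
    (σ : S →ₐ[A] A ⧸ I) (s : S) (hs : IsUnit (σ s)) :
    ∃ (T : Type u) (_ : CommRing T) (_ : Algebra A T) (_ : Algebra.Etale A T)
      (ψ : S →ₐ[A] T) (σT : T →ₐ[A] A ⧸ I),
      Function.Bijective (Ideal.quotientMap (I.map (algebraMap A T)) (algebraMap A T)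
        Ideal.le_comap_map) ∧ σT.comp ψ = σ ∧ IsUnit (ψ s) := by
  obtain ⟨f, hf1, hfy⟩ := exists_section_idem σ
  have hu : IsUnit (σ (f * s)) := by rw [map_mul, hf1, one_mul]; exact hs
  let T := Localization.Away (f * s)
  have : Algebra.Etale S T := Algebra.Etale.of_isLocalizationAway (f * s)
  have : Algebra.Etale A T := Algebra.Etale.comp A S T
  let ψ : S →ₐ[A] T := IsScalarTower.toAlgHom A S T
  let σT : T →ₐ[A] A ⧸ I := IsLocalization.Away.liftAlgHom (f * s) (f := σ) hu
  have hσT : σT.comp ψ = σ := AlgHom.ext fun x => by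
    show IsLocalization.Away.liftAlgHom (f * s) (f := σ) hu (algebraMap S T x) = σ x
    simp
  have hufs : IsUnit (algebraMap S T (f * s)) := IsLocalization.Away.algebraMap_isUnit _
  rw [map_mul, IsUnit.mul_iff] at hufs
  refine ⟨T, inferInstance, inferInstance, inferInstance, ψ, σT, quotientMap_bijective_of σT ?_,
    hσT, hufs.2⟩
  have hmapIS : ∀ y ∈ I.map (algebraMap A S), algebraMap S T y ∈ I.map (algebraMap A T) := by
    intro y hy
    have := Ideal.mem_map_of_mem (algebraMap S T) hy
    rwa [Ideal.map_map, ← IsScalarTower.algebraMap_eq] at this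
  have hstep : ∀ x : S, ∃ a : A, algebraMap S T x - algebraMap A T a ∈ I.map (algebraMap A T) := by
    intro x
    obtain ⟨a, ha⟩ := Ideal.Quotient.mk_surjective (σ x)
    refine ⟨a, ?_⟩
    have h1 := hmapIS _ (hfy (x - algebraMap A S a) (by
      rw [map_sub, σ.commutes, ← ha]; exact sub_self _))
    rw [map_mul, map_sub, ← IsScalarTower.algebraMap_apply] at h1
    exact (Ideal.unit_mul_mem_iff_mem _ hufs.1).mp h1
  intro z
  obtain ⟨n, x, hz⟩ := IsLocalization.Away.surj (f * s) z
  obtain ⟨a, ha⟩ := hstep x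
  obtain ⟨b, hb⟩ := hstep ((f * s) ^ n)
  obtain ⟨c, hc⟩ := hu
  have hb' : Ideal.Quotient.mk I b = σ (f * s) ^ n := by
    have hle : I.map (algebraMap A T) ≤ RingHom.ker σT := Ideal.map_le_iff_le_comap.mpr fun r hr =>
      by simp [Ideal.mem_comap, RingHom.mem_ker, σT.commutes, Ideal.Quotient.eq_zero_iff_mem, hr]
    have h1 := RingHom.mem_ker.mp (hle hb)
    rw [map_sub, σT.commutes, sub_eq_zero] at h1
    rw [← Ideal.Quotient.algebraMap_eq, ← h1, ← map_pow, ← hσT]
    rfl
  obtain ⟨d, hd⟩ := Ideal.Quotient.mk_surjective (I := I) ((c⁻¹ : (A ⧸ I)ˣ) : A ⧸ I)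
  refine ⟨a * d ^ n, ?_⟩
  have hbd : b * d ^ n - 1 ∈ I := by
    rw [← Ideal.Quotient.eq, map_mul, map_pow, hb', hd, ← mul_pow, ← hc, Units.mul_inv, one_pow,
      map_one]
  rw [← Ideal.Quotient.eq] at ha hb ⊢
  have hbd' := Ideal.Quotient.eq.mpr (Ideal.mem_map_of_mem (algebraMap A T) hbd |>
    fun h => (by rwa [map_sub, map_mul, map_one] at h :
      algebraMap A T b * algebraMap A T (d ^ n) - 1 ∈ I.map (algebraMap A T)))
  have hz' := congrArg (Ideal.Quotient.mk (I.map (algebraMap A T))) hz
  rw [map_mul, ← map_pow, hb, ha] at hz'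
  rw [map_mul, map_mul, ← hz', mul_assoc, ← map_mul]
  rw [map_mul, map_one] at hbd'
  rw [map_mul, hbd', mul_one]

end Groth.Agent.H9Hens
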