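import Groth.Agent.H9Hens.Pair
import Mathlib.LinearAlgebra.Matrix.Charpoly.Coeff

/-!
Idempotent matrices lift along henselian pairs.
-/

namespace Groth.Agent.H9Hens

universe u

open Polynomial

/-- Over a henselian pair, an idempotent matrix modulo `I` lifts to an idempotent matrix. -/
theorem exists_idem_matrix_lift {A : Type u} [CommRing A] {I : Ideal A} [HenselianRing A I]
    {n : Type*} [Fintype n] [DecidableEq n] (e : Matrix n n (A ⧸ I)) (he : IsIdempotentElem e) :
    ∃ E : Matrix n n A, IsIdempotentElem E ∧ E.map (Ideal.Quotient.mk I) = e := by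
  let π := (Ideal.Quotient.mkₐ A I).mapMatrix (m := n)
  obtain ⟨M, hM⟩ : ∃ M : Matrix n n A, π M = e := by
    choose M hM using fun i j => Ideal.Quotient.mk_surjective (e i j)
    exact ⟨Matrix.of M, Matrix.ext hM⟩
  let G : A[X] := ((M * M - M).charpoly * X).comp (X ^ 2 - X)
  have hD : π (M * M - M) = 0 := by rw [map_sub, map_mul, hM, he.eq, sub_self]
  have hG : aeval M G = 0 := by
    rw [aeval_comp, map_mul, show aeval M (X ^ 2 - X : A[X]) = M * M - M by simp [pow_two],
      Matrix.aeval_self_charpoly, zero_mul]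
  have hXm : (X ^ 2 - X : A[X]).Monic := monic_X_pow_sub (by
    exact lt_of_le_of_lt degree_X_le (by norm_num))
  have hGm : G.Monic := by
    rcases subsingleton_or_nontrivial A with h | h
    · exact Subsingleton.elim _ _
    refine ((Matrix.charpoly_monic _).mul monic_X).comp hXm ?_
    rw [natDegree_sub_eq_left_of_natDegree_lt (by simp)]
    simp
  have hGI : G.map (Ideal.Quotient.mk I) =
      X ^ (Fintype.card n + 1) * (X - 1) ^ (Fintype.card n + 1) := by
    rw [map_comp, Polynomial.map_mul, ← Matrix.charpoly_map]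
    have : (M * M - M).map (Ideal.Quotient.mk I) = 0 := hD
    rw [this, Matrix.charpoly_zero, Polynomial.map_X, ← pow_succ, pow_comp, X_comp,
      Polynomial.map_sub, Polynomial.map_pow, Polynomial.map_X, ← mul_pow]
    congr 1
    ring
  have hcop : IsCoprime ((X : (A ⧸ I)[X]) ^ (Fintype.card n + 1))
      ((X - 1) ^ (Fintype.card n + 1)) :=
    (show IsCoprime (X : (A ⧸ I)[X]) (X - 1) from ⟨1, -1, by ring⟩).pow
  obtain ⟨g, h, -, -, ⟨u, v, huv⟩, hgh, hg, hh⟩ := exists_monic_factor_lift hGm
    (monic_X_pow _) ((monic_X_sub_C (1 : A ⧸ I)).pow _ |> fun h => by simpa using h) hcop hGI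
  refine ⟨aeval M (u * g), ?_, ?_⟩
  · show aeval M (u * g) * aeval M (u * g) = aeval M (u * g)
    rw [← sub_eq_zero, ← map_mul, ← map_sub]
    have : u * g * (u * g) - u * g = -(u * v) * G := by
      linear_combination (u * g) * huv + (u * v) * hgh
    rw [this, map_mul, hG, mul_zero]
  · show π (aeval M (u * g)) = e
    have hmap : ∀ p : A[X], π (aeval M p) = aeval e (p.map (algebraMap A (A ⧸ I))) := fun p => by
      rw [← aeval_algHom_apply, hM, aeval_map_algebraMap]
    have hpow : ∀ k, e ^ (k + 1) = e := fun k => he.pow_succ_eq k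
    have hge : π (aeval M g) = e := by
      rw [hmap, Ideal.Quotient.algebraMap_eq, hg, map_pow, aeval_X, hpow]
    have hhe : e * π (aeval M h) = 0 := by
      rw [hmap, Ideal.Quotient.algebraMap_eq, hh, map_pow, map_sub, aeval_X, map_one, pow_succ',
        ← mul_assoc, mul_sub, mul_one, he.eq, sub_self, zero_mul]
    have h1 : π (aeval M (u * g)) + π (aeval M (v * h)) = 1 := by
      rw [← map_add, ← map_add, huv, map_one, map_one]
    have h2 : e * π (aeval M (u * g)) = π (aeval M (u * g)) := by
      rw [mul_comm u g, map_mul, map_mul, ← mul_assoc, hge, he.eq]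
    have h3 : e * π (aeval M (v * h)) = 0 := by
      rw [mul_comm v h, map_mul, map_mul, ← mul_assoc, hhe, zero_mul]
    calc π (aeval M (u * g)) = e * π (aeval M (u * g)) + e * π (aeval M (v * h)) := by
          rw [h2, h3, add_zero]
      _ = e := by rw [← mul_add, h1, mul_one]

end Groth.Agent.H9Hens
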