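import Groth.Agent.H9Hens.PtConstruct
import Groth.Agent.H9Hens.EtNbhd
import Groth.Prelude.Def_Hens2

/-!
Henselization of pairs: existence and description as a colimit of etale algebras.
-/

namespace Groth.Agent.H9Hens

universe u

variable {A : Type u} [CommRing A] {I : Ideal A}

/-- Elements of the colimit of pointed etale algebras over `A / I` come from etale neighbourhoods. -/
theorem IsPtColim.exists_rep_nbhd {H : Type u} [CommRing H] [Algebra A H] {π : H →ₐ[A] A ⧸ I}
    (hH : IsPtColim π) (x : H) :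
    ∃ (S : Type u) (_ : CommRing S) (_ : Algebra A S) (_ : Algebra.Etale A S),
      Function.Bijective (Ideal.quotientMap (I.map (algebraMap A S)) (algebraMap A S)
        Ideal.le_comap_map) ∧ ∃ (φ : S →ₐ[A] H) (s : S), φ s = x := by
  obtain ⟨S, _, _, _, φ, s, rfl⟩ := hH.exists_rep x
  obtain ⟨T, _, _, hT, ψ, σT, hb, hσ, -⟩ := exists_etale_nbhd (I := I) S (π.comp φ) 1
    (by rw [map_one]; exact isUnit_one)
  obtain ⟨φT, hφT⟩ := hH.exists_map T σT
  have h : φT.comp ψ = φ := hH.hom_ext (by rw [← AlgHom.comp_assoc, hφT, hσ])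
  exact ⟨T, inferInstance, inferInstance, hT, hb, φT, ψ s, DFunLike.congr_fun h s⟩

/-- The kernel of the point is the extended ideal. -/
theorem IsPtColim.ker_eq_map {H : Type u} [CommRing H] [Algebra A H] {π : H →ₐ[A] A ⧸ I}
    (hH : IsPtColim π) : RingHom.ker π = I.map (algebraMap A H) := by
  refine le_antisymm (fun x hx => ?_) (Ideal.map_le_iff_le_comap.mpr fun a ha => ?_)
  · obtain ⟨T, _, _, _, hb, φ, s, rfl⟩ := hH.exists_rep_nbhd x
    obtain ⟨y, hy⟩ := hb.2 (Ideal.Quotient.mk _ s)
    obtain ⟨a, rfl⟩ := Ideal.Quotient.mk_surjective y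
    rw [Ideal.quotientMap_mk, Ideal.Quotient.eq] at hy
    have h := Ideal.mem_map_of_mem φ.toRingHom hy
    rw [Ideal.map_map, AlgHom.toRingHom_eq_coe, AlgHom.comp_algebraMap, RingHom.coe_coe,
      map_sub, AlgHom.commutes] at h
    have hle : I.map (algebraMap A H) ≤ RingHom.ker π :=
      Ideal.map_le_iff_le_comap.mpr fun b hb' => by
        simp [Ideal.mem_comap, RingHom.mem_ker, π.commutes, Ideal.Quotient.eq_zero_iff_mem, hb']
    have h0 := RingHom.mem_ker.mp (hle h)
    rw [map_sub, π.commutes, RingHom.mem_ker.mp hx, sub_zero, Ideal.Quotient.algebraMap_eq,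
      Ideal.Quotient.eq_zero_iff_mem] at h0
    have := sub_mem (Ideal.mem_map_of_mem (algebraMap A H) h0) h
    rwa [sub_sub_cancel] at this
  · simp [Ideal.mem_comap, RingHom.mem_ker, π.commutes, Ideal.Quotient.eq_zero_iff_mem, ha]

/-- The colimit of pointed etale algebras over `A / I` is a henselization of the pair. -/
theorem IsPtColim.isPairHenselization {H : Type u} [CommRing H] [Algebra A H]
    {π : H →ₐ[A] A ⧸ I} (hH : IsPtColim π) : Hens2.IsPairHenselization A I H := by
  refine ⟨hH.ker_eq_map ▸ hH.henselianRing, fun C _ J f hC hf => ?_⟩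
  let : Algebra A C := f.toAlgebra
  let ρ : (A ⧸ I) →ₐ[A] C ⧸ J := Ideal.Quotient.liftₐ I (Algebra.ofId A (C ⧸ J)) fun a ha => by
    rw [Algebra.ofId_apply, IsScalarTower.algebraMap_apply A C (C ⧸ J),
      Ideal.Quotient.algebraMap_eq, Ideal.Quotient.eq_zero_iff_mem]
    exact hf (Ideal.mem_map_of_mem f ha)
  obtain ⟨g, -, hgu⟩ := hH.existsUnique_algHom ρ
  refine ⟨g.toRingHom, g.comp_algebraMap, fun g' hg' => ?_⟩
  let g'' : H →ₐ[A] C := { g' with commutes' := fun a => RingHom.congr_fun hg' a }
  have h : g'' = g := hgu g'' (AlgHom.ext fun x => by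
    obtain ⟨a, ha⟩ := Ideal.Quotient.mk_surjective (π x)
    have hx : x - algebraMap A H a ∈ I.map (algebraMap A H) := by
      rw [← hH.ker_eq_map, RingHom.mem_ker, map_sub, π.commutes, ← ha]
      exact sub_self _
    have hle : (I.map (algebraMap A H)).map g''.toRingHom ≤ J := by
      rw [Ideal.map_map, AlgHom.toRingHom_eq_coe, AlgHom.comp_algebraMap]; exact hf
    have h1 : g'' x - algebraMap A C a ∈ J := by
      rw [← g''.commutes a, ← map_sub]
      exact hle (Ideal.mem_map_of_mem g''.toRingHom hx)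
    show Ideal.Quotient.mk J (g'' x) = ρ (π x)
    rw [← ha, Ideal.Quotient.eq.mpr h1]
    rfl)
  exact congrArg AlgHom.toRingHom h

variable (A I) in
/-- The henselization of a pair exists. -/
theorem exists_isPairHenselization :
    ∃ (H : Type u) (_ : CommRing H) (_ : Algebra A H) (π : H →ₐ[A] A ⧸ I),
      IsPtColim π ∧ Hens2.IsPairHenselization A I H := by
  obtain ⟨H, i₁, i₂, π, hπ⟩ := exists_isPtColim A (A ⧸ I)
  exact ⟨H, i₁, i₂, π, hπ, hπ.isPairHenselization⟩

/-- Henselizations of a pair are unique. -/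
theorem pairHenselization_algEquiv {H H' : Type u} [CommRing H] [Algebra A H] [CommRing H']
    [Algebra A H'] (h : Hens2.IsPairHenselization A I H) (h' : Hens2.IsPairHenselization A I H') :
    Nonempty (H ≃ₐ[A] H') := by
  obtain ⟨f, hf, -⟩ := h.2 H' _ (algebraMap A H') h'.1 le_rfl
  obtain ⟨g, hg, -⟩ := h'.2 H _ (algebraMap A H) h.1 le_rfl
  let F : H →ₐ[A] H' := { f with commutes' := fun a => RingHom.congr_fun hf a }
  let G : H' →ₐ[A] H := { g with commutes' := fun a => RingHom.congr_fun hg a }
  refine ⟨AlgEquiv.ofAlgHom F G ?_ ?_⟩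
  · exact AlgHom.coe_ringHom_injective ((h'.2 H' _ (algebraMap A H') h'.1 le_rfl).unique
      (AlgHom.comp_algebraMap (F.comp G)) (AlgHom.comp_algebraMap (AlgHom.id A H')))
  · exact AlgHom.coe_ringHom_injective ((h.2 H _ (algebraMap A H) h.1 le_rfl).unique
      (AlgHom.comp_algebraMap (G.comp F)) (AlgHom.comp_algebraMap (AlgHom.id A H)))

/-- A henselization of a pair is the colimit of pointed etale algebras. -/
theorem exists_isPtColim_of_isPairHenselization {B : Type u} [CommRing B] [Algebra A B]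
    (hB : Hens2.IsPairHenselization A I B) : ∃ π : B →ₐ[A] A ⧸ I, IsPtColim π := by
  obtain ⟨H, _, _, π, hπ, hH⟩ := exists_isPairHenselization A I
  obtain ⟨e⟩ := pairHenselization_algEquiv hH hB
  exact ⟨_, hπ.of_algEquiv e⟩

/-- The henselization of a pair does not change the quotients by powers of the ideal. -/
theorem pairHenselization_quotient_pow_bijective {B : Type u} [CommRing B] [Algebra A B]
    (hB : Hens2.IsPairHenselization A I B) (n : ℕ) :
    Function.Bijective (Ideal.quotientMap ((I ^ n).map (algebraMap A B)) (algebraMap A B)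
      Ideal.le_comap_map) := by
  rcases Nat.eq_zero_or_pos n with rfl | hn
  · have h1 : Subsingleton (A ⧸ I ^ 0) := Ideal.Quotient.subsingleton_iff.mpr (by simp)
    have h2 : Subsingleton (B ⧸ (I ^ 0).map (algebraMap A B)) :=
      Ideal.Quotient.subsingleton_iff.mpr (by rw [pow_zero, Ideal.one_eq_top, Ideal.map_top])
    exact ⟨fun _ _ _ => Subsingleton.elim _ _, fun y => ⟨0, Subsingleton.elim _ _⟩⟩
  obtain ⟨π, hπ⟩ := exists_isPtColim_of_isPairHenselization hB
  have hstep : ∀ x : B, ∃ a : A, x - algebraMap A B a ∈ I.map (algebraMap A B) := fun x => by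
    obtain ⟨a, ha⟩ := Ideal.Quotient.mk_surjective (π x)
    refine ⟨a, ?_⟩
    rw [← hπ.ker_eq_map, RingHom.mem_ker, map_sub, π.commutes, ← ha]
    exact sub_self _
  refine ⟨(injective_iff_map_eq_zero _).mpr fun y hy => ?_, fun y => ?_⟩
  · obtain ⟨a, rfl⟩ := Ideal.Quotient.mk_surjective y
    rw [Ideal.quotientMap_mk, Ideal.Quotient.eq_zero_iff_mem] at hy
    have hnil : HenselianRing (A ⧸ I ^ n) (I.map (Ideal.Quotient.mk (I ^ n))) := by
      refine henselianRing_of_isNilpotent fun x hx => ?_
      obtain ⟨z, hz, rfl⟩ :=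
        (Ideal.mem_map_iff_of_surjective _ Ideal.Quotient.mk_surjective).mp hx
      exact ⟨n, by rw [← map_pow, Ideal.Quotient.eq_zero_iff_mem]; exact Ideal.pow_mem_pow hz n⟩
    obtain ⟨g, hg, -⟩ := hB.2 (A ⧸ I ^ n) _ (Ideal.Quotient.mk (I ^ n)) hnil le_rfl
    have := Ideal.mem_map_of_mem g hy
    rwa [Ideal.map_map, hg, Ideal.map_quotient_self, ← RingHom.comp_apply, hg, Ideal.mem_bot]
      at this
  · obtain ⟨x, rfl⟩ := Ideal.Quotient.mk_surjective y
    have key : ∀ m, ∀ x : B, ∃ a : A, x - algebraMap A B a ∈ (I ^ m).map (algebraMap A B) := by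
      intro m
      induction m with
      | zero => exact fun x => ⟨0, by simp [Ideal.map_top]⟩
      | succ m ih =>
        intro x
        obtain ⟨a, ha⟩ := ih x
        have hcl : ∀ z ∈ (I ^ m).map (algebraMap A B),
            ∃ b : A, z - algebraMap A B b ∈ (I ^ (m + 1)).map (algebraMap A B) := by
          intro z hz
          induction hz using Submodule.span_induction with
          | mem z hz =>
            obtain ⟨c, -, rfl⟩ := hz
            exact ⟨c, by simp⟩
          | zero => exact ⟨0, by simp⟩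
          | add z w _ _ hz hw =>
            obtain ⟨b, hb⟩ := hz; obtain ⟨b', hb'⟩ := hw
            exact ⟨b + b', by rw [map_add, add_sub_add_comm]; exact add_mem hb hb'⟩
          | smul r z hz' hz =>
            obtain ⟨b, hb⟩ := hz
            obtain ⟨r₀, hr⟩ := hstep r
            refine ⟨r₀ * b, ?_⟩
            have : r • z - algebraMap A B (r₀ * b) =
                algebraMap A B r₀ * (z - algebraMap A B b) + (r - algebraMap A B r₀) * z := by
              rw [smul_eq_mul, map_mul]; ring
            rw [this]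
            refine add_mem (Ideal.mul_mem_left _ _ hb) ?_
            rw [pow_succ', Ideal.map_mul]
            exact Ideal.mul_mem_mul hr hz'
        obtain ⟨b, hb⟩ := hcl _ ha
        exact ⟨a + b, by rwa [map_add, ← sub_sub]⟩
    obtain ⟨a, ha⟩ := key n x
    exact ⟨Ideal.Quotient.mk _ a, by rw [Ideal.quotientMap_mk]; exact (Ideal.Quotient.eq.mpr ha).symm⟩

end Groth.Agent.H9Hens
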