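import Mathlib

/-!
Local structure of unramified and etale local homomorphisms.
-/

namespace Groth.Agent.H9Hens

universe u

open IsLocalRing

variable (A B : Type u) [CommRing A] [CommRing B] [IsLocalRing A] [IsLocalRing B] [Algebra A B]

omit [IsLocalRing A] in
/-- A local algebra essentially of finite type is a localisation of a finite type algebra at a
prime. -/
theorem exists_finiteType_atPrime [Algebra.EssFiniteType A B] :
    ∃ (S : Type u) (_ : CommRing S) (_ : Algebra A S) (_ : Algebra S B) (_ : IsScalarTower A S B)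
      (_ : Algebra.FiniteType A S) (Q : Ideal S) (_ : Q.IsPrime), IsLocalization.AtPrime B Q := by
  let S := Algebra.EssFiniteType.subalgebra A B
  let M := Algebra.EssFiniteType.submonoid A B
  have : IsLocalization M B := Algebra.EssFiniteType.isLocalization A B
  refine ⟨S, inferInstance, inferInstance, inferInstance, inferInstance, inferInstance,
    (maximalIdeal B).comap (algebraMap S B), inferInstance, ?_⟩
  have hM : ∀ m ∈ M, m ∉ (maximalIdeal B).comap (algebraMap S B) := fun m hm h =>
    (IsLocalRing.mem_maximalIdeal _).mp h (IsLocalization.map_units B (⟨m, hm⟩ : M))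
  refine ⟨fun y => ?_, fun z => ?_, fun {x y} h => ?_⟩
  · exact IsLocalRing.notMem_maximalIdeal.mp y.2
  · obtain ⟨⟨a, m⟩, hz⟩ := IsLocalization.surj M z
    exact ⟨⟨a, ⟨m, hM m m.2⟩⟩, hz⟩
  · obtain ⟨c, hc⟩ := IsLocalization.exists_of_eq (M := M) h
    exact ⟨⟨c, hM c c.2⟩, hc⟩

/-- An unramified local homomorphism is a quotient of a local ring of a standard etale algebra. -/
theorem exists_standardEtale_surjection [IsLocalHom (algebraMap A B)] [Algebra.EssFiniteType A B]
    (hm : (maximalIdeal A).map (algebraMap A B) = maximalIdeal B)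
    [Algebra.IsSeparable (ResidueField A) (ResidueField B)] :
    ∃ (P : StandardEtalePair A) (𝔮 : Ideal P.Ring) (_ : 𝔮.IsPrime)
      (φ : Localization.AtPrime 𝔮 →ₐ[A] B), Function.Surjective φ := by
  have hB : Algebra.FormallyUnramified A B :=
    Algebra.FormallyUnramified.iff_map_maximalIdeal_eq.mpr ⟨inferInstance, hm⟩
  obtain ⟨S, _, _, _, _, _, Q, hQ, hloc⟩ := exists_finiteType_atPrime A B
  have : Algebra.IsUnramifiedAt A Q := Algebra.FormallyUnramified.of_equiv
    ((IsLocalization.algEquiv Q.primeCompl (Localization.AtPrime Q) B).restrictScalars A).symm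
  obtain ⟨f, hf, P, φ, hφ⟩ := Algebra.IsUnramifiedAt.exists_hasStandardEtaleSurjectionOn (R := A) Q
  have hfu : IsUnit (algebraMap S B f) := IsLocalization.map_units B (⟨f, hf⟩ : Q.primeCompl)
  let j : Localization.Away f →ₐ[A] B := IsLocalization.Away.liftAlgHom f
    (f := IsScalarTower.toAlgHom A S B) hfu
  have hj : ∀ s : S, j (algebraMap S _ s) = algebraMap S B s := fun s =>
    IsLocalization.lift_eq _ s
  let ψ : P.Ring →ₐ[A] B := j.comp φ
  let 𝔮 := (maximalIdeal B).comap ψ
  have h𝔮 : 𝔮.IsPrime := inferInstance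
  have hunit : ∀ y : 𝔮.primeCompl, IsUnit (ψ y) := fun y => IsLocalRing.notMem_maximalIdeal.mp y.2
  refine ⟨P, 𝔮, h𝔮, IsLocalization.liftAlgHom (f := ψ) hunit, fun b => ?_⟩
  obtain ⟨⟨s, t⟩, hb⟩ := IsLocalization.surj Q.primeCompl b
  obtain ⟨c, hc⟩ := hφ (algebraMap S _ s)
  obtain ⟨d, hd⟩ := hφ (algebraMap S _ (t : S))
  have hψc : ψ c = algebraMap S B s := (congrArg j hc).trans (hj s)
  have hψd : ψ d = algebraMap S B t := (congrArg j hd).trans (hj t)
  have hdu : IsUnit (ψ d) := hψd ▸ IsLocalization.map_units B t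
  let v : 𝔮.primeCompl := ⟨d, fun h => (IsLocalRing.mem_maximalIdeal (ψ d)).mp h hdu⟩
  refine ⟨IsLocalization.mk' _ c v, hdu.mul_left_cancel ?_⟩
  have key := congrArg (IsLocalization.liftAlgHom (M := 𝔮.primeCompl) (S := Localization.AtPrime 𝔮) (f := ψ) hunit)
    (IsLocalization.mk'_spec (Localization.AtPrime 𝔮) c v)
  simp only [map_mul, IsLocalization.liftAlgHom_apply, IsLocalization.lift_eq] at key ⊢
  rw [mul_comm]
  exact key.trans (hψc.trans (hb.symm.trans ((mul_comm _ _).trans (congrArg (· * b) hψd.symm))))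

/-- An etale local homomorphism is a local ring of a standard etale algebra. -/
theorem exists_standardEtale_equiv [IsLocalHom (algebraMap A B)] [Algebra.EssFiniteType A B]
    [IsNoetherianRing A] [Module.Flat A B]
    (hm : (maximalIdeal A).map (algebraMap A B) = maximalIdeal B)
    [Algebra.IsSeparable (ResidueField A) (ResidueField B)] :
    ∃ (P : StandardEtalePair A) (𝔮 : Ideal P.Ring) (_ : 𝔮.IsPrime),
      Nonempty (B ≃ₐ[A] Localization.AtPrime 𝔮) := by
  obtain ⟨P, 𝔮, _, φ, hφ⟩ := exists_standardEtale_surjection A B hm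
  let D := Localization.AtPrime 𝔮
  have hloc : IsLocalHom (algebraMap A D) := ⟨fun a ha => by
    have := ha.map φ
    rw [φ.commutes] at this
    exact (isUnit_map_iff (algebraMap A B) a).mp this⟩
  have : IsNoetherianRing P.Ring := Algebra.FiniteType.isNoetherianRing A P.Ring
  have : IsNoetherianRing D := IsLocalization.isNoetherianRing 𝔮.primeCompl D inferInstance
  have hmD : (maximalIdeal A).map (algebraMap A D) = maximalIdeal D :=
    (Algebra.FormallyUnramified.iff_map_maximalIdeal_eq (R := A) (S := D)).mp inferInstance |>.2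
  set J := RingHom.ker φ.toRingHom
  have hJ : J = ⊥ := by
    refine Submodule.eq_bot_of_le_smul_of_le_jacobson_bot (maximalIdeal D) J
      (IsNoetherian.noetherian J) ?_ (maximalIdeal_le_jacobson ⊥)
    intro x hx
    have hxm : x ∈ maximalIdeal D := IsLocalRing.le_maximalIdeal (RingHom.ker_ne_top φ.toRingHom) hx
    rw [← hmD] at hxm
    have h1 : x ∈ LinearMap.ker φ.toLinearMap ⊓ (maximalIdeal A • (⊤ : Submodule A D)) :=
      ⟨hx, by rw [Ideal.smul_top_eq_map]; exact hxm⟩
    rw [LinearMap.ker_inf_smul_top_eq_smul_of_flat _ _ hφ] at h1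
    refine Submodule.smul_induction_on h1 (fun a ha y hy => ?_) fun _ _ => add_mem
    have ha' : algebraMap A D a ∈ maximalIdeal D := hmD.le (Ideal.mem_map_of_mem _ ha)
    rw [← algebraMap_smul D a y]
    exact Submodule.smul_mem_smul ha' (show y ∈ J from hy)
  refine ⟨P, 𝔮, inferInstance, ⟨(AlgEquiv.ofBijective φ ⟨?_, hφ⟩).symm⟩⟩
  exact (RingHom.injective_iff_ker_eq_bot φ.toRingHom).mpr hJ

end Groth.Agent.H9Hens
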