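import Mathlib
import Groth.Agent.H06EGA9.UnramifiedLocus
import Groth.Agent.H9Hens.LocalStructure

/-!
Unramified and etale points of morphisms locally of finite type, in terms of local homomorphisms.
-/

universe u

open CategoryTheory Limits AlgebraicGeometry

namespace Groth.Agent.H9Hens

theorem isEtaleAt_of_flat_of_isUnramifiedAt {A B : Type u} [CommRing A] [CommRing B] [Algebra A B]
    [IsNoetherianRing A] [Algebra.FiniteType A B] (p : Ideal A) [p.IsPrime] (q : Ideal B) [q.IsPrime]
    [q.LiesOver p] [Algebra (Localization.AtPrime p) (Localization.AtPrime q)]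
    [Localization.AtPrime.IsLiesOverAlgebra p q]
    (hflat : Module.Flat (Localization.AtPrime p) (Localization.AtPrime q))
    [Algebra.IsUnramifiedAt A q] : Algebra.IsEtaleAt A q := by
  have : Algebra.EssFiniteType (Localization.AtPrime p) (Localization.AtPrime q) :=
    Algebra.EssFiniteType.of_comp A _ _
  have : IsNoetherianRing (Localization.AtPrime p) :=
    IsLocalization.isNoetherianRing p.primeCompl _ inferInstance
  have : Algebra.FormallyUnramified (Localization.AtPrime p) (Localization.AtPrime q) :=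
    Algebra.FormallyUnramified.of_restrictScalars A _ _
  obtain ⟨hsep, hm⟩ := Algebra.FormallyUnramified.iff_map_maximalIdeal_eq.mp this
  obtain ⟨P, 𝔮, _, ⟨e⟩⟩ := exists_standardEtale_equiv (Localization.AtPrime p)
    (Localization.AtPrime q) hm
  have : Algebra.FormallyEtale P.Ring (Localization.AtPrime 𝔮) :=
    Algebra.FormallyEtale.of_isLocalization 𝔮.primeCompl
  have : Algebra.FormallyEtale (Localization.AtPrime p) (Localization.AtPrime 𝔮) :=
    Algebra.FormallyEtale.comp _ P.Ring _
  have : Algebra.FormallyEtale (Localization.AtPrime p) (Localization.AtPrime q) :=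
    Algebra.FormallyEtale.of_equiv e.symm
  have : Algebra.FormallyEtale A (Localization.AtPrime p) :=
    Algebra.FormallyEtale.of_isLocalization p.primeCompl
  exact Algebra.FormallyEtale.comp A (Localization.AtPrime p) (Localization.AtPrime q)

variable {X Y : Scheme.{u}} (f : X ⟶ Y)

theorem stalk_unramified_iff [LocallyOfFiniteType f] (x : X) :
    (f.stalkMap x).hom.FormallyUnramified ↔
      ((IsLocalRing.maximalIdeal (Y.presheaf.stalk (f.base x))).map (f.stalkMap x).hom =
          IsLocalRing.maximalIdeal (X.presheaf.stalk x) ∧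
        letI := (f.residueFieldMap x).hom.toAlgebra
        Module.Finite (Y.residueField (f.base x)) (X.residueField x) ∧
          Algebra.IsSeparable (Y.residueField (f.base x)) (X.residueField x)) := by
  algebraize [(f.stalkMap x).hom]
  have : IsLocalHom (algebraMap (Y.presheaf.stalk (f x)) (X.presheaf.stalk x)) :=
    inferInstanceAs <| IsLocalHom (f.stalkMap x).hom
  have : Algebra.EssFiniteType (Y.presheaf.stalk (f x)) (X.presheaf.stalk x) := by
    rw [← RingHom.essFiniteType_algebraMap, RingHom.algebraMap_toAlgebra]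
    exact LocallyOfFiniteType.stalkMap f x
  have hR : (inferInstance : Algebra (IsLocalRing.ResidueField (Y.presheaf.stalk (f x)))
      (IsLocalRing.ResidueField (X.presheaf.stalk x))) =
      ((f.residueFieldMap x).hom.toAlgebra : Algebra (Y.residueField (f.base x)) (X.residueField x)) := by
    refine Algebra.algebra_ext _ _ fun z ↦ ?_
    obtain ⟨z, rfl⟩ := IsLocalRing.residue_surjective z
    rfl
  change _ ↔ _ ∧ @Module.Finite (IsLocalRing.ResidueField (Y.presheaf.stalk (f x)))
      (IsLocalRing.ResidueField (X.presheaf.stalk x)) _ _ (f.residueFieldMap x).hom.toAlgebra.toModule ∧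
    @Algebra.IsSeparable (IsLocalRing.ResidueField (Y.presheaf.stalk (f x)))
      (IsLocalRing.ResidueField (X.presheaf.stalk x)) _ _ (f.residueFieldMap x).hom.toAlgebra
  erw [← hR]
  rw [← (show algebraMap (Y.presheaf.stalk (f x)) (X.presheaf.stalk x) = (f.stalkMap x).hom from
    RingHom.algebraMap_toAlgebra _), RingHom.formallyUnramified_algebraMap,
    Algebra.FormallyUnramified.iff_map_maximalIdeal_eq]
  constructor
  · rintro ⟨hsep, hm⟩
    have := Algebra.FormallyUnramified.iff_map_maximalIdeal_eq.mpr ⟨hsep, hm⟩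
    refine ⟨hm, ?_, hsep⟩
    exact Algebra.FormallyUnramified.finite_of_free _ _
  · rintro ⟨hm, -, hsep⟩
    exact ⟨hsep, hm⟩

theorem etale_nhd_iff [LocallyOfFiniteType f] [IsLocallyNoetherian Y] (x : X) :
    (∃ U : X.Opens, x ∈ U ∧ Etale (U.ι ≫ f)) ↔
      (f.stalkMap x).hom.Flat ∧ (f.stalkMap x).hom.FormallyUnramified := by
  constructor
  · rintro ⟨U, hx, hU⟩
    refine ⟨?_, H17.LocusBC.formallyUnramified_stalkMap_of_nhd f U hx⟩
    exact (H17.LocusBC.flat_stalkMap_comp_iff U.ι f (𝟙 Y) (U.ι ≫ f) (Category.comp_id _) ⟨x, hx⟩).mp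
      (Flat.stalkMap _ _)
  · rintro ⟨hflat, hur⟩
    obtain ⟨_, ⟨V, hV, rfl⟩, hxV, -⟩ :=
      Y.isBasis_affineOpens.exists_subset_of_mem_open (Set.mem_univ (f x)) isOpen_univ
    obtain ⟨_, ⟨W, hW, rfl⟩, hxW, hle⟩ :=
      X.isBasis_affineOpens.exists_subset_of_mem_open (show x ∈ (f ⁻¹ᵁ V : Set X) from hxV) (f ⁻¹ᵁ V).2
    have : IsNoetherianRing Γ(Y, V) := IsLocallyNoetherian.component_noetherian ⟨V, hV⟩
    algebraize [(f.appLE V W hle).hom]
    have : IsOpenImmersion hW.fromSpec := hW.isOpenImmersion_fromSpec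
    have : IsOpenImmersion hV.fromSpec := hV.isOpenImmersion_fromSpec
    let φ := Spec.map (CommRingCat.ofHom (algebraMap Γ(Y, V) Γ(X, W)))
    have w : φ ≫ hV.fromSpec = hW.fromSpec ≫ f := IsAffineOpen.SpecMap_appLE_fromSpec f hV hW hle
    have : Algebra.FiniteType Γ(Y, V) Γ(X, W) := H17.LocusBC.finiteType_of_chart f _ _ w
    obtain ⟨q, rfl⟩ := hW.range_fromSpec.ge hxW
    rw [← H17.LocusBC.formallyUnramified_stalkMap_comp_iff hW.fromSpec f hV.fromSpec φ w q] at hur
    rw [← H17.LocusBC.flat_stalkMap_comp_iff hW.fromSpec f hV.fromSpec φ w q] at hflat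
    let q' : PrimeSpectrum Γ(X, W) := q
    let p := (q'.comap (algebraMap Γ(Y, V) Γ(X, W))).asIdeal
    have : q'.asIdeal.LiesOver p := ⟨rfl⟩
    let := Localization.AtPrime.algebraOfLiesOver p q'.asIdeal
    have hflatA : (Localization.localRingHom p q'.asIdeal (algebraMap Γ(Y, V) Γ(X, W))
        (q'.asIdeal.over_def p)).Flat := by
      have := RingHom.toMorphismProperty_respectsIso_iff.mp RingHom.Flat.respectsIso
      exact ((RingHom.toMorphismProperty @RingHom.Flat).arrow_mk_iso_iff
        (Scheme.arrowStalkMapSpecIso (CommRingCat.ofHom (algebraMap Γ(Y, V) Γ(X, W))) q')).mp hflat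
    have : Algebra.IsUnramifiedAt Γ(Y, V) q'.asIdeal :=
      H17.LocusBC.isUnramifiedAt_of_stalkMap_Spec q' hur
    have : Algebra.IsEtaleAt Γ(Y, V) q'.asIdeal :=
      isEtaleAt_of_flat_of_isUnramifiedAt p q'.asIdeal hflatA
    have : Algebra.FinitePresentation Γ(Y, V) Γ(X, W) :=
      Algebra.FinitePresentation.of_finiteType.mp inferInstance
    obtain ⟨g, hg, hEt⟩ := Algebra.exists_etale_of_isEtaleAt (R := Γ(Y, V)) q'.asIdeal
    let j := Spec.map (CommRingCat.ofHom (algebraMap Γ(X, W) (Localization.Away g))) ≫ hW.fromSpec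
    refine ⟨j.opensRange, ?_, ?_⟩
    · obtain ⟨r, hr⟩ := (PrimeSpectrum.localization_away_comap_range (Localization.Away g) g).ge
        (show q' ∈ (PrimeSpectrum.basicOpen g : Set _) from hg)
      exact ⟨r, congrArg hW.fromSpec hr⟩
    · have e : j.opensRange.ι = (j.isoOpensRange).inv ≫ j := by
        rw [Iso.eq_inv_comp]; exact Scheme.Hom.isoOpensRange_hom_ι j
      have : Etale (j ≫ f) := by
        rw [Category.assoc, ← w, ← Category.assoc, ← Spec.map_comp, ← CommRingCat.ofHom_comp,
          ← IsScalarTower.algebraMap_eq]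
        have : Etale (Spec.map (CommRingCat.ofHom (algebraMap Γ(Y, V) (Localization.Away g)))) := by
          rw [HasRingHomProperty.Spec_iff (P := @Etale)]
          exact RingHom.etale_algebraMap.mpr hEt
        infer_instance
      rw [e, Category.assoc]
      infer_instance

theorem unramified_nhd_iff [LocallyOfFiniteType f] (x : X) :
    (∃ U : X.Opens, x ∈ U ∧ FormallyUnramified (U.ι ≫ f)) ↔
      (f.stalkMap x).hom.FormallyUnramified :=
  ⟨fun ⟨U, hx, _⟩ => H17.LocusBC.formallyUnramified_stalkMap_of_nhd f U hx,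
    H06EGA9.exists_nhd_of_mem_unramSet f⟩

end Groth.Agent.H9Hens
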