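import Groth.Agent.H9Hens.PtColim
import Mathlib.RingTheory.Unramified.LocalRing
import Mathlib.RingTheory.QuasiFinite.Basic
import Mathlib.RingTheory.Etale.QuasiFinite
import Mathlib.RingTheory.Localization.Ideal

/-!
Colimits of pointed etale algebras: change of the base to an etale stage, fibres.
-/

namespace Groth.Agent.H9Hens

universe u

open TensorProduct

variable {A : Type u} [CommRing A] {k : Type u} [CommRing k] [Algebra A k]
variable {H : Type u} [CommRing H] [Algebra A H] {π : H →ₐ[A] k}

/-- The colimit of pointed etale algebras is also the one over any of its etale stages. -/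
theorem IsPtColim.overBase (hH : IsPtColim π) (S : Type u) [CommRing S] [Algebra A S]
    [Algebra.Etale A S] [Algebra S H] [IsScalarTower A S H] [Algebra S k] [IsScalarTower A S k]
    (hcompat : ∀ s, π (algebraMap S H s) = algebraMap S k s) :
    IsPtColim ({ π.toRingHom with commutes' := hcompat } : H →ₐ[S] k) where
  exists_rep x := by
    obtain ⟨T, _, _, _, φ, t, ht⟩ := hH.exists_rep x
    refine ⟨S ⊗[A] T, inferInstance, inferInstance, inferInstance,
      Algebra.TensorProduct.lift (Algebra.ofId S H) φ fun _ _ => Commute.all _ _, 1 ⊗ₜ t, ?_⟩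
    simp [ht]
  exists_map T _ _ _ σ := by
    let : Algebra A T := ((algebraMap S T).comp (algebraMap A S)).toAlgebra
    have : IsScalarTower A S T := IsScalarTower.of_algebraMap_eq fun _ => rfl
    have : Algebra.Etale A T := Algebra.Etale.comp A S T
    obtain ⟨φ, hφ⟩ := hH.exists_map T (σ.restrictScalars A)
    have h : φ.comp (IsScalarTower.toAlgHom A S T) = IsScalarTower.toAlgHom A S H :=
      hH.hom_ext (AlgHom.ext fun s => by
        show π (φ (algebraMap S T s)) = π (algebraMap S H s)
        rw [hcompat, ← σ.commutes s]
        exact DFunLike.congr_fun hφ (algebraMap S T s))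
    exact ⟨{ φ with commutes' := fun s => DFunLike.congr_fun h s },
      AlgHom.ext fun t => DFunLike.congr_fun hφ t⟩
  jac := hH.jac
  exists_eq_zero T _ _ _ φ t ht := by
    let : Algebra A T := ((algebraMap S T).comp (algebraMap A S)).toAlgebra
    have : IsScalarTower A S T := IsScalarTower.of_algebraMap_eq fun _ => rfl
    have : Algebra.Etale A T := Algebra.Etale.comp A S T
    obtain ⟨T', _, _, hT', ψ, φ', hφ', hz⟩ := hH.exists_eq_zero T (φ.restrictScalars A) t ht
    let : Algebra S T' := (ψ.toRingHom.comp (algebraMap S T)).toAlgebra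
    have : IsScalarTower A S T' := IsScalarTower.of_algebraMap_eq fun a => by
      show algebraMap A T' a = ψ (algebraMap S T (algebraMap A S a))
      rw [← IsScalarTower.algebraMap_apply, AlgHom.commutes]
    have : Algebra.Etale S T' := Algebra.Etale.of_restrictScalars A S T'
    refine ⟨T', inferInstance, inferInstance, inferInstance, { ψ with commutes' := fun _ => rfl },
      { φ' with commutes' := fun s => ?_ }, AlgHom.ext fun x => DFunLike.congr_fun hφ' x, hz⟩
    exact (DFunLike.congr_fun hφ' (algebraMap S T s)).trans (φ.commutes s)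

/-- The colimit of pointed etale algebras is flat over each of its etale stages. -/
theorem IsPtColim.flat_of_etale (hH : IsPtColim π) (S : Type u) [CommRing S] [Algebra A S]
    [Algebra.Etale A S] [Algebra S H] [IsScalarTower A S H] : Module.Flat S H := by
  let : Algebra S k := (π.toRingHom.comp (algebraMap S H)).toAlgebra
  have : IsScalarTower A S k := IsScalarTower.of_algebraMap_eq fun a => by
    show algebraMap A k a = π (algebraMap S H (algebraMap A S a))
    rw [← IsScalarTower.algebraMap_apply, AlgHom.commutes]
  exact (hH.overBase S fun _ => rfl).flat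

/-- Distinct primes over the same prime of the base are incomparable. -/
theorem IsPtColim.eq_of_le_of_comap_eq (hH : IsPtColim π) {P Q : Ideal H} [P.IsPrime] [Q.IsPrime]
    (hle : P ≤ Q) (h : P.comap (algebraMap A H) = Q.comap (algebraMap A H)) : P = Q := by
  refine le_antisymm hle fun x hx => ?_
  obtain ⟨S, _, _, _, φ, s, rfl⟩ := hH.exists_rep x
  have heq : P.comap φ.toRingHom = Q.comap φ.toRingHom :=
    Algebra.QuasiFinite.eq_of_le_of_under_eq (R := A) _ _ (Ideal.comap_mono hle) (by
      rw [Ideal.under, Ideal.under, Ideal.comap_comap, Ideal.comap_comap]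
      show P.comap (φ.toRingHom.comp (algebraMap A S)) = Q.comap (φ.toRingHom.comp (algebraMap A S))
      rw [AlgHom.toRingHom_eq_coe, AlgHom.comp_algebraMap, h])
  exact (heq.symm ▸ (show s ∈ Q.comap φ.toRingHom from hx) : s ∈ P.comap φ.toRingHom)

/-- At every prime of the colimit, the maximal ideal is generated by the prime of the base. -/
theorem IsPtColim.exists_mul_mem_map (hH : IsPtColim π) (P : Ideal H) [P.IsPrime] {x : H}
    (hx : x ∈ P) :
    ∃ c ∉ P, c * x ∈ (P.comap (algebraMap A H)).map (algebraMap A H) := by
  obtain ⟨S, _, _, _, φ, s, rfl⟩ := hH.exists_rep x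
  let q : Ideal S := P.comap φ.toRingHom
  let p : Ideal A := P.comap (algebraMap A H)
  have : q.LiesOver p := ⟨by
    show p = (P.comap φ.toRingHom).comap (algebraMap A S)
    rw [Ideal.comap_comap]
    show p = P.comap (φ.toRingHom.comp (algebraMap A S))
    rw [AlgHom.toRingHom_eq_coe, AlgHom.comp_algebraMap]⟩
  let := Localization.AtPrime.algebraOfLiesOver p q
  have : Algebra.IsUnramifiedAt A q :=
    (inferInstance : Algebra.FormallyUnramified A (Localization.AtPrime q))
  have hm := ((Algebra.isUnramifiedAt_iff_map_eq A p q).mp inferInstance).2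
  have hs : algebraMap S (Localization.AtPrime q) s ∈
      (p.map (algebraMap A S)).map (algebraMap S (Localization.AtPrime q)) := by
    rw [Ideal.map_map, ← IsScalarTower.algebraMap_eq, hm]
    exact (IsLocalization.AtPrime.to_map_mem_maximal_iff (Localization.AtPrime q) q s).mpr hx
  rw [IsLocalization.algebraMap_mem_map_algebraMap_iff q.primeCompl] at hs
  obtain ⟨c, hc, hcs⟩ := hs
  have h := Ideal.mem_map_of_mem φ.toRingHom hcs
  rw [Ideal.map_map, AlgHom.toRingHom_eq_coe, AlgHom.comp_algebraMap, RingHom.coe_coe, map_mul] at h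
  exact ⟨φ c, hc, h⟩

end Groth.Agent.H9Hens
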