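import Groth.Agent.H02CA.Catenary
import Groth.Agent.H05EGA4.Equidim
import Groth.Agent.S9125
import Groth.Agent.S9126
import Groth.Agent.H9Hens.PtBase
import Mathlib.RingTheory.Ideal.KrullsHeightTheorem
import Mathlib.RingTheory.Polynomial.Basic
import Mathlib.RingTheory.Flat.Stability
import Mathlib.RingTheory.TensorProduct.MvPolynomial

/-!
# Catenary rings along flat stages

A Noetherian ring in which every finite subset comes from a Noetherian catenary ring mapping flatly
to it is catenary. So henselizations of universally catenary rings are universally catenary.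
-/

universe u

open Order TensorProduct

namespace Groth.Agent.H9Hens

variable {R : Type u} [CommRing R]

/-- The height of `Q` above `P`. -/
noncomputable abbrev htBetween (P Q : Ideal R) : ℕ∞ := (Q.map (Ideal.Quotient.mk P)).height

theorem quotEmbedding_map_eq {p q : PrimeSpectrum R} (hpq : p ≤ q) :
    H02CA.quotEmbedding p.asIdeal ⟨q.asIdeal.map (Ideal.Quotient.mk p.asIdeal),
      Ideal.isPrime_map_quotientMk_of_isPrime hpq⟩ = q := by
  refine PrimeSpectrum.ext ?_
  show (q.asIdeal.map (Ideal.Quotient.mk p.asIdeal)).comap (Ideal.Quotient.mk p.asIdeal) = q.asIdeal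
  rw [Ideal.comap_map_of_surjective' _ Ideal.Quotient.mk_surjective, Ideal.mk_ker, sup_eq_left]
  exact hpq

theorem htBetween_eq_height {p q : PrimeSpectrum R} (hpq : p ≤ q) :
    htBetween p.asIdeal q.asIdeal = Order.height (⟨q.asIdeal.map (Ideal.Quotient.mk p.asIdeal),
      Ideal.isPrime_map_quotientMk_of_isPrime hpq⟩ : PrimeSpectrum (R ⧸ p.asIdeal)) :=
  PrimeSpectrum.height_eq_orderHeight
    (⟨_, Ideal.isPrime_map_quotientMk_of_isPrime hpq⟩ : PrimeSpectrum (R ⧸ p.asIdeal))

theorem quotEmbedding_bot (p : PrimeSpectrum R) :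
    H02CA.quotEmbedding p.asIdeal ⟨⊥, Ideal.isPrime_bot⟩ = p := by
  refine PrimeSpectrum.ext ?_
  show (⊥ : Ideal (R ⧸ p.asIdeal)).comap (Ideal.Quotient.mk p.asIdeal) = p.asIdeal
  rw [← RingHom.ker_eq_comap_bot, Ideal.mk_ker]

/-- Chains between two primes are no longer than the height of one above the other. -/
theorem length_le_htBetween (s : LTSeries (PrimeSpectrum R)) :
    (s.length : ℕ∞) ≤ htBetween s.head.asIdeal s.last.asIdeal := by
  obtain ⟨t, -, ht, htl, -⟩ := H02CA.exists_preimage (H02CA.quotEmbedding s.head.asIdeal)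
    (H02CA.convex_quotEmbedding _) s (quotEmbedding_bot s.head).symm
    (quotEmbedding_map_eq s.head_le_last).symm
  rw [htBetween_eq_height s.head_le_last, ← ht, ← htl]
  exact Order.length_le_height_last

/-- The height of `q` above `p` is the maximal length of a chain between them. -/
theorem htBetween_le {p q : PrimeSpectrum R} (hpq : p ≤ q) {n : ℕ}
    (h : ∀ s : LTSeries (PrimeSpectrum R), s.head = p → s.last = q → s.length ≤ n) :
    htBetween p.asIdeal q.asIdeal ≤ n := by
  rw [htBetween_eq_height hpq]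
  refine Order.height_le fun l hl => ?_
  set b : PrimeSpectrum (R ⧸ p.asIdeal) := ⟨⊥, Ideal.isPrime_bot⟩
  have key : ∀ l' : LTSeries (PrimeSpectrum (R ⧸ p.asIdeal)), l'.head = b →
      l'.last = l.last → l'.length ≤ n := by
    intro l' h0 h1
    refine h (l'.map _ (H02CA.quotEmbedding p.asIdeal).strictMono) ?_ ?_
    · rw [LTSeries.head_map, h0]; exact quotEmbedding_bot p
    · rw [LTSeries.last_map, h1, hl]; exact quotEmbedding_map_eq hpq
  by_cases hb : l.head = b
  · exact_mod_cast key l hb rfl
  · have hlt : b < l.head := lt_of_le_of_ne (fun _ hx => (Submodule.mem_bot (R := R ⧸ p.asIdeal)).mp hx ▸ zero_mem _) (Ne.symm hb)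
    have := key (l.cons b hlt) (by simp) (by simp)
    simp only [RelSeries.cons_length] at this
    exact_mod_cast le_trans (Nat.le_succ _) this

/-- Additivity of heights characterises catenarity. -/
theorem isCatenary_of_additive [IsNoetherianRing R]
    (h : ∀ P Q Q' : PrimeSpectrum R, P ≤ Q → Q ≤ Q' →
      htBetween P.asIdeal Q.asIdeal + htBetween Q.asIdeal Q'.asIdeal = htBetween P.asIdeal Q'.asIdeal) :
    CAlg.IsCatenary R := by
  have hfin : ∀ P Q : PrimeSpectrum R, P ≤ Q → ∃ n : ℕ, htBetween P.asIdeal Q.asIdeal = n := by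
    intro P Q hPQ
    have := Ideal.isPrime_map_quotientMk_of_isPrime (I := P.asIdeal) (show P.asIdeal ≤ Q.asIdeal from hPQ)
    exact H05EGA4.exists_nat_height_eq _
  refine ⟨fun p q hpq => ?_, fun s t hh hl hs ht => ?_⟩
  · obtain ⟨n, hn⟩ := hfin p q hpq
    refine ⟨n, fun s h1 h2 => ?_⟩
    have := length_le_htBetween s
    rw [h1, h2, hn] at this
    exact_mod_cast this
  have key : ∀ s : LTSeries (PrimeSpectrum R), (∀ i : Fin s.length, s i.castSucc ⋖ s i.succ) →
      htBetween s.head.asIdeal s.last.asIdeal = s.length := by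
    intro s hs
    suffices ∀ i : Fin (s.length + 1), htBetween s.head.asIdeal (s i).asIdeal = (i : ℕ) from this (Fin.last _)
    intro i
    induction i using Fin.induction with
    | zero =>
      show htBetween s.head.asIdeal s.head.asIdeal = 0
      refine le_antisymm (htBetween_le (n := 0) le_rfl fun t h1 h2 => ?_) bot_le
      by_contra hlt
      exact (t.strictMono (show (0 : Fin (t.length + 1)) < Fin.last _ by
        rw [Fin.lt_def, Fin.val_zero, Fin.val_last]; omega)).ne (h1.trans h2.symm)
    | succ i ih =>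
      have h1 : htBetween (s i.castSucc).asIdeal (s i.succ).asIdeal = 1 :=
        H05EGA4.height_map_mk_of_covBy (hs i)
      rw [← h s.head (s i.castSucc) (s i.succ) (s.head_le _) (hs i).1.le, ih, h1]
      simp
  have h1 := key s hs
  rw [hh, hl, key t ht] at h1
  exact_mod_cast h1.symm

/-- In a catenary ring heights are additive. -/
theorem htBetween_add (hR : CAlg.IsCatenary R) {P Q Q' : PrimeSpectrum R} (h1 : P ≤ Q) (h2 : Q ≤ Q') :
    htBetween P.asIdeal Q.asIdeal + htBetween Q.asIdeal Q'.asIdeal = htBetween P.asIdeal Q'.asIdeal := by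
  have key : ∀ p q : PrimeSpectrum R, p ≤ q → ∃ s : LTSeries (PrimeSpectrum R), s.head = p ∧ s.last = q ∧
      H02CA.Saturated s ∧ htBetween p.asIdeal q.asIdeal = s.length := by
    intro p q hpq
    obtain ⟨n, hn⟩ := hR.1 p q hpq
    obtain ⟨s, hp, hq, hs, hmax⟩ := H02CA.exists_saturated hpq hn
    refine ⟨s, hp, hq, hs, le_antisymm (htBetween_le hpq hmax) ?_⟩
    have := length_le_htBetween s
    rwa [hp, hq] at this
  obtain ⟨s, s1, s2, s3, s4⟩ := key P Q h1
  obtain ⟨t, t1, t2, t3, t4⟩ := key Q Q' h2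
  obtain ⟨r, r1, r2, r3, r4⟩ := key P Q' (h1.trans h2)
  rw [s4, t4, r4]
  let st := RelSeries.smash s t (s2.trans t1.symm)
  have hsat : H02CA.Saturated st := by
    intro i
    refine Fin.addCases (fun j => ?_) (fun j => ?_) i
    · exact (RelSeries.smash_castAdd _ j).symm ▸ (RelSeries.smash_succ_castAdd _ j).symm ▸ s3 j
    · exact (RelSeries.smash_natAdd _ j).symm ▸ (RelSeries.smash_succ_natAdd _ j).symm ▸ t3 j
  have := hR.2 st r (by rw [RelSeries.head_smash]; exact s1.trans r1.symm)
    (by rw [RelSeries.last_smash]; exact t2.trans r2.symm) hsat r3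
  exact_mod_cast this

/-- Heights between extended primes agree along flat maps. -/
theorem htBetween_eq_of_flat {R' T : Type u} [CommRing R'] [IsNoetherianRing R'] [CommRing T] [IsNoetherianRing T]
    [Algebra R' T] [Module.Flat R' T] (P Q : Ideal T) [P.IsPrime] [Q.IsPrime] (hPQ : P ≤ Q)
    (hP : P = (P.comap (algebraMap R' T)).map (algebraMap R' T))
    (hQ : Q = (Q.comap (algebraMap R' T)).map (algebraMap R' T)) :
    htBetween P Q = htBetween (P.comap (algebraMap R' T)) (Q.comap (algebraMap R' T)) := by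
  set p := P.comap (algebraMap R' T)
  set q := Q.comap (algebraMap R' T)
  have hpq : p ≤ q := Ideal.comap_mono hPQ
  let e : (T ⧸ p.map (algebraMap R' T)) ≃+* T ⧸ P := Ideal.quotEquivOfEq hP.symm
  have hh : htBetween P Q = htBetween (p.map (algebraMap R' T)) Q := by
    rw [htBetween, htBetween, ← RingEquiv.height_map e]
    congr 1
    rw [← Ideal.map_coe e, Ideal.map_map]
    rfl
  rw [hh]
  have hle : p.map (algebraMap R' T) ≤ Q := hP.symm.le.trans hPQ
  have : (Q.map (Ideal.Quotient.mk (p.map (algebraMap R' T)))).IsPrime := Ideal.isPrime_map_quotientMk_of_isPrime hle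
  have : (q.map (Ideal.Quotient.mk p)).IsPrime := Ideal.isPrime_map_quotientMk_of_isPrime hpq
  let S := R' ⧸ p
  let S' := T ⧸ p.map (algebraMap R' T)
  have : Module.Flat S S' := Module.Flat.of_linearEquiv (R := S) (M := S ⊗[R'] T)
    (Algebra.TensorProduct.quotIdealMapEquivQuotTensor T p).toLinearEquiv
  have hover : (Q.map (Ideal.Quotient.mk (p.map (algebraMap R' T)))).LiesOver (q.map (Ideal.Quotient.mk p)) := by
    refine ⟨?_⟩
    apply Ideal.comap_injective_of_surjective _ Ideal.Quotient.mk_surjective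
    rw [Ideal.comap_map_of_surjective' _ Ideal.Quotient.mk_surjective, Ideal.mk_ker, sup_eq_left.mpr hpq,
      Ideal.comap_comap, show (algebraMap S S').comp (Ideal.Quotient.mk p) =
        (Ideal.Quotient.mk (p.map (algebraMap R' T))).comp (algebraMap R' T) from rfl, ← Ideal.comap_comap,
      Ideal.comap_map_of_surjective' _ Ideal.Quotient.mk_surjective, Ideal.mk_ker, sup_eq_left.mpr hle]
  have hformula := Ideal.height_eq_height_add_of_liesOver_of_hasGoingDown (q.map (Ideal.Quotient.mk p))
    (Q.map (Ideal.Quotient.mk (p.map (algebraMap R' T))))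
  rw [htBetween, htBetween, hformula]
  have hmap : (q.map (Ideal.Quotient.mk p)).map (algebraMap S S') =
      Q.map (Ideal.Quotient.mk (p.map (algebraMap R' T))) := by
    rw [Ideal.map_map, show (algebraMap S S').comp (Ideal.Quotient.mk p) =
        (Ideal.Quotient.mk (p.map (algebraMap R' T))).comp (algebraMap R' T) from rfl, ← Ideal.map_map, ← hQ]
  rw [hmap, Ideal.map_quotient_self]
  have : Nontrivial (S' ⧸ Q.map (Ideal.Quotient.mk (p.map (algebraMap R' T)))) :=
    Ideal.Quotient.nontrivial_iff.mpr (Ideal.IsPrime.ne_top ‹_›)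
  have : IsDomain (S' ⧸ Q.map (Ideal.Quotient.mk (p.map (algebraMap R' T)))) :=
    (Ideal.Quotient.isDomain_iff_prime _).mpr ‹_›
  rw [Ideal.height_bot, add_zero]

/-- Catenarity along flat stages. -/
theorem isCatenary_of_flat_stages {T : Type u} [CommRing T] [IsNoetherianRing T]
    (h : ∀ s : Finset T, ∃ (R' : Type u) (_ : CommRing R') (_ : Algebra R' T),
      IsNoetherianRing R' ∧ CAlg.IsCatenary R' ∧ Module.Flat R' T ∧ (s : Set T) ⊆ Set.range (algebraMap R' T)) :
    CAlg.IsCatenary T := by
  classical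
  refine isCatenary_of_additive fun P Q Q' h1 h2 => ?_
  obtain ⟨s₁, hs₁⟩ := IsNoetherian.noetherian P.asIdeal
  obtain ⟨s₂, hs₂⟩ := IsNoetherian.noetherian Q.asIdeal
  obtain ⟨s₃, hs₃⟩ := IsNoetherian.noetherian Q'.asIdeal
  obtain ⟨R', _, _, hn, hcat, hflat, hsub⟩ := h (s₁ ∪ s₂ ∪ s₃)
  have gen : ∀ (J : Ideal T) (t : Finset T), t ⊆ s₁ ∪ s₂ ∪ s₃ → Submodule.span T (t : Set T) = J →
      J = (J.comap (algebraMap R' T)).map (algebraMap R' T) := by
    intro J t ht hJ
    refine le_antisymm ?_ Ideal.map_comap_le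
    conv_lhs => rw [← hJ]
    refine Submodule.span_le.mpr fun x hx => ?_
    obtain ⟨r, rfl⟩ := hsub (Finset.coe_subset.mpr ht hx)
    exact Ideal.mem_map_of_mem _ (show algebraMap R' T r ∈ J from hJ ▸ Submodule.subset_span hx)
  have eP := gen _ s₁ (fun x hx => by simp [hx]) hs₁
  have eQ := gen _ s₂ (fun x hx => by simp [hx]) hs₂
  have eQ' := gen _ s₃ (fun x hx => by simp [hx]) hs₃
  rw [htBetween_eq_of_flat P.asIdeal Q.asIdeal h1 eP eQ,
    htBetween_eq_of_flat Q.asIdeal Q'.asIdeal h2 eQ eQ',
    htBetween_eq_of_flat P.asIdeal Q'.asIdeal (le_trans h1 h2) eP eQ']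
  exact htBetween_add hcat (P := PrimeSpectrum.comap (algebraMap R' T) P)
    (Q := PrimeSpectrum.comap (algebraMap R' T) Q) (Q' := PrimeSpectrum.comap (algebraMap R' T) Q')
    (Ideal.comap_mono h1) (Ideal.comap_mono h2)

theorem isCatenary_of_surjective {R S : Type u} [CommRing R] [CommRing S] (f : R →+* S)
    (hf : Function.Surjective f) (h : CAlg.IsCatenary R) : CAlg.IsCatenary S := by
  let e : PrimeSpectrum S ↪o PrimeSpectrum R := OrderEmbedding.ofMapLEIff (PrimeSpectrum.comap f) fun a b =>
    Ideal.comap_le_comap_iff_of_surjective _ hf a.asIdeal b.asIdeal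
  refine H02CA.catenary_transfer e (fun a b c hc _ => ?_) h
  have hc' : (RingHom.ker f) ≤ c.asIdeal := le_trans (Ideal.comap_mono bot_le) hc
  show c ∈ Set.range (PrimeSpectrum.comap f)
  rw [range_comap_of_surjective _ _ hf, PrimeSpectrum.mem_zeroLocus]
  exact hc'

attribute [local instance] MvPolynomial.algebraMvPolynomial in
/-- Colimits of pointed etale algebras of universally catenary rings are universally catenary. -/
theorem IsPtColim.isUniversallyCatenary {A k H : Type u} [CommRing A] [CommRing k] [Algebra A k] [CommRing H]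
    [Algebra A H] {π : H →ₐ[A] k} (hH : IsPtColim π) [IsNoetherianRing H]
    (h : CAlg.IsUniversallyCatenary A) : CAlg.IsUniversallyCatenary H := by
  classical
  refine ⟨inferInstance, fun B _ _ hB => ?_⟩
  obtain ⟨n, f, hf⟩ := Algebra.FiniteType.iff_quotient_mvPolynomial''.mp hB
  refine isCatenary_of_surjective f.toRingHom hf (isCatenary_of_flat_stages fun s => ?_)
  obtain ⟨S, _, _, hS, φ, y, hy⟩ := hH.exists_rep_finset
    (s.biUnion fun P => P.support.image fun m => MvPolynomial.coeff m P) id
  have := h.1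
  have : IsNoetherianRing S := Algebra.FiniteType.isNoetherianRing A S
  letI := φ.toRingHom.toAlgebra
  have : IsScalarTower A S H := IsScalarTower.of_algebraMap_eq fun a => (φ.commutes a).symm
  have : Module.Flat S H := hH.flat_of_etale S
  refine ⟨MvPolynomial (Fin n) S, inferInstance, inferInstance, inferInstance,
    h.2 (MvPolynomial (Fin n) S) (Algebra.FiniteType.trans (S := S) inferInstance inferInstance), ?_, fun P hP => ?_⟩
  · exact Module.Flat.isBaseChange (R := S) (M := H) (MvPolynomial (Fin n) S) (MvPolynomial (Fin n) H)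
      (Algebra.IsPushout.symm (inferInstance : Algebra.IsPushout S H (MvPolynomial (Fin n) S) (MvPolynomial (Fin n) H))).out
  · show P ∈ Set.range (MvPolynomial.map (algebraMap S H))
    refine MvPolynomial.mem_range_map_iff_coeffs_subset.mpr ?_
    intro c hc
    obtain ⟨m, hm, rfl⟩ := MvPolynomial.mem_coeffs_iff.mp hc
    exact ⟨y _, hy _ (Finset.mem_biUnion.mpr ⟨P, hP, Finset.mem_image_of_mem _ hm⟩)⟩

end Groth.Agent.H9Hens
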