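import Groth.Agent.H9Hens.PairOps
import Groth.Agent.H9Hens.Local
import Groth.Prelude.Def_EssEt
import Mathlib.RingTheory.Unramified.LocalRing
import Mathlib.RingTheory.Localization.AtPrime.Basic

/-!
Essentially etale local algebras and their maps to henselian rings.
-/

namespace Groth.Agent.H9Hens

universe u

open IsLocalRing TensorProduct

variable {A A' B : Type u} [CommRing A] [IsLocalRing A] [CommRing A'] [Algebra A A'] [CommRing B]
  [IsLocalRing B] [Algebra A B]

/-- Maps from an essentially etale algebra are determined modulo the maximal ideal. -/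
theorem essentiallyEtale_hom_ext (hA' : EGA4loc.IsEssentiallyEtale A A') {f g : A' →ₐ[A] B}
    (h : ∀ x, residue B (f x) = residue B (g x)) : f = g := by
  obtain ⟨C, _, _, q, _, _, -, ⟨e⟩⟩ := hA'
  have h1 : (f.comp e.symm.toAlgHom).comp (IsScalarTower.toAlgHom A C (Localization.AtPrime q)) =
      (g.comp e.symm.toAlgHom).comp (IsScalarTower.toAlgHom A C (Localization.AtPrime q)) :=
    algHom_eq_of_sub_mem (maximalIdeal_le_jac B) fun c => Ideal.Quotient.eq.mp (h _)
  have h2 : (f.comp e.symm.toAlgHom).toRingHom = (g.comp e.symm.toAlgHom).toRingHom :=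
    IsLocalization.ringHom_ext q.primeCompl (congrArg AlgHom.toRingHom h1)
  refine AlgHom.ext fun x => ?_
  have := RingHom.congr_fun h2 (e x)
  simpa using this

/-- Maps from an essentially etale algebra to the residue field of a henselian ring lift uniquely. -/
theorem essentiallyEtale_existsUnique_lift [HenselianLocalRing B]
    (hA' : EGA4loc.IsEssentiallyEtale A A') (σ : A' →ₐ[A] ResidueField B) :
    ∃! ψ : A' →ₐ[A] B, ∀ x, residue B (ψ x) = σ x := by
  obtain ⟨C, _, _, q, _, _, -, ⟨e⟩⟩ := id hA'
  let j : C →ₐ[A] A' := e.symm.toAlgHom.comp (IsScalarTower.toAlgHom A C (Localization.AtPrime q))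
  obtain ⟨τ, hτ, -⟩ := existsUnique_algHom_lift_rel (I := maximalIdeal B) (σ.comp j)
  have hres : ∀ c, residue B (τ c) = σ (j c) := fun c => DFunLike.congr_fun hτ c
  have hu : ∀ y : q.primeCompl, IsUnit (τ y) := fun y => by
    refine notMem_maximalIdeal.mp fun hmem => ?_
    have h0 : σ (j y) = 0 := by rw [← hres]; exact (residue_eq_zero_iff _).mpr hmem
    exact ((((IsLocalization.map_units (Localization.AtPrime q) y).map e.symm).map σ).ne_zero) h0
  let g : Localization.AtPrime q →ₐ[A] B := IsLocalization.liftAlgHom (M := q.primeCompl) (f := τ) hu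
  refine ⟨g.comp e.toAlgHom, fun x => ?_, fun ψ hψ => essentiallyEtale_hom_ext hA' fun x => ?_⟩
  · have h2 : ((residue B).comp g.toRingHom).comp (algebraMap C (Localization.AtPrime q)) =
        (σ.toRingHom.comp e.symm.toRingHom).comp (algebraMap C (Localization.AtPrime q)) := by
      ext c
      show residue B (g (algebraMap C _ c)) = σ (j c)
      rw [← hres]
      simp [g]
    have := RingHom.congr_fun (IsLocalization.ringHom_ext q.primeCompl h2) (e x)
    simpa using this
  · rw [hψ]
    have h2 : ((residue B).comp g.toRingHom).comp (algebraMap C (Localization.AtPrime q)) =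
        (σ.toRingHom.comp e.symm.toRingHom).comp (algebraMap C (Localization.AtPrime q)) := by
      ext c
      show residue B (g (algebraMap C _ c)) = σ (j c)
      rw [← hres]
      simp [g]
    have := RingHom.congr_fun (IsLocalization.ringHom_ext q.primeCompl h2) (e x)
    simpa using this.symm

/-- The maximal ideal of an essentially etale local algebra is generated by that of the base. -/
theorem essentiallyEtale_map_maximalIdeal [IsLocalRing A'] (hA' : EGA4loc.IsEssentiallyEtale A A') :
    (maximalIdeal A).map (algebraMap A A') = maximalIdeal A' := by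
  obtain ⟨C, _, _, q, _, _, hq, ⟨e⟩⟩ := hA'
  let Cq := Localization.AtPrime q
  have : IsLocalHom (algebraMap A Cq) := by
    refine ⟨fun a ha => notMem_maximalIdeal.mp fun h => ?_⟩
    rw [IsScalarTower.algebraMap_apply A C Cq] at ha
    exact (IsLocalization.AtPrime.isUnit_to_map_iff Cq q _).mp ha (hq.ge h)
  have : Algebra.FormallyUnramified A Cq := inferInstance
  have : Algebra.EssFiniteType A Cq := Algebra.EssFiniteType.comp A C Cq
  have h := Algebra.FormallyUnramified.map_maximalIdeal (R := A) (S := Cq)
  apply_fun Ideal.map e.symm.toAlgHom.toRingHom at h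
  rw [Ideal.map_map, AlgHom.toRingHom_eq_coe, AlgHom.comp_algebraMap] at h
  rw [h]
  refine (eq_maximalIdeal ?_)
  exact Ideal.map_isMaximal_of_equiv (e.symm.toRingEquiv)

theorem essentiallyEtale_isLocalHom [IsLocalRing A'] (hA' : EGA4loc.IsEssentiallyEtale A A')
    [IsLocalHom (algebraMap A B)] (ψ : A' →ₐ[A] B) : IsLocalHom ψ.toRingHom := by
  refine ((local_hom_TFAE ψ.toRingHom).out (a := IsLocalHom ψ.toRingHom) 0 2).mpr ?_
  rw [← essentiallyEtale_map_maximalIdeal hA', Ideal.map_map, AlgHom.toRingHom_eq_coe,
    AlgHom.comp_algebraMap]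
  exact map_maximalIdeal_le _

end Groth.Agent.H9Hens
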