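import Groth.Agent.H9Hens.BranchCount

/-!
One branch is unibranch, one geometric branch is geometrically unibranch.
-/

namespace Groth.Agent.H9Hens

universe u

open IsLocalRing

theorem enatCard_eq_one_iff {α : Type*} : ENat.card α = 1 ↔ Nonempty α ∧ Subsingleton α := by
  refine ⟨fun h => ⟨?_, (ENat.card_le_one_iff_subsingleton α).mp h.le⟩, fun ⟨_, _⟩ => ?_⟩
  · by_contra hne
    rw [not_nonempty_iff] at hne
    rw [ENat.card_eq_zero_iff_empty α |>.mpr hne] at h
    exact zero_ne_one h
  · have : Unique α := uniqueOfSubsingleton (Classical.arbitrary α)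
    rw [ENat.card_eq_coe_natCard, Nat.card_unique, Nat.cast_one]

variable (A : Type u) [CommRing A] [IsLocalRing A]

theorem numBranches_eq_one_iff :
    Brnch.numBranches A = 1 ↔ CAlg2.IsUnibranch A := by
  unfold Brnch.numBranches
  constructor
  · intro h
    by_cases hfin : (minimalPrimes A).Finite
    swap
    · rw [if_neg hfin] at h; exact absurd h (by simp)
    rw [if_pos hfin, enatCard_eq_one_iff] at h
    obtain ⟨⟨M⟩, _⟩ := h
    have hloc : IsLocalRing (CAlg2.normRed A) := IsLocalRing.of_unique_max_ideal
      ⟨M.asIdeal, M.isMaximal, fun J hJ =>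
        congrArg MaximalSpectrum.asIdeal (Subsingleton.elim (⟨J, hJ⟩ : MaximalSpectrum _) M)⟩
    refine ⟨?_, hloc⟩
    let R := CAlg2.red A
    let Q := FractionRing R
    have := isReduced_red A
    have := fractionRing_red_isArtinianRing A hfin
    have : Nontrivial R := Ideal.Quotient.nontrivial_iff.mpr fun htop => by
      have h1 : IsNilpotent (1 : A) := mem_nilradical.mp (htop ▸ Submodule.mem_top)
      simpa using (h1.map (residue A)).eq_zero
    have hsub : ∀ M₁ M₂ : MaximalSpectrum Q, M₁ = M₂ := fun M₁ M₂ => by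
      classical
      by_contra hne
      let E := IsArtinianRing.equivPi Q
      let e : Q := E.symm (Pi.single M₁ 1)
      have he : e * e = e := by
        rw [← map_mul, ← Pi.single_mul, one_mul]
      have hint : e ∈ integralClosure R Q :=
        ⟨Polynomial.X ^ 2 - Polynomial.X,
          Polynomial.monic_X_pow_sub (lt_of_le_of_lt Polynomial.degree_X_le (by norm_num)),
          by simp [pow_two, he]⟩
      let z : CAlg2.normRed A := ⟨e, hint⟩
      have hz : z * (1 - z) = 0 := Subtype.ext (by
        show e * (1 - e) = 0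
        rw [mul_sub, mul_one, he, sub_self])
      rcases IsLocalRing.isUnit_or_isUnit_one_sub_self z with hu | hu
      · have h1 : e = 1 := by
          have := congrArg Subtype.val (hu.mul_right_eq_zero.mp hz)
          exact (sub_eq_zero.mp this).symm
        have := congrFun ((congrArg E h1).symm.trans (E.apply_symm_apply _)) M₂
        rw [map_one, Pi.one_apply, Pi.single_eq_of_ne (Ne.symm hne)] at this
        exact one_ne_zero this
      · have h0 : e = 0 := congrArg Subtype.val (hu.mul_left_eq_zero.mp hz)
        have := congrFun ((congrArg E h0).symm.trans (E.apply_symm_apply _)) M₁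
        rw [map_zero, Pi.zero_apply, Pi.single_eq_same] at this
        exact zero_ne_one this
    have : IsLocalRing Q := by
      obtain ⟨m, hm⟩ := Ideal.exists_maximal Q
      exact IsLocalRing.of_unique_max_ideal ⟨m, hm, fun J hJ =>
        congrArg MaximalSpectrum.asIdeal (hsub ⟨J, hJ⟩ ⟨m, hm⟩)⟩
    have := (IsArtinianRing.isField_of_isReduced_of_isLocalRing Q).isDomain
    exact (IsFractionRing.injective R Q).isDomain _
  · rintro ⟨hdom, hloc⟩
    have hfin : (minimalPrimes A).Finite := by
      rw [minimalPrimes_eq_comap_red, IsDomain.minimalPrimes_eq_singleton_bot]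
      simp
    rw [if_pos hfin, enatCard_eq_one_iff]
    exact ⟨⟨⟨_, IsLocalRing.maximalIdeal.isMaximal _⟩⟩, ⟨fun M₁ M₂ => MaximalSpectrum.ext
      ((IsLocalRing.eq_maximalIdeal M₁.isMaximal).trans (IsLocalRing.eq_maximalIdeal M₂.isMaximal).symm)⟩⟩

/-- The embeddings of a residue field of the normalization are a singleton iff it is purely
inseparable. -/
theorem emb_nonempty_and_subsingleton_iff (m' : MaximalSpectrum (CAlg2.normRed A)) :
    Nonempty (Brnch.Emb A m') ∧ (Subsingleton (Brnch.Emb A m') ↔
      ∀ x : CAlg2.normRed A ⧸ m'.asIdeal, ∃ n : ℕ,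
        x ^ (ringExpChar (CAlg2.normRed A ⧸ m'.asIdeal)) ^ n ∈ (Brnch.toResidue A m').range) := by
  let N := CAlg2.normRed A
  have : Algebra.IsIntegral A N := by
    obtain ⟨e⟩ := nonempty_integralClosure_algEquiv_normRed A
    exact ⟨fun x => by
      simpa using (Algebra.IsIntegral.isIntegral (R := A) (e.symm x)).map e.toAlgHom⟩
  have := m'.isMaximal
  let E := N ⧸ m'.asIdeal
  let := Ideal.Quotient.field m'.asIdeal
  have hker : maximalIdeal A ≤ RingHom.ker (Brnch.toResidue A m') := by
    have h : RingHom.ker (Brnch.toResidue A m') = m'.asIdeal.comap (algebraMap A N) := by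
      show RingHom.ker ((Ideal.Quotient.mk m'.asIdeal).comp (algebraMap A N)) = _
      rw [← RingHom.comap_ker, Ideal.mk_ker]
    rw [h, (isMaximal_iff A).mp (Ideal.isMaximal_comap_of_isIntegral_of_isMaximal m'.asIdeal)]
  let : Algebra (ResidueField A) E :=
    (Ideal.Quotient.lift (maximalIdeal A) (Brnch.toResidue A m') hker).toAlgebra
  have halg : ∀ a, algebraMap (ResidueField A) E (residue A a) = Brnch.toResidue A m' a :=
    fun _ => rfl
  have : IsScalarTower A (ResidueField A) E := IsScalarTower.of_algebraMap_eq fun a => (halg a).symm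
  have : Algebra.IsIntegral (ResidueField A) E := Algebra.IsIntegral.tower_top (R := A)
  have : Algebra.IsAlgebraic (ResidueField A) E := Algebra.IsIntegral.isAlgebraic
  let K := AlgebraicClosure (ResidueField A)
  let F : Brnch.Emb A m' ≃ (E →ₐ[ResidueField A] K) :=
    { toFun := fun σ =>
        { σ.1 with
          commutes' := fun y => by
            obtain ⟨a, rfl⟩ := residue_surjective y
            exact RingHom.congr_fun σ.2 a }
      invFun := fun f => ⟨f.toRingHom, RingHom.ext fun a => f.commutes (residue A a)⟩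
      left_inv := fun σ => rfl
      right_inv := fun f => rfl }
  refine ⟨⟨F.symm IsAlgClosed.lift⟩, ?_⟩
  have hq : ExpChar (ResidueField A) (ringExpChar E) := by
    exact (algebraMap (ResidueField A) E).expChar (algebraMap (ResidueField A) E).injective _
  have hrange : (algebraMap (ResidueField A) E).range = (Brnch.toResidue A m').range := by
    ext x
    constructor
    · rintro ⟨y, rfl⟩
      obtain ⟨a, rfl⟩ := residue_surjective y
      exact ⟨a, (halg a).symm⟩
    · rintro ⟨a, rfl⟩
      exact ⟨residue A a, halg a⟩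
  rw [← hrange, ← isPurelyInseparable_iff_pow_mem (ResidueField A) (ringExpChar E),
    isPurelyInseparable_iff_finSepDegree_eq_one, Field.finSepDegree,
    Nat.card_congr (Field.embEquivOfIsAlgClosed (ResidueField A) E K),
    Nat.card_eq_one_iff_unique]
  refine ⟨fun h => ⟨F.symm.subsingleton, ⟨IsAlgClosed.lift⟩⟩, fun h => ?_⟩
  have := h.1
  exact F.subsingleton

theorem numGeomBranches_eq_one_iff :
    Brnch.numGeomBranches A = 1 ↔ CAlg2.IsGeomUnibranch A := by
  have key : Brnch.numBranches A = 1 →
      (Brnch.numGeomBranches A = 1 ↔ ∀ m', Subsingleton (Brnch.Emb A m')) := by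
    intro h
    unfold Brnch.numBranches at h
    unfold Brnch.numGeomBranches
    by_cases hfin : (minimalPrimes A).Finite
    · rw [if_pos hfin, enatCard_eq_one_iff] at h
      obtain ⟨⟨M⟩, hM⟩ := h
      rw [if_pos hfin, enatCard_eq_one_iff]
      refine ⟨fun ⟨_, _⟩ m' => ⟨fun σ τ =>
        eq_of_heq (Sigma.mk.inj (Subsingleton.elim (⟨m', σ⟩ : Σ m, Brnch.Emb A m) ⟨m', τ⟩)).2⟩,
        fun hall => ⟨?_, ⟨?_⟩⟩⟩
      · obtain ⟨σ⟩ := (emb_nonempty_and_subsingleton_iff A M).1
        exact ⟨⟨M, σ⟩⟩
      · rintro ⟨m, σ⟩ ⟨m', τ⟩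
        obtain rfl := Subsingleton.elim m m'
        exact congrArg _ ((hall m).elim σ τ)
    · rw [if_neg hfin] at h
      exact absurd h (by simp)
  constructor
  · intro h
    have h1 : Brnch.numBranches A = 1 := by
      unfold Brnch.numGeomBranches at h
      unfold Brnch.numBranches
      by_cases hfin : (minimalPrimes A).Finite
      · rw [if_pos hfin, enatCard_eq_one_iff] at h
        rw [if_pos hfin, enatCard_eq_one_iff]
        obtain ⟨⟨⟨m, σ⟩⟩, _⟩ := h
        refine ⟨⟨m⟩, ⟨fun M₁ M₂ => ?_⟩⟩
        obtain ⟨σ₁⟩ := (emb_nonempty_and_subsingleton_iff A M₁).1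
        obtain ⟨σ₂⟩ := (emb_nonempty_and_subsingleton_iff A M₂).1
        exact congrArg Sigma.fst (Subsingleton.elim (⟨M₁, σ₁⟩ : Σ m, Brnch.Emb A m) ⟨M₂, σ₂⟩)
      · rw [if_neg hfin] at h; exact absurd h (by simp)
    refine ⟨(numBranches_eq_one_iff A).mp h1, fun m' hm => ?_⟩
    exact (emb_nonempty_and_subsingleton_iff A ⟨m', hm⟩).2.mp ((key h1).mp h ⟨m', hm⟩)
  · rintro ⟨hU, hall⟩
    refine (key ((numBranches_eq_one_iff A).mpr hU)).mpr fun m' => ?_
    have := m'.isMaximal
    exact (emb_nonempty_and_subsingleton_iff A m').2.mpr (hall m'.asIdeal)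

/-- Unibranch means one minimal prime in the henselization. -/
theorem isUnibranch_iff_card_minimalPrimes (S : Type u) [CommRing S] [IsLocalRing S] [Algebra A S]
    [IsLocalHom (algebraMap A S)] [Hensel.IsHenselization A S] :
    CAlg2.IsUnibranch A ↔ Nonempty (minimalPrimes S) ∧ Subsingleton (minimalPrimes S) := by
  rw [← numBranches_eq_one_iff, ← card_minimalPrimes_henselization A S, enatCard_eq_one_iff]

/-- Geometrically unibranch means one minimal prime in the strict henselization. -/
theorem isGeomUnibranch_iff_card_minimalPrimes (S : Type u) [CommRing S] [IsLocalRing S]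
    [Algebra A S] [IsLocalHom (algebraMap A S)] [Hensel.IsStrictHenselization A S] :
    CAlg2.IsGeomUnibranch A ↔ Nonempty (minimalPrimes S) ∧ Subsingleton (minimalPrimes S) := by
  rw [← numGeomBranches_eq_one_iff, ← card_minimalPrimes_strictHenselization A S,
    enatCard_eq_one_iff]

end Groth.Agent.H9Hens

namespace Groth.Agent.H9Hens

universe v

/-- A ring is a domain iff it is reduced with a unique minimal prime. -/
theorem isDomain_iff_isReduced_minimalPrimes (S : Type v) [CommRing S] :
    IsDomain S ↔ IsReduced S ∧ Nonempty (minimalPrimes S) ∧ Subsingleton (minimalPrimes S) := by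
  refine ⟨fun _ => ⟨inferInstance, ?_⟩, fun ⟨_, ⟨P⟩, _⟩ => ?_⟩
  · rw [IsDomain.minimalPrimes_eq_singleton_bot]
    exact ⟨inferInstance, inferInstance⟩
  · have h : P.1 = ⊥ := by
      refine le_bot_iff.mp fun x hx => ?_
      have hx' : x ∈ nilradical S := (Ideal.sInf_minimalPrimes (I := (⊥ : Ideal S))).le
        (Submodule.mem_sInf.mpr fun J hJ =>
          (congrArg Subtype.val (Subsingleton.elim P (⟨J, hJ⟩ : minimalPrimes S))).le hx)
      simpa [nilradical_eq_zero] using hx'
    have := P.2.1.1
    rw [h] at this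
    exact IsDomain.of_bot_isPrime S

end Groth.Agent.H9Hens
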