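import Groth.Agent.H9Hens.PtColim
import Groth.Agent.H02CA.SmoothRegular
import Mathlib.RingTheory.Etale.Basic
import Mathlib.RingTheory.TensorProduct.Quotient
import Mathlib.RingTheory.Nilpotent.Lemmas

/-!
The nilradical of colimits of pointed etale algebras.
-/

namespace Groth.Agent.H9Hens

universe u

open TensorProduct

variable {A : Type u} [CommRing A] {k : Type u} [CommRing k] [Algebra A k]
variable {H : Type u} [CommRing H] [Algebra A H] {π : H →ₐ[A] k}

/-- The nilradical of an etale algebra is generated by that of the base. -/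
theorem nilradical_of_etale (T : Type u) [CommRing T] [Algebra A T] [Algebra.Etale A T] :
    nilradical T = (nilradical A).map (algebraMap A T) := by
  refine le_antisymm (fun x hx => ?_) (Ideal.map_le_iff_le_comap.mpr fun a ha =>
    mem_nilradical.mpr ((mem_nilradical.mp ha).map _))
  let Q := A ⧸ nilradical A
  have : IsReduced Q :=
    (Ideal.isRadical_iff_quotient_reduced _).mp (Ideal.radical_isRadical _)
  have : IsReduced (Q ⊗[A] T) := H02CA.isReduced_of_smooth Q (Q ⊗[A] T)
  rw [← Ideal.Quotient.eq_zero_iff_mem]
  have h := (((mem_nilradical.mp hx).map (Ideal.Quotient.mk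
    ((nilradical A).map (algebraMap A T)))).map
      (Algebra.TensorProduct.quotIdealMapEquivQuotTensor T (nilradical A))).eq_zero
  exact (map_eq_zero_iff _ (Algebra.TensorProduct.quotIdealMapEquivQuotTensor T
    (nilradical A)).injective).mp h

/-- The nilradical of the colimit is generated by that of the base. -/
theorem IsPtColim.nilradical_eq (hH : IsPtColim π) :
    nilradical H = (nilradical A).map (algebraMap A H) := by
  refine le_antisymm (fun x hx => ?_) (Ideal.map_le_iff_le_comap.mpr fun a ha =>
    mem_nilradical.mpr ((mem_nilradical.mp ha).map _))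
  obtain ⟨S, _, _, _, φ, s, rfl⟩ := hH.exists_rep x
  obtain ⟨n, hn⟩ := mem_nilradical.mp hx
  obtain ⟨T, _, _, _, ψ, φT, hT, hz⟩ := hH.exists_eq_zero S φ (s ^ n) (by rw [map_pow, hn])
  have hs : ψ s ∈ (nilradical A).map (algebraMap A T) := by
    rw [← nilradical_of_etale]
    exact mem_nilradical.mpr ⟨n, by rw [← map_pow, hz]⟩
  have h := Ideal.mem_map_of_mem φT.toRingHom hs
  rw [Ideal.map_map, AlgHom.toRingHom_eq_coe, AlgHom.comp_algebraMap, RingHom.coe_coe] at h
  rw [← hT]
  exact h

theorem IsPtColim.isReduced_iff (hH : IsPtColim π) [Module.FaithfullyFlat A H] :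
    IsReduced A ↔ IsReduced H := by
  refine ⟨fun _ => ?_, fun _ => isReduced_of_injective (algebraMap A H)
    (FaithfulSMul.algebraMap_injective A H)⟩
  rw [← nilradical_eq_bot_iff, hH.nilradical_eq, nilradical_eq_zero, Ideal.zero_eq_bot,
    Ideal.map_bot]

end Groth.Agent.H9Hens
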