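import Groth.Agent.H9Hens.PtConstruct
import Groth.Prelude.Def_PBC

/-!
The colimit of pointed etale algebras is ind-etale.
-/

namespace Groth.Agent.H9Hens

universe u

open CategoryTheory Limits

variable {A : Type u} [CommRing A] {k : Type u} [CommRing k] [Algebra A k]
variable {H : Type u} [CommRing H] [Algebra A H] {π : H →ₐ[A] k}

theorem IsPtColim.isIndEtale (hH : IsPtColim π) : EtPBC.IsIndEtale A H := by
  choose φ hφ using fun j : PtEtale A k => hH.exists_map j.ring j.pt
  let D : PtEtale A k ⥤ Under (CommRingCat.of A) :=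
    { obj := fun j => Under.mk (CommRingCat.ofHom (algebraMap A j.ring))
      map := fun f => Under.homMk (CommRingCat.ofHom f.1.toRingHom)
        (CommRingCat.hom_ext (RingHom.ext fun a => f.1.commutes a)) }
  let c : Cocone D :=
    { pt := Under.mk (CommRingCat.ofHom (algebraMap A H))
      ι := { app := fun j => Under.homMk (CommRingCat.ofHom (φ j).toRingHom)
              (CommRingCat.hom_ext (RingHom.ext fun a => (φ j).commutes a))
             naturality := fun i j f => by
              have h : (φ j).comp f.1 = φ i := hH.hom_ext (by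
                rw [← AlgHom.comp_assoc, hφ, hφ, f.2])
              exact Under.UnderMorphism.ext (CommRingCat.hom_ext (RingHom.ext fun x =>
                DFunLike.congr_fun h x)) } }
  have hfac : ∀ (S : Type u) [CommRing S] [Algebra A S] [Algebra.Etale A S] (ψ : S →ₐ[A] H),
      ∃ (j : PtEtale A k) (e : j.ring ≃ₐ[A] S), φ j = ψ.comp e.toAlgHom := fun S _ _ _ ψ => by
    obtain ⟨j, e, he⟩ := PtEtale.exists_equiv S (π.comp ψ)
    exact ⟨j, e, hH.hom_ext (by rw [hφ, he, AlgHom.comp_assoc])⟩
  have hdesc : ∀ s : Cocone D, ∃ g : c.pt ⟶ s.pt, ∀ j, c.ι.app j ≫ g = s.ι.app j := by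
    intro s
    let : Algebra A s.pt.right := s.pt.hom.hom.toAlgebra
    let leg : ∀ j : PtEtale A k, j.ring →ₐ[A] s.pt.right := fun j =>
      { (s.ι.app j).right.hom with
        commutes' := fun a => ConcreteCategory.congr_hom (Under.w (s.ι.app j)) a }
    have hnat : ∀ {i j : PtEtale A k} (f : i ⟶ j), (leg j).comp f.1 = leg i := fun f =>
      AlgHom.ext fun x => ConcreteCategory.congr_hom
        (congrArg CommaMorphism.right (s.w f)) x
    choose jS eS hjS using hfac
    obtain ⟨g, hg⟩ := hH.exists_desc (fun S _ _ _ ψ => (leg (jS S ψ)).comp (eS S ψ).symm.toAlgHom)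
      (fun S _ _ _ ψS T _ _ _ ψT χ h => by
        let f : jS S ψS ⟶ jS T ψT :=
          ⟨(eS T ψT).symm.toAlgHom.comp (χ.comp (eS S ψS).toAlgHom), AlgHom.ext fun x => by
            rw [← hφ, ← hφ, hjS, hjS]
            simp only [AlgHom.comp_apply, AlgEquiv.coe_toAlgHom, AlgEquiv.apply_symm_apply]
            exact congrArg π (DFunLike.congr_fun h _)⟩
        refine AlgHom.ext fun x => ?_
        have := DFunLike.congr_fun (hnat f) ((eS S ψS).symm x)
        simpa [f] using this)
    refine ⟨Under.homMk (CommRingCat.ofHom g.toRingHom)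
      (CommRingCat.hom_ext (RingHom.ext fun a => g.commutes a)), fun j => ?_⟩
    refine Under.UnderMorphism.ext (CommRingCat.hom_ext (RingHom.ext fun x => ?_))
    show g (φ j x) = leg j x
    let f : j ⟶ jS j.ring (φ j) := ⟨(eS j.ring (φ j)).symm.toAlgHom, AlgHom.ext fun y => by
      rw [← hφ, hjS, ← hφ j]
      simp⟩
    have h1 := DFunLike.congr_fun (hg j.ring (φ j)) x
    have h2 := DFunLike.congr_fun (hnat f) x
    exact h1.trans h2
  choose g hg using hdesc
  refine ⟨PtEtale A k, inferInstance, PtEtale.isFiltered, D, c,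
    { desc := g, fac := hg, uniq := fun s m hm => ?_ }, fun j => ?_, ⟨Iso.refl _⟩⟩
  · refine Under.UnderMorphism.ext (CommRingCat.hom_ext (RingHom.ext fun (x : H) => ?_))
    obtain ⟨S, _, _, _, ψ, y, rfl⟩ := hH.exists_rep x
    obtain ⟨j, e, he⟩ := hfac S ψ
    have h1 := ConcreteCategory.congr_hom (congrArg CommaMorphism.right (hm j)) (e.symm y)
    have h2 := ConcreteCategory.congr_hom (congrArg CommaMorphism.right (hg s j)) (e.symm y)
    have h3 : φ j (e.symm y) = ψ y := by rw [he]; simp
    rw [← h3]
    exact h1.trans h2.symm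
  · exact (Algebra.algebra_ext _ _ fun _ => rfl : (algebraMap A j.ring).toAlgebra =
      (inferInstance : Algebra A j.ring)) ▸ j.etale

end Groth.Agent.H9Hens
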