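import Mathlib.RingTheory.Flat.EquationalCriterion
import Mathlib.RingTheory.Flat.FaithfullyFlat.Basic
import Mathlib.RingTheory.RingHom.Flat
import Mathlib.RingTheory.Etale.Weakly
import Mathlib.LinearAlgebra.TensorProduct.Tower

/-!
Flatness along weakly etale algebras and flat quotients.
-/

namespace Groth.Agent.H9Hens

universe u v w

open TensorProduct

/-- Finitely many elements killing a flat cyclic algebra are killed by one unit lift. -/
theorem exists_mul_eq_zero_of_flat {R S : Type*} [CommRing R] [CommRing S] (f : R →+* S)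
    (hsurj : Function.Surjective f) (hflat : f.Flat) {ι : Type*} (s : Finset ι) (t : ι → R)
    (ht : ∀ i ∈ s, f (t i) = 0) : ∃ u : R, f u = 1 ∧ ∀ i ∈ s, u * t i = 0 := by
  let : Algebra R S := f.toAlgebra
  have : Module.Flat R S := hflat
  classical
  induction s using Finset.induction with
  | empty => exact ⟨1, map_one f, fun i hi => absurd hi (Finset.notMem_empty i)⟩
  | insert i s his ih =>
    obtain ⟨u, hu, hus⟩ := ih fun j hj => ht j (Finset.mem_insert_of_mem hj)
    have h0 : ∑ _j : Fin 1, t i • (1 : S) = 0 := by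
      simp [Algebra.smul_def, RingHom.algebraMap_toAlgebra, ht i (Finset.mem_insert_self i s)]
    obtain ⟨k, a, y, hy, ha⟩ :=
      Module.Flat.iff_forall_isTrivialRelation.mp (inferInstance : Module.Flat R S) h0
    choose r hr using fun j => hsurj (y j)
    let w := ∑ j, a 0 j * r j
    have hw : f w = 1 := by
      have := hy 0
      simp only at this
      rw [this, map_sum]
      simp [Algebra.smul_def, RingHom.algebraMap_toAlgebra, hr]
    have hwt : w * t i = 0 := by
      rw [Finset.sum_mul]
      refine Finset.sum_eq_zero fun j _ => ?_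
      have := ha j
      simp only [Finset.univ_unique, Fin.default_eq_zero, Finset.sum_singleton] at this
      rw [mul_right_comm, mul_comm (a 0 j), this, zero_mul]
    refine ⟨u * w, by rw [map_mul, hu, hw, mul_one], fun j hj => ?_⟩
    rcases Finset.mem_insert.mp hj with rfl | hj
    · rw [mul_assoc, hwt, mul_zero]
    · rw [mul_right_comm, hus j hj, zero_mul]

/-- A module flat over `A` is flat over `B` when `B ⊗ B → B` is flat. -/
theorem flat_of_restrictScalars_of_flat_lmul' (A : Type u) (B : Type v) [CommRing A] [CommRing B]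
    [Algebra A B] (h : (Algebra.TensorProduct.lmul' A (S := B)).Flat) (N : Type w) [AddCommGroup N]
    [Module B N] [Module A N] [IsScalarTower A B N] [Module.Flat A N] : Module.Flat B N := by
  refine Module.Flat.iff_forall_isTrivialRelation.mpr fun {l} b n hbn => ?_
  let μ := Algebra.TensorProduct.lmul' A (S := B)
  obtain ⟨u, hu, hut⟩ := exists_mul_eq_zero_of_flat μ.toRingHom
    (fun x => ⟨x ⊗ₜ 1, by simp [μ]⟩) h Finset.univ
    (fun i : Fin l => b i ⊗ₜ[A] (1 : B) - 1 ⊗ₜ[A] b i) (fun i _ => by simp [μ])
  let ψ : N → B ⊗[A] B →ₗ[B] B ⊗[A] N := fun m =>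
    AlgebraTensorModule.map LinearMap.id ((LinearMap.toSpanSingleton B N m).restrictScalars A)
  have hψ : ∀ m x y, ψ m (x ⊗ₜ y) = x ⊗ₜ (y • m) := fun m x y => rfl
  have hψr : ∀ (m : N) (c : B) v, ψ m (v * (1 ⊗ₜ c)) = ψ (c • m) v := by
    intro m c v
    induction v with
    | zero => simp
    | tmul x y => rw [Algebra.TensorProduct.tmul_mul_tmul, mul_one, hψ, hψ, mul_smul]
    | add v w hv hw => simp only [add_mul, map_add, hv, hw]
  have hψl : ∀ (m : N) (c : B) v, c • ψ m v = ψ m ((c ⊗ₜ 1) * v) := by
    intro m c v
    induction v with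
    | zero => simp
    | tmul x y => rw [Algebra.TensorProduct.tmul_mul_tmul, one_mul, hψ, hψ,
        TensorProduct.smul_tmul', smul_eq_mul]
    | add v w hv hw => simp only [mul_add, map_add, smul_add, hv, hw]
  have hψs : ∀ v, (∀ m₁ m₂, ψ (m₁ + m₂) v = ψ m₁ v + ψ m₂ v) ∧ ψ 0 v = 0 := by
    intro v
    induction v with
    | zero => simp
    | tmul x y => exact ⟨fun m₁ m₂ => by rw [hψ, hψ, hψ, smul_add, tmul_add],
        by rw [hψ, smul_zero, tmul_zero]⟩
    | add v w hv hw => exact ⟨fun m₁ m₂ => by simp only [map_add, hv.1, hw.1]; abel,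
        by rw [map_add, hv.2, hw.2, add_zero]⟩
  let Ψ : N →+ B ⊗[A] N :=
    { toFun := fun m => ψ m u, map_zero' := (hψs u).2, map_add' := (hψs u).1 }
  have hrel : ∑ i, b i • Ψ (n i) = 0 := by
    rw [← map_zero Ψ, ← hbn, map_sum]
    refine Finset.sum_congr rfl fun i _ => ?_
    show b i • ψ (n i) u = ψ (b i • n i) u
    rw [hψl, ← hψr, ← sub_eq_zero, ← map_sub, mul_comm u, ← sub_mul, mul_comm,
      hut i (Finset.mem_univ i), map_zero]
  obtain ⟨κ, a, y, hy, ha⟩ := Module.Flat.iff_forall_isTrivialRelation.mp
    (inferInstance : Module.Flat B (B ⊗[A] N)) hrel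
  let act : B ⊗[A] N →ₗ[B] N :=
    AlgebraTensorModule.lift ((LinearMap.lsmul B (N →ₗ[A] N)).flip LinearMap.id)
  have hact : ∀ x m, act (x ⊗ₜ m) = x • m := fun x m => rfl
  have hΨ : ∀ (m : N) v, act (ψ m v) = μ v • m := by
    intro m v
    induction v with
    | zero => simp
    | tmul x y => rw [hψ, hact, ← mul_smul]; simp [μ]
    | add v w hv hw => simp only [map_add, hv, hw, add_smul]
  refine ⟨κ, a, fun j => act (y j), fun i => ?_, ha⟩
  have h1 := congrArg act (hy i)
  rw [map_sum] at h1
  simp only [map_smul] at h1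
  rw [← h1]
  show n i = act (ψ (n i) u)
  rw [hΨ, show μ u = 1 from hu, one_smul]

/-- Flatness along a surjection. -/
theorem flat_of_surjective_of_flat_comp {R S T : Type*} [CommRing R] [CommRing S] [CommRing T]
    {f : R →+* S} {g : S →+* T} (hf : Function.Surjective f) (h : (g.comp f).Flat) : g.Flat := by
  let : Algebra R T := (g.comp f).toAlgebra
  let : Algebra S T := g.toAlgebra
  have : Module.Flat R T := h
  show Module.Flat S T
  refine Module.Flat.iff_forall_isTrivialRelation.mpr fun {l} s x hsx => ?_
  choose r hr using fun i => hf (s i)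
  obtain ⟨k, a, y, hy, ha⟩ := Module.Flat.iff_forall_isTrivialRelation.mp
    (inferInstance : Module.Flat R T) (f := r) (x := x) (by
      simpa [Algebra.smul_def, RingHom.algebraMap_toAlgebra, hr] using hsx)
  refine ⟨k, fun i j => f (a i j), y, fun i => ?_, fun j => ?_⟩
  · rw [hy i]; rfl
  · have := congrArg f (ha j)
    simpa [hr] using this

/-- Flatness descends along a faithfully flat algebra. -/
theorem flat_of_faithfullyFlat_tower (R S T : Type u) [CommRing R] [CommRing S] [CommRing T]
    [Algebra R S] [Algebra S T] [Algebra R T] [IsScalarTower R S T] [Module.FaithfullyFlat S T]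
    [Module.Flat R T] : Module.Flat R S := by
  rw [Module.Flat.iff_lTensor_preserves_injective_linearMap]
  intro P Q _ _ _ _ f hf
  let F := AlgebraTensorModule.lTensor S S f
  suffices hF : Function.Injective F from hF
  rw [← Module.FaithfullyFlat.lTensor_injective_iff_injective S T]
  let eP := AlgebraTensorModule.cancelBaseChange R S S T P
  let eQ := AlgebraTensorModule.cancelBaseChange R S S T Q
  have h2 : ∀ x, eQ (F.lTensor T x) = f.lTensor T (eP x) := by
    intro x
    induction x using TensorProduct.induction_on with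
    | zero => simp
    | add x y hx hy => simp only [map_add, hx, hy]
    | tmul t z =>
      induction z using TensorProduct.induction_on with
      | zero => simp
      | add x y hx hy => simp only [tmul_add, map_add, hx, hy]
      | tmul s p => simp [eP, eQ, F]
  intro x y h
  refine eP.injective (Module.Flat.lTensor_preserves_injective_linearMap (M := T) f hf ?_)
  rw [← h2, ← h2, h]

end Groth.Agent.H9Hens
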