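import Groth.Agent.H9Hens.PtBase
import Groth.Agent.H9Hens.PtField
import Groth.Agent.H24Adic.Noetherian
import Mathlib.RingTheory.AdicCompletion.LocalRing
import Mathlib.RingTheory.AdicCompletion.Algebra
import Mathlib.RingTheory.Filtration
import Mathlib.RingTheory.KrullDimension.Basic
import Mathlib.RingTheory.Ideal.GoingDown

/-!
Noetherianity and dimension of colimits of pointed etale algebras over a local ring.
-/

namespace Groth.Agent.H9Hens

universe u

open IsLocalRing

variable {A : Type u} [CommRing A] [IsLocalRing A] {k : Type u} [Field k] [Algebra A k]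
  (hk : RingHom.ker (algebraMap A k) = maximalIdeal A)
  {H : Type u} [CommRing H] [IsLocalRing H] [Algebra A H] {π : H →ₐ[A] k}

include hk

/-- Finitely generated ideals are closed for the adic topology of the maximal ideal. -/
theorem IsPtColim.mem_of_forall_mem_sup_pow [IsNoetherianRing A] (hH : IsPtColim π) {I : Ideal H}
    (hI : I.FG) {x : H} (hx : ∀ n, x ∈ I ⊔ maximalIdeal H ^ n) : x ∈ I := by
  classical
  obtain ⟨t, ht⟩ := hI
  obtain ⟨S, _, _, _, φ, y, hy⟩ := hH.exists_rep_finset (insert x t) id
  let : Algebra S H := φ.toRingHom.toAlgebra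
  have : IsScalarTower A S H := IsScalarTower.of_algebraMap_eq fun a => (φ.commutes a).symm
  have : IsNoetherianRing S := Algebra.FiniteType.isNoetherianRing A S
  have := hH.flat_of_etale S
  let q : Ideal S := RingHom.ker (π.comp φ)
  have : q.IsPrime := RingHom.ker_isPrime _
  let Sq := Localization.AtPrime q
  have hunit : ∀ s : q.primeCompl, IsUnit (algebraMap S H s) := fun s =>
    hH.isUnit_iff_ne_zero.mpr fun h => s.2 (RingHom.mem_ker.mpr h)
  let : Algebra Sq H := (IsLocalization.lift hunit).toAlgebra
  have : IsScalarTower S Sq H :=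
    IsScalarTower.of_algebraMap_eq fun s => (IsLocalization.lift_eq hunit s).symm
  have : IsScalarTower A Sq H := IsScalarTower.of_algebraMap_eq fun a => by
    rw [IsScalarTower.algebraMap_apply A S Sq, ← IsScalarTower.algebraMap_apply S Sq H,
      ← IsScalarTower.algebraMap_apply]
  have : Module.Flat Sq H := (Module.flat_iff_of_isLocalization Sq q.primeCompl H).mpr inferInstance
  have : IsLocalHom (algebraMap Sq H) := by
    refine ⟨fun z hz => ?_⟩
    obtain ⟨a, s, rfl⟩ := IsLocalization.exists_mk'_eq q.primeCompl z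
    rw [IsLocalization.AtPrime.isUnit_mk'_iff Sq q]
    intro ha
    rw [hH.isUnit_iff_ne_zero] at hz
    refine hz ?_
    show π (IsLocalization.lift hunit (IsLocalization.mk' Sq a s)) = 0
    rw [IsLocalization.lift_mk', map_mul]
    exact mul_eq_zero_of_left (RingHom.mem_ker.mp ha) _
  have : Module.FaithfullyFlat Sq H := Module.FaithfullyFlat.of_flat_of_isLocalHom
  have hmax : (maximalIdeal Sq).map (algebraMap Sq H) = maximalIdeal H := by
    refine le_antisymm (map_maximalIdeal_le _) ?_
    rw [← hH.map_maximalIdeal hk, IsScalarTower.algebraMap_eq A Sq H, ← Ideal.map_map]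
    refine Ideal.map_mono (Ideal.map_le_iff_le_comap.mpr fun a ha => ?_)
    rw [Ideal.mem_comap, IsScalarTower.algebraMap_apply A S Sq,
      IsLocalization.AtPrime.to_map_mem_maximal_iff Sq q]
    show (π.comp φ) (algebraMap A S a) = 0
    rw [AlgHom.commutes]
    exact RingHom.mem_ker.mp (hk ▸ ha)
  let I' : Ideal Sq := Ideal.span ((t.image y).image (algebraMap S Sq) : Finset Sq)
  have hI' : I'.map (algebraMap Sq H) = I := by
    rw [Ideal.map_span, ← ht]
    congr 1
    simp only [Finset.coe_image, Set.image_image, ← IsScalarTower.algebraMap_apply]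
    refine (Set.image_congr fun a ha => ?_).trans (Set.image_id _)
    exact hy a (Finset.mem_insert_of_mem ha)
  let x' := algebraMap S Sq (y x)
  have hx' : algebraMap Sq H x' = x := by
    rw [← IsScalarTower.algebraMap_apply]
    exact hy x (Finset.mem_insert_self _ _)
  have hn : ∀ n, x' ∈ I' ⊔ maximalIdeal Sq ^ n := fun n => by
    rw [← Ideal.comap_map_eq_self_of_faithfullyFlat (B := H) (I' ⊔ maximalIdeal Sq ^ n),
      Ideal.mem_comap, Ideal.map_sup, Ideal.map_pow, hI', hmax, hx']
    exact hx n
  have hx0 : Ideal.Quotient.mk I' x' ∈ (⨅ n : ℕ, maximalIdeal Sq ^ n • ⊤ :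
      Submodule Sq (Sq ⧸ I')) := by
    rw [Submodule.mem_iInf]
    intro n
    rw [Ideal.smul_top_eq_map, Submodule.restrictScalars_mem, Ideal.Quotient.algebraMap_eq,
      Ideal.mem_quotient_iff_mem_sup, sup_comm]
    exact hn n
  replace hx0 := (Ideal.iInf_pow_smul_eq_bot_of_isLocalRing (I := maximalIdeal Sq) (M := Sq ⧸ I')
    (maximalIdeal.isMaximal Sq).ne_top).le hx0
  replace hx0 : x' ∈ I' := Ideal.Quotient.eq_zero_iff_mem.mp hx0
  rw [← hx', ← hI']
  exact Ideal.mem_map_of_mem _ hx0

/-- The colimit of pointed etale algebras over a noetherian local ring is noetherian. -/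
theorem IsPtColim.isNoetherianRing [IsNoetherianRing A] (hH : IsPtColim π) : IsNoetherianRing H := by
  classical
  have hfg : (maximalIdeal H).FG := by
    rw [← hH.map_maximalIdeal hk]; exact Ideal.FG.map (IsNoetherian.noetherian (maximalIdeal A)) _
  let C := AdicCompletion (maximalIdeal H) H
  have := AdicCompletion.isLocalRing_of_fg hfg
  have := AdicCompletion.isAdicComplete_of_fg hfg
  have hfgC : (maximalIdeal C).FG := by
    rw [AdicCompletion.maximalIdeal_eq_map_of_fg hfg]; exact Ideal.FG.map hfg _
  have : IsNoetherianRing (ResidueField C) := inferInstance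
  have : IsNoetherianRing (C ⧸ maximalIdeal C) := this
  have : IsNoetherianRing C := H24Adic.isNoetherianRing_of_isAdicComplete (maximalIdeal C) hfgC
  refine (isNoetherianRing_iff_ideal_fg H).mpr fun I => ?_
  have hC : (Ideal.span (algebraMap H C '' (I : Set H))).FG := IsNoetherian.noetherian _
  obtain ⟨s, hs, hspan⟩ := (Submodule.fg_span_iff_fg_span_finset_subset _).mp hC
  obtain ⟨t, htI, hts⟩ : ∃ t : Finset H, (t : Set H) ⊆ (I : Set H) ∧ t.image (algebraMap H C) = s :=
    Finset.subset_set_image_iff.mp hs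
  refine ⟨t, le_antisymm (Submodule.span_le.mpr htI) fun x hx => ?_⟩
  refine hH.mem_of_forall_mem_sup_pow hk ⟨t, rfl⟩ fun n => ?_
  have h1 : algebraMap H C x ∈ (Ideal.span (t : Set H)).map (algebraMap H C) := by
    rw [Ideal.map_span, ← Finset.coe_image, hts]
    have h2 : algebraMap H C x ∈ Ideal.span (algebraMap H C '' (I : Set H)) :=
      Ideal.subset_span ⟨x, hx, rfl⟩
    exact (le_of_eq hspan) h2
  have h3 := Ideal.mem_map_of_mem (AdicCompletion.evalₐ (maximalIdeal H) n).toRingHom h1
  rw [Ideal.map_map, AlgHom.toRingHom_eq_coe, AlgHom.comp_algebraMap, RingHom.coe_coe,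
    AlgHom.commutes, Ideal.Quotient.algebraMap_eq, Ideal.mem_quotient_iff_mem_sup, sup_comm] at h3
  rw [sup_comm]
  exact h3

/-- The colimit of pointed etale algebras over a local ring has the same dimension. -/
theorem IsPtColim.ringKrullDim_eq (hH : IsPtColim π) : ringKrullDim H = ringKrullDim A := by
  refine le_antisymm ?_ ?_
  · refine Order.krullDim_le_of_strictMono (PrimeSpectrum.comap (algebraMap A H)) fun P Q hPQ => ?_
    refine lt_of_le_of_ne (Ideal.comap_mono hPQ.le) fun h => hPQ.ne ?_
    exact PrimeSpectrum.ext (hH.eq_of_le_of_comap_eq hPQ.le (congrArg PrimeSpectrum.asIdeal h))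
  · have := hH.faithfullyFlat hk
    refine iSup_le fun l => ?_
    obtain ⟨P, hP⟩ := PrimeSpectrum.comap_surjective_of_faithfullyFlat (A := A) (B := H) l.last
    have : P.asIdeal.LiesOver l.last.asIdeal := ⟨(congrArg PrimeSpectrum.asIdeal hP).symm⟩
    obtain ⟨L, hL, -, -⟩ := Ideal.exists_ltSeries_of_hasGoingDown l P.asIdeal
    exact le_trans (by rw [hL]) (le_iSup _ L)

end Groth.Agent.H9Hens
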