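import Mathlib.FieldTheory.IsSepClosed
import Mathlib.FieldTheory.PurelyInseparable.Tower
import Mathlib.RingTheory.AdjoinRoot

/-!
Algebraic extensions of separably closed fields are separably closed.
-/

namespace Groth.Agent.H9Hens

open Polynomial

theorem isSepClosed_of_isAlgebraic (k : Type*) {L : Type*} [Field k] [IsSepClosed k] [Field L]
    [Algebra k L] [Algebra.IsAlgebraic k L] : IsSepClosed L := by
  refine IsSepClosed.of_exists_root _ fun p hp hirr hsep => ?_
  have : Fact (Irreducible p) := ⟨hirr⟩
  have hfin : Module.Finite L (AdjoinRoot p) := hp.finite_adjoinRoot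
  have : Algebra.IsAlgebraic k (AdjoinRoot p) := Algebra.IsAlgebraic.trans k L (AdjoinRoot p)
  have : IsPurelyInseparable k (AdjoinRoot p) := inferInstance
  have : IsPurelyInseparable L (AdjoinRoot p) := IsPurelyInseparable.tower_top (F := k) L _
  have hroot : IsSeparable L (AdjoinRoot.root p) := by
    refine hsep.of_dvd (minpoly.dvd L _ ?_)
    rw [AdjoinRoot.aeval_eq, AdjoinRoot.mk_self]
  obtain ⟨x, hx⟩ := IsPurelyInseparable.inseparable L (AdjoinRoot.root p) hroot
  refine ⟨x, (algebraMap L (AdjoinRoot p)).injective ?_⟩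
  rw [map_zero, ← aeval_algebraMap_apply_eq_algebraMap_eval, hx, AdjoinRoot.aeval_eq,
    AdjoinRoot.mk_self]

end Groth.Agent.H9Hens
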