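import Mathlib.RingTheory.LocalRing.ResidueField.Basic
import Mathlib.FieldTheory.PurelyInseparable.Basic
import Mathlib.RingTheory.TensorProduct.Maps
import Mathlib.RingTheory.IntegralClosure.IntegralRestrict

/-!
# Local tensor products

An integral local algebra with purely inseparable residue extension stays local after base change to
a local ring.
-/

universe u

open TensorProduct IsLocalRing

namespace Groth.Agent.H9Hens

variable (R A B : Type u) [CommRing R] [IsLocalRing R] [CommRing A] [IsLocalRing A] [Algebra R A]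
  [IsLocalHom (algebraMap R A)] [Algebra.IsIntegral R A]
  [IsPurelyInseparable (ResidueField R) (ResidueField A)]
  [CommRing B] [IsLocalRing B] [Algebra R B] [IsLocalHom (algebraMap R B)]

omit [IsLocalHom (algebraMap R A)] [IsPurelyInseparable (ResidueField R) (ResidueField A)] [IsLocalRing R] [IsLocalRing A] in
theorem includeRight_integral :
    (Algebra.TensorProduct.includeRight : B →ₐ[R] A ⊗[R] B).toRingHom.IsIntegral := by
  letI : Algebra B (A ⊗[R] B) := Algebra.TensorProduct.rightAlgebra
  intro z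
  induction z using TensorProduct.induction_on with
  | zero => exact RingHom.isIntegralElem_zero _
  | tmul a b =>
    rw [show (a ⊗ₜ[R] b : A ⊗[R] B) = a ⊗ₜ 1 * 1 ⊗ₜ b by simp]
    refine RingHom.IsIntegralElem.mul _ ?_ (RingHom.isIntegralElem_map _)
    obtain ⟨P, hP, hPa⟩ := Algebra.IsIntegral.isIntegral (R := R) a
    refine ⟨P.map (algebraMap R B), hP.map _, ?_⟩
    rw [Polynomial.eval₂_map, show ((Algebra.TensorProduct.includeRight : B →ₐ[R] A ⊗[R] B).toRingHom).comp
      (algebraMap R B) = (Algebra.TensorProduct.includeLeftRingHom : A →+* A ⊗[R] B).comp (algebraMap R A) from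
      RingHom.ext fun r => (Algebra.TensorProduct.includeRight : B →ₐ[R] A ⊗[R] B).commutes r]
    rw [show (a ⊗ₜ[R] (1 : B)) = (Algebra.TensorProduct.includeLeftRingHom : A →+* A ⊗[R] B) a from rfl,
      ← Polynomial.hom_eval₂, hPa, map_zero]
  | add x y hx hy => exact hx.add _ hy

/-- Every maximal ideal of the tensor product lies over the maximal ideals of both factors. -/
theorem comap_maximalIdeal (M : Ideal (A ⊗[R] B)) [hM : M.IsMaximal] :
    M.comap (Algebra.TensorProduct.includeRight : B →ₐ[R] A ⊗[R] B).toRingHom = maximalIdeal B ∧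
      M.comap (Algebra.TensorProduct.includeLeftRingHom : A →+* A ⊗[R] B) = maximalIdeal A := by
  set iB := (Algebra.TensorProduct.includeRight : B →ₐ[R] A ⊗[R] B).toRingHom
  set iA := (Algebra.TensorProduct.includeLeftRingHom : A →+* A ⊗[R] B)
  have hcomp : iB.comp (algebraMap R B) = iA.comp (algebraMap R A) :=
    RingHom.ext fun r => (Algebra.TensorProduct.includeRight : B →ₐ[R] A ⊗[R] B).commutes r
  have hMB : M.comap iB = maximalIdeal B := by
    letI := iB.toAlgebra
    have : Algebra.IsIntegral B (A ⊗[R] B) := ⟨includeRight_integral R A B⟩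
    exact IsLocalRing.eq_maximalIdeal (Ideal.isMaximal_comap_of_isIntegral_of_isMaximal M)
  refine ⟨hMB, ?_⟩
  have : (M.comap iA).IsPrime := Ideal.IsPrime.comap iA
  refine IsLocalRing.eq_maximalIdeal (Ideal.isMaximal_of_isIntegral_of_isMaximal_comap (R := R) _ ?_)
  rw [Ideal.comap_comap, ← hcomp, ← Ideal.comap_comap, hMB]
  rw [show (maximalIdeal B).comap (algebraMap R B) = maximalIdeal R from
    ((IsLocalRing.local_hom_TFAE (algebraMap R B)).out 0 4 rfl rfl).mp inferInstance]
  exact maximalIdeal.isMaximal R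

/-- Elements of the tensor product are congruent to elements of `B` up to `p`-th powers, modulo all
maximal ideals. -/
theorem exists_pow_sub_mem (x : A ⊗[R] B) :
    ∃ (n : ℕ) (b : B), ∀ M : Ideal (A ⊗[R] B), M.IsMaximal →
      x ^ (ringExpChar (ResidueField B)) ^ n - (1 : A) ⊗ₜ[R] b ∈ M := by
  set q := ringExpChar (ResidueField B) with hq
  set iB := (Algebra.TensorProduct.includeRight : B →ₐ[R] A ⊗[R] B).toRingHom
  set iA := (Algebra.TensorProduct.includeLeftRingHom : A →+* A ⊗[R] B)
  let τ : ResidueField R →+* ResidueField B := ResidueField.map (algebraMap R B)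
  have hqR : ringExpChar (ResidueField R) = q := by
    obtain ⟨p, hp⟩ := ExpChar.exists (ResidueField R)
    have := expChar_of_injective_ringHom τ.injective p
    rw [hq, ringExpChar.eq (ResidueField R) p, ringExpChar.eq (ResidueField B) p]
  induction x using TensorProduct.induction_on with
  | zero =>
    exact ⟨0, 0, fun M _ => by simp [zero_pow (one_ne_zero (α := ℕ))]⟩
  | tmul a b =>
    have : ExpChar (ResidueField R) q := hqR ▸ inferInstance
    obtain ⟨n, z, hz⟩ := IsPurelyInseparable.pow_mem (ResidueField R) q (residue A a)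
    obtain ⟨r, rfl⟩ := residue_surjective z
    refine ⟨n, algebraMap R B r * b ^ q ^ n, fun M hM => ?_⟩
    have h1 : a ^ q ^ n - algebraMap R A r ∈ maximalIdeal A := by
      rw [← residue_eq_zero_iff, map_sub, map_pow, sub_eq_zero, ← hz]
      rfl
    have h2 : iA (a ^ q ^ n - algebraMap R A r) ∈ M := (comap_maximalIdeal R A B M).2.ge h1
    have : (a ⊗ₜ[R] b) ^ q ^ n - (1 : A) ⊗ₜ[R] (algebraMap R B r * b ^ q ^ n) =
        iA (a ^ q ^ n - algebraMap R A r) * iB (b ^ q ^ n) := by
      rw [map_sub, sub_mul, show iA (algebraMap R A r) = iB (algebraMap R B r) from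
        ((Algebra.TensorProduct.includeRight : B →ₐ[R] A ⊗[R] B).commutes r).symm, ← map_mul iB]
      simp [iA, iB, Algebra.TensorProduct.tmul_pow]
    rw [this]
    exact Ideal.mul_mem_right _ _ h2
  | add x y hx hy =>
    obtain ⟨n, b, hb'⟩ := hx
    obtain ⟨m, c, hc'⟩ := hy
    refine ⟨n + m, b ^ q ^ m + c ^ q ^ n, fun M hM => ?_⟩
    letI := Ideal.Quotient.field M
    let σ : ResidueField B →+* (A ⊗[R] B) ⧸ M :=
      Ideal.Quotient.lift _ ((Ideal.Quotient.mk M).comp iB) fun b hb => Ideal.Quotient.eq_zero_iff_mem.mpr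
        ((comap_maximalIdeal R A B M).1.ge hb :)
    have : ExpChar ((A ⊗[R] B) ⧸ M) q := expChar_of_injective_ringHom σ.injective q
    have hb := hb' M hM
    have hc := hc' M hM
    rw [← Ideal.Quotient.eq] at hb hc ⊢
    rw [map_pow] at hb hc
    rw [map_pow, map_add, add_pow_expChar_pow, TensorProduct.tmul_add, map_add]
    congr 1
    · rw [pow_add, pow_mul, hb, ← map_pow, Algebra.TensorProduct.tmul_pow, one_pow]
    · rw [pow_add, mul_comm, pow_mul, hc, ← map_pow, Algebra.TensorProduct.tmul_pow, one_pow]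

/-- The tensor product is local, and its residue field is purely inseparable over that of `B`. -/
theorem exists_isLocalRing_tensor :
    ∃ _ : IsLocalRing (A ⊗[R] B),
      IsLocalHom (Algebra.TensorProduct.includeRight : B →ₐ[R] A ⊗[R] B).toRingHom ∧
      ∀ x : A ⊗[R] B, ∃ (n : ℕ) (b : B),
        x ^ (ringExpChar (ResidueField B)) ^ n - (1 : A) ⊗ₜ[R] b ∈ maximalIdeal (A ⊗[R] B) := by
  set q := ringExpChar (ResidueField B) with hq
  have hq0 : ∀ n, 0 < q ^ n := fun n => pow_pos (expChar_pos (ResidueField B) q) n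
  have hnt : Nontrivial (A ⊗[R] B) := by
    let τ : ResidueField R →+* ResidueField B := ResidueField.map (algebraMap R B)
    let Ω := AlgebraicClosure (ResidueField B)
    letI : Algebra (ResidueField R) Ω := ((algebraMap (ResidueField B) Ω).comp τ).toAlgebra
    let ψ : ResidueField A →ₐ[ResidueField R] Ω := IsAlgClosed.lift
    letI : Algebra R Ω := ((algebraMap (ResidueField R) Ω).comp (residue R)).toAlgebra
    let fA : A →ₐ[R] Ω := ⟨(ψ : ResidueField A →+* Ω).comp (residue A),
      fun r => ψ.commutes (residue R r)⟩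
    let fB : B →ₐ[R] Ω := ⟨(algebraMap (ResidueField B) Ω).comp (residue B), fun r => rfl⟩
    exact (Algebra.TensorProduct.lift fA fB fun _ _ => Commute.all _ _).toRingHom.domain_nontrivial
  obtain ⟨M, hM⟩ := Ideal.exists_maximal (A ⊗[R] B)
  have huniq : ∀ M' : Ideal (A ⊗[R] B), M'.IsMaximal → M' = M := by
    intro M' hM'
    refine hM'.eq_of_le hM.ne_top fun x hx => ?_
    obtain ⟨n, b, hb⟩ := exists_pow_sub_mem R A B x
    have hb0 : b ∈ maximalIdeal B := by
      refine (comap_maximalIdeal R A B M').1.le ?_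
      show (1 : A) ⊗ₜ[R] b ∈ M'
      rw [← sub_sub_cancel (x ^ q ^ n) ((1 : A) ⊗ₜ[R] b)]
      exact sub_mem (Ideal.pow_mem_of_mem _ hx _ (hq0 n)) (hb M' hM')
    refine hM.isPrime.mem_of_pow_mem (q ^ n) ?_
    rw [← sub_add_cancel (x ^ q ^ n) ((1 : A) ⊗ₜ[R] b)]
    exact add_mem (hb M hM) ((comap_maximalIdeal R A B M).1.ge hb0)
  have hloc : IsLocalRing (A ⊗[R] B) := IsLocalRing.of_unique_max_ideal ⟨M, hM, huniq⟩
  refine ⟨hloc, ⟨fun b hb => ?_⟩, fun x => ?_⟩
  · by_contra hbu
    refine (mem_maximalIdeal _).mp ?_ hb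
    exact (comap_maximalIdeal R A B (maximalIdeal (A ⊗[R] B))).1.ge ((mem_maximalIdeal b).mpr hbu)
  · obtain ⟨n, b, hb⟩ := exists_pow_sub_mem R A B x
    exact ⟨n, b, hb _ (maximalIdeal.isMaximal _)⟩

end Groth.Agent.H9Hens
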