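import Groth.Agent.H9Hens.TensorHensFinite
import Groth.Agent.H9Hens.TensorLocalRing
import Groth.Agent.H9Hens.SepClosed

/-!
# Strict henselizations of tensor products

If `A → B` is (a filtered union of algebras) quasi-finite at `p_B`, then the strict henselization of
`B ⊗_A C` is the tensor product of the strict henselizations.
-/

universe u

open TensorProduct IsLocalRing

namespace Groth.Agent.H9Hens

/-- A local ring, integral over a strictly henselian local ring, is strictly henselian. -/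
theorem henselian_of_isIntegral {R T : Type u} [CommRing R] [HenselianLocalRing R] [CommRing T] [IsLocalRing T]
    [Algebra R T] [IsLocalHom (algebraMap R T)] [Algebra.IsIntegral R T] :
    HenselianLocalRing T ∧ Algebra.IsAlgebraic (ResidueField R) (ResidueField T) := by
  have : HenselianRing R (maximalIdeal R) := inferInstance
  have hH : HenselianRing T ((maximalIdeal R).map (algebraMap R T)) := henselianRing_of_isIntegral _
  have hrad := henselianRing_radical (I := (maximalIdeal R).map (algebraMap R T))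
  have hle : (maximalIdeal R).map (algebraMap R T) ≤ maximalIdeal T := IsLocalRing.map_maximalIdeal_le _
  have hradeq : ((maximalIdeal R).map (algebraMap R T)).radical = maximalIdeal T := by
    refine le_antisymm ((maximalIdeal.isMaximal _).isPrime.radical_le_iff.mpr hle) ?_
    rw [Ideal.radical_eq_sInf]
    refine le_sInf fun P ⟨hP, hPp⟩ => ?_
    have : (P.comap (algebraMap R T)).IsMaximal := by
      rw [le_antisymm (IsLocalRing.le_maximalIdeal (Ideal.comap_ne_top _ hPp.ne_top))
        (Ideal.map_le_iff_le_comap.mp hP)]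
      exact maximalIdeal.isMaximal R
    have : P.IsMaximal := Ideal.isMaximal_of_isIntegral_of_isMaximal_comap P this
    exact (IsLocalRing.eq_maximalIdeal this).ge
  rw [hradeq] at hrad
  refine ⟨henselianLocalRing_of_henselianRing, ⟨fun x => ?_⟩⟩
  obtain ⟨t, rfl⟩ := residue_surjective x
  obtain ⟨P, hP, hPt⟩ := Algebra.IsIntegral.isIntegral (R := R) t
  refine IsIntegral.isAlgebraic ⟨P.map (residue R), hP.map _, ?_⟩
  rw [Polynomial.eval₂_map,
    show (algebraMap (ResidueField R) (ResidueField T)).comp (residue R) = (residue T).comp (algebraMap R T) from rfl,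
    ← Polynomial.hom_eval₂, hPt, map_zero]

/-- Elements coming from a finite type algebra quasi-finite at the point are integral over a henselian
base. -/
theorem isIntegral_of_factor {R₀ S₀ Rh T : Type u} [CommRing R₀] [CommRing S₀] [Algebra R₀ S₀]
    [Algebra.FiniteType R₀ S₀] [CommRing Rh] [HenselianLocalRing Rh] [Algebra R₀ Rh] [CommRing T] [IsLocalRing T]
    [Algebra Rh T] [IsLocalHom (algebraMap Rh T)] (g : Rh ⊗[R₀] S₀ →ₐ[Rh] T)
    (q₀ : Ideal S₀) [q₀.IsPrime] [Algebra.QuasiFiniteAt R₀ q₀]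
    (hq₀ : ∀ s, s ∈ q₀ ↔ g (1 ⊗ₜ s) ∈ maximalIdeal T) (d : Rh ⊗[R₀] S₀) :
    IsIntegral Rh (g d) ∧ (IsUnit (g d) → ∃ e, IsIntegral Rh e ∧ g d * e = 1) := by
  let Q₀ := (maximalIdeal T).comap g.toRingHom
  have : Q₀.IsPrime := Ideal.IsPrime.comap _
  have hlies : Q₀.LiesOver (maximalIdeal Rh) := by
    refine ⟨Ideal.ext fun x => ?_⟩
    rw [Ideal.mem_comap, Ideal.mem_comap]
    show _ ↔ g (algebraMap Rh _ x) ∈ _
    rw [AlgHom.commutes, mem_maximalIdeal, mem_maximalIdeal, mem_nonunits_iff, mem_nonunits_iff, isUnit_map_iff]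
  have : Algebra.QuasiFiniteAt Rh Q₀ := Algebra.QuasiFiniteAt.baseChange q₀ Q₀ (Ideal.ext fun s => hq₀ s)
  have hfin : Module.Finite Rh (Localization.AtPrime Q₀) := finite_localization_of_quasiFiniteAt Q₀ hlies
  have hu : ∀ y : Q₀.primeCompl, IsUnit (g y.1) := fun y => notMem_maximalIdeal.mp y.2
  let h : Localization.AtPrime Q₀ →ₐ[Rh] T := IsLocalization.liftAlgHom (M := Q₀.primeCompl) (f := g) hu
  have hh : ∀ z, h (algebraMap _ _ z) = g z := fun z => IsLocalization.lift_eq _ z
  have hint : ∀ z, IsIntegral Rh (h z) := fun z => (IsIntegral.of_finite Rh z).map h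
  refine ⟨hh d ▸ hint _, fun hd => ?_⟩
  refine ⟨h (IsLocalization.mk' _ 1 (⟨d, notMem_maximalIdeal.mpr hd⟩ : Q₀.primeCompl)), hint _, ?_⟩
  rw [← hh d, ← map_mul, IsLocalization.mk'_spec'_mk, map_one, map_one]

section Integral

variable {R S : Type u} [CommRing R] [CommRing S] [Algebra R S] {p : Ideal R} [p.IsPrime] {q : Ideal S}
  [q.IsPrime] [q.LiesOver p] {Rh : Type u} [CommRing Rh] [HenselianLocalRing Rh]
  [Algebra (Localization.AtPrime p) Rh] [IsLocalHom (algebraMap (Localization.AtPrime p) Rh)]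
  [Algebra R Rh] [IsScalarTower R (Localization.AtPrime p) Rh] [IsSepClosed (ResidueField Rh)]
  [Hensel.IsStrictHenselization (Localization.AtPrime p) Rh]
  {Sh : Type u} [CommRing Sh] [IsLocalRing Sh] [Algebra (Localization.AtPrime q) Sh]
  [IsLocalHom (algebraMap (Localization.AtPrime q) Sh)]
  [Hensel.IsStrictHenselization (Localization.AtPrime q) Sh]
  [Algebra S Sh] [IsScalarTower S (Localization.AtPrime q) Sh]
  [Algebra R Sh] [IsScalarTower R S Sh] [Algebra Rh Sh] [IsScalarTower R Rh Sh]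
  [IsLocalHom (algebraMap Rh Sh)]

include p q in
/-- If the localization of `Rʰ ⊗ S` is integral over `Rʰ`, so is `Sʰ`. -/
theorem integral_strictHenselization
    (hint : ∀ (T : Type u) [CommRing T] [IsLocalRing T] [Algebra Rh T] [IsLocalHom (algebraMap Rh T)]
      (g : Rh ⊗[R] S →ₐ[Rh] T), (∀ s, g (1 ⊗ₜ s) ∈ maximalIdeal T ↔ s ∈ q) → ∀ d,
      IsIntegral Rh (g d) ∧ (IsUnit (g d) → ∃ e, IsIntegral Rh e ∧ g d * e = 1)) :
    Algebra.IsIntegral Rh Sh ∧ IsPurelyInseparable (ResidueField Rh) (ResidueField Sh) := by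
  let φ := (Algebra.TensorProduct.lift (IsScalarTower.toAlgHom R Rh Sh) (IsScalarTower.toAlgHom R S Sh)
    (fun _ _ => Commute.all _ _)).toRingHom
  have hφl : ∀ x, φ (x ⊗ₜ 1) = algebraMap Rh Sh x := fun x => by simp [φ]
  have hφr : ∀ s, φ (1 ⊗ₜ s) = algebraMap S Sh s := fun s => by simp [φ]
  have : ((maximalIdeal Sh).comap φ).IsPrime := Ideal.IsPrime.comap φ
  set Q := (maximalIdeal Sh).comap φ with hQ
  let T := Localization.AtPrime Q
  have hmem : ∀ x, algebraMap (Rh ⊗[R] S) T x ∈ maximalIdeal T ↔ x ∈ Q := fun x => by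
    rw [mem_maximalIdeal, mem_nonunits_iff, IsLocalization.AtPrime.isUnit_to_map_iff _ Q,
      Ideal.mem_primeCompl_iff, not_not]
  have : IsLocalHom (algebraMap Rh T) := ⟨fun x hx => by
    by_contra hxu
    refine (mem_maximalIdeal _).mp ?_ hx
    rw [IsScalarTower.algebraMap_apply Rh (Rh ⊗[R] S) T, hmem, hQ, Ideal.mem_comap,
      Algebra.TensorProduct.algebraMap_apply, Algebra.algebraMap_self_apply, hφl, mem_maximalIdeal,
      mem_nonunits_iff, isUnit_map_iff]
    exact hxu⟩
  have hT := hint T (IsScalarTower.toAlgHom Rh (Rh ⊗[R] S) T) fun s => by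
    rw [IsScalarTower.toAlgHom_apply, hmem, hQ, Ideal.mem_comap, hφr]
    exact mem_maximalIdeal_of_mem (q := q)
  have : Algebra.IsIntegral Rh T := ⟨fun z => by
    obtain ⟨d, s, rfl⟩ := IsLocalization.exists_mk'_eq Q.primeCompl z
    obtain ⟨e, he, hse⟩ := (hT s).2 (IsLocalization.map_units T s)
    have : IsLocalization.mk' T d s = algebraMap _ T d * e := by
      rw [IsLocalization.mk'_eq_iff_eq_mul, mul_assoc, mul_comm e,
        show algebraMap (Rh ⊗[R] S) T s * e = 1 from hse, mul_one]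
    rw [this]
    exact (hT d).1.mul he⟩
  obtain ⟨hH, halg⟩ := henselian_of_isIntegral (R := Rh) (T := T)
  have : IsSepClosed (ResidueField T) := isSepClosed_of_isAlgebraic (ResidueField Rh)
  have : Hensel.IsStrictHenselization T T := isStrictHenselization_self _
  obtain ⟨e, he⟩ := exists_strictHenselization_equiv (p := p) (q := q) φ hφl hφr Q rfl (E := T)
  let ea : T ≃ₐ[Rh] Sh := AlgEquiv.ofRingEquiv (f := e) fun x => (he (x ⊗ₜ 1)).trans (hφl x)
  have hint' : Algebra.IsIntegral Rh Sh := ⟨fun y => by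
    rw [← ea.apply_symm_apply y]; exact (Algebra.IsIntegral.isIntegral _).map ea⟩
  have := (henselian_of_isIntegral (R := Rh) (T := Sh)).2
  exact ⟨hint', inferInstance⟩

end Integral

section Bijective

variable {A B C : Type u} [CommRing A] [CommRing B] [CommRing C] [Algebra A B] [Algebra A C]
  {pB : Ideal B} [pB.IsPrime] {pC : Ideal C} [pC.IsPrime] {pD : Ideal (B ⊗[A] C)} [pD.IsPrime]
  {Ash Bsh Csh Dsh : Type u} [CommRing Ash] [IsLocalRing Ash] [Algebra A Ash]
  [CommRing Bsh] [IsLocalRing Bsh] [Algebra (Localization.AtPrime pB) Bsh]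
  [IsLocalHom (algebraMap (Localization.AtPrime pB) Bsh)]
  [Hensel.IsStrictHenselization (Localization.AtPrime pB) Bsh] [Algebra B Bsh]
  [IsScalarTower B (Localization.AtPrime pB) Bsh] [Algebra A Bsh] [IsScalarTower A B Bsh]
  [Algebra Ash Bsh] [IsScalarTower A Ash Bsh] [IsLocalHom (algebraMap Ash Bsh)]
  [CommRing Csh] [IsLocalRing Csh] [Algebra (Localization.AtPrime pC) Csh]
  [IsLocalHom (algebraMap (Localization.AtPrime pC) Csh)]
  [Hensel.IsStrictHenselization (Localization.AtPrime pC) Csh] [Algebra C Csh]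
  [IsScalarTower C (Localization.AtPrime pC) Csh] [Algebra A Csh] [IsScalarTower A C Csh]
  [Algebra Ash Csh] [IsScalarTower A Ash Csh] [IsLocalHom (algebraMap Ash Csh)]
  [CommRing Dsh] [IsLocalRing Dsh] [Algebra (Localization.AtPrime pD) Dsh]
  [IsLocalHom (algebraMap (Localization.AtPrime pD) Dsh)]
  [Hensel.IsStrictHenselization (Localization.AtPrime pD) Dsh] [Algebra (B ⊗[A] C) Dsh]
  [IsScalarTower (B ⊗[A] C) (Localization.AtPrime pD) Dsh]
  [Algebra Bsh Dsh] [IsLocalHom (algebraMap Bsh Dsh)] [Algebra B Dsh] [IsScalarTower B Bsh Dsh]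
  [IsScalarTower B (B ⊗[A] C) Dsh]
  [Algebra Csh Dsh] [IsLocalHom (algebraMap Csh Dsh)]
  [Algebra Ash Dsh] [IsScalarTower Ash Bsh Dsh] [IsScalarTower Ash Csh Dsh]

include pB pC pD in
theorem bijective_strictHenselization_tensor
    (hC : ∀ c : C, algebraMap Csh Dsh (algebraMap C Csh c) = algebraMap (B ⊗[A] C) Dsh (1 ⊗ₜ[A] c))
    [Algebra.IsIntegral Ash Bsh] [IsPurelyInseparable (ResidueField Ash) (ResidueField Bsh)] :
    Function.Bijective (Algebra.TensorProduct.lift (IsScalarTower.toAlgHom Ash Bsh Dsh)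
      (IsScalarTower.toAlgHom Ash Csh Dsh) (fun _ _ => Commute.all _ _)) := by
  set Λ := Algebra.TensorProduct.lift (IsScalarTower.toAlgHom Ash Bsh Dsh)
      (IsScalarTower.toAlgHom Ash Csh Dsh) (fun _ _ => Commute.all _ _) with hΛ
  have hΛl : ∀ x, Λ (x ⊗ₜ 1) = algebraMap Bsh Dsh x := fun x => by simp [Λ]
  have hΛr : ∀ x, Λ (1 ⊗ₜ x) = algebraMap Csh Dsh x := fun x => by simp [Λ]
  have hCsh : HenselianLocalRing Csh := Hensel.IsStrictHenselization.henselian (R := Localization.AtPrime pC)
  have : IsSepClosed (ResidueField Csh) :=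
    (Hensel.IsStrictHenselization.isSepClosure (R := Localization.AtPrime pC) (S := Csh)).sep_closed
  obtain ⟨hloc, hlocC, -⟩ := exists_isLocalRing_tensor Ash Bsh Csh
  -- `T := Bsh ⊗ Csh` is strictly henselian
  letI : Algebra Csh (Bsh ⊗[Ash] Csh) := Algebra.TensorProduct.rightAlgebra
  have : IsLocalHom (algebraMap Csh (Bsh ⊗[Ash] Csh)) := hlocC
  have : Algebra.IsIntegral Csh (Bsh ⊗[Ash] Csh) := ⟨includeRight_integral Ash Bsh Csh⟩
  obtain ⟨hT, halg⟩ := henselian_of_isIntegral (R := Csh) (T := Bsh ⊗[Ash] Csh)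
  have hTsc : IsSepClosed (ResidueField (Bsh ⊗[Ash] Csh)) := isSepClosed_of_isAlgebraic (ResidueField Csh)
  have hiB : IsLocalHom (Algebra.TensorProduct.includeLeftRingHom : Bsh →+* Bsh ⊗[Ash] Csh) := ⟨fun x hx => by
    by_contra hxu
    refine (mem_maximalIdeal _).mp ?_ hx
    exact (comap_maximalIdeal Ash Bsh Csh (maximalIdeal _)).2.ge ((mem_maximalIdeal x).mpr hxu)⟩
  have hΛloc : IsLocalHom Λ.toRingHom := ⟨fun z hz => by
    by_contra hzu
    letI := Λ.toRingHom.toAlgebra
    have hP : ((maximalIdeal Dsh).comap Λ.toRingHom).IsPrime := Ideal.IsPrime.comap _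
    have hmax : ((maximalIdeal Dsh).comap Λ.toRingHom).IsMaximal := by
      refine Ideal.isMaximal_of_isIntegral_of_isMaximal_comap (R := Csh) _ ?_
      rw [Ideal.comap_comap, show Λ.toRingHom.comp (algebraMap Csh (Bsh ⊗[Ash] Csh)) = algebraMap Csh Dsh from
        RingHom.ext hΛr, ((IsLocalRing.local_hom_TFAE (algebraMap Csh Dsh)).out 0 4 rfl rfl).mp inferInstance]
      exact maximalIdeal.isMaximal Csh
    have := (IsLocalRing.eq_maximalIdeal hmax).ge ((mem_maximalIdeal z).mpr hzu)
    exact (mem_maximalIdeal _).mp (Ideal.mem_comap.mp this) hz⟩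
  -- `B ⊗ C → T`
  let ι : B ⊗[A] C →+* Bsh ⊗[Ash] Csh := (Algebra.TensorProduct.lift
    (IsScalarTower.toAlgHom A B Bsh |> fun f => ((Algebra.TensorProduct.includeLeft :
      Bsh →ₐ[Ash] Bsh ⊗[Ash] Csh).restrictScalars A).comp f)
    (((Algebra.TensorProduct.includeRight : Csh →ₐ[Ash] Bsh ⊗[Ash] Csh).restrictScalars A).comp
      (IsScalarTower.toAlgHom A C Csh)) (fun _ _ => Commute.all _ _)).toRingHom
  have hιl : ∀ b, ι (b ⊗ₜ 1) = algebraMap B Bsh b ⊗ₜ 1 := fun b => by simp [ι]
  have hιr : ∀ c, ι (1 ⊗ₜ c) = 1 ⊗ₜ algebraMap C Csh c := fun c => by simp [ι]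
  have hΛι : ∀ d, Λ (ι d) = algebraMap (B ⊗[A] C) Dsh d := by
    intro d
    induction d using TensorProduct.induction_on with
    | zero => simp
    | tmul b c =>
      rw [show (b ⊗ₜ[A] c : B ⊗[A] C) = b ⊗ₜ 1 * 1 ⊗ₜ c by simp, map_mul, map_mul, map_mul, hιl, hιr, hΛl,
        hΛr, hC, ← IsScalarTower.algebraMap_apply B Bsh Dsh, IsScalarTower.algebraMap_apply B (B ⊗[A] C) Dsh]
      rfl
    | add x y hx hy => simp only [map_add, hx, hy]
  have hunit : ∀ y : pD.primeCompl, IsUnit (ι y) := fun y => hΛloc.map_nonunit _ (by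
    show IsUnit (Λ (ι y))
    rw [hΛι, IsScalarTower.algebraMap_apply (B ⊗[A] C) (Localization.AtPrime pD) Dsh]
    exact (IsLocalization.map_units _ y).map _)
  let fD : Localization.AtPrime pD →+* Bsh ⊗[Ash] Csh := IsLocalization.lift hunit
  have hfD : Λ.toRingHom.comp fD = algebraMap (Localization.AtPrime pD) Dsh :=
    IsLocalization.ringHom_ext pD.primeCompl (RingHom.ext fun d => by
      show Λ (fD (algebraMap _ _ d)) = _
      rw [IsLocalization.lift_eq, hΛι]
      exact IsScalarTower.algebraMap_apply (B ⊗[A] C) (Localization.AtPrime pD) Dsh d)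
  have : IsLocalHom fD := ⟨fun z hz => by
    refine (inferInstance : IsLocalHom (algebraMap (Localization.AtPrime pD) Dsh)).map_nonunit z ?_
    rw [← hfD]
    exact hz.map Λ.toRingHom⟩
  -- residue fields
  let τ : ResidueField (Bsh ⊗[Ash] Csh) →+* ResidueField Dsh := ResidueField.map Λ.toRingHom
  have hτ : Function.Bijective τ := by
    refine ⟨τ.injective, ?_⟩
    letI : Algebra (ResidueField (Localization.AtPrime pD)) (ResidueField (Bsh ⊗[Ash] Csh)) :=
      (ResidueField.map fD).toAlgebra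
    letI : Algebra (ResidueField (Bsh ⊗[Ash] Csh)) (ResidueField Dsh) := τ.toAlgebra
    have : IsScalarTower (ResidueField (Localization.AtPrime pD)) (ResidueField (Bsh ⊗[Ash] Csh))
        (ResidueField Dsh) := by
      refine IsScalarTower.of_algebraMap_eq fun x => ?_
      obtain ⟨z, rfl⟩ := residue_surjective x
      exact congrArg (residue Dsh) (DFunLike.congr_fun hfD z).symm
    have : Algebra.IsSeparable (ResidueField (Bsh ⊗[Ash] Csh)) (ResidueField Dsh) := by
      have := (Hensel.IsStrictHenselization.isSepClosure (R := Localization.AtPrime pD) (S := Dsh)).separable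
      exact Algebra.isSeparable_tower_top_of_isSeparable (ResidueField (Localization.AtPrime pD)) _ _
    exact IsSepClosed.algebraMap_surjective _ _
  let τe : ResidueField (Bsh ⊗[Ash] Csh) ≃+* ResidueField Dsh := RingEquiv.ofBijective τ hτ
  have hτres : ∀ z, τe (residue _ z) = residue Dsh (Λ z) := fun z => rfl
  have hDsh : HenselianLocalRing Dsh := Hensel.IsStrictHenselization.henselian (R := Localization.AtPrime pD)
  obtain ⟨h, ⟨hh, hhres⟩, -⟩ := Hensel.IsStrictHenselization.universal (R := Localization.AtPrime pD) (S := Dsh)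
    (Bsh ⊗[Ash] Csh) fD (τe.symm : ResidueField Dsh →+* _) (RingHom.ext fun x => τe.injective (by
      obtain ⟨z, rfl⟩ := residue_surjective x
      show τe (τe.symm _) = _
      rw [RingEquiv.apply_symm_apply]
      exact congrArg (residue Dsh) (DFunLike.congr_fun hfD z).symm))
  have hgh : Λ.toRingHom.comp h = RingHom.id Dsh := by
    obtain ⟨k, -, huniq⟩ := Hensel.IsStrictHenselization.universal (R := Localization.AtPrime pD) (S := Dsh) Dsh
      (algebraMap _ Dsh) (RingHom.id _) (RingHom.id_comp _)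
    refine (huniq _ ⟨?_, fun x => ?_⟩).trans (huniq _ ⟨RingHom.id_comp _, fun x => rfl⟩).symm
    · rw [RingHom.comp_assoc, hh, hfD]
    · show residue Dsh (Λ (h x)) = residue Dsh x
      rw [← hτres, hhres]
      exact RingEquiv.apply_symm_apply τe _
  have hid : ∀ x, h (Λ x) = x := by
    have hres : ∀ z, residue _ (h (Λ z)) = residue _ z := fun z => τe.injective (by
      rw [hτres, hτres]
      exact congrArg (residue Dsh) (DFunLike.congr_fun hgh (Λ z)))
    have hd : ∀ d, h (Λ (ι d)) = ι d := fun d => by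
      rw [hΛι, IsScalarTower.algebraMap_apply (B ⊗[A] C) (Localization.AtPrime pD) Dsh]
      exact (DFunLike.congr_fun hh _).trans (IsLocalization.lift_eq _ d)
    have hl : ∀ x : Bsh, h (Λ (x ⊗ₜ 1)) = x ⊗ₜ 1 := by
      let a : Bsh →+* Bsh ⊗[Ash] Csh := (h.comp Λ.toRingHom).comp Algebra.TensorProduct.includeLeftRingHom
      let b : Bsh →+* Bsh ⊗[Ash] Csh := Algebra.TensorProduct.includeLeftRingHom
      have : IsLocalHom (b.comp (algebraMap (Localization.AtPrime pB) Bsh)) := inferInstance
      obtain ⟨k, -, huniq⟩ := Hensel.IsStrictHenselization.universal (R := Localization.AtPrime pB) (S := Bsh)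
        (Bsh ⊗[Ash] Csh) (b.comp (algebraMap (Localization.AtPrime pB) Bsh)) (ResidueField.map b)
        (RingHom.ext fun x => by obtain ⟨z, rfl⟩ := residue_surjective x; rfl)
      refine fun x => DFunLike.congr_fun ((huniq a ⟨?_, fun y => hres _⟩).trans
        (huniq b ⟨rfl, fun y => rfl⟩).symm) x
      refine IsLocalization.ringHom_ext pB.primeCompl (RingHom.ext fun r => ?_)
      simp only [a, b, RingHom.comp_apply, ← IsScalarTower.algebraMap_apply B (Localization.AtPrime pB) Bsh,
        Algebra.TensorProduct.includeLeftRingHom_apply]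
      rw [← hιl]
      exact hd _
    have hr : ∀ x : Csh, h (Λ (1 ⊗ₜ x)) = 1 ⊗ₜ x := by
      let a : Csh →+* Bsh ⊗[Ash] Csh := (h.comp Λ.toRingHom).comp (algebraMap Csh _)
      let b : Csh →+* Bsh ⊗[Ash] Csh := algebraMap Csh _
      have : IsLocalHom (b.comp (algebraMap (Localization.AtPrime pC) Csh)) := inferInstance
      obtain ⟨k, -, huniq⟩ := Hensel.IsStrictHenselization.universal (R := Localization.AtPrime pC) (S := Csh)
        (Bsh ⊗[Ash] Csh) (b.comp (algebraMap (Localization.AtPrime pC) Csh)) (ResidueField.map b)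
        (RingHom.ext fun x => by obtain ⟨z, rfl⟩ := residue_surjective x; rfl)
      refine fun x => DFunLike.congr_fun ((huniq a ⟨?_, fun y => hres _⟩).trans
        (huniq b ⟨rfl, fun y => rfl⟩).symm) x
      refine IsLocalization.ringHom_ext pC.primeCompl (RingHom.ext fun r => ?_)
      simp only [a, b, RingHom.comp_apply, ← IsScalarTower.algebraMap_apply C (Localization.AtPrime pC) Csh]
      show h (Λ (1 ⊗ₜ algebraMap C Csh r)) = 1 ⊗ₜ algebraMap C Csh r
      rw [← hιr]
      exact hd _
    intro x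
    induction x using TensorProduct.induction_on with
    | zero => simp
    | tmul x y => rw [show (x ⊗ₜ[Ash] y : Bsh ⊗[Ash] Csh) = x ⊗ₜ 1 * 1 ⊗ₜ y by simp, map_mul, map_mul, hl, hr]
    | add x y hx hy => simp only [map_add, hx, hy]
  exact ⟨fun x y hxy => by rw [← hid x, hxy, hid y], fun y => ⟨h y, DFunLike.congr_fun hgh y⟩⟩

end Bijective

end Groth.Agent.H9Hens
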