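import Groth.Agent.H9Hens.PtColim
import Mathlib.Algebra.Category.Ring.FilteredColimits
import Mathlib.CategoryTheory.Limits.Filtered
import Mathlib.CategoryTheory.Limits.ConcreteCategory.Basic

/-!
Existence of the colimit of pointed etale algebras.
-/

namespace Groth.Agent.H9Hens

universe u

open CategoryTheory TensorProduct

variable (A : Type u) [CommRing A] (k : Type u) [CommRing k] [Algebra A k]

/-- Pointed etale algebras given by a presentation, forming a small category. -/
structure PtEtale : Type u where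
  n : ℕ
  rel : Ideal (MvPolynomial (Fin n) A)
  etale : Algebra.Etale A (MvPolynomial (Fin n) A ⧸ rel)
  pt : (MvPolynomial (Fin n) A ⧸ rel) →ₐ[A] k

namespace PtEtale

variable {A k}

/-- The underlying ring of a pointed etale algebra. -/
abbrev ring (j : PtEtale A k) : Type u := MvPolynomial (Fin j.n) A ⧸ j.rel

instance (j : PtEtale A k) : Algebra.Etale A j.ring := j.etale

noncomputable instance : Category.{u} (PtEtale A k) where
  Hom i j := {φ : i.ring →ₐ[A] j.ring // j.pt.comp φ = i.pt}
  id i := ⟨AlgHom.id A _, AlgHom.comp_id _⟩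
  comp f g := ⟨g.1.comp f.1, by rw [← AlgHom.comp_assoc, g.2, f.2]⟩

/-- Every pointed etale algebra is isomorphic to a presented one. -/
theorem exists_equiv (S : Type u) [CommRing S] [Algebra A S] [Algebra.Etale A S]
    (σ : S →ₐ[A] k) : ∃ (j : PtEtale A k) (e : j.ring ≃ₐ[A] S), j.pt = σ.comp e.toAlgHom := by
  obtain ⟨n, f, hf, -⟩ := Algebra.FinitePresentation.out (R := A) (A := S)
  let e := Ideal.quotientKerAlgEquivOfSurjective hf
  exact ⟨⟨n, _, Algebra.Etale.of_equiv e.symm, σ.comp e.toAlgHom⟩, e, rfl⟩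

/-- The pointed etale algebra `A`. -/
theorem nonempty : Nonempty (PtEtale A k) := by
  obtain ⟨j, -⟩ := exists_equiv A (Algebra.ofId A k)
  exact ⟨j⟩

theorem isFiltered : IsFiltered (PtEtale A k) where
  cocone_objs i j := by
    have : Algebra.Etale A (i.ring ⊗[A] j.ring) := Algebra.Etale.comp A i.ring _
    obtain ⟨l, e, hl⟩ := exists_equiv (i.ring ⊗[A] j.ring)
      (Algebra.TensorProduct.lift i.pt j.pt fun _ _ => Commute.all _ _)
    refine ⟨l, ⟨e.symm.toAlgHom.comp Algebra.TensorProduct.includeLeft, AlgHom.ext fun x => ?_⟩,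
      ⟨e.symm.toAlgHom.comp Algebra.TensorProduct.includeRight, AlgHom.ext fun x => ?_⟩, trivial⟩
    · simp [hl]
    · simp [hl]
  cocone_maps i j f g := by
    obtain ⟨T, _, _, _, σT, χ, hχ, heq⟩ := exists_pt_equalizer j.pt f.1 g.1 (f.2.trans g.2.symm)
    obtain ⟨l, e, hl⟩ := exists_equiv T σT
    refine ⟨l, ⟨e.symm.toAlgHom.comp χ, AlgHom.ext fun x => ?_⟩, Subtype.ext (AlgHom.ext fun x => ?_)⟩
    · rw [← hχ]; simp [hl]
    · show e.symm (χ (f.1 x)) = e.symm (χ (g.1 x))
      rw [show χ (f.1 x) = χ (g.1 x) from DFunLike.congr_fun heq x]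
  nonempty := nonempty

attribute [local instance] isFiltered

variable (A k) in
/-- The diagram of pointed etale algebras. -/
noncomputable def diagram : PtEtale A k ⥤ CommRingCat.{u} where
  obj j := CommRingCat.of j.ring
  map f := CommRingCat.ofHom f.1.toRingHom

end PtEtale

attribute [local instance] PtEtale.isFiltered

open PtEtale Limits in
/-- The colimit of pointed etale algebras exists. -/
theorem exists_isPtColim :
    ∃ (H : Type u) (_ : CommRing H) (_ : Algebra A H) (π : H →ₐ[A] k), IsPtColim π := by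
  let H := colimit (diagram A k)
  let of : ∀ j : PtEtale A k, j.ring →+* H := fun j => (colimit.ι (diagram A k) j).hom
  have hof : ∀ {i j : PtEtale A k} (f : i ⟶ j) (x : i.ring), of j (f.1 x) = of i x := fun f x =>
    ConcreteCategory.congr_hom (colimit.w (diagram A k) f) x
  obtain ⟨j₀⟩ := PtEtale.nonempty (A := A) (k := k)
  let : Algebra A H := ((of j₀).comp (algebraMap A j₀.ring)).toAlgebra
  have hcomm : ∀ (j : PtEtale A k) (a : A), of j (algebraMap A j.ring a) = algebraMap A H a := by
    intro j a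
    show _ = of j₀ (algebraMap A j₀.ring a)
    rw [← hof (IsFiltered.leftToMax j j₀), ← hof (IsFiltered.rightToMax j j₀)]
    rw [AlgHom.commutes, AlgHom.commutes]
  let φ : ∀ j : PtEtale A k, j.ring →ₐ[A] H := fun j => { of j with commutes' := hcomm j }
  let c : Cocone (diagram A k) :=
    { pt := CommRingCat.of k
      ι := { app := fun j => CommRingCat.ofHom j.pt.toRingHom
             naturality := fun i j f => CommRingCat.hom_ext (RingHom.ext fun x =>
               DFunLike.congr_fun f.2 x) } }
  let π₀ : H →+* k := (colimit.desc (diagram A k) c).hom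
  have hπ : ∀ j x, π₀ (of j x) = j.pt x := fun j x =>
    ConcreteCategory.congr_hom (colimit.ι_desc c j) x
  let π : H →ₐ[A] k := { π₀ with commutes' := fun a =>
    (congrArg π₀ (hcomm j₀ a).symm).trans ((hπ _ _).trans (j₀.pt.commutes a)) }
  have hrep : ∀ x : H, ∃ (j : PtEtale A k) (y : j.ring), φ j y = x := fun x =>
    Concrete.colimit_exists_rep (diagram A k) x
  have hzero : ∀ (j : PtEtale A k) (y : j.ring), φ j y = 0 → ∃ (l : PtEtale A k) (f : j ⟶ l),
      f.1 y = 0 := by
    intro j y hy
    have h0 : colimit.ι (diagram A k) j y = colimit.ι (diagram A k) j (0 : j.ring) :=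
      hy.trans (map_zero (of j)).symm
    obtain ⟨l, f, g, hfg⟩ := Concrete.colimit_exists_of_rep_eq.{u} (diagram A k) y 0 h0
    exact ⟨l, f, (show f.1 y = g.1 0 from hfg).trans (map_zero _)⟩
  have hex : ∀ (S : Type u) [CommRing S] [Algebra A S] [Algebra.Etale A S] (σ : S →ₐ[A] k),
      ∃ ψ : S →ₐ[A] H, π.comp ψ = σ := fun S _ _ _ σ => by
    obtain ⟨j, e, he⟩ := exists_equiv S σ
    refine ⟨(φ j).comp e.symm.toAlgHom, AlgHom.ext fun s => ?_⟩
    show π₀ (of j (e.symm s)) = σ s
    rw [hπ, he]
    exact congrArg σ (e.apply_symm_apply s)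
  have hjac : RingHom.ker π ≤ Ideal.jacobson ⊥ := fun x hx => by
    rw [Ideal.mem_jacobson_bot]
    intro y
    obtain ⟨j, z, hz⟩ := hrep (x * y + 1)
    have hu : IsUnit (j.pt z) := by
      rw [← hπ, show of j z = x * y + 1 from hz, map_add, map_mul,
        show π₀ x = 0 from hx, zero_mul, zero_add, map_one]
      exact isUnit_one
    let T := Localization.Away z
    have : Algebra.Etale j.ring T := Algebra.Etale.of_isLocalizationAway z
    have : Algebra.Etale A T := Algebra.Etale.comp A j.ring T
    let σT : T →ₐ[A] k := IsLocalization.Away.liftAlgHom z (f := j.pt) hu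
    obtain ⟨l, e, hl⟩ := exists_equiv T σT
    let f : j ⟶ l := ⟨e.symm.toAlgHom.comp (IsScalarTower.toAlgHom A j.ring T), AlgHom.ext fun a => by
      show l.pt (e.symm (algebraMap j.ring T a)) = j.pt a
      rw [hl]
      show σT (e (e.symm (algebraMap j.ring T a))) = j.pt a
      rw [e.apply_symm_apply]
      exact IsLocalization.Away.lift_eq z hu a⟩
    rw [← hz]
    show IsUnit (of j z)
    rw [← hof f z]
    exact (((IsLocalization.Away.algebraMap_isUnit (S := T) z).map e.symm.toAlgHom).map (of l))
  refine ⟨H, inferInstance, inferInstance, π, ⟨fun x => ?_, hex, hjac, ?_⟩⟩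
  · obtain ⟨j, y, hy⟩ := hrep x
    exact ⟨j.ring, inferInstance, inferInstance, inferInstance, φ j, y, hy⟩
  · intro S _ _ _ ψ s hs
    obtain ⟨j, e, he⟩ := exists_equiv S (π.comp ψ)
    have hψ : (φ j).comp e.symm.toAlgHom = ψ := algHom_eq_of_sub_mem hjac fun a => by
      rw [RingHom.mem_ker, map_sub, sub_eq_zero]
      show π₀ (of j (e.symm a)) = π (ψ a)
      rw [hπ, he]
      exact congrArg (π.comp ψ) (e.apply_symm_apply a)
    obtain ⟨l, f, hf⟩ := hzero j (e.symm s) ((DFunLike.congr_fun hψ s).trans hs)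
    refine ⟨l.ring, inferInstance, inferInstance, inferInstance, f.1.comp e.symm.toAlgHom, φ l,
      AlgHom.ext fun a => ?_, hf⟩
    rw [← hψ]
    exact hof f (e.symm a)

end Groth.Agent.H9Hens
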