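import Mathlib.RingTheory.Henselian
import Mathlib.RingTheory.Nakayama
import Mathlib.RingTheory.Idempotents
import Mathlib.RingTheory.Ideal.GoingUp
import Mathlib.LinearAlgebra.Matrix.Charpoly.LinearMap
import Mathlib.LinearAlgebra.Matrix.Charpoly.Coeff

/-!
Idempotents modulo ideals in the Jacobson radical; Gabber's criterion gives lifting of idempotents
cutting out a cyclic piece of a finite algebra.
-/

namespace Groth.Agent.H9Hens

open Polynomial

universe u v

variable {A : Type u} [CommRing A] {I : Ideal A}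

/-- If `I ≤ jac A` and `B` is integral over `A` then `IB ≤ jac B`. -/
theorem map_le_jacobson_of_isIntegral {B : Type v} [CommRing B] [Algebra A B]
    [Algebra.IsIntegral A B] (hI : I ≤ Ideal.jacobson ⊥) :
    I.map (algebraMap A B) ≤ Ideal.jacobson ⊥ := by
  refine le_sInf ?_
  rintro M ⟨-, hM⟩
  have hM' : M.IsMaximal := hM
  have : (M.comap (algebraMap A B)).IsMaximal :=
    Ideal.isMaximal_comap_of_isIntegral_of_isMaximal M
  exact Ideal.map_le_iff_le_comap.mpr (hI.trans (sInf_le ⟨bot_le, this⟩))

/-- Idempotents congruent modulo the Jacobson radical are equal. -/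
theorem idem_eq_of_sub_mem {B : Type v} [CommRing B] {L : Ideal B} (hL : L ≤ Ideal.jacobson ⊥)
    {e e' : B} (he : IsIdempotentElem e) (he' : IsIdempotentElem e') (h : e - e' ∈ L) : e = e' := by
  have h3 : (e - e') * (1 - (e - e') ^ 2) = 0 := by
    linear_combination
      -(e + 1) * he.eq + (e' + 1) * he'.eq + 3 * e' * he.eq - 3 * e * he'.eq
  have hu : IsUnit ((e - e') * (-(e - e')) + 1) := Ideal.mem_jacobson_bot.mp (hL h) _
  have hu' : IsUnit (1 - (e - e') ^ 2) := by
    convert hu using 1
    ring
  exact sub_eq_zero.mp (hu'.mul_left_eq_zero.mp h3)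

/-- An element that is `1` modulo an ideal in the Jacobson radical is a unit. -/
theorem isUnit_of_sub_one_mem {B : Type v} [CommRing B] {L : Ideal B}
    (hL : L ≤ Ideal.jacobson ⊥) {x : B} (h : x - 1 ∈ L) : IsUnit x := by
  have := Ideal.mem_jacobson_bot.mp (hL h) 1
  simpa using this

/-- An element whose image modulo an ideal in the Jacobson radical is a unit is a unit. -/
theorem isUnit_of_isUnit_mk {B : Type v} [CommRing B] {L : Ideal B}
    (hL : L ≤ Ideal.jacobson ⊥) {x : B} (h : IsUnit (Ideal.Quotient.mk L x)) : IsUnit x :=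
  (isLocalHom_of_le_jacobson_bot L hL).map_nonunit x h

/-- Gabber's condition gives lifting of idempotents `b` of `B/IB` with `b • (B/IB)` cyclic. -/
theorem exists_idem_of_cyclic (hI : I ≤ Ideal.jacobson ⊥)
    (hG : ∀ (n : ℕ), 0 < n → ∀ p : A[X], p.natDegree ≤ n → (∀ i, p.coeff i ∈ I) →
      ∃ α : A, α - 1 ∈ I ∧ IsRoot (X ^ n * (X - 1) + p) α)
    {B : Type v} [CommRing B] [Algebra A B] [Module.Finite A B] (b : B)
    (hb : b * b - b ∈ I.map (algebraMap A B))
    (hc : ∀ y : B, ∃ a : A, b * y - a • b ∈ I.map (algebraMap A B)) :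
    ∃ e : B, IsIdempotentElem e ∧ e - b ∈ I.map (algebraMap A B) := by
  classical
  set IB := I.map (algebraMap A B) with hIBdef
  have hmk : ∀ z : B, z ∈ IB ↔ z ∈ I • (⊤ : Submodule A B) := by
    intro z
    rw [hIBdef, Ideal.smul_top_eq_map]
    rfl
  obtain ⟨n, s, hs⟩ := Module.Finite.exists_fin (R := A) (M := B)
  let w : Fin (n + 2) → B := Fin.cons b (Fin.cons 0 fun j => (1 - b) * s j)
  have hw : Submodule.span A (Set.range w) = ⊤ := by
    refine top_le_iff.mp (Submodule.le_of_le_smul_of_le_jacobson_bot Module.Finite.fg_top hI ?_)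
    nth_rw 1 [← hs]
    rw [Submodule.span_le]
    rintro _ ⟨j, rfl⟩
    obtain ⟨a, ha⟩ := hc (s j)
    have h1 : a • b + (1 - b) * s j ∈ Submodule.span A (Set.range w) :=
      add_mem (Submodule.smul_mem _ _ (Submodule.subset_span ⟨0, by simp [w]⟩))
        (Submodule.subset_span ⟨j.succ.succ, by simp [w]⟩)
    have h2 : b * s j - a • b ∈ I • (⊤ : Submodule A B) := (hmk _).mp ha
    have : s j = (a • b + (1 - b) * s j) + (b * s j - a • b) := by ring
    rw [SetLike.mem_coe, this]
    exact add_mem (Submodule.mem_sup_left h1) (Submodule.mem_sup_right h2)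
  let d : Fin (n + 2) → A := fun j => if j = 0 then 1 else 0
  have hd : ∀ j, b * w j - d j • w j ∈ IB := by
    intro j
    refine Fin.cases ?_ ?_ j
    · simpa [d, w] using hb
    · intro i
      refine Fin.cases ?_ ?_ i
      · simp [d, w]
      · intro k
        have : b * ((1 - b) * s k) = -(b * b - b) * s k := by ring
        simp only [d, w, Fin.succ_ne_zero, if_false, zero_smul, sub_zero, Fin.cons_succ]
        rw [this]
        exact IB.mul_mem_right _ (neg_mem hb)
  have hc' : ∀ j, ∃ c : Fin (n + 2) → A, (∀ i, c i ∈ I) ∧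
      ∑ i, c i • w i = b * w j - d j • w j := by
    intro j
    have := (hmk _).mp (hd j)
    rw [← hw, Submodule.mem_ideal_smul_span_iff_exists_sum] at this
    obtain ⟨a, ha, hsum⟩ := this
    exact ⟨a, ha, by rw [← hsum, Finsupp.sum_fintype _ _ (fun i => by simp)]⟩
  choose c hcI hcsum using hc'
  let M : Matrix (Fin (n + 2)) (Fin (n + 2)) A :=
    fun i j => (if i = j then d j else 0) + c j i
  have hM : M.Represents w (LinearMap.mulLeft A b) := by
    rw [Matrix.represents_iff']
    intro j
    simp only [M, add_smul, Finset.sum_add_distrib, ite_smul, zero_smul,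
      Finset.sum_ite_eq', Finset.mem_univ, if_true, hcsum]
    simp
  set χ := M.charpoly with hχdef
  have haχ : aeval b χ = 0 := by
    have h1 : Matrix.isRepresentation.toEnd A w hw ⟨M, _, hM⟩ = LinearMap.mulLeft A b :=
      Matrix.isRepresentation.eq_toEnd_of_represents A w hw _ hM
    have h2 : aeval (LinearMap.mulLeft A b) χ = 0 := by
      rw [← h1, aeval_algHom_apply, ← map_zero (Matrix.isRepresentation.toEnd A w hw)]
      congr 1
      ext1
      rw [aeval_subalgebra_coe, Matrix.aeval_self_charpoly, Subalgebra.coe_zero]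
    have h3 : aeval (LinearMap.mulLeft A b) χ = LinearMap.mulLeft A (aeval b χ) := by
      rw [show LinearMap.mulLeft A b = Algebra.lmul A B b from rfl, aeval_algHom_apply]
      rfl
    have := LinearMap.congr_fun (h3.symm.trans h2) 1
    simpa using this
  have hχmap : χ.map (Ideal.Quotient.mk I) =
      ((X : (A ⧸ I)[X]) - 1) * X ^ (n + 1) := by
    rw [hχdef, ← Matrix.charpoly_map]
    have : M.map (Ideal.Quotient.mk I) =
        Matrix.diagonal (fun j => Ideal.Quotient.mk I (d j)) := by
      ext i j
      show Ideal.Quotient.mk I ((if i = j then d j else 0) + c j i) = _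
      rw [map_add, Ideal.Quotient.eq_zero_iff_mem.mpr (hcI j i), add_zero, Matrix.diagonal_apply]
      split_ifs with h
      · rw [h]
      · simp
    rw [this, Matrix.charpoly_diagonal, Fin.prod_univ_succ]
    simp [d]
  set p := χ - (X : A[X]) ^ (n + 1) * (X - 1) with hpdef
  have hpI : ∀ i, p.coeff i ∈ I := by
    intro i
    rw [← Ideal.Quotient.eq_zero_iff_mem, ← coeff_map, hpdef, Polynomial.map_sub, hχmap]
    simp [mul_comm]
  have hpdeg : p.natDegree ≤ n + 1 := by
    nontriviality A
    rw [natDegree_le_iff_coeff_eq_zero]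
    intro k hk
    have hm : ((X : A[X]) ^ (n + 1) * (X - 1)).Monic := (monic_X_pow _).mul (monic_X_sub_C 1)
    have hdeg : ((X : A[X]) ^ (n + 1) * (X - 1)).natDegree = n + 2 := by
      rw [← C_1, Monic.natDegree_mul (monic_X_pow _) (monic_X_sub_C 1), natDegree_X_pow,
        natDegree_X_sub_C]
    have hχdeg : χ.natDegree = n + 2 := by simp [hχdef]
    rcases Nat.lt_or_ge (n + 2) k with h | h
    · rw [hpdef, coeff_sub, coeff_eq_zero_of_natDegree_lt (hχdeg ▸ h),
        coeff_eq_zero_of_natDegree_lt (hdeg ▸ h), sub_zero]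
    · obtain rfl : k = n + 2 := by omega
      rw [hpdef, coeff_sub]
      conv_lhs => enter [1]; rw [← hχdeg]
      rw [M.charpoly_monic.coeff_natDegree]
      conv_lhs => enter [2]; rw [← hdeg]
      rw [hm.coeff_natDegree, sub_self]
  obtain ⟨α, hα, hroot⟩ := hG (n + 1) n.succ_pos p hpdeg hpI
  rw [hpdef, add_sub_cancel] at hroot
  obtain ⟨q, hq⟩ := dvd_iff_isRoot.mpr hroot
  have hqmap : q.map (Ideal.Quotient.mk I) = X ^ (n + 1) := by
    have hα1 : Ideal.Quotient.mk I α = 1 := by
      rw [← map_one (Ideal.Quotient.mk I), Ideal.Quotient.eq]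
      exact hα
    have h := congrArg (Polynomial.map (Ideal.Quotient.mk I)) hq
    rw [hχmap, Polynomial.map_mul, Polynomial.map_sub, map_X, map_C, hα1, C_1] at h
    exact (((monic_X_sub_C (1 : A ⧸ I))).isRegular.left (by simpa using h)).symm
  have hqα : IsUnit (q.eval α) := by
    refine isUnit_of_sub_one_mem hI (L := I) ?_
    rw [← Ideal.Quotient.eq, ← eval_map_apply, hqmap, (Ideal.Quotient.eq.mpr hα :
      Ideal.Quotient.mk I α = Ideal.Quotient.mk I 1)]
    simp
  obtain ⟨a, ha⟩ := isUnit_iff_exists_inv.mp hqα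
  refine ⟨a • aeval b q, ?_, ?_⟩
  · obtain ⟨t, ht⟩ := X_sub_C_dvd_sub_C_eval (a := α) (p := q)
    have h1 : (b - algebraMap A B α) * aeval b q = 0 := by
      have := congrArg (aeval b) hq
      rw [haχ, map_mul, map_sub, aeval_X, aeval_C] at this
      exact this.symm
    have h2 : aeval b q * aeval b q = q.eval α • aeval b q := by
      have := congrArg (aeval b) ht
      rw [map_sub, aeval_C, map_mul, map_sub, aeval_X, aeval_C] at this
      rw [Algebra.smul_def]
      linear_combination (aeval b q) * this + (aeval b t) * h1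
    rw [IsIdempotentElem, smul_mul_smul_comm, h2, smul_smul]
    congr 1
    rw [mul_assoc, mul_comm a (q.eval α), ha, mul_one]
  · rw [← Ideal.Quotient.eq]
    let π : B →+* B ⧸ IB := Ideal.Quotient.mk IB
    have hcomp : π.comp (algebraMap A B) =
        (Ideal.quotientMap IB (algebraMap A B) Ideal.le_comap_map).comp (Ideal.Quotient.mk I) :=
      (Ideal.quotientMap_comp_mk _).symm
    have h1 : π (aeval b q) = π b := by
      rw [aeval_def, hom_eval₂, hcomp, ← eval₂_map, hqmap, eval₂_X_pow]
      have hidem : π b * π b = π b := by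
        rw [← map_mul]; exact Ideal.Quotient.eq.mpr hb
      clear * - hidem
      induction n with
      | zero => simp
      | succ m ih => rw [pow_succ, ih, hidem]
    have h2 : π (algebraMap A B a) = 1 := by
      rw [← map_one π, Ideal.Quotient.eq, ← map_one (algebraMap A B), ← map_sub]
      refine Ideal.mem_map_of_mem _ ?_
      rw [← Ideal.Quotient.eq, map_one, ← mul_one (Ideal.Quotient.mk I a)]
      have hq1 : Ideal.Quotient.mk I (q.eval α) = 1 := by
        rw [← eval_map_apply, hqmap, (Ideal.Quotient.eq.mpr hα :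
          Ideal.Quotient.mk I α = Ideal.Quotient.mk I 1)]
        simp
      rw [← hq1, ← map_mul, mul_comm, ha, map_one, hq1]
    show π (a • aeval b q) = π b
    rw [Algebra.smul_def, map_mul, h1, h2, one_mul]

end Groth.Agent.H9Hens
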