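import Groth.Agent.H9Hens.PairOps
import Mathlib.RingTheory.Smooth.StandardSmoothCotangent
import Mathlib.RingTheory.Smooth.Basic
import Mathlib.LinearAlgebra.Matrix.NonsingularInverse

/-!
Multivariate Newton lifting in henselian pairs and lifting of maps from smooth algebras.
-/

namespace Groth.Agent.H9Hens

open MvPolynomial TensorProduct

universe u v w

variable {A : Type u} [CommRing A] {I : Ideal A}

/-- In a henselian pair, an approximate zero of a square system with unit Jacobian lifts. -/
theorem exists_zero_of_jacobian [HenselianRing A I] {n : ℕ}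
    (P : Fin n → MvPolynomial (Fin n) A) (a₀ : Fin n → A) (h₀ : ∀ i, eval a₀ (P i) ∈ I)
    (hJ : IsUnit (Ideal.Quotient.mk I
      (Matrix.of fun i j => eval a₀ (pderiv j (P i))).det)) :
    ∃ a : Fin n → A, (∀ i, eval a (P i) = 0) ∧ ∀ j, a j - a₀ j ∈ I := by
  classical
  let E := MvPolynomial (Fin n) A ⧸ Ideal.span (Set.range P)
  let Q : Algebra.PreSubmersivePresentation A E (Fin n) (Fin n) :=
    Algebra.PreSubmersivePresentation.naive id Function.injective_id
  set Δ := Q.jacobian with hΔdef
  have hΔ : IsUnit (algebraMap E (Localization.Away Δ) Δ) :=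
    IsLocalization.Away.algebraMap_isUnit _
  let P' : Algebra.SubmersivePresentation A (Localization.Away Δ) _ _ :=
    { toPreSubmersivePresentation := .comp (.localizationAway (Localization.Away Δ) Δ) Q,
      jacobian_isUnit := by simpa [Algebra.smul_def, -isUnit_map_iff, hΔdef] using hΔ }
  have : Algebra.IsStandardSmoothOfRelativeDimension 0 A (Localization.Away Δ) :=
    P'.isStandardSmoothOfRelativeDimension (by
      simp only [Algebra.PreSubmersivePresentation.dimension_comp_eq_dimension_add_dimension, P']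
      simp [Algebra.Presentation.dimension])
  have : Algebra.Etale A (Localization.Away Δ) := inferInstance
  let σ₀ : E →ₐ[A] A ⧸ I :=
    Ideal.Quotient.liftₐ _ (aeval fun j => Ideal.Quotient.mk I (a₀ j)) fun p hp => by
      induction hp using Submodule.span_induction with
      | mem p hp =>
        obtain ⟨i, rfl⟩ := hp
        show aeval (algebraMap A (A ⧸ I) ∘ a₀) (P i) = 0
        rw [aeval_algebraMap_apply, Ideal.Quotient.algebraMap_eq, Ideal.Quotient.eq_zero_iff_mem]
        simpa [coe_aeval_eq_eval] using h₀ i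
      | zero => simp
      | add x y _ _ hx hy => rw [map_add, hx, hy, add_zero]
      | smul c x _ hx => rw [smul_eq_mul, map_mul, hx, mul_zero]
  have hσΔ : σ₀ Δ = Ideal.Quotient.mk I (Matrix.of fun i j => eval a₀ (pderiv j (P i))).det := by
    rw [hΔdef, Algebra.PreSubmersivePresentation.jacobian_eq_jacobiMatrix_det]
    have h1 : ∀ r : MvPolynomial (Fin n) A,
        σ₀ (algebraMap Q.Ring E r) = Ideal.Quotient.mk I (eval a₀ r) := by
      intro r
      rw [Algebra.Generators.algebraMap_apply]
      have : aeval Q.val r = (Ideal.Quotient.mk _ r : E) := by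
        have h2 : (aeval Q.val : MvPolynomial (Fin n) A →ₐ[A] E) = Ideal.Quotient.mkₐ A _ := by
          ext j
          rw [aeval_X]
          rfl
        exact AlgHom.congr_fun h2 r
      rw [this]
      show aeval (algebraMap A (A ⧸ I) ∘ a₀) r = _
      rw [aeval_algebraMap_apply, Ideal.Quotient.algebraMap_eq]
      simp [coe_aeval_eq_eval]
    rw [h1, RingHom.map_det, ← Matrix.det_transpose]
    congr 2
    ext i j
    show eval a₀ ((Algebra.PreSubmersivePresentation.naive id Function.injective_id
      (v := P)).jacobiMatrix j i) = _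
    rw [Algebra.PreSubmersivePresentation.jacobiMatrix_naive]
    rfl
  have hu : IsUnit (σ₀ Δ) := hσΔ ▸ hJ
  obtain ⟨τ, hτ⟩ := exists_algHom_lift
    (IsLocalization.Away.liftAlgHom (f := σ₀) Δ hu : Localization.Away Δ →ₐ[A] A ⧸ I)
  let ι : MvPolynomial (Fin n) A →ₐ[A] Localization.Away Δ :=
    (IsScalarTower.toAlgHom A E (Localization.Away Δ)).comp (Ideal.Quotient.mkₐ A _)
  refine ⟨fun j => τ (ι (X j)), fun i => ?_, fun j => ?_⟩
  · have h1 : τ.comp ι = aeval fun j => τ (ι (X j)) := by ext j; rw [aeval_X]; rfl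
    have h2 : τ (ι (P i)) = 0 := by
      have : (Ideal.Quotient.mk (Ideal.span (Set.range P)) (P i)) = 0 :=
        Ideal.Quotient.eq_zero_iff_mem.mpr (Ideal.subset_span ⟨i, rfl⟩)
      show τ (algebraMap E (Localization.Away Δ) (Ideal.Quotient.mk _ (P i))) = 0
      rw [this, map_zero, map_zero]
    have h3 := AlgHom.congr_fun h1 (P i)
    rw [AlgHom.comp_apply, h2] at h3
    simpa [coe_aeval_eq_eval] using h3.symm
  · rw [← Ideal.Quotient.eq]
    have := AlgHom.congr_fun hτ (ι (X j))
    rw [AlgHom.comp_apply, Ideal.Quotient.mkₐ_eq_mk] at this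
    rw [this]
    show IsLocalization.Away.liftAlgHom (f := σ₀) Δ hu
      (algebraMap E (Localization.Away Δ) (Ideal.Quotient.mk _ (X j))) = _
    simp [σ₀]
    show aeval (fun j => Ideal.Quotient.mk I (a₀ j)) (X j) = _
    rw [aeval_X]

/-- First order Taylor expansion modulo the square of an ideal containing the increments. -/
theorem aeval_add_sub_taylor_mem {n : ℕ} {B : Type v} [CommRing B] [Algebra A B] (K : Ideal B)
    (b δ : Fin n → B) (hδ : ∀ l, δ l ∈ K) (p : MvPolynomial (Fin n) A) :
    aeval (fun l => b l + δ l) p - aeval b p - ∑ l, aeval b (pderiv l p) * δ l ∈ K ^ 2 := by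
  classical
  induction p using MvPolynomial.induction_on with
  | C a => simp
  | add p q hp hq =>
    convert add_mem hp hq using 1
    simp only [map_add, add_mul, Finset.sum_add_distrib]
    ring
  | mul_X p i hp =>
    have hsum : ∑ l, aeval b (pderiv l p) * δ l ∈ K :=
      K.sum_mem fun l _ => K.mul_mem_left _ (hδ l)
    have h2 : (∑ l, aeval b (pderiv l p) * δ l) * δ i ∈ K ^ 2 := by
      rw [pow_two]; exact Ideal.mul_mem_mul hsum (hδ i)
    have key : aeval (fun l => b l + δ l) (p * X i) - aeval b (p * X i) -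
        ∑ l, aeval b (pderiv l (p * X i)) * δ l =
        (aeval (fun l => b l + δ l) p - aeval b p - ∑ l, aeval b (pderiv l p) * δ l) *
          (b i + δ i) + (∑ l, aeval b (pderiv l p) * δ l) * δ i := by
      simp only [map_mul, aeval_X, pderiv_mul, pderiv_X, Pi.single_apply, map_add,
        add_mul, Finset.sum_add_distrib, Finset.sum_mul]
      have h3 : ∑ l, aeval b p * aeval b (if i = l then (1 : MvPolynomial (Fin n) A) else 0) * δ l
          = aeval b p * δ i := by
        rw [Finset.sum_eq_single i (fun l _ hl => by simp [hl.symm]) (by simp)]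
        simp
      rw [h3]
      have h4 : ∑ l, aeval b (pderiv l p) * b i * δ l =
          (∑ l, aeval b (pderiv l p) * δ l) * b i := by
        rw [Finset.sum_mul]; exact Finset.sum_congr rfl fun l _ => by ring
      rw [h4, Finset.sum_mul]
      have h5 : ∑ l, aeval b (pderiv l p) * δ l * δ i =
          (∑ l, aeval b (pderiv l p) * δ l) * δ i := by rw [Finset.sum_mul]
      have h6 : ∑ l, aeval b (pderiv l p) * δ l * b i =
          (∑ l, aeval b (pderiv l p) * δ l) * b i := by rw [Finset.sum_mul]
      rw [h5, h6]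
      ring
    rw [key]
    exact add_mem (Ideal.mul_mem_right _ _ hp) h2

/-- In a henselian pair, maps from smooth algebras to the quotient lift. -/
theorem exists_algHom_lift_smooth [HenselianRing A I] {S : Type v} [CommRing S] [Algebra A S]
    [Algebra.Smooth A S] (σ : S →ₐ[A] A ⧸ I) :
    ∃ τ : S →ₐ[A] A, (Ideal.Quotient.mkₐ A I).comp τ = σ := by
  classical
  obtain ⟨n, π, hπ, hK⟩ := Algebra.FinitePresentation.out (R := A) (A := S)
  set K := RingHom.ker π.toRingHom with hKdef
  obtain ⟨m, f, hf⟩ := Submodule.fg_iff_exists_fin_generating_family.mp hK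
  have hfK : ∀ k, f k ∈ K := fun k => hf ▸ Submodule.subset_span ⟨k, rfl⟩
  let π₂ : MvPolynomial (Fin n) A ⧸ K ^ 2 →ₐ[A] S :=
    Ideal.Quotient.liftₐ (K ^ 2) π fun x hx => Ideal.pow_le_self two_ne_zero hx
  have hπ₂ : Function.Surjective π₂ := fun s => by
    obtain ⟨p, rfl⟩ := hπ s
    exact ⟨Ideal.Quotient.mk _ p, rfl⟩
  have hnil : IsNilpotent (RingHom.ker (π₂ : MvPolynomial (Fin n) A ⧸ K ^ 2 →+* S)) := by
    refine ⟨2, le_bot_iff.mp ?_⟩
    have hle : RingHom.ker (π₂ : MvPolynomial (Fin n) A ⧸ K ^ 2 →+* S) ≤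
        K.map (Ideal.Quotient.mk (K ^ 2)) := fun y hy => by
      obtain ⟨p, rfl⟩ := Ideal.Quotient.mk_surjective y
      exact Ideal.mem_map_of_mem _ (RingHom.mem_ker.mpr (RingHom.mem_ker.mp hy : π p = 0))
    refine (Ideal.pow_right_mono hle 2).trans ?_
    rw [← Ideal.map_pow, Ideal.map_quotient_self]
  let g := Algebra.FormallySmooth.liftOfSurjective (AlgHom.id A S) π₂ hπ₂ hnil
  have hg : ∀ l, ∃ d ∈ K, Ideal.Quotient.mk (K ^ 2) (X l + d) = g (π (X l)) := by
    intro l
    obtain ⟨p, hp⟩ := Ideal.Quotient.mk_surjective (g (π (X l)))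
    refine ⟨p - X l, ?_, by rw [add_sub_cancel, hp]⟩
    have : π₂ (g (π (X l))) = π (X l) :=
      Algebra.FormallySmooth.liftOfSurjective_apply _ _ hπ₂ hnil _
    rw [← hp] at this
    exact RingHom.mem_ker.mpr (show π (p - X l) = 0 by
      rw [map_sub, sub_eq_zero]; exact this)
  choose d hd hgd using hg
  have hdN : ∀ l, ∃ N : Fin m → MvPolynomial (Fin n) A, ∑ k, N k * f k = d l := fun l => by
    have := hd l
    rw [← hf, Submodule.mem_span_range_iff_exists_fun] at this
    obtain ⟨c, hc⟩ := this
    exact ⟨c, hc⟩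
  choose N hN using hdN
  -- `f + D N f ∈ K ^ 2`
  have hrel : ∀ j, f j + ∑ l, pderiv l (f j) * d l ∈ K ^ 2 := by
    intro j
    have h1 : aeval (fun l => X l + d l) (f j) ∈ K ^ 2 := by
      rw [← Ideal.Quotient.eq_zero_iff_mem]
      have : (Ideal.Quotient.mkₐ A (K ^ 2)).comp (aeval fun l => X l + d l) =
          g.comp π := by
        ext l
        simpa using hgd l
      have h2 := AlgHom.congr_fun this (f j)
      simp only [AlgHom.comp_apply, Ideal.Quotient.mkₐ_eq_mk] at h2
      rw [h2, (RingHom.mem_ker.mp (hfK j) : π (f j) = 0), map_zero]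
    have h3 := aeval_add_sub_taylor_mem (A := A) K X d hd (f j)
    simp only [aeval_X_left_apply] at h3
    have := sub_mem h1 h3
    convert this using 1
    ring
  choose b hb using fun l => Ideal.Quotient.mk_surjective (σ (π (X l)))
  have hbf : ∀ p ∈ K, eval b p ∈ I := by
    intro p hp
    rw [← Ideal.Quotient.eq_zero_iff_mem]
    have h1 : (σ.comp π) p = Ideal.Quotient.mk I (eval b p) := by
      have : σ.comp π = aeval (algebraMap A (A ⧸ I) ∘ b) := by
        ext l
        simp [hb]
      rw [this, aeval_algebraMap_apply, Ideal.Quotient.algebraMap_eq]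
      simp [coe_aeval_eq_eval]
    rw [← h1, AlgHom.comp_apply, (RingHom.mem_ker.mp hp : π p = 0), map_zero]
  -- the square system
  let Φ : Fin n → MvPolynomial (Fin n) A := fun l =>
    -d l + (X l - C (b l)) +
      ∑ l', (∑ k, N l k * pderiv l' (f k)) * (X l' - C (b l'))
  have hΦ0 : ∀ l, eval b (Φ l) ∈ I := by
    intro l
    simp [Φ, neg_mem_iff, hbf _ (hd l)]
  have hJ : IsUnit (Ideal.Quotient.mk I
      (Matrix.of fun i j => eval b (pderiv j (Φ i))).det) := by
    have : (Matrix.of fun i j => eval b (pderiv j (Φ i))).map (Ideal.Quotient.mk I) = 1 := by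
      ext i j
      have hdi : pderiv j (d i) = ∑ k, (pderiv j (N i k) * f k + N i k * pderiv j (f k)) := by
        rw [← hN i, map_sum]
        exact Finset.sum_congr rfl fun k _ => pderiv_mul
      have h0 : ∀ k, Ideal.Quotient.mk I (eval b (f k)) = 0 := fun k =>
        Ideal.Quotient.eq_zero_iff_mem.mpr (hbf _ (hfK k))
      simp only [Matrix.map_apply, Matrix.of_apply, Φ, map_add, map_neg, map_sub, map_sum, hdi,
        pderiv_X, pderiv_C, sub_zero, pderiv_mul, eval_add, eval_mul, eval_X, eval_C, map_mul,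
        sub_self, mul_zero, zero_add, h0]
      rw [Finset.sum_eq_single j (fun l' _ hl' => by simp [Pi.single_apply, hl'.symm]) (by simp)]
      simp only [Pi.single_eq_same, map_one, mul_one, Pi.single_apply, Matrix.one_apply]
      split_ifs with h h' h' <;> simp_all
    rw [RingHom.map_det]
    show IsUnit (((Matrix.of fun i j => eval b (pderiv j (Φ i))).map (Ideal.Quotient.mk I)).det)
    rw [this, Matrix.det_one]
    exact isUnit_one
  obtain ⟨a, ha, hab⟩ := exists_zero_of_jacobian Φ b hΦ0 hJ
  -- `a` is a zero of `K`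
  set Ka := K.map (eval a) with hKa
  have hKaI : Ka ≤ I := by
    refine Ideal.map_le_iff_le_comap.mpr fun p hp => ?_
    rw [Ideal.mem_comap, ← Ideal.Quotient.eq_zero_iff_mem]
    have h1 : (Ideal.Quotient.mk I).comp (eval a) = (Ideal.Quotient.mk I).comp (eval b) := by
      refine MvPolynomial.ringHom_ext (fun r => by simp) fun l => ?_
      simp [Ideal.Quotient.eq.mpr (hab l)]
    have h2 := RingHom.congr_fun h1 p
    simp only [RingHom.comp_apply] at h2
    rw [h2, Ideal.Quotient.eq_zero_iff_mem]
    exact hbf p hp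
  have hKa0 : Ka = ⊥ := by
    refine Submodule.eq_bot_of_le_smul_of_le_jacobson_bot I Ka (hK.map _) ?_ HenselianRing.jac
    rw [hKa, ← hf, Ideal.map_span, Ideal.span_le]
    rintro _ ⟨_, ⟨j, rfl⟩, rfl⟩
    have hsq : ∀ p ∈ K ^ 2, eval a p ∈ I * Ka := fun p hp => by
      have := Ideal.mem_map_of_mem (eval a) hp
      rw [Ideal.map_pow, pow_two] at this
      exact Ideal.mul_mono_left hKaI this
    have h1 := hsq _ (hrel j)
    simp only [map_add, map_sum, map_mul] at h1
    -- `d = (1 + N D) (a - b)` at the zero `a`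
    have hda : ∀ l, eval a (d l) = (a l - b l) +
        ∑ l', (∑ k, eval a (N l k) * eval a (pderiv l' (f k))) * (a l' - b l') := by
      intro l
      have := ha l
      simp only [Φ, map_add, map_neg, map_sub, map_sum, map_mul, eval_X, eval_C] at this
      linear_combination -this
    have h2 : ∑ l, eval a (pderiv l (f j)) * eval a (d l) ∈ I * Ka := by
      have hD : ∀ l', (eval a (pderiv l' (f j)) + ∑ l, eval a (pderiv l (f j)) *
          ∑ k, eval a (N l k) * eval a (pderiv l' (f k))) ∈ Ka := by
        intro l'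
        -- differentiate the relation
        have hder : pderiv l' (f j + ∑ l, pderiv l (f j) * d l) ∈ K := by
          have h2 := hrel j
          rw [pow_two] at h2
          refine Submodule.mul_induction_on h2 (fun x hx y hy => ?_) fun x y hx hy => ?_
          · rw [pderiv_mul]
            exact add_mem (K.mul_mem_left _ hy) (K.mul_mem_right _ hx)
          · rw [map_add]
            exact add_mem hx hy
        have h3 : ∀ l, ∀ x, x * d l ∈ K := fun l x => K.mul_mem_left x (hd l)
        have h4 : pderiv l' (f j) + ∑ l, pderiv l (f j) * ∑ k, N l k * pderiv l' (f k) ∈ K := by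
          have h5 : ∀ l, pderiv l' (d l) - ∑ k, N l k * pderiv l' (f k) ∈ K := by
            intro l
            rw [← hN l, map_sum, ← Finset.sum_sub_distrib]
            refine K.sum_mem fun k _ => ?_
            rw [pderiv_mul, add_sub_cancel_right]
            exact K.mul_mem_left _ (hfK k)
          have h6 : pderiv l' (f j + ∑ l, pderiv l (f j) * d l) -
              (pderiv l' (f j) + ∑ l, pderiv l (f j) * ∑ k, N l k * pderiv l' (f k)) ∈ K := by
            rw [map_add, map_sum, add_sub_add_left_eq_sub, ← Finset.sum_sub_distrib]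
            refine K.sum_mem fun l _ => ?_
            rw [pderiv_mul, add_sub_assoc, ← mul_sub]
            exact add_mem (h3 l _) (K.mul_mem_left _ (h5 l))
          have := sub_mem hder h6
          rwa [sub_sub_cancel] at this
        have := Ideal.mem_map_of_mem (eval a) h4
        simpa using this
      simp only [hda, mul_add, Finset.sum_add_distrib, Finset.mul_sum]
      rw [Finset.sum_comm (γ := Fin n), ← Finset.sum_add_distrib]
      refine Ideal.sum_mem _ fun l' _ => ?_
      have h7 := Ideal.mul_mem_mul (hab l') (hD l')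
      convert h7 using 1
      rw [mul_add, Finset.mul_sum, mul_comm (a l' - b l')]
      congr 1
      exact Finset.sum_congr rfl fun l _ => by ring
    have := sub_mem h1 h2
    rw [add_sub_cancel_right] at this
    show eval a (f j) ∈ I • Ideal.span (eval a '' Set.range f)
    rw [smul_eq_mul, ← Ideal.map_span]
    rw [show Ideal.span (Set.range f) = K from hf]
    exact this
  have hkill : ∀ x ∈ K, eval a x = 0 := fun x hx => by
    have h1 : eval a x ∈ Ka := Ideal.mem_map_of_mem _ hx
    rwa [hKa0, Ideal.mem_bot] at h1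
  have hkill' : ∀ x, x ∈ RingHom.ker (π : MvPolynomial (Fin n) A →+* S) →
      aeval a x = (0 : A) := fun x hx => by
    simpa [coe_aeval_eq_eval] using hkill x hx
  refine ⟨(Ideal.Quotient.liftₐ (RingHom.ker π.toRingHom) (aeval a) hkill').comp
    (Ideal.quotientKerAlgEquivOfSurjective hπ).symm.toAlgHom, ?_⟩
  refine AlgHom.ext fun s => ?_
  obtain ⟨p, rfl⟩ := hπ s
  have h1 : (Ideal.quotientKerAlgEquivOfSurjective hπ).symm (π p) =
      Ideal.Quotient.mk _ p := by
    rw [AlgEquiv.symm_apply_eq]; rfl
  show Ideal.Quotient.mk I ((Ideal.Quotient.liftₐ (RingHom.ker π.toRingHom) (aeval a) hkill')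
    ((Ideal.quotientKerAlgEquivOfSurjective hπ).symm (π p))) = σ (π p)
  rw [h1]
  have h2 : (σ.comp π) = aeval (algebraMap A (A ⧸ I) ∘ a) := by
    ext l
    simp [← hb, Ideal.Quotient.eq.mpr (hab l)]
  have h3 := AlgHom.congr_fun h2 p
  rw [AlgHom.comp_apply, aeval_algebraMap_apply, Ideal.Quotient.algebraMap_eq] at h3
  rw [h3]
  rfl

/-- In a henselian pair over `R`, maps to the quotient from smooth `R`-algebras lift. -/
theorem exists_algHom_lift_smooth_rel [HenselianRing A I] {R : Type v} [CommRing R] [Algebra R A]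
    {S : Type w} [CommRing S] [Algebra R S] [Algebra.Smooth R S] (σ : S →ₐ[R] A ⧸ I) :
    ∃ τ : S →ₐ[R] A, (Ideal.Quotient.mkₐ R I).comp τ = σ := by
  let σ' : A ⊗[R] S →ₐ[A] A ⧸ I :=
    Algebra.TensorProduct.lift (Algebra.ofId A (A ⧸ I)) σ fun _ _ => Commute.all _ _
  obtain ⟨τ, hτ⟩ := exists_algHom_lift_smooth σ'
  refine ⟨(τ.restrictScalars R).comp Algebra.TensorProduct.includeRight, AlgHom.ext fun x => ?_⟩
  have := AlgHom.congr_fun hτ (1 ⊗ₜ[R] x)
  simpa [σ'] using this

end Groth.Agent.H9Hens
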