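import Mathlib
import Groth.Agent.H9Hens.Local
import Groth.Agent.H9Hens.Pair
import Groth.Agent.H9Hens.Newton
import Groth.Agent.H9Hens.Idem

/-!
Sections of smooth schemes over henselian local rings, and open-closed subsets of closed subschemes
of affine schemes.
-/

open CategoryTheory AlgebraicGeometry TopologicalSpace

namespace Groth.Agent.H9Hens

universe u

theorem henselianRing_maximalIdeal (A : Type u) [CommRing A] [h : HenselianLocalRing A] :
    HenselianRing A (IsLocalRing.maximalIdeal A) :=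
  ⟨IsLocalRing.maximalIdeal_le_jacobson ⊥, fun f hf a₀ h₁ h₂ =>
    h.is_henselian f hf a₀ h₁
      ((isLocalHom_of_le_jacobson_bot _ (IsLocalRing.maximalIdeal_le_jacobson ⊥)).map_nonunit _ h₂)⟩

/-- An affine chart around a point of a scheme over an affine scheme. -/
theorem exists_affine_chart {A : Type u} [CommRing A] {X : Scheme.{u}}
    (f : X ⟶ Spec (CommRingCat.of A)) (x : X) :
    ∃ (S : CommRingCat.{u}) (j : Spec S ⟶ X) (ψ : CommRingCat.of A ⟶ S),
      IsOpenImmersion j ∧ x ∈ Set.range j.base ∧ Spec.map ψ = j ≫ f := by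
  obtain ⟨U, hU, hx, -⟩ := exists_isAffineOpen_mem_and_subset (X := X) (x := x)
    (U := ⊤) trivial
  exact ⟨_, hU.fromSpec, Spec.preimage (hU.fromSpec ≫ f), inferInstance,
    by rw [hU.range_fromSpec]; exact hx, Spec.map_preimage _⟩

/-- An affine open containing the image of the closed point contains the image of a local scheme. -/
theorem exists_lift_of_closedPoint_mem {R : Type u} [CommRing R] [IsLocalRing R] {X : Scheme.{u}}
    {S : CommRingCat.{u}} (j : Spec S ⟶ X) [IsOpenImmersion j]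
    (v : Spec (CommRingCat.of R) ⟶ X) (h : v.base (IsLocalRing.closedPoint R) ∈ Set.range j.base) :
    ∃ φ : S ⟶ CommRingCat.of R, Spec.map φ ≫ j = v := by
  have hr : Set.range v.base ⊆ Set.range j.base := by
    rintro _ ⟨y, rfl⟩
    exact ((IsLocalRing.specializes_closedPoint y).map v.base.hom.continuous).mem_open
      j.isOpenEmbedding.isOpen_range h
  exact ⟨Spec.preimage (IsOpenImmersion.lift j v hr), by
    rw [Spec.map_preimage, IsOpenImmersion.lift_fac]⟩

/-- The clopen subsets of a closed subscheme of an affine scheme lift uniquely iff idempotents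
do. -/
theorem clopen_lift_iff {B : Type u} [CommRing B] (J : Ideal B) {P : Type u} [TopologicalSpace P]
    (j : P → PrimeSpectrum B) (hj : Topology.IsClosedEmbedding j)
    (hr : Set.range j = PrimeSpectrum.zeroLocus (J : Set B)) :
    (∀ V : Set P, IsClopen V → ∃! U : Set (PrimeSpectrum B), IsClopen U ∧ j ⁻¹' U = V) ↔
    (∀ b : B, b * b - b ∈ J → ∃! e : B, IsIdempotentElem e ∧ e - b ∈ J) := by
  let π := Ideal.Quotient.mk J
  let c : PrimeSpectrum (B ⧸ J) → PrimeSpectrum B := PrimeSpectrum.comap π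
  have hc : Topology.IsClosedEmbedding c :=
    PrimeSpectrum.isClosedEmbedding_comap_of_surjective _ π Ideal.Quotient.mk_surjective
  have hcr : Set.range c = Set.range j := by
    rw [hr, range_comap_of_surjective _ _ Ideal.Quotient.mk_surjective, Ideal.mk_ker]
  have hU : ∀ {U₁ U₂ : Set (PrimeSpectrum B)}, j ⁻¹' U₁ = j ⁻¹' U₂ ↔ c ⁻¹' U₁ = c ⁻¹' U₂ := by
    intro U₁ U₂
    constructor <;> intro h <;> ext z
    · obtain ⟨p, hp⟩ := hcr.le ⟨z, rfl⟩
      simpa [← hp] using Set.ext_iff.mp h p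
    · obtain ⟨p, hp⟩ := hcr.ge ⟨z, rfl⟩
      simpa [← hp] using Set.ext_iff.mp h p
  have hb : ∀ e : B, c ⁻¹' (PrimeSpectrum.basicOpen e : Set _) =
      (PrimeSpectrum.basicOpen (π e) : Set _) := fun e => rfl
  have hclopen : ∀ e : B, IsIdempotentElem e → IsClopen (PrimeSpectrum.basicOpen e : Set _) :=
    fun e he => PrimeSpectrum.isClopen_iff_mul_add.mpr
      ⟨e, 1 - e, by rw [mul_sub, mul_one, he.eq, sub_self], by ring, rfl⟩
  have hπ : ∀ {e b : B}, e - b ∈ J ↔ π e = π b := Ideal.Quotient.eq.symm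
  constructor
  · intro H b hb'
    have hidem : IsIdempotentElem (π b) := by
      rw [IsIdempotentElem, ← map_mul]; exact Ideal.Quotient.eq.mpr hb'
    have hW : IsClopen (PrimeSpectrum.basicOpen (π b) : Set _) :=
      PrimeSpectrum.isClopen_iff_mul_add.mpr
        ⟨π b, 1 - π b, by rw [mul_sub, mul_one, hidem.eq, sub_self], by ring, rfl⟩
    have hV : IsClopen (j ⁻¹' (c '' (PrimeSpectrum.basicOpen (π b) : Set _))) := by
      refine ⟨(hc.isClosedMap _ hW.1).preimage hj.continuous, ?_⟩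
      have : j ⁻¹' (c '' (PrimeSpectrum.basicOpen (π b) : Set _)) =
          (j ⁻¹' (c '' (PrimeSpectrum.basicOpen (π b) : Set _)ᶜ))ᶜ := by
        ext p
        obtain ⟨z, hz⟩ := hcr.ge ⟨p, rfl⟩
        simp only [Set.mem_preimage, Set.mem_compl_iff, ← hz, hc.injective.mem_set_image, not_not]
      rw [this, isOpen_compl_iff]
      exact (hc.isClosedMap _ hW.compl.1).preimage hj.continuous
    have key : ∀ U, j ⁻¹' U = j ⁻¹' (c '' (PrimeSpectrum.basicOpen (π b) : Set _)) ↔
        c ⁻¹' U = (PrimeSpectrum.basicOpen (π b) : Set _) := fun U => by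
      rw [hU, Set.preimage_image_eq _ hc.injective]
    obtain ⟨U, ⟨hUc, hUV⟩, huniq⟩ := H _ hV
    obtain ⟨e, f, hef, hef1, rfl⟩ := PrimeSpectrum.isClopen_iff_mul_add.mp hUc
    have he := (IsIdempotentElem.of_mul_add hef hef1).1
    rw [key, hb] at hUV
    refine ⟨e, ⟨he, hπ.mpr (PrimeSpectrum.basicOpen_injOn_isIdempotentElem (he.map π) hidem
      (SetLike.ext' hUV))⟩, fun e' he' => ?_⟩
    refine PrimeSpectrum.basicOpen_injOn_isIdempotentElem he'.1 he (SetLike.ext'
      (huniq _ ⟨hclopen e' he'.1, (key _).mpr ?_⟩))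
    rw [hb, hπ.mp he'.2]
  · intro H V hV
    have hW : IsClopen (c ⁻¹' (j '' V)) := by
      refine ⟨(hj.isClosedMap _ hV.1).preimage hc.continuous, ?_⟩
      have : c ⁻¹' (j '' V) = (c ⁻¹' (j '' Vᶜ))ᶜ := by
        ext z
        obtain ⟨p, hp⟩ := hcr.le ⟨z, rfl⟩
        simp only [Set.mem_preimage, Set.mem_compl_iff, ← hp, hj.injective.mem_set_image, not_not]
      rw [this, isOpen_compl_iff]
      exact (hj.isClosedMap _ hV.compl.1).preimage hc.continuous
    obtain ⟨ē, f, hef, hef1, hWe⟩ := PrimeSpectrum.isClopen_iff_mul_add.mp hW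
    have hē := (IsIdempotentElem.of_mul_add hef hef1).1
    obtain ⟨b, rfl⟩ := Ideal.Quotient.mk_surjective ē
    obtain ⟨e, ⟨he, heb⟩, huniq⟩ := H b (by
      rw [hπ, map_mul]; exact hē.eq)
    have key : ∀ U, j ⁻¹' U = V ↔ c ⁻¹' U = (PrimeSpectrum.basicOpen (π b) : Set _) := fun U => by
      rw [← hWe, ← hU, Set.preimage_image_eq _ hj.injective]
    refine ⟨_, ⟨hclopen e he, (key _).mpr (by rw [hb, hπ.mp heb])⟩, ?_⟩
    rintro U' ⟨hU'c, hU'⟩
    obtain ⟨e', f', hef', hef1', rfl⟩ := PrimeSpectrum.isClopen_iff_mul_add.mp hU'c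
    have he' := (IsIdempotentElem.of_mul_add hef' hef1').1
    rw [key, hb] at hU'
    rw [huniq e' ⟨he', hπ.mpr (PrimeSpectrum.basicOpen_injOn_isIdempotentElem (he'.map π) hē
      (SetLike.ext' hU'))⟩]

end Groth.Agent.H9Hens
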