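import Mathlib
import Groth.Agent.H9Hens.SchemeSections

/-!
The finite part of a quasi-finite separated scheme over a henselian local ring.
-/

universe u

open CategoryTheory Limits AlgebraicGeometry TopologicalSpace

namespace Groth.Agent.H9Hens

variable {R : Type u} [CommRing R]

/-- A closed map to the spectrum of a local ring: every point specialises into the closed fibre. -/
theorem exists_specializes_closedPoint [IsLocalRing R] {W : Scheme.{u}}
    (p : W ⟶ Spec (CommRingCat.of R)) [UniversallyClosed p] (w : W) :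
    ∃ y : W, w ⤳ y ∧ p.base y = IsLocalRing.closedPoint R := by
  have hcl : IsClosed (p.base '' closure {w}) := p.isClosedMap _ isClosed_closure
  have hc : IsLocalRing.closedPoint R ∈ p.base '' closure {w} :=
    ((IsLocalRing.specializes_closedPoint (p.base w)).mem_closed hcl ⟨w, subset_closure rfl, rfl⟩)
  obtain ⟨y, hy, hpy⟩ := hc
  exact ⟨y, specializes_iff_mem_closure.mpr hy, hpy⟩

/-- The finite part consists of the points with a specialisation in the closed fibre. -/
theorem mem_finitePart_iff [IsLocalRing R] {X : Scheme.{u}} (f : X ⟶ Spec (CommRingCat.of R))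
    (W : X.Opens) (hfin : IsFinite (W.ι ≫ f))
    (hfib : ∀ x : X, f.base x = IsLocalRing.closedPoint R → x ∈ W) (x : X) :
    x ∈ W ↔ ∃ y : X, x ⤳ y ∧ f.base y = IsLocalRing.closedPoint R := by
  refine ⟨fun hx => ?_, fun ⟨y, hxy, hy⟩ => hxy.mem_open W.2 (hfib y hy)⟩
  obtain ⟨y, hxy, hy⟩ := exists_specializes_closedPoint (W.ι ≫ f) ⟨x, hx⟩
  exact ⟨y.1, hxy.map W.ι.continuous, hy⟩

/-- In the spectrum of an algebra integral over a henselian local ring, an open set meeting the
closed fibre in a closed set contains a clopen with the same trace. -/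
theorem exists_clopen_subset_open [HenselianLocalRing R] {N : Scheme.{u}}
    (π : N ⟶ Spec (CommRingCat.of R)) [IsIntegralHom π] (U : N.Opens)
    (hU : IsClosed {z : N | z ∈ U ∧ π.base z = IsLocalRing.closedPoint R}) :
    ∃ C : N.Opens, IsClosed (C : Set N) ∧ C ≤ U ∧
      ∀ z ∈ U, π.base z = IsLocalRing.closedPoint R → z ∈ C := by
  have : IsAffine N := isAffine_of_isAffineHom π
  let ψ : CommRingCat.of R ⟶ Γ(N, ⊤) := Spec.preimage (N.isoSpec.inv ≫ π)
  have hψ : Spec.map ψ = N.isoSpec.inv ≫ π := Spec.map_preimage _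
  have hint : ψ.hom.IsIntegral := by
    rw [← IsIntegralHom.SpecMap_iff, hψ]; infer_instance
  algebraize [ψ.hom]
  let w := Scheme.homeoOfIso N.isoSpec
  let B := Γ(N, ⊤)
  let J : Ideal B := (IsLocalRing.maximalIdeal R).map ψ.hom
  have hπw : ∀ z : PrimeSpectrum B, z ∈ PrimeSpectrum.zeroLocus (J : Set B) ↔
      π.base (w.symm z) = IsLocalRing.closedPoint R := fun z => by
    have h1 : π.base (w.symm z) = PrimeSpectrum.comap ψ.hom z := by
      change π.base (N.isoSpec.inv.base z) = (Spec.map ψ).base z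
      rw [hψ]; rfl
    rw [h1, PrimeSpectrum.mem_zeroLocus, SetLike.coe_subset_coe, Ideal.map_le_iff_le_comap]
    refine ⟨fun h => PrimeSpectrum.ext ?_, fun h => (congrArg PrimeSpectrum.asIdeal h).ge⟩
    exact ((IsLocalRing.maximalIdeal.isMaximal R).eq_of_le (Ideal.IsPrime.comap ψ.hom).ne_top h).symm
  have hhen := henselianRing_maximalIdeal R
  have hJjac : J ≤ Ideal.jacobson ⊥ := map_le_jacobson_of_isIntegral (B := B) hhen.jac
  let Z := PrimeSpectrum.zeroLocus (J : Set B)
  let j : Z → PrimeSpectrum B := Subtype.val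
  have hj : Topology.IsClosedEmbedding j := (PrimeSpectrum.isClosed_zeroLocus _).isClosedEmbedding_subtypeVal
  let V : Set Z := {z | w.symm z.1 ∈ U}
  have hV : IsClopen V := by
    refine ⟨?_, U.2.preimage (w.symm.continuous.comp continuous_subtype_val)⟩
    have h1 : V = (fun z : Z => w.symm z.1) ⁻¹' {z : N | z ∈ U ∧ π.base z = IsLocalRing.closedPoint R} :=
      Set.ext fun z => ⟨fun h => ⟨h, (hπw z.1).mp z.2⟩, fun h => h.1⟩
    rw [h1]
    exact hU.preimage (w.symm.continuous.comp continuous_subtype_val)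
  obtain ⟨C, ⟨hC, hCV⟩, -⟩ := (clopen_lift_iff J j hj Subtype.range_coe).mpr (fun b hb => by
    obtain ⟨e, he, heb⟩ := exists_idem_lift_integral (I := IsLocalRing.maximalIdeal R) (B := B) b hb
    exact ⟨e, ⟨he, heb⟩, fun e' he' => idem_eq_of_sub_mem hJjac he'.1 he
      (by simpa using sub_mem he'.2 heb)⟩) V hV
  refine ⟨⟨w ⁻¹' C, hC.2.preimage w.continuous⟩, hC.1.preimage w.continuous, fun z hz => ?_, fun z hzU hz => ?_⟩
  · obtain ⟨y, hzy, hy⟩ := exists_specializes_closedPoint π z
    have hyC : w y ∈ C := (hzy.map w.continuous).mem_closed hC.1 hz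
    have hyZ : w y ∈ Z := (hπw _).mpr (by rw [w.symm_apply_apply]; exact hy)
    have hyV : (⟨w y, hyZ⟩ : Z) ∈ j ⁻¹' C := hyC
    rw [hCV] at hyV
    exact hzy.mem_open U.2 ((congrArg (· ∈ U) (w.symm_apply_apply y)).mp hyV)
  · have hzZ : w z ∈ Z := (hπw _).mpr (by rw [w.symm_apply_apply]; exact hz)
    have : (⟨w z, hzZ⟩ : Z) ∈ j ⁻¹' C := by
      rw [hCV]; exact (congrArg (· ∈ U) (w.symm_apply_apply z)).mpr hzU
    exact this

/-- For an integral morphism to the spectrum of a local ring, the points over the closed point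
are closed. -/
theorem isClosed_singleton_of_integral [IsLocalRing R] {N : Scheme.{u}}
    (π : N ⟶ Spec (CommRingCat.of R)) [IsIntegralHom π] (z : N)
    (hz : π.base z = IsLocalRing.closedPoint R) : IsClosed ({z} : Set N) := by
  have : IsAffine N := isAffine_of_isAffineHom π
  let ψ : CommRingCat.of R ⟶ Γ(N, ⊤) := Spec.preimage (N.isoSpec.inv ≫ π)
  have hψ : Spec.map ψ = N.isoSpec.inv ≫ π := Spec.map_preimage _
  have hint : ψ.hom.IsIntegral := by
    rw [← IsIntegralHom.SpecMap_iff, hψ]; infer_instance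
  algebraize [ψ.hom]
  let w := Scheme.homeoOfIso N.isoSpec
  have h1 : PrimeSpectrum.comap ψ.hom (w z) = π.base (w.symm (w z)) := by
    change (Spec.map ψ).base (w z) = π.base (N.isoSpec.inv.base (w z))
    rw [hψ]; rfl
  rw [w.symm_apply_apply, hz] at h1
  have h2 : ((w z).asIdeal.comap (algebraMap R Γ(N, ⊤))).IsMaximal := by
    have h3 := congrArg PrimeSpectrum.asIdeal h1
    change (w z).asIdeal.comap ψ.hom = IsLocalRing.maximalIdeal R at h3
    show ((w z).asIdeal.comap ψ.hom).IsMaximal
    rw [h3]; exact IsLocalRing.maximalIdeal.isMaximal R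
  have h4 : IsClosed ({w z} : Set (PrimeSpectrum Γ(N, ⊤))) :=
    (PrimeSpectrum.isClosed_singleton_iff_isMaximal _).mpr
      (Ideal.isMaximal_of_isIntegral_of_isMaximal_comap _ h2)
  rw [← w.isClosed_image, Set.image_singleton]
  exact h4

/-- Existence of the finite part. -/
theorem exists_finitePart_scheme [HenselianLocalRing R] {X : Scheme.{u}}
    (f : X ⟶ Spec (CommRingCat.of R))
    [LocallyQuasiFinite f] [LocallyOfFiniteType f] [QuasiCompact f] [IsSeparated f] :
    ∃ W : X.Opens, IsClosed (W : Set X) ∧ IsFinite (W.ι ≫ f) ∧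
      ∀ x : X, f.base x = IsLocalRing.closedPoint R → x ∈ W := by
  let j := f.toNormalization
  let π := f.fromNormalization
  have hjπ : j ≫ π = f := f.toNormalization_fromNormalization
  have hfin : (f.base ⁻¹' {IsLocalRing.closedPoint R}).Finite := f.finite_preimage_singleton _
  have hclosed : ∀ z, π.base z = IsLocalRing.closedPoint R → IsClosed ({z} : Set f.normalization) :=
    fun z hz => isClosed_singleton_of_integral π z hz
  have hU : IsClosed {z | z ∈ j.opensRange ∧ π.base z = IsLocalRing.closedPoint R} := by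
    have : {z | z ∈ j.opensRange ∧ π.base z = IsLocalRing.closedPoint R} =
        ⋃ x ∈ f.base ⁻¹' {IsLocalRing.closedPoint R}, {j.base x} := by
      ext z
      simp only [Set.mem_setOf_eq, Set.mem_iUnion, Set.mem_preimage, Set.mem_singleton_iff, exists_prop]
      constructor
      · rintro ⟨⟨x, rfl⟩, hz⟩
        exact ⟨x, by rw [← hjπ]; exact hz, rfl⟩
      · rintro ⟨x, hx, rfl⟩
        exact ⟨⟨x, rfl⟩, by rw [← hjπ] at hx; exact hx⟩
    rw [this]
    exact hfin.isClosed_biUnion fun x hx => hclosed _ (by rw [← hjπ] at hx; exact hx)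
  obtain ⟨C, hCcl, hCU, hCfib⟩ := exists_clopen_subset_open π j.opensRange hU
  let W := j ⁻¹ᵁ C
  refine ⟨W, hCcl.preimage j.continuous, ?_, fun x hx => hCfib _ ⟨x, rfl⟩ (by rw [← hjπ] at hx; exact hx)⟩
  have hWC : IsClosedImmersion (W.ι ≫ j) := by
    refine IsClosedImmersion.of_isPreimmersion _ ?_
    rw [Scheme.Hom.comp_base, TopCat.coe_comp, Set.range_comp, Scheme.Opens.range_ι]
    show IsClosed (j.base '' (j.base ⁻¹' (C : Set _)))
    rw [Set.image_preimage_eq_of_subset (fun z hz => hCU hz)]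
    exact hCcl
  rw [IsFinite.iff_isIntegralHom_and_locallyOfFiniteType]
  refine ⟨?_, inferInstance⟩
  rw [← hjπ, ← Category.assoc]
  infer_instance

end Groth.Agent.H9Hens
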