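import Groth.Agent.H05EGA4.GeomReducedNagata
import Groth.Agent.H05EGA4.GRSHom
import Groth.Agent.H05EGA4.LocalToGlobal
import Groth.Agent.H9Hens.BranchSum
import Groth.Agent.H9Hens.PtFibre

/-!
# Minimal primes of henselian extensions with geometrically normal fibres
-/

set_option linter.style.haveILetI false

universe u

open IsLocalRing TensorProduct Groth.Agent Groth.Agent.H05EGA4

namespace Groth.Agent.H9Hens

/-- Quotients of henselian local rings are henselian. -/
theorem henselianLocalRing_quotient {S : Type u} [CommRing S] [HenselianLocalRing S] (J : Ideal S)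
    [IsLocalRing (S ⧸ J)] : HenselianLocalRing (S ⧸ J) := by
  have : HenselianRing (S ⧸ J) (maximalIdeal (S ⧸ J)) := by
    have := henselianRing_quotient (J := maximalIdeal S) J
    refine henselianRing_of_le (J := (maximalIdeal S).map (Ideal.Quotient.mk J)) fun x hx => ?_
    obtain ⟨y, rfl⟩ := Ideal.Quotient.mk_surjective x
    exact Ideal.mem_map_of_mem _ ((mem_maximalIdeal y).mpr fun hy =>
      (mem_maximalIdeal _).mp hx (hy.map _))
  exact henselianLocalRing_of_henselianRing

/-- Being separably closed is invariant under isomorphism. -/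
theorem isSepClosed_of_ringEquiv {K L : Type u} [Field K] [Field L] [IsSepClosed K] (e : K ≃+* L) :
    IsSepClosed L :=
  IsSepClosed.of_exists_root _ fun p _ hirr hsep => by
    have hd : (p.map e.symm.toRingHom).degree ≠ 0 := by
      rw [Polynomial.degree_map]; exact hirr.degree_pos.ne'
    obtain ⟨x, hx⟩ := IsSepClosed.exists_root _ hd hsep.map
    refine ⟨e x, ?_⟩
    have h := hx.map (f := e.toRingHom)
    rwa [Polynomial.map_map, show e.toRingHom.comp e.symm.toRingHom = RingHom.id _ from
      RingHom.ext e.apply_symm_apply, Polynomial.map_id] at h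

/-- A Noetherian colimit of pointed etale algebras is geometrically regular over the base. -/
theorem grsHom_of_isPtColim {A k H : Type u} [CommRing A] [CommRing k] [Algebra A k] [CommRing H] [Algebra A H]
    {π : H →ₐ[A] k} (hH : IsPtColim π) [IsNoetherianRing H] {r n : WithBot ℕ∞} : GRSHom r n A H := by
  refine grsHom_of_forall hH.flat fun p _ k' _ _ _ _ _ _ => ?_
  have := hH.isReduced_fibre k'
  have := hH.krullDimLE_fibre k'
  have : IsNoetherianRing (k' ⊗[A] H) := H02CA.isNoetherianRing_tensor_of_essFiniteType _ _ _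
  intro q _
  have hd : Ring.KrullDimLE 0 (Localization.AtPrime q) :=
    Ring.krullDimLE_iff.mpr ((IsLocalization.AtPrime.ringKrullDim_eq_height q _).le.trans
      ((Ideal.height_le_ringKrullDim_of_ne_top Ideal.IsPrime.ne_top').trans (Ring.krullDimLE_iff.mp ‹_›)))
  have hf : IsField (Localization.AtPrime q) := Ring.KrullDimLE.isField_of_isReduced
  let := hf.toField
  exact rsLocal_of_isRegularLocalRing _

/-- Minimal primes below maximal ideals in an integral algebra over a henselian ring whose local rings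
are domains. -/
theorem nonempty_minimalPrimes_equiv_maximalSpectrum {H X : Type u} [CommRing H] [HenselianLocalRing H]
    [CommRing X] [Algebra H X] [Algebra.IsIntegral H X]
    (hdom : ∀ (M : Ideal X) [M.IsMaximal], IsDomain (Localization.AtPrime M)) :
    Nonempty (minimalPrimes X ≃ MaximalSpectrum X) := by
  have hex : ∀ Q : minimalPrimes X, ∃ M : MaximalSpectrum X, Q.1 ≤ M.asIdeal := fun Q => by
    obtain ⟨M, hM, hle⟩ := Ideal.exists_le_maximal Q.1 Q.2.1.1.ne_top
    exact ⟨⟨M, hM⟩, hle⟩
  choose F hF using hex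
  refine ⟨Equiv.ofBijective F ⟨fun Q₁ Q₂ h => ?_, fun M => ?_⟩⟩
  · have := hdom (F Q₁).asIdeal
    let κ := RingHom.ker (algebraMap X (Localization.AtPrime (F Q₁).asIdeal))
    have key : ∀ Q : minimalPrimes X, Q.1 ≤ (F Q₁).asIdeal → Q.1 = κ := fun Q hle => by
      have := Q.2.1.1
      have hκ : κ ≤ Q.1 := fun x hx => by
        obtain ⟨⟨s, hs⟩, hsx⟩ := (IsLocalization.map_eq_zero_iff (F Q₁).asIdeal.primeCompl _ x).mp hx
        exact (this.mem_or_mem (hsx ▸ Q.1.zero_mem)).resolve_left fun h => hs (hle h)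
      exact le_antisymm (Q.2.2 ⟨RingHom.ker_isPrime _, bot_le⟩ hκ) hκ
    exact Subtype.ext ((key Q₁ (hF Q₁)).trans (key Q₂ (h ▸ hF Q₂)).symm)
  · have := M.isMaximal
    obtain ⟨Q, hQ, hle⟩ := Ideal.exists_minimalPrimes_le (bot_le : (⊥ : Ideal X) ≤ M.asIdeal)
    have := hQ.1.1
    refine ⟨⟨Q, hQ⟩, MaximalSpectrum.ext ?_⟩
    exact @maximal_eq_of_prime_le_of_isIntegral H _ _ X _ _ _ Q _ _ M.asIdeal (F ⟨Q, hQ⟩).isMaximal M.isMaximal
      (hF ⟨Q, hQ⟩) hle

/-- A flat algebra and its tensor product with a birational integral extension have the same minimal primes. -/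
theorem nonempty_minimalPrimes_tensor_equiv {A K H : Type u} [CommRing A] [IsDomain A] [Field K] [Algebra A K]
    [IsFractionRing A K] [CommRing H] [Algebra A H] [Module.Flat A H] :
    Nonempty (minimalPrimes (H ⊗[A] integralClosure A K) ≃ minimalPrimes H) := by
  let P := integralClosure A K
  let X := H ⊗[A] P
  let f := algebraMap H X
  have hrep : ∀ x : X, ∃ (a : A) (h : H), a ≠ 0 ∧ a • x = f h := fun x => by
    induction x using TensorProduct.induction_on with
    | zero => exact ⟨1, 0, one_ne_zero, by simp⟩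
    | tmul h p =>
      obtain ⟨⟨a, s⟩, hs⟩ := IsLocalization.surj (nonZeroDivisors A) (p : K)
      refine ⟨s, a • h, nonZeroDivisors.ne_zero s.2, ?_⟩
      rw [← TensorProduct.tmul_smul]
      show h ⊗ₜ[A] ((s : A) • p) = (a • h) ⊗ₜ[A] (1 : P)
      rw [TensorProduct.smul_tmul]
      congr 1
      refine Subtype.ext ?_
      simp only [SetLike.val_smul, Algebra.smul_def, OneMemClass.coe_one, mul_one]
      rw [mul_comm]
      exact hs
    | add x y hx hy =>
      obtain ⟨a, h, ha, e⟩ := hx
      obtain ⟨b, g, hb, e'⟩ := hy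
      refine ⟨a * b, b • h + a • g, mul_ne_zero ha hb, ?_⟩
      rw [smul_add, mul_comm a b, mul_smul, e, mul_comm b a, mul_smul, e', map_add]
      congr 1 <;> exact ((IsScalarTower.toAlgHom A H X).toLinearMap.map_smul _ _).symm
  have hrep' : ∀ x : X, ∃ (a : A) (h : H), a ≠ 0 ∧ f (algebraMap A H a) * x = f h := fun x => by
    obtain ⟨a, h, ha, e⟩ := hrep x
    refine ⟨a, h, ha, ?_⟩
    rw [← e]
    exact ((algebraMap_smul H a x).symm.trans (Algebra.smul_def (algebraMap A H a) x)).symm
  have hinj : Function.Injective f := by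
    have hP : Function.Injective (algebraMap A P) := fun a b h => IsFractionRing.injective A K (by
      simpa using congrArg (fun p : P => (p : K)) h)
    exact Algebra.TensorProduct.includeLeft_injective (S := H) hP
  -- primes over a prime avoiding the nonzero elements
  have hmono : ∀ (Q Q' : Ideal X) [Q.IsPrime] [Q'.IsPrime], (∀ a : A, a ≠ 0 → algebraMap A H a ∉ Q'.comap f) →
      Q.comap f ≤ Q'.comap f → Q ≤ Q' := fun Q Q' _ hQ' havoid hle x hx => by
    obtain ⟨a, h, ha, e⟩ := hrep' x
    have h1 : h ∈ Q.comap f := by rw [Ideal.mem_comap, ← e]; exact Q.mul_mem_left _ hx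
    have h2 := hle h1
    rw [Ideal.mem_comap, ← e] at h2
    exact (hQ'.mem_or_mem h2).resolve_left (havoid a ha)
  have havoid : ∀ q ∈ minimalPrimes H, ∀ a : A, a ≠ 0 → algebraMap A H a ∉ q := fun q hq a ha hmem => by
    refine notMem_nonZeroDivisors_of_mem_mem_minimalPrimes hmem hq ?_
    rw [mem_nonZeroDivisors_iff_right]
    intro z hz
    have hreg : IsSMulRegular H a := Module.Flat.isSMulRegular_of_nonZeroDivisors (M := H) (mem_nonZeroDivisors_of_ne_zero ha)
    exact hreg (by simpa [Algebra.smul_def, mul_comm] using hz)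
  have : Algebra.IsIntegral H X := inferInstance
  have : FaithfulSMul H X := (faithfulSMul_iff_algebraMap_injective H X).mpr hinj
  have hmin : ∀ Q : minimalPrimes X, Q.1.comap f ∈ minimalPrimes H := fun Q => by
    have := Q.2.1.1
    obtain ⟨q, hq, hle⟩ := Ideal.exists_minimalPrimes_le (bot_le : (⊥ : Ideal H) ≤ Q.1.comap f)
    have := hq.1.1
    obtain ⟨Q', hQ'p, hQ'⟩ := Ideal.exists_comap_eq_of_mem_minimalPrimes_of_injective hinj q hq
    have h2 : Q' ≤ Q.1 := by
      intro x hx
      obtain ⟨a, h, ha, e⟩ := hrep' x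
      have h1 : h ∈ Q'.comap f := by rw [Ideal.mem_comap, ← e]; exact Q'.mul_mem_left _ hx
      rw [hQ'] at h1
      have h2 := hle h1
      rw [Ideal.mem_comap, ← e] at h2
      refine (‹Q.1.IsPrime›.mem_or_mem h2).resolve_left fun hmem => ?_
      -- the element is regular on `X`
      refine notMem_nonZeroDivisors_of_mem_mem_minimalPrimes hmem Q.2 ?_
      rw [mem_nonZeroDivisors_iff_right]
      intro z hz
      have hP : IsSMulRegular P a := fun p p' hpp => Subtype.ext (mul_left_cancel₀
        ((map_ne_zero_iff _ (IsFractionRing.injective A K)).mpr ha)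
        (by simpa [Algebra.smul_def] using congrArg (fun p : P => (p : K)) hpp))
      exact hP.lTensor H (by
        show a • z = a • 0
        rw [smul_zero, ← algebraMap_smul H a z]
        exact (Algebra.smul_def (algebraMap A H a) z).trans ((mul_comm _ _).trans hz))
    rw [← le_antisymm h2 (Q.2.2 ⟨hQ'p, bot_le⟩ h2), hQ']
    exact hq
  refine ⟨Equiv.ofBijective (fun Q => ⟨_, hmin Q⟩) ⟨fun Q₁ Q₂ h => ?_, fun q => ?_⟩⟩
  · have h' := congrArg Subtype.val h
    have := Q₁.2.1.1
    have := Q₂.2.1.1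
    exact Subtype.ext (le_antisymm (hmono _ _ (havoid _ (hmin Q₂)) (le_of_eq h'))
      (hmono _ _ (havoid _ (hmin Q₁)) (le_of_eq h'.symm)))
  · have := q.2.1.1
    obtain ⟨Q, hQp, hQ⟩ := Ideal.exists_comap_eq_of_mem_minimalPrimes_of_injective hinj q.1 q.2
    obtain ⟨Q', hQ', hle⟩ := Ideal.exists_minimalPrimes_le (bot_le : (⊥ : Ideal X) ≤ Q)
    refine ⟨⟨Q', hQ'⟩, Subtype.ext (le_antisymm ((Ideal.comap_mono hle).trans hQ.le) ?_)⟩
    exact q.2.2 ⟨Ideal.IsPrime.comap (hK := hQ'.1.1) _, bot_le⟩ ((Ideal.comap_mono hle).trans hQ.le)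

/-- In the domain case, minimal primes are maximal ideals of the normalization after base change. -/
theorem nonempty_minimalPrimes_equiv_normalization {A : Type u} [CommRing A] [IsDomain A] [IsLocalRing A]
    [IsNoetherianRing A] (hA : GRSHom 0 1 A (EGA4.Cpl A)) (H : Type u) [CommRing H] [HenselianLocalRing H]
    [IsNoetherianRing H] [Algebra A H] (hH : GRSHom 1 2 A H) :
    Nonempty (minimalPrimes H ≃ MaximalSpectrum (H ⊗[A] integralClosure A (FractionRing A))) := by
  let K := FractionRing A
  let P := integralClosure A K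
  have := hH.1
  have hN2 := (isNagata_of_geomReduced hA).2 ⊥
  let eA : (A ⧸ (⊥ : Ideal A)) ≃+* A := RingEquiv.quotientBot A
  let : Algebra (A ⧸ (⊥ : Ideal A)) K := ((algebraMap A K).comp eA.toRingHom).toAlgebra
  have : IsFractionRing (A ⧸ (⊥ : Ideal A)) K :=
    (IsFractionRing.isFractionRing_iff_of_base_ringEquiv (R := A) K eA.symm).mp inferInstance
  have : Module.Finite A P := by
    let : Algebra (FractionRing (A ⧸ (⊥ : Ideal A))) K := (FractionRing.algEquiv (A ⧸ (⊥ : Ideal A)) K).toRingHom.toAlgebra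
    have : IsScalarTower (A ⧸ (⊥ : Ideal A)) (FractionRing (A ⧸ (⊥ : Ideal A))) K :=
      IsScalarTower.of_algebraMap_eq fun a => ((FractionRing.algEquiv (A ⧸ (⊥ : Ideal A)) K).commutes a).symm
    have hfd : FiniteDimensional (FractionRing (A ⧸ (⊥ : Ideal A))) K :=
      Module.Finite.of_surjective (Algebra.linearMap _ K) (FractionRing.algEquiv (A ⧸ (⊥ : Ideal A)) K).surjective
    have := hN2 K hfd
    have : IsScalarTower A (A ⧸ (⊥ : Ideal A)) K := IsScalarTower.of_algebraMap_eq fun a => rfl
    have : Algebra.IsIntegral A (A ⧸ (⊥ : Ideal A)) :=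
      Algebra.IsIntegral.of_surjective (Algebra.ofId A _) Ideal.Quotient.mk_surjective
    have e : (integralClosure (A ⧸ (⊥ : Ideal A)) K).restrictScalars A = P := by
      ext x
      exact ⟨fun hx => isIntegral_trans (R := A) x hx, fun hx => hx.tower_top⟩
    have : Module.Finite A (integralClosure (A ⧸ (⊥ : Ideal A)) K) :=
      Module.Finite.trans (A ⧸ (⊥ : Ideal A)) _
    exact e ▸ (this : Module.Finite A ((integralClosure (A ⧸ (⊥ : Ideal A)) K).restrictScalars A))
  have : IsNoetherianRing P := IsNoetherianRing.of_finite A P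
  have : IsFractionRing P K := integralClosure.isFractionRing_of_finite_extension K K
  have : IsIntegrallyClosed P := integralClosure.isIntegrallyClosedOfFiniteExtension K
  have hP : RS 1 2 P := isNormalRing_iff_rs.mp fun p _ => ⟨inferInstance,
    isIntegrallyClosed_of_isLocalization _ p.primeCompl p.primeCompl_le_nonZeroDivisors⟩
  have : IsNoetherianRing (P ⊗[A] H) := H02CA.isNoetherianRing_tensor_of_essFiniteType _ _ _
  let X := H ⊗[A] P
  let e : (P ⊗[A] H) ≃+* X := (Algebra.TensorProduct.comm A P H).toRingEquiv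
  have : IsNoetherianRing X := isNoetherianRing_of_ringEquiv _ e
  have hX : RS 1 2 X := ((hH.baseChange (A' := P) (.inl inferInstance)).rs hP).of_ringEquiv e
  obtain ⟨e₁⟩ := nonempty_minimalPrimes_tensor_equiv (A := A) (K := K) (H := H)
  obtain ⟨e₂⟩ := nonempty_minimalPrimes_equiv_maximalSpectrum (H := H) (X := X)
    fun M _ => ((isNormalRing_iff_rs).mpr hX M).1
  exact ⟨e₁.symm.trans e₂⟩

/-- The quotient of a geometrically normal extension by the extension of an ideal. -/
theorem grsHom_quotient {A H : Type u} [CommRing A] [CommRing H] [Algebra A H] [IsNoetherianRing H]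
    {r n : WithBot ℕ∞} (hH : GRSHom r n A H) (I : Ideal A) :
    GRSHom r n (A ⧸ I) (H ⧸ I.map (algebraMap A H)) := by
  haveI : IsNoetherianRing ((A ⧸ I) ⊗[A] H) := H02CA.isNoetherianRing_tensor_of_essFiniteType _ _ _
  let e : (A ⧸ I) ⊗[A] H ≃+* H ⧸ I.map (algebraMap A H) :=
    (Algebra.TensorProduct.quotIdealMapEquivQuotTensor H I).symm.toRingEquiv
  exact (hH.baseChange (A' := A ⧸ I) (.inl inferInstance)).of_algEquiv
    (AlgEquiv.ofRingEquiv (f := e) fun x => (Algebra.TensorProduct.quotIdealMapEquivQuotTensor H I).symm.commutes x)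

variable (A : Type u) [CommRing A] [IsLocalRing A] [IsNoetherianRing A]

/-- Trivial residue field extension: minimal primes are the maximal ideals of the normalizations. -/
theorem nonempty_minimalPrimes_equiv_sigma_maximalSpectrum (hA : GRSHom 0 1 A (EGA4.Cpl A))
    (H : Type u) [CommRing H] [HenselianLocalRing H] [IsNoetherianRing H] [Algebra A H]
    [IsLocalHom (algebraMap A H)] (hH : GRSHom 1 2 A H)
    (hm : ∀ x : H, ∃ a : A, x - algebraMap A H a ∈ maximalIdeal H) :
    Nonempty (minimalPrimes H ≃ Σ p : minimalPrimes A,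
      MaximalSpectrum (integralClosure (A ⧸ p.1) (FractionRing (A ⧸ p.1)))) := by
  have := hH.1
  obtain ⟨e⟩ := nonempty_minimalPrimes_equiv_sigma A H
  refine ⟨e.trans (Equiv.sigmaCongrRight fun p => Classical.choice ?_)⟩
  have := p.2.1.1
  have : IsLocalRing (A ⧸ p.1) := isLocalRing_quotient (Ideal.IsPrime.ne_top ‹_›)
  have : IsLocalRing (H ⧸ p.1.map (algebraMap A H)) := isLocalRing_quotient (ne_top_of_le_ne_top
    (maximalIdeal.isMaximal H).ne_top (map_le_maximalIdeal p.1 (Ideal.IsPrime.ne_top ‹_›)))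
  have := isLocalHom_quotient (S := H) p.1
  have : HenselianLocalRing (H ⧸ p.1.map (algebraMap A H)) :=
    henselianLocalRing_quotient _
  obtain ⟨e₁⟩ := nonempty_minimalPrimes_equiv_normalization (hA.cpl_quotient p.1) _ (grsHom_quotient hH p.1)
  obtain ⟨e₂⟩ := nonempty_maximalSpectrum_tensor_equiv (A := A ⧸ p.1) (H := H ⧸ p.1.map (algebraMap A H))
    (integralClosure (A ⧸ p.1) (FractionRing (A ⧸ p.1))) (fun x => by
      obtain ⟨x, rfl⟩ := Ideal.Quotient.mk_surjective x
      obtain ⟨a, ha⟩ := hm x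
      refine ⟨Ideal.Quotient.mk _ a, ?_⟩
      rw [← IsLocalRing.map_maximalIdeal_of_surjective _ (Ideal.Quotient.mk_surjective (I := p.1.map (algebraMap A H)))]
      have := Ideal.mem_map_of_mem (Ideal.Quotient.mk (p.1.map (algebraMap A H))) ha
      rw [map_sub] at this
      exact this)
  exact ⟨e₁.trans e₂⟩

/-- Separably closed residue field: minimal primes are embeddings of the normalizations. -/
theorem nonempty_minimalPrimes_equiv_sigma_algHom (hA : GRSHom 0 1 A (EGA4.Cpl A))
    (H : Type u) [CommRing H] [HenselianLocalRing H] [IsNoetherianRing H] [Algebra A H]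
    [IsLocalHom (algebraMap A H)] [IsSepClosed (ResidueField H)] (hH : GRSHom 1 2 A H)
    (Ω : Type u) [Field Ω] [IsAlgClosed Ω] [Algebra A Ω] (ψ : H →ₐ[A] Ω) (hψ : RingHom.ker ψ = maximalIdeal H) :
    Nonempty (minimalPrimes H ≃ Σ p : minimalPrimes A,
      {σ : integralClosure (A ⧸ p.1) (FractionRing (A ⧸ p.1)) →+* Ω //
        σ.comp ((algebraMap (A ⧸ p.1) _).comp (Ideal.Quotient.mk p.1)) = algebraMap A Ω}) := by
  have := hH.1
  obtain ⟨e⟩ := nonempty_minimalPrimes_equiv_sigma A H
  refine ⟨e.trans (Equiv.sigmaCongrRight fun p => Classical.choice ?_)⟩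
  have := p.2.1.1
  have : IsLocalRing (A ⧸ p.1) := isLocalRing_quotient (Ideal.IsPrime.ne_top ‹_›)
  have : IsLocalRing (H ⧸ p.1.map (algebraMap A H)) := isLocalRing_quotient (ne_top_of_le_ne_top
    (maximalIdeal.isMaximal H).ne_top (map_le_maximalIdeal p.1 (Ideal.IsPrime.ne_top ‹_›)))
  have := isLocalHom_quotient (S := H) p.1
  have : HenselianLocalRing (H ⧸ p.1.map (algebraMap A H)) :=
    henselianLocalRing_quotient _
  have hres : IsSepClosed (ResidueField (H ⧸ p.1.map (algebraMap A H))) := by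
    have : IsLocalHom (Ideal.Quotient.mk (p.1.map (algebraMap A H))) :=
      IsLocalHom.of_surjective _ Ideal.Quotient.mk_surjective
    exact isSepClosed_of_ringEquiv (RingEquiv.ofBijective (ResidueField.map (Ideal.Quotient.mk (p.1.map (algebraMap A H))))
      ⟨RingHom.injective _, fun y => by
        obtain ⟨z, rfl⟩ := residue_surjective y
        obtain ⟨x, rfl⟩ := Ideal.Quotient.mk_surjective z
        exact ⟨residue H x, rfl⟩⟩)
  have hp0 : ∀ a ∈ p.1, algebraMap A Ω a = 0 := fun a ha => by
    rw [← ψ.commutes]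
    exact (SetLike.ext_iff.mp hψ _).mpr (map_le_maximalIdeal p.1 (Ideal.IsPrime.ne_top ‹_›)
      (Ideal.mem_map_of_mem _ ha))
  let : Algebra (A ⧸ p.1) Ω := (Ideal.Quotient.lift p.1 (algebraMap A Ω) hp0).toAlgebra
  have hψ0 : ∀ x ∈ p.1.map (algebraMap A H), ψ x = 0 := fun x hx =>
    (SetLike.ext_iff.mp hψ x).mpr (map_le_maximalIdeal p.1 (Ideal.IsPrime.ne_top ‹_›) hx)
  let ψ' : (H ⧸ p.1.map (algebraMap A H)) →ₐ[A ⧸ p.1] Ω :=
    { Ideal.Quotient.lift _ ψ.toRingHom hψ0 with
      commutes' := fun a => by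
        obtain ⟨a, rfl⟩ := Ideal.Quotient.mk_surjective a
        exact ψ.commutes a }
  have hψ' : RingHom.ker ψ' = maximalIdeal _ := by
    rw [← IsLocalRing.map_maximalIdeal_of_surjective _ (Ideal.Quotient.mk_surjective (I := p.1.map (algebraMap A H)))]
    ext x
    obtain ⟨x, rfl⟩ := Ideal.Quotient.mk_surjective x
    rw [RingHom.mem_ker, Ideal.mem_quotient_iff_mem (map_le_maximalIdeal p.1 (Ideal.IsPrime.ne_top ‹_›))]
    exact SetLike.ext_iff.mp hψ x
  obtain ⟨e₁⟩ := nonempty_minimalPrimes_equiv_normalization (hA.cpl_quotient p.1) _ (grsHom_quotient hH p.1)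
  obtain ⟨e₂⟩ := nonempty_maximalSpectrum_tensor_equiv_algHom (A := A ⧸ p.1) (H := H ⧸ p.1.map (algebraMap A H))
    (integralClosure (A ⧸ p.1) (FractionRing (A ⧸ p.1))) Ω ψ' hψ'
  exact ⟨e₁.trans (e₂.trans
    { toFun := fun f => ⟨f.toRingHom, RingHom.ext fun a => f.commutes (Ideal.Quotient.mk p.1 a)⟩
      invFun := fun σ => ⟨σ.1, fun a => by
        obtain ⟨a, rfl⟩ := Ideal.Quotient.mk_surjective a
        exact DFunLike.congr_fun σ.2 a⟩
      left_inv := fun f => AlgHom.ext fun _ => rfl
      right_inv := fun σ => rfl })⟩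

end Groth.Agent.H9Hens
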