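import Groth.Agent.H9Hens.BranchNbhd
import Groth.Agent.H9Hens.BranchCount
import Groth.Agent.S2284
import Groth.Prelude.Def_Hens2
import Mathlib.AlgebraicGeometry.Morphisms.Etale
import Mathlib.AlgebraicGeometry.ResidueField
import Mathlib.RingTheory.Spectrum.Prime.Topology

/-!
Branches of a scheme at a point as irreducible components of etale neighbourhoods through the point.
-/

namespace Groth.Agent.H9Hens.BranchNbhd

universe u

open AlgebraicGeometry CategoryTheory IsLocalRing

theorem bijOn_minimalPrimes (A : Type u) [CommRing A] :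
    Set.BijOn PrimeSpectrum.asIdeal
      {z : PrimeSpectrum A | closure ({z} : Set (PrimeSpectrum A)) ∈
        irreducibleComponents (PrimeSpectrum A)}
      (minimalPrimes A) := by
  refine ⟨fun z hz => ?_, fun z _ z' _ h => PrimeSpectrum.ext h, fun q hq => ?_⟩
  · rw [Set.mem_ofPred_eq, ← PrimeSpectrum.zeroLocus_minimalPrimes] at hz
    obtain ⟨q, hq, he⟩ := hz
    rw [PrimeSpectrum.closure_singleton] at he
    have hq' := hq.1.1
    have h := congrArg PrimeSpectrum.vanishingIdeal he
    simp only [Function.comp_apply] at h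
    rw [PrimeSpectrum.vanishingIdeal_zeroLocus_eq_radical,
      PrimeSpectrum.vanishingIdeal_zeroLocus_eq_radical, hq'.radical, z.isPrime.radical] at h
    rw [← h]
    exact hq
  · refine ⟨⟨q, hq.1.1⟩, ?_, rfl⟩
    rw [Set.mem_ofPred_eq, PrimeSpectrum.closure_singleton, ← PrimeSpectrum.zeroLocus_minimalPrimes]
    exact ⟨q, hq, rfl⟩

/-- The components through a point correspond to the minimal primes of its local ring. -/
theorem encard_components (U : Scheme.{u}) (u : U) :
    {Z : Set ↑U | Z ∈ irreducibleComponents ↑U ∧ u ∈ Z}.encard =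
      (minimalPrimes (U.presheaf.stalk u)).encard := by
  have hb := Groth.Agent.S2284.result U u
  have h := bijOn_minimalPrimes (U.presheaf.stalk u)
  rw [← hb.image_eq, hb.injOn.encard_image, ← h.image_eq, h.injOn.encard_image]
  rfl

/-- Every point lies on a component. -/
theorem one_le_encard_components (U : Scheme.{u}) (u : U) :
    1 ≤ {Z : Set ↑U | Z ∈ irreducibleComponents ↑U ∧ u ∈ Z}.encard :=
  Set.one_le_encard_iff_nonempty.mpr ⟨irreducibleComponent u,
    irreducibleComponent_mem_irreducibleComponents u, mem_irreducibleComponent⟩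

/-- A `κ(x)`-point over `X` has trivial residue field extension. -/
theorem residue_bijective_of_factor {U X : Scheme.{u}} (g : U ⟶ X) (x : X)
    (t : Spec (X.residueField x) ⟶ U) (h : t ≫ g = X.fromSpecResidueField x)
    (pt : Spec (X.residueField x)) :
    g (t pt) = x ∧ Function.Bijective (g.residueFieldMap (t pt)) := by
  have hx : g (t pt) = x := by rw [← Scheme.Hom.comp_apply, h, Scheme.fromSpecResidueField_apply]
  refine ⟨hx, ?_⟩
  obtain rfl : pt = closedPoint (X.residueField x) := Subsingleton.elim _ _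
  let j := U.descResidueField (K := X.residueField x) (Scheme.stalkClosedPointTo t)
  have h1 : Spec.map (g.residueFieldMap (t (closedPoint _)) ≫ j) =
      Spec.map (X.residueFieldCongr hx).hom := by
    rw [← cancel_mono (X.fromSpecResidueField _), Spec.map_comp, Category.assoc,
      Scheme.Hom.SpecMap_residueFieldMap_fromSpecResidueField]
    erw [reassoc_of% (Scheme.descResidueField_stalkClosedPointTo_fromSpecResidueField (X.residueField x) U t)]
    rw [h, Scheme.residueFieldCongr_fromSpecResidueField]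
  refine ⟨RingHom.injective _, fun y => ?_⟩
  obtain ⟨z, hz⟩ := (ConcreteCategory.bijective_of_isIso (X.residueFieldCongr hx).hom).2 (j y)
  refine ⟨z, j.hom.injective ?_⟩
  exact (ConcreteCategory.congr_hom (Spec.map_injective h1) z).trans hz

section Chart

variable {X : Scheme.{u}} (x : X) {k : Type u} [Field k] [Algebra (X.presheaf.stalk x) k]
  (hker : RingHom.ker (algebraMap (X.presheaf.stalk x) k) = maximalIdeal _)
  {H : Type u} [CommRing H] [IsLocalRing H] [Algebra (X.presheaf.stalk x) H]
  {π : H →ₐ[X.presheaf.stalk x] k} (hπ : IsPtColim π)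

include hπ

/-- An etale neighbourhood with a point in `k` has at most as many branches as the colimit. -/
theorem encard_components_le {U : Scheme.{u}} (g : U ⟶ X) [Etale g] (u : U) (hgu : g u = x)
    (hpt : ∀ (V : U.Opens) (hV : IsAffineOpen V) (hu : u ∈ V) (W : X.Opens) (hW : IsAffineOpen W)
      (hx : x ∈ W) (e : V ≤ g ⁻¹ᵁ W),
      ∃ σ : Γ(U, V) →+* k, RingHom.ker σ = (hV.primeIdealOf ⟨u, hu⟩).asIdeal ∧
        σ.comp (g.appLE W V e).hom =
          (algebraMap (X.presheaf.stalk x) k).comp (X.presheaf.germ W x hx).hom) :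
    {Z : Set ↑U | Z ∈ irreducibleComponents ↑U ∧ u ∈ Z}.encard ≤ (minimalPrimes H).encard := by
  rw [encard_components]
  obtain ⟨W, hW, hxW, -⟩ := exists_isAffineOpen_mem_and_subset (show x ∈ (⊤ : X.Opens) from trivial)
  obtain ⟨V, hV, huV, hVW⟩ :=
    exists_isAffineOpen_mem_and_subset (show u ∈ g ⁻¹ᵁ W by show g u ∈ W; rw [hgu]; exact hxW)
  have e : V ≤ g ⁻¹ᵁ W := hVW
  obtain ⟨σ, hσ, hσc⟩ := hpt V hV huV W hW hxW e
  let := TopCat.Presheaf.algebra_section_stalk X.presheaf (⟨x, hxW⟩ : W)
  have := hW.isLocalization_stalk ⟨x, hxW⟩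
  let : Algebra Γ(X, W) Γ(U, V) := (g.appLE W V e).hom.toAlgebra
  have : Algebra.Etale Γ(X, W) Γ(U, V) :=
    RingHom.etale_algebraMap.mp (HasRingHomProperty.appLE @Etale g ‹_› ⟨W, hW⟩ ⟨V, hV⟩ e)
  let : Algebra Γ(X, W) k :=
    ((algebraMap (X.presheaf.stalk x) k).comp (algebraMap Γ(X, W) _)).toAlgebra
  have : IsScalarTower Γ(X, W) (X.presheaf.stalk x) k := IsScalarTower.of_algebraMap_eq fun _ => rfl
  let : Algebra Γ(X, W) H :=
    ((algebraMap (X.presheaf.stalk x) H).comp (algebraMap Γ(X, W) _)).toAlgebra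
  have : IsScalarTower Γ(X, W) (X.presheaf.stalk x) H := IsScalarTower.of_algebraMap_eq fun _ => rfl
  let := TopCat.Presheaf.algebra_section_stalk U.presheaf (⟨u, huV⟩ : V)
  have := hV.isLocalization_stalk ⟨u, huV⟩
  exact encard_le (hW.primeIdealOf ⟨x, hxW⟩).asIdeal hπ Γ(U, V)
    { σ with commutes' := fun r => RingHom.congr_fun hσc r }
    (hV.primeIdealOf ⟨u, huV⟩).asIdeal hσ.symm (U.presheaf.stalk u)

include hker in
/-- Finitely many branches are separated on an etale neighbourhood with a point in `k`. -/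
theorem exists_card_le_components (Q : Finset (Ideal H)) (hQ : ∀ P ∈ Q, P ∈ minimalPrimes H) :
    ∃ (U : Scheme.{u}) (g : U ⟶ X) (t : Spec (.of k) ⟶ U) (pt : Spec (.of k)), Etale g ∧
      t ≫ g = Spec.map (CommRingCat.ofHom (algebraMap (X.presheaf.stalk x) k)) ≫ X.fromSpecStalk x ∧
      g (t pt) = x ∧
      (Q.card : ℕ∞) ≤ {Z : Set ↑U | Z ∈ irreducibleComponents ↑U ∧ t pt ∈ Z}.encard := by
  obtain ⟨W, hW, hxW, -⟩ := exists_isAffineOpen_mem_and_subset (show x ∈ (⊤ : X.Opens) from trivial)
  let := TopCat.Presheaf.algebra_section_stalk X.presheaf (⟨x, hxW⟩ : W)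
  have := hW.isLocalization_stalk ⟨x, hxW⟩
  let : Algebra Γ(X, W) k :=
    ((algebraMap (X.presheaf.stalk x) k).comp (algebraMap Γ(X, W) _)).toAlgebra
  have : IsScalarTower Γ(X, W) (X.presheaf.stalk x) k := IsScalarTower.of_algebraMap_eq fun _ => rfl
  let : Algebra Γ(X, W) H :=
    ((algebraMap (X.presheaf.stalk x) H).comp (algebraMap Γ(X, W) _)).toAlgebra
  have : IsScalarTower Γ(X, W) (X.presheaf.stalk x) H := IsScalarTower.of_algebraMap_eq fun _ => rfl
  obtain ⟨S, _, _, _, σ, q, _, hq, hcard⟩ :=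
    exists_card_le (hW.primeIdealOf ⟨x, hxW⟩).asIdeal hπ Q hQ
  let g : Spec (.of S) ⟶ X :=
    Spec.map (CommRingCat.ofHom (algebraMap Γ(X, W) S)) ≫ hW.fromSpec
  let t : Spec (.of k) ⟶ Spec (.of S) := Spec.map (CommRingCat.ofHom σ.toRingHom)
  let pt : Spec (.of k) := closedPoint k
  have hgE : Etale g := by
    have : Etale (Spec.map (CommRingCat.ofHom (algebraMap Γ(X, W) S))) :=
      (HasRingHomProperty.Spec_iff (P := @Etale)).mpr (RingHom.etale_algebraMap.mpr inferInstance)
    infer_instance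
  have htg : t ≫ g =
      Spec.map (CommRingCat.ofHom (algebraMap (X.presheaf.stalk x) k)) ≫ X.fromSpecStalk x := by
    rw [← hW.fromSpecStalk_eq_fromSpecStalk hxW, IsAffineOpen.fromSpecStalk]
    show t ≫ Spec.map _ ≫ hW.fromSpec = _
    rw [← Spec.map_comp_assoc, ← Spec.map_comp_assoc]
    congr 2
    exact CommRingCat.hom_ext (RingHom.ext fun r => σ.commutes r)
  have hpt : g (t pt) = x := by
    rw [← Scheme.Hom.comp_apply, htg, Scheme.Hom.comp_apply]
    rw [show (Spec.map (CommRingCat.ofHom (algebraMap (X.presheaf.stalk x) k))) pt =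
      closedPoint (X.presheaf.stalk x) from PrimeSpectrum.ext (by
        show (maximalIdeal k).comap (algebraMap (X.presheaf.stalk x) k) = maximalIdeal _
        rw [← hker, IsLocalRing.maximalIdeal_eq_bot]
        rfl)]
    exact Scheme.fromSpecStalk_closedPoint
  refine ⟨_, g, t, pt, hgE, htg, hpt, ?_⟩
  rw [encard_components]
  have hu : (t pt).asIdeal = q := by
    rw [hq]
    show (maximalIdeal k).comap σ.toRingHom = _
    rw [IsLocalRing.maximalIdeal_eq_bot]
    rfl
  let e := (Spec.stalkIso (.of S) (t pt)).commRingCatIsoToRingEquiv.symm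
  let : Algebra S ((Spec (.of S)).presheaf.stalk (t pt)) :=
    (e.toRingHom.comp (algebraMap S (Localization.AtPrime (t pt).asIdeal))).toAlgebra
  have : IsLocalization.AtPrime ((Spec (.of S)).presheaf.stalk (t pt)) (t pt).asIdeal :=
    IsLocalization.isLocalization_of_algEquiv (t pt).asIdeal.primeCompl
      (AlgEquiv.ofRingEquiv (f := e) fun _ => rfl)
  have : IsLocalization.AtPrime ((Spec (.of S)).presheaf.stalk (t pt)) q := by
    subst hu; assumption
  exact hcard _

end Chart

section Points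

variable {U X : Scheme.{u}} (g : U ⟶ X) (u : U) (V : U.Opens) (hu : u ∈ V) (W : X.Opens)
  (hx : g u ∈ W) (e : V ≤ g ⁻¹ᵁ W)

theorem stalkMap_germ (r : Γ(X, W)) :
    (g.stalkMap u).hom ((X.presheaf.germ W (g u) hx).hom r) =
      (U.presheaf.germ V u hu).hom ((g.appLE W V e).hom r) := by
  have h : X.presheaf.germ W (g u) hx ≫ g.stalkMap u = g.appLE W V e ≫ U.presheaf.germ V u hu := by
    rw [Scheme.Hom.germ_stalkMap, Scheme.Hom.appLE, Category.assoc, TopCat.Presheaf.germ_res]
  exact ConcreteCategory.congr_hom h r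

theorem primeIdealOf_eq (hV : IsAffineOpen V) :
    (hV.primeIdealOf ⟨u, hu⟩).asIdeal =
      (maximalIdeal (U.presheaf.stalk u)).comap (U.presheaf.germ V u hu).hom := by
  let := TopCat.Presheaf.algebra_section_stalk U.presheaf (⟨u, hu⟩ : V)
  have := hV.isLocalization_stalk ⟨u, hu⟩
  exact (IsLocalization.AtPrime.comap_maximalIdeal (U.presheaf.stalk u) _).symm

/-- Points of an etale neighbourhood in a separably closed field. -/
theorem exists_chart_point_isSepClosed [Etale g] {k : Type u} [Field k] [IsSepClosed k]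
    [Algebra (X.presheaf.stalk (g u)) k]
    (hker : RingHom.ker (algebraMap (X.presheaf.stalk (g u)) k) = maximalIdeal _)
    (hV : IsAffineOpen V) (hW : IsAffineOpen W) :
    ∃ σ : Γ(U, V) →+* k, RingHom.ker σ = (hV.primeIdealOf ⟨u, hu⟩).asIdeal ∧
      σ.comp (g.appLE W V e).hom =
        (algebraMap (X.presheaf.stalk (g u)) k).comp (X.presheaf.germ W (g u) hx).hom := by
  let : Algebra Γ(X, W) Γ(U, V) := (g.appLE W V e).hom.toAlgebra
  have : Algebra.Etale Γ(X, W) Γ(U, V) :=
    RingHom.etale_algebraMap.mp (HasRingHomProperty.appLE @Etale g ‹_› ⟨W, hW⟩ ⟨V, hV⟩ e)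
  let : Algebra Γ(X, W) k :=
    ((algebraMap (X.presheaf.stalk (g u)) k).comp (X.presheaf.germ W (g u) hx).hom).toAlgebra
  have hq : RingHom.ker (algebraMap Γ(X, W) k) = (hV.primeIdealOf ⟨u, hu⟩).asIdeal.under Γ(X, W) := by
    rw [primeIdealOf_eq u V hu hV, Ideal.under, Ideal.comap_comap]
    show RingHom.ker ((algebraMap (X.presheaf.stalk (g u)) k).comp _) = _
    rw [← RingHom.comap_ker, hker, ← IsLocalRing.maximalIdeal_comap (g.stalkMap u).hom,
      Ideal.comap_comap]
    congr 1
    exact RingHom.ext fun r => stalkMap_germ g u V hu W hx e r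
  obtain ⟨σ, hσ⟩ := exists_point_isSepClosed (hV.primeIdealOf ⟨u, hu⟩).asIdeal hq
  exact ⟨σ.toRingHom, hσ, RingHom.ext fun r => σ.commutes r⟩

/-- A point with trivial residue field extension gives a point in the residue field of the base. -/
theorem exists_chart_point_residue (hb : Function.Bijective (g.residueFieldMap u))
    (hV : IsAffineOpen V) :
    ∃ σ : Γ(U, V) →+* ResidueField (X.presheaf.stalk (g u)),
      RingHom.ker σ = (hV.primeIdealOf ⟨u, hu⟩).asIdeal ∧
      σ.comp (g.appLE W V e).hom = (algebraMap (X.presheaf.stalk (g u))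
        (ResidueField (X.presheaf.stalk (g u)))).comp (X.presheaf.germ W (g u) hx).hom := by
  let E : ResidueField (X.presheaf.stalk (g u)) ≃+* ResidueField (U.presheaf.stalk u) :=
    RingEquiv.ofBijective (ResidueField.map (g.stalkMap u).hom) hb
  refine ⟨E.symm.toRingHom.comp ((residue (U.presheaf.stalk u)).comp (U.presheaf.germ V u hu).hom),
    ?_, RingHom.ext fun r => E.symm_apply_eq.mpr ?_⟩
  · rw [RingHom.ker_comp_of_injective _ (f := E.symm.toRingHom) E.symm.injective, ← RingHom.comap_ker,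
      ker_residue, primeIdealOf_eq]
  · show residue _ ((U.presheaf.germ V u hu).hom ((g.appLE W V e).hom r)) = _
    rw [← stalkMap_germ g u V hu W hx e r]
    rfl

end Points

end Groth.Agent.H9Hens.BranchNbhd

namespace Groth.Agent.H9Hens.BranchNbhd

theorem encard_le_of_finset {α : Type*} {s : Set α} {c : ℕ∞}
    (h : ∀ Q : Finset α, (∀ a ∈ Q, a ∈ s) → (Q.card : ℕ∞) ≤ c) : s.encard ≤ c := by
  refine ENat.forall_natCast_le_iff_le.mp fun n hn => ?_
  obtain ⟨t, hts, ht⟩ := Set.exists_subset_encard_eq hn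
  have hfin : t.Finite := Set.finite_of_encard_eq_coe ht
  rw [← ht, hfin.encard_eq_coe_toFinset_card]
  exact h _ fun a ha => hts (hfin.mem_toFinset.mp ha)

end Groth.Agent.H9Hens.BranchNbhd
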