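import Mathlib.RingTheory.Smooth.StandardSmoothOfFree
import Mathlib.RingTheory.Etale.Basic
import Mathlib.RingTheory.TensorProduct.Maps

/-!
An etale algebra over a quotient ring lifts to an etale algebra over the ring.
-/

namespace Groth.Agent.H9Hens

universe u

open scoped TensorProduct
open MvPolynomial

/-- If `C` is presented over `R'` by the images of relations `v` over `R`, and `B` inverts an
element `j` of `R[X] / (v)` which becomes a unit in `C`, then `C` is `R' ⊗[R] B`. -/
theorem nonempty_algEquiv_baseChange_away {R R' C ι σ : Type*} [CommRing R] [CommRing R']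
    [Algebra R R'] [CommRing C] [Algebra R' C] [Algebra R C] [IsScalarTower R R' C]
    (P : Algebra.Presentation R' C ι σ) (v : σ → MvPolynomial ι R)
    (hv : ∀ j, MvPolynomial.map (algebraMap R R') (v j) = P.relation j)
    (φ₀ : MvPolynomial ι R ⧸ Ideal.span (Set.range v) →ₐ[R] C)
    (hφ₀ : ∀ i, φ₀ (Ideal.Quotient.mk _ (X i)) = P.val i)
    (j : MvPolynomial ι R ⧸ Ideal.span (Set.range v)) (hj : IsUnit (φ₀ j))
    (B : Type*) [CommRing B] [Algebra R B]
    [Algebra (MvPolynomial ι R ⧸ Ideal.span (Set.range v)) B]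
    [IsScalarTower R (MvPolynomial ι R ⧸ Ideal.span (Set.range v)) B]
    [IsLocalization.Away j B] :
    Nonempty ((R' ⊗[R] B) ≃ₐ[R'] C) := by
  let π : MvPolynomial ι R →ₐ[R] B := (IsScalarTower.toAlgHom R _ B).comp
    (Ideal.Quotient.mkₐ R (Ideal.span (Set.range v)))
  let φ : B →ₐ[R] C := IsLocalization.Away.liftAlgHom j (f := φ₀) hj
  have hφ : ∀ y, φ (algebraMap _ B y) = φ₀ y := fun y => IsLocalization.Away.lift_eq j hj y
  have hφπ : φ.comp π = MvPolynomial.aeval P.val := MvPolynomial.algHom_ext fun i => by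
    simp [π, hφ, hφ₀]
  let Φ : R' ⊗[R] B →ₐ[R'] C :=
    Algebra.TensorProduct.lift (Algebra.ofId _ _) φ fun _ _ => Commute.all _ _
  have hinc : (Algebra.TensorProduct.includeRight : B →ₐ[R] R' ⊗[R] B).comp π =
      MvPolynomial.aeval fun i => (1 : R') ⊗ₜ[R] π (X i) :=
    MvPolynomial.algHom_ext fun i => by simp
  have hker : RingHom.ker (MvPolynomial.aeval P.val) ≤
      RingHom.ker (MvPolynomial.aeval (R := R') fun i => (1 : R') ⊗ₜ[R] π (X i)) := by
    intro y hy
    rw [← P.ker_eq_ker_aeval_val, ← P.span_range_relation_eq_ker] at hy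
    revert hy y
    suffices H : Ideal.span (Set.range P.relation) ≤
        RingHom.ker (MvPolynomial.aeval (R := R') fun i => (1 : R') ⊗ₜ[R] π (X i)) from
      fun y hy => H hy
    rw [Ideal.span_le]
    rintro _ ⟨l, rfl⟩
    show MvPolynomial.aeval _ (P.relation l) = 0
    rw [← hv, MvPolynomial.aeval_map_algebraMap, ← hinc]
    simp [π, (Ideal.Quotient.eq_zero_iff_mem (I := Ideal.span (Set.range v))).mpr
      (Ideal.subset_span ⟨l, rfl⟩)]
  let Ψ : C →ₐ[R'] R' ⊗[R] B := AlgHom.liftOfSurjective (MvPolynomial.aeval P.val)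
    P.aeval_val_surjective (MvPolynomial.aeval fun i => (1 : R') ⊗ₜ[R] π (X i)) hker
  have hΨ : ∀ q, Ψ (MvPolynomial.aeval P.val q) =
      MvPolynomial.aeval (fun i => (1 : R') ⊗ₜ[R] π (X i)) q :=
    fun q => AlgHom.liftOfSurjective_apply ..
  refine ⟨AlgEquiv.ofAlgHom Φ Ψ ?_ ?_⟩
  · refine AlgHom.ext fun c => ?_
    obtain ⟨q, rfl⟩ := P.aeval_val_surjective c
    rw [AlgHom.comp_apply, hΨ, AlgHom.id_apply]
    refine DFunLike.congr_fun (show Φ.comp (MvPolynomial.aeval fun i => (1 : R') ⊗ₜ[R] π (X i)) =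
      MvPolynomial.aeval P.val from MvPolynomial.algHom_ext fun i => ?_) q
    simpa [Φ] using DFunLike.congr_fun hφπ (X i)
  · refine Algebra.TensorProduct.ext (Subsingleton.elim _ _) (IsLocalization.algHom_ext
      (.powers j) (Ideal.Quotient.algHom_ext R (MvPolynomial.algHom_ext fun i => ?_)))
    have h := hΨ (X i)
    have h2 : φ (π (X i)) = P.val i := by simpa using DFunLike.congr_fun hφπ (X i)
    simp only [MvPolynomial.aeval_X] at h
    show Ψ (Φ (1 ⊗ₜ π (X i))) = 1 ⊗ₜ π (X i)
    simp [Φ, h2, h]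

/-- Etale algebras lift along quotient maps. -/
theorem exists_etale_lift_quotient (R : Type u) [CommRing R] (I : Ideal R) (C : Type u) [CommRing C]
    [Algebra (R ⧸ I) C] [Algebra.Etale (R ⧸ I) C] :
    ∃ (S : Type u) (_ : CommRing S) (_ : Algebra R S), Algebra.Etale R S ∧
      Nonempty (((R ⧸ I) ⊗[R] S) ≃ₐ[R ⧸ I] C) := by
  classical
  have hst : Algebra.IsStandardSmoothOfRelativeDimension 0 (R ⧸ I) C :=
    Algebra.Etale.iff_isStandardSmoothOfRelativeDimension_zero.mp inferInstance
  obtain ⟨ι, σ, _, _, P, hP⟩ := hst.out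
  cases nonempty_fintype σ
  cases nonempty_fintype ι
  let : Algebra R C := ((algebraMap (R ⧸ I) C).comp (algebraMap R (R ⧸ I))).toAlgebra
  have : IsScalarTower R (R ⧸ I) C := IsScalarTower.of_algebraMap_eq fun _ => rfl
  have hsurj : Function.Surjective (MvPolynomial.map (algebraMap R (R ⧸ I)) :
      MvPolynomial ι R → MvPolynomial ι (R ⧸ I)) :=
    MvPolynomial.map_surjective _ Ideal.Quotient.mk_surjective
  choose v hv using fun j => hsurj (P.relation j)
  let Q : Algebra.PreSubmersivePresentation R (MvPolynomial ι R ⧸ Ideal.span (Set.range v)) ι σ :=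
    Algebra.PreSubmersivePresentation.naive P.map P.map_inj
  let B₀ := MvPolynomial ι R ⧸ Ideal.span (Set.range v)
  let B := Localization.Away (M := B₀) Q.jacobian
  have hB : Algebra.Etale R B := by
    have hu : IsUnit (algebraMap B₀ B Q.jacobian) := IsLocalization.Away.algebraMap_isUnit _
    let P' : Algebra.SubmersivePresentation R B _ _ :=
      { toPreSubmersivePresentation := .comp (.localizationAway B Q.jacobian) Q
        jacobian_isUnit := by simpa [Algebra.smul_def, -isUnit_map_iff, B₀] using hu }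
    have : Algebra.IsStandardSmoothOfRelativeDimension 0 R B :=
      ⟨_, _, _, inferInstance, P', by
        simp only [Algebra.PreSubmersivePresentation.dimension_comp_eq_dimension_add_dimension, P']
        simp only [Algebra.Presentation.dimension] at hP ⊢
        simp only [Nat.card_eq_fintype_card] at hP
        simp [hP]⟩
    infer_instance
  let φ₀ : B₀ →ₐ[R] C := Ideal.Quotient.liftₐ _ (MvPolynomial.aeval P.val) fun x hx => by
    refine (Ideal.span_le (I := RingHom.ker (MvPolynomial.aeval (R := R) P.val))).mpr ?_ hx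
    rintro _ ⟨j, rfl⟩
    show MvPolynomial.aeval (R := R) P.val (v j) = 0
    rw [← MvPolynomial.aeval_map_algebraMap (R ⧸ I), hv]
    exact P.aeval_val_relation j
  have hφ₀ : ∀ i, φ₀ (Ideal.Quotient.mk _ (X i)) = P.val i := fun i => MvPolynomial.aeval_X _ _
  have hjac : IsUnit (φ₀ Q.jacobian) := by
    suffices h : φ₀ Q.jacobian = P.jacobian by rw [h]; exact P.jacobian_isUnit
    rw [Q.jacobian_eq_jacobiMatrix_det, P.jacobian_eq_jacobiMatrix_det,
      Algebra.Generators.algebraMap_apply, Algebra.Generators.algebraMap_apply,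
      ← AlgHom.comp_apply, MvPolynomial.comp_aeval]
    have hval' : (fun i => φ₀ (Q.val i)) = P.val := funext hφ₀
    rw [hval', AlgHom.map_det, AlgHom.map_det]
    congr 1
    ext i j
    simp only [AlgHom.mapMatrix_apply, Matrix.map_apply, P.jacobiMatrix_apply, Q,
      Algebra.PreSubmersivePresentation.jacobiMatrix_naive]
    rw [← hv, MvPolynomial.pderiv_map, MvPolynomial.aeval_map_algebraMap]
  exact ⟨B, inferInstance, inferInstance, hB,
    nonempty_algEquiv_baseChange_away P.toPresentation v hv φ₀ hφ₀ Q.jacobian hjac B⟩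

end Groth.Agent.H9Hens
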