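import Groth.Agent.H9Hens.Idem
import Mathlib.RingTheory.ZariskisMainTheorem

/-!
The finite part of a finite type algebra over a ring with an ideal in the Jacobson radical:
Zariski's main theorem reduces splitting off the finite part to lifting idempotents along a
finite algebra.
-/

namespace Groth.Agent.H9Hens

universe u v

variable {A : Type u} [CommRing A] {I : Ideal A}

/-- `z ∈ IB` for a subalgebra `B` can be read in the ambient algebra. -/
theorem mem_map_subalgebra_iff {S : Type v} [CommRing S] [Algebra A S] (B : Subalgebra A S) (z : B) :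
    z ∈ I.map (algebraMap A B) ↔ (z : S) ∈ I • B.toSubmodule := by
  have h : (z ∈ I.map (algebraMap A B)) ↔ z ∈ I • (⊤ : Submodule A B) := by
    rw [Ideal.smul_top_eq_map]
    rfl
  have h' : Submodule.map B.val.toLinearMap (I • (⊤ : Submodule A B)) = I • B.toSubmodule := by
    rw [Submodule.map_smul'', Submodule.map_top]
    congr 1
    ext x
    exact ⟨fun ⟨y, hy⟩ => hy ▸ y.2, fun hx => ⟨⟨x, hx⟩, rfl⟩⟩
  rw [h, ← h']
  exact ⟨fun hz => ⟨z, hz, rfl⟩, fun ⟨y, hy, e⟩ => (Subtype.ext e : y = z) ▸ hy⟩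

/-- An ideal of `C` generating the unit ideal of an integral `C`-algebra contains an element
mapping to `1`. -/
theorem exists_mem_algebraMap_eq_one {C : Type v} [CommRing C] {Q : Type v} [CommRing Q]
    [Algebra C Q] [Algebra.IsIntegral C Q] (D : Ideal C)
    (hD : D.map (algebraMap C Q) = ⊤) : ∃ r ∈ D, algebraMap C Q r = 1 := by
  have htop : D ⊔ RingHom.ker (algebraMap C Q) = ⊤ := by
    by_contra h
    obtain ⟨M, hM, hDM⟩ := Ideal.exists_le_maximal _ h
    have hM' : M.IsPrime := hM.isPrime
    obtain ⟨Q', -, hQ', hQ'M⟩ := Ideal.exists_ideal_over_prime_of_isIntegral M (⊥ : Ideal Q)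
      (by rw [← RingHom.ker_eq_comap_bot]; exact le_sup_right.trans hDM)
    refine hQ'.ne_top (top_le_iff.mp ?_)
    rw [← hD, Ideal.map_le_iff_le_comap, hQ'M]
    exact le_sup_left.trans hDM
  obtain ⟨r, hr, k, hk, hrk⟩ := Submodule.mem_sup.mp (htop ▸ Submodule.mem_top : (1 : C) ∈ _)
  refine ⟨r, hr, ?_⟩
  have := congrArg (algebraMap C Q) hrk
  rwa [map_add, map_one, RingHom.mem_ker.mp hk, add_zero] at this

/-- Reduction of the finite part to idempotent lifting in a finite subalgebra `B`: given `f`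
idempotent modulo `IS` with the piece cut out by `f` finite and quasi-finite, there are `B` finite
and `u ∈ B`, idempotent modulo `IB`, such that every idempotent lift of `u` to `B` cuts out a finite
summand of `S` reducing to `f`. -/
theorem exists_finitePart_subalgebra (hI : I ≤ Ideal.jacobson ⊥)
    {S : Type v} [CommRing S] [Algebra A S] [Algebra.FiniteType A S] (f : S)
    (hf : f * f - f ∈ I.map (algebraMap A S))
    (hfin : Module.Finite A (S ⧸ (I.map (algebraMap A S) ⊔ Ideal.span {1 - f})))
    (hqf : ∀ (q : Ideal S) [q.IsPrime],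
      I.map (algebraMap A S) ⊔ Ideal.span {1 - f} ≤ q → Algebra.QuasiFiniteAt A q) :
    ∃ (B : Subalgebra A S), B.toSubmodule.FG ∧ ∃ u : B, u * u - u ∈ I.map (algebraMap A B) ∧
      (∀ y : B, (y : S) ∈ I.map (algebraMap A S) ⊔ Ideal.span {1 - f} →
        u * y ∈ I.map (algebraMap A B)) ∧
      (u : S) - f ∈ I.map (algebraMap A S) ∧
      ∀ e : B, IsIdempotentElem e → e - u ∈ I.map (algebraMap A B) →
        (e : S) - f ∈ I.map (algebraMap A S) ∧ Module.Finite A (S ⧸ Ideal.span {1 - (e : S)}) := by
  classical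
  set IS := I.map (algebraMap A S) with hIS
  set J := IS ⊔ Ideal.span {1 - f} with hJdef
  have hJ1 : (1 : S) - f ∈ J := Ideal.mem_sup_right (Ideal.subset_span rfl)
  have hfJ : ∀ y ∈ J, f * y ∈ IS := by
    intro y hy
    obtain ⟨i, hi, c, hc, rfl⟩ := Submodule.mem_sup.mp hy
    obtain ⟨a, rfl⟩ := Ideal.mem_span_singleton'.mp hc
    have : f * (i + a * (1 - f)) = f * i + (-a) * (f * f - f) := by ring
    rw [this]
    exact add_mem (IS.mul_mem_left _ hi) (IS.mul_mem_left _ hf)
  -- the ideal of elements `r` of the integral closure with `S[1/r]` equal to the closure at `r`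
  let D : Ideal (integralClosure A S) :=
    { carrier := {r | ∀ x : S, ∃ m : ℕ, (r : S) ^ m * x ∈ integralClosure A S}
      zero_mem' := fun x => ⟨1, by simp⟩
      add_mem' := by
        intro r s hr hs x
        obtain ⟨m, hm⟩ := hr x
        obtain ⟨k, hk⟩ := hs x
        refine ⟨m + k, ?_⟩
        rw [Subalgebra.coe_add, add_pow, Finset.sum_mul]
        refine Subalgebra.sum_mem _ fun i hi => ?_
        have hi' : i ≤ m + k := Nat.lt_succ_iff.mp (Finset.mem_range.mp hi)
        rcases le_or_gt m i with h | h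
        · have : (r : S) ^ i * (s : S) ^ (m + k - i) * ((m + k).choose i : S) * x =
              ((r : S) ^ m * x) * (((r ^ (i - m) * s ^ (m + k - i) *
                ((m + k).choose i : integralClosure A S) : integralClosure A S)) : S) := by
            conv_lhs => rw [← Nat.add_sub_cancel' h, pow_add]
            push_cast
            rw [Nat.add_sub_cancel' h]
            ring
          rw [this]
          exact mul_mem hm (SetLike.coe_mem _)
        · have h' : k ≤ m + k - i := by omega
          have : (r : S) ^ i * (s : S) ^ (m + k - i) * ((m + k).choose i : S) * x =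
              ((s : S) ^ k * x) * (((r ^ i * s ^ (m + k - i - k) *
                ((m + k).choose i : integralClosure A S) : integralClosure A S)) : S) := by
            conv_lhs => rw [← Nat.add_sub_cancel' h', pow_add]
            push_cast
            ring
          rw [this]
          exact mul_mem hk (SetLike.coe_mem _)
      smul_mem' := by
        intro c r hr x
        obtain ⟨m, hm⟩ := hr x
        refine ⟨m, ?_⟩
        rw [smul_eq_mul, Subalgebra.coe_mul, mul_pow, mul_assoc]
        exact mul_mem (pow_mem c.2 _) hm }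
  let toQ : integralClosure A S →+* S ⧸ J :=
    (Ideal.Quotient.mk J).comp (integralClosure A S).val.toRingHom
  let : Algebra (integralClosure A S) (S ⧸ J) := toQ.toAlgebra
  let : SMul (integralClosure A S) (S ⧸ J) := toQ.toAlgebra.toSMul
  have : IsScalarTower A (integralClosure A S) (S ⧸ J) := IsScalarTower.of_algebraMap_eq fun a => rfl
  have : Algebra.IsIntegral A (S ⧸ J) := Algebra.IsIntegral.of_finite A (S ⧸ J)
  have : Algebra.IsIntegral (integralClosure A S) (S ⧸ J) := Algebra.IsIntegral.tower_top A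
  have hDtop : D.map (algebraMap (integralClosure A S) (S ⧸ J)) = ⊤ := by
    by_contra h
    obtain ⟨P, hP, hDP⟩ := Ideal.exists_le_maximal _ h
    have : P.IsPrime := hP.isPrime
    have hle : J ≤ P.comap (Ideal.Quotient.mk J) := fun y hy => by
      simp [Ideal.mem_comap, Ideal.Quotient.eq_zero_iff_mem.mpr hy]
    have : Algebra.QuasiFiniteAt A (P.comap (Ideal.Quotient.mk J)) := hqf _ hle
    obtain ⟨r, hr, hint, hx⟩ := Algebra.zariskisMainProperty_iff.mp
      (Algebra.ZariskisMainProperty.of_finiteType (R := A) (P.comap (Ideal.Quotient.mk J)))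
    have hrD : (⟨r, hint⟩ : integralClosure A S) ∈ D := fun x => hx x
    exact hr (Ideal.mem_comap.mpr (hDP (Ideal.mem_map_of_mem _ hrD)))
  obtain ⟨⟨r, hrint⟩, hrD, hr1⟩ := exists_mem_algebraMap_eq_one D hDtop
  have hrJ : r - 1 ∈ J := Ideal.Quotient.eq.mp (hr1.trans (map_one _).symm)
  -- the finite subalgebra
  obtain ⟨g, hg⟩ := Algebra.FiniteType.out (R := A) (A := S)
  choose mm hmm using fun x : S => hrD x
  let t : Set S := insert r ((fun x => r ^ mm x * x) '' ↑(insert f g))
  let B := Algebra.adjoin A t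
  have hBfg : B.toSubmodule.FG := by
    refine fg_adjoin_of_finite ((Finset.finite_toSet _).image _ |>.insert _) ?_
    rintro x (rfl | ⟨y, -, rfl⟩)
    exacts [hrint, hmm y]
  have hrB : r ∈ B := Algebra.subset_adjoin (Set.mem_insert _ _)
  have hxB : ∀ x ∈ insert f g, r ^ mm x * x ∈ B := fun x hx =>
    Algebra.subset_adjoin (Set.mem_insert_of_mem _ ⟨x, hx, rfl⟩)
  have hall : ∀ x : S, ∃ m : ℕ, r ^ m * x ∈ B := by
    intro x
    have hx : x ∈ Algebra.adjoin A (g : Set S) := hg ▸ Algebra.mem_top
    induction hx using Algebra.adjoin_induction with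
    | mem x hx => exact ⟨mm x, hxB x (Finset.mem_insert_of_mem hx)⟩
    | algebraMap a => exact ⟨0, by simp⟩
    | add x y _ _ hx hy =>
      obtain ⟨m, hm⟩ := hx
      obtain ⟨k, hk⟩ := hy
      refine ⟨m + k, ?_⟩
      have : r ^ (m + k) * (x + y) = r ^ k * (r ^ m * x) + r ^ m * (r ^ k * y) := by ring
      rw [this]
      exact add_mem (mul_mem (pow_mem hrB _) hm) (mul_mem (pow_mem hrB _) hk)
    | mul x y _ _ hx hy =>
      obtain ⟨m, hm⟩ := hx
      obtain ⟨k, hk⟩ := hy
      refine ⟨m + k, ?_⟩
      have : r ^ (m + k) * (x * y) = (r ^ m * x) * (r ^ k * y) := by ring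
      rw [this]
      exact mul_mem hm hk
  have hIpush : ∀ z ∈ I • (⊤ : Submodule A S), ∃ M : ℕ, r ^ M * z ∈ I • B.toSubmodule := by
    intro z hz
    refine Submodule.smul_induction_on hz ?_ ?_
    · intro a ha x _
      obtain ⟨m, hm⟩ := hall x
      exact ⟨m, by rw [mul_smul_comm]; exact Submodule.smul_mem_smul ha hm⟩
    · intro x y hx hy
      obtain ⟨m, hm⟩ := hx
      obtain ⟨k, hk⟩ := hy
      refine ⟨m + k, ?_⟩
      have hmul : ∀ b ∈ B, ∀ w ∈ I • B.toSubmodule, b * w ∈ I • B.toSubmodule := by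
        intro b hb w hw
        refine Submodule.smul_induction_on hw ?_ ?_
        · intro a ha w hw
          rw [mul_smul_comm]
          exact Submodule.smul_mem_smul ha ((mul_mem hb (hw : w ∈ B)) : b * w ∈ B)
        · intro w₁ w₂ h₁ h₂
          rw [mul_add]
          exact add_mem h₁ h₂
      have : r ^ (m + k) * (x + y) = r ^ k * (r ^ m * x) + r ^ m * (r ^ k * y) := by ring
      rw [this]
      exact add_mem (hmul _ (pow_mem hrB _) _ hm) (hmul _ (pow_mem hrB _) _ hk)
  let rB : B := ⟨r, hrB⟩
  have hpush : ∀ z : B, (z : S) ∈ IS → ∃ M : ℕ, rB ^ M * z ∈ I.map (algebraMap A B) := by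
    intro z hz
    obtain ⟨M, hM⟩ := hIpush z (by rw [Ideal.smul_top_eq_map]; exact hz)
    exact ⟨M, (mem_map_subalgebra_iff B _).mpr (by simpa [rB] using hM)⟩
  let w : B := ⟨r ^ (mm f + 1) * f, by
    rw [pow_succ', mul_assoc]
    exact mul_mem hrB (hxB f (Finset.mem_insert_self _ _))⟩
  have hwJ : (w : S) - 1 ∈ J := by
    rw [← Ideal.Quotient.eq]
    have h1 : Ideal.Quotient.mk J f = 1 := ((map_one _).symm.trans (Ideal.Quotient.eq.mpr hJ1)).symm
    have h2 : Ideal.Quotient.mk J r = 1 := hr1
    simp [w, h1, h2]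
  have hwmul : ∀ y : S, y ∈ J → (w : S) * y ∈ IS := fun y hy => by
    show r ^ (mm f + 1) * f * y ∈ IS
    rw [mul_assoc]
    exact IS.mul_mem_left _ (hfJ y hy)
  set IB := I.map (algebraMap A B) with hIB
  have hwr : ∀ M : ℕ, ∃ c : B, w ^ M = c * rB ^ M := by
    intro M
    exact ⟨⟨r ^ mm f * f, hxB f (Finset.mem_insert_self _ _)⟩ ^ M, by
      rw [← mul_pow]; congr 1; exact Subtype.ext (by simp [w, rB]; ring)⟩
  obtain ⟨M, hM⟩ := hpush (w * (1 - w)) (by
    show (w : S) * (1 - (w : S)) ∈ IS
    exact hwmul _ (by rw [← neg_sub]; exact neg_mem hwJ))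
  have hstep : w ^ (M + 1) * (1 - w) ∈ IB := by
    obtain ⟨c, hc⟩ := hwr M
    have : w ^ (M + 1) * (1 - w) = c * (rB ^ M * (w * (1 - w))) := by
      rw [pow_succ, hc]; ring
    rw [this]
    exact IB.mul_mem_left _ hM
  set k := M + 1 with hk
  let π : B →+* B ⧸ IB := Ideal.Quotient.mk IB
  have hπ : π w ^ (k + 1) = π w ^ k := by
    rw [← map_pow, ← map_pow, eq_comm, Ideal.Quotient.eq]
    convert hstep using 1
    ring
  have hπk : ∀ j, π w ^ (k + j) = π w ^ k := by
    intro j
    induction j with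
    | zero => rfl
    | succ j ih => rw [← add_assoc, pow_succ, ih, ← pow_succ, hπ]
  set u := w ^ k with hu
  have huJ : (u : S) - 1 ∈ J := by
    rw [← Ideal.Quotient.eq, hu, Subalgebra.coe_pow, map_pow, Ideal.Quotient.eq.mpr hwJ]
    simp
  have huy : ∀ y : B, (y : S) ∈ J → u * y ∈ IB := by
    intro y hy
    obtain ⟨N, hN⟩ := hpush (w * y) (hwmul _ hy)
    obtain ⟨c, hc⟩ := hwr N
    have h0 : w ^ (N + 1) * y ∈ IB := by
      have : w ^ (N + 1) * y = c * (rB ^ N * (w * y)) := by
        rw [pow_succ, hc]; ring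
      rw [this]
      exact IB.mul_mem_left _ hN
    rw [← Ideal.Quotient.eq_zero_iff_mem] at h0 ⊢
    rw [map_mul, map_pow, ← hπk (N + 1), pow_add, mul_assoc]
    rw [map_mul, map_pow] at h0
    rw [h0, mul_zero]
  have hidem : u * u - u ∈ IB := by
    rw [← Ideal.Quotient.eq, hu, map_mul, map_pow, ← pow_add, hπk]
  have huf : (u : S) - f ∈ IS := by
    obtain ⟨a, ha⟩ : f ∣ (u : S) := by
      rw [hu, hk, Subalgebra.coe_pow]
      exact dvd_pow (Dvd.intro_left _ rfl) (by omega)
    have h1 : (u : S) - f * u ∈ IS := by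
      have : (u : S) - f * u = (-a) * (f * f - f) := by rw [ha]; ring
      rw [this]
      exact IS.mul_mem_left _ hf
    have h2 : f * u - f ∈ IS := by
      have := hfJ _ huJ
      rwa [mul_sub, mul_one] at this
    simpa using add_mem h1 h2
  refine ⟨B, hBfg, u, hidem, huy, huf, fun e he heu => ?_⟩
  have heu' : (e : S) - u ∈ IS := by
    have := (mem_map_subalgebra_iff B _).mp heu
    have hle : I • B.toSubmodule ≤ I • (⊤ : Submodule A S) := Submodule.smul_mono le_rfl le_top
    have := hle this
    rw [Ideal.smul_top_eq_map] at this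
    exact this
  refine ⟨by simpa using add_mem heu' huf, ?_⟩
  have : Module.Finite A B := Module.Finite.of_fg hBfg
  have hBjac : IB ≤ Ideal.jacobson ⊥ := map_le_jacobson_of_isIntegral hI
  -- `r` is invertible on the piece cut out by `e`
  have her : e * (rB - 1) ∈ IB := by
    have h1 : u * (rB - 1) ∈ IB := huy _ hrJ
    have : e * (rB - 1) = (e - u) * (rB - 1) + u * (rB - 1) := by ring
    rw [this]
    exact add_mem (IB.mul_mem_right _ heu) h1
  obtain ⟨s, hs⟩ := isUnit_iff_exists_inv.mp
    (isUnit_of_sub_one_mem hBjac (x := 1 + e * (rB - 1)) (by simpa using her))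
  have hse : e * s * rB = e := by
    linear_combination e * hs + (-(s * (rB - 1))) * he.eq
  have hsurj : ∀ x : S, ∃ b : B, (e : S) * x = b := by
    intro x
    obtain ⟨m, hm⟩ := hall x
    have hem : ∀ m : ℕ, e = e * s ^ m * rB ^ m := by
      intro m
      induction m with
      | zero => simp
      | succ m ih => linear_combination ih + (-(s ^ m * rB ^ m)) * hse
    refine ⟨e * s ^ m * ⟨r ^ m * x, hm⟩, ?_⟩
    conv_lhs => rw [hem m]
    simp [rB]
    ring
  refine Module.Finite.of_surjective
    ((Ideal.Quotient.mkₐ A (Ideal.span {1 - (e : S)})).comp B.val).toLinearMap ?_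
  intro x
  obtain ⟨x, rfl⟩ := Ideal.Quotient.mk_surjective x
  obtain ⟨b, hb⟩ := hsurj x
  refine ⟨b, ?_⟩
  show Ideal.Quotient.mk _ (b : S) = Ideal.Quotient.mk _ x
  rw [← hb, Ideal.Quotient.eq, Ideal.mem_span_singleton']
  exact ⟨-x, by ring⟩

end Groth.Agent.H9Hens
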