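import Groth.Agent.H9Hens.Idem
import Mathlib.RingTheory.IntegralClosure.IsIntegralClosure.Basic

/-!
A monic annihilator congruent to `X ^ N * (X - 1) ^ N` of an element idempotent modulo `IB`.
-/

namespace Groth.Agent.H9Hens

open Polynomial

universe u v

/-- An element of a finite algebra which is idempotent modulo `IB` is a root of a monic polynomial
congruent to `X ^ N * (X - 1) ^ N` modulo `I`, with `N` positive. -/
theorem exists_monic_annihilator {A : Type u} [CommRing A] {I : Ideal A} {B : Type v} [CommRing B]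
    [Algebra A B] [Module.Finite A B] (b : B) (hb : b * b - b ∈ I.map (algebraMap A B)) :
    ∃ (G : A[X]) (N : ℕ), 1 ≤ N ∧ G.Monic ∧ aeval b G = 0 ∧
      G.map (Ideal.Quotient.mk I) = X ^ N * (X - 1) ^ N := by
  rcases subsingleton_or_nontrivial A with hs | hn
  · exact ⟨1, 1, le_rfl, monic_one, @Subsingleton.elim B (Module.subsingleton A B) _ _,
      Subsingleton.elim _ _⟩
  have hrange : LinearMap.range (Algebra.lmul A B (b * b - b)) ≤ I • (⊤ : Submodule A B) := by
    rintro _ ⟨y, rfl⟩
    rw [Ideal.smul_top_eq_map]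
    exact Ideal.mul_mem_right y _ hb
  obtain ⟨P₀, hP₀, -, hP₀I, hP₀0⟩ :=
    LinearMap.exists_monic_and_natDegree_eq_and_coeff_mem_pow_and_aeval_eq_zero A _ I hrange
  set P := X * P₀ with hPdef
  have hP : P.Monic := monic_X.mul hP₀
  have hPb : aeval (b * b - b) P = 0 := by
    rw [aeval_algHom_apply] at hP₀0
    have := LinearMap.congr_fun hP₀0 1
    rw [Algebra.lmul, LinearMap.zero_apply] at this
    have h1 : aeval (b * b - b) P₀ = 0 := by simpa using this
    rw [hPdef, map_mul, h1, mul_zero]
  have hN : P.natDegree = P₀.natDegree + 1 := by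
    rw [hPdef, monic_X.natDegree_mul hP₀, natDegree_X]; omega
  have hPmap : P.map (Ideal.Quotient.mk I) = X ^ P.natDegree := by
    rw [hN, hPdef, Polynomial.map_mul, map_X, pow_succ']
    congr 1
    ext i
    rw [Polynomial.coeff_map, coeff_X_pow]
    rcases lt_trichotomy i P₀.natDegree with h | h | h
    · rw [if_neg h.ne, Ideal.Quotient.eq_zero_iff_mem]
      exact Ideal.pow_le_self (by omega) (hP₀I i)
    · rw [if_pos h, h, hP₀.coeff_natDegree, map_one]
    · rw [if_neg h.ne', coeff_eq_zero_of_natDegree_lt h, map_zero]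
  have hsq : ((X : A[X]) * X - X).Monic :=
    (monic_X.mul monic_X).sub_of_left (by rw [monic_X.degree_mul, degree_X]; norm_num)
  have hsqdeg : ((X : A[X]) * X - X).natDegree = 2 := by
    simp [← pow_two, natDegree_sub_eq_left_of_natDegree_lt]
  refine ⟨P.comp (X * X - X), P.natDegree, by omega, hP.comp hsq (by omega), ?_, ?_⟩
  · rw [aeval_comp]
    simp only [map_sub, map_mul, aeval_X]
    exact hPb
  · rw [Polynomial.map_comp, hPmap, X_pow_comp, ← mul_pow]
    congr 1
    simp
    ring

/-- An element of an integral algebra which is idempotent modulo `IB` is a root of a monic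
polynomial congruent to `X ^ N * (X - 1) ^ N` modulo `I`, with `N` positive. -/
theorem exists_monic_annihilator_integral {A : Type u} [CommRing A] {I : Ideal A} {B : Type v}
    [CommRing B] [Algebra A B] [Algebra.IsIntegral A B] (b : B)
    (hb : b * b - b ∈ I.map (algebraMap A B)) :
    ∃ (G : A[X]) (N : ℕ), 1 ≤ N ∧ G.Monic ∧ aeval b G = 0 ∧
      G.map (Ideal.Quotient.mk I) = X ^ N * (X - 1) ^ N := by
  classical
  have hb' : b * b - b ∈ I • (⊤ : Submodule A B) := by rw [Ideal.smul_top_eq_map]; exact hb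
  obtain ⟨t, ht⟩ : ∃ t : Finset B, b * b - b ∈ I • (Algebra.adjoin A (t : Set B)).toSubmodule := by
    refine Submodule.smul_induction_on hb' (fun a ha x _ => ⟨{x}, Submodule.smul_mem_smul ha
      (Algebra.subset_adjoin (by simp))⟩) ?_
    rintro x y ⟨s, hs⟩ ⟨t, ht⟩
    refine ⟨s ∪ t, add_mem (Submodule.smul_mono le_rfl ?_ hs) (Submodule.smul_mono le_rfl ?_ ht)⟩
    all_goals exact fun z hz => Algebra.adjoin_mono (by simp) hz
  let C := Algebra.adjoin A (↑(insert b t) : Set B)
  have : Module.Finite A C := Module.Finite.of_fg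
    (fg_adjoin_of_finite (Finset.finite_toSet _) fun x _ => Algebra.IsIntegral.isIntegral x)
  have hbC : b ∈ C := Algebra.subset_adjoin (by simp)
  have hmem : (⟨b, hbC⟩ : C) * ⟨b, hbC⟩ - ⟨b, hbC⟩ ∈ I.map (algebraMap A C) := by
    have h1 : I.map (algebraMap A C) = (I.map (algebraMap A C) : Ideal C) := rfl
    have h2 : b * b - b ∈ I • C.toSubmodule :=
      Submodule.smul_mono le_rfl (fun z hz => Algebra.adjoin_mono (by simp) hz) ht
    have h3 : ∀ z ∈ I • C.toSubmodule, ∃ hz : z ∈ C, (⟨z, hz⟩ : C) ∈ I.map (algebraMap A C) := by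
      intro z hz
      refine Submodule.smul_induction_on hz (fun a ha x hx => ?_) ?_
      · exact ⟨C.smul_mem hx a, by
          have : (⟨a • x, C.smul_mem hx a⟩ : C) = algebraMap A C a * ⟨x, hx⟩ :=
            Subtype.ext (Algebra.smul_def a x)
          rw [this]
          exact Ideal.mul_mem_right _ _ (Ideal.mem_map_of_mem _ ha)⟩
      · rintro x y ⟨hx, hx'⟩ ⟨hy, hy'⟩
        exact ⟨add_mem hx hy, add_mem hx' hy'⟩
    obtain ⟨_, h⟩ := h3 _ h2
    exact h
  obtain ⟨G, N, hN, hG, hG0, hGmap⟩ := exists_monic_annihilator _ hmem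
  refine ⟨G, N, hN, hG, ?_, hGmap⟩
  have := congrArg C.val hG0
  rwa [← aeval_algHom_apply, map_zero] at this

end Groth.Agent.H9Hens
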