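import Groth.Agent.H9Hens.PairHens
import Groth.Agent.H05EGA4.Regular2
import Mathlib.RingTheory.AdicCompletion.Algebra
import Mathlib.RingTheory.AdicCompletion.Functoriality
import Mathlib.RingTheory.Filtration

/-!
Henselizations of pairs over noetherian rings: noetherianity and completions.
-/

namespace Groth.Agent.H9Hens

universe u

variable {A : Type u} [CommRing A] {I : Ideal A} {B : Type u} [CommRing B] [Algebra A B]

/-- A henselization of a pair is also the henselization of each of its etale neighbourhoods. -/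
theorem isPairHenselization_of_nbhd (hB : Hens2.IsPairHenselization A I B) (T : Type u) [CommRing T]
    [Algebra A T] [Algebra.Etale A T]
    (hb : Function.Surjective (Ideal.quotientMap (I.map (algebraMap A T)) (algebraMap A T)
      Ideal.le_comap_map))
    [Algebra T B] [IsScalarTower A T B] :
    Hens2.IsPairHenselization T (I.map (algebraMap A T)) B := by
  have hmap : (I.map (algebraMap A T)).map (algebraMap T B) = I.map (algebraMap A B) := by
    rw [Ideal.map_map, ← IsScalarTower.algebraMap_eq]
  refine ⟨hmap.symm ▸ hB.1, fun C _ J f hC hf => ?_⟩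
  rw [Ideal.map_map] at hf
  obtain ⟨g, hg, hgu⟩ := hB.2 C J (f.comp (algebraMap A T)) hC hf
  refine ⟨g, ?_, fun g' hg' => hgu g' ?_⟩
  · let : Algebra A C := (f.comp (algebraMap A T)).toAlgebra
    let u : T →ₐ[A] C := { f with commutes' := fun _ => rfl }
    let v : T →ₐ[A] C :=
      { g.comp (algebraMap T B) with
        commutes' := fun a => by
          show g (algebraMap T B (algebraMap A T a)) = _
          rw [← IsScalarTower.algebraMap_apply]; exact RingHom.congr_fun hg a }
    have h : v = u := algHom_eq_of_sub_mem hC.jac fun s => by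
      obtain ⟨y, hy⟩ := hb (Ideal.Quotient.mk _ s)
      obtain ⟨a, rfl⟩ := Ideal.Quotient.mk_surjective y
      rw [Ideal.quotientMap_mk, Ideal.Quotient.eq] at hy
      have hle : ∀ w : T →ₐ[A] C, (I.map (algebraMap A T)).map w.toRingHom ≤ J := fun w => by
        rw [Ideal.map_map, AlgHom.toRingHom_eq_coe, AlgHom.comp_algebraMap]; exact hf
      have hv := hle v (Ideal.mem_map_of_mem v.toRingHom hy)
      have hu := hle u (Ideal.mem_map_of_mem u.toRingHom hy)
      rw [AlgHom.toRingHom_eq_coe, RingHom.coe_coe, map_sub, AlgHom.commutes] at hu hv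
      simpa using J.sub_mem hu hv
    exact congrArg AlgHom.toRingHom h
  · show g'.comp (algebraMap A B) = f.comp (algebraMap A T)
    rw [IsScalarTower.algebraMap_eq A T B, ← RingHom.comp_assoc, hg']

/-- Finitely generated ideals of the henselization are closed for the adic topology. -/
theorem pairHenselization_mem_of_forall_mem_sup_pow [IsNoetherianRing A]
    (hB : Hens2.IsPairHenselization A I B) {J : Ideal B} (hJ : J.FG) {x : B}
    (hx : ∀ n, x ∈ J ⊔ (I ^ n).map (algebraMap A B)) : x ∈ J := by
  classical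
  obtain ⟨π, hπ⟩ := exists_isPtColim_of_isPairHenselization hB
  obtain ⟨t, ht⟩ := hJ
  obtain ⟨S, _, _, _, φ, y, hy⟩ := hπ.exists_rep_finset (insert x t) id
  obtain ⟨T, _, _, _, ψ, σT, hb, hσ, -⟩ := exists_etale_nbhd (I := I) S (π.comp φ) 1
    (by rw [map_one]; exact isUnit_one)
  obtain ⟨φT, hφT⟩ := hπ.exists_map T σT
  have hfac : φT.comp ψ = φ := hπ.hom_ext (by rw [← AlgHom.comp_assoc, hφT, hσ])
  let : Algebra T B := φT.toRingHom.toAlgebra
  have : IsScalarTower A T B := IsScalarTower.of_algebraMap_eq fun a => (φT.commutes a).symm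
  have hBT := isPairHenselization_of_nbhd hB T hb.2
  have : IsNoetherianRing T := Algebra.FiniteType.isNoetherianRing A T
  let IT := I.map (algebraMap A T)
  have hval : ∀ a ∈ insert x t, algebraMap T B (ψ (y a)) = a := fun a ha =>
    (DFunLike.congr_fun hfac (y a)).trans (hy a ha)
  let J' : Ideal T := Ideal.span ((fun a => ψ (y a)) '' (t : Set B))
  have hJ' : J'.map (algebraMap T B) = J := by
    rw [Ideal.map_span, ← ht, Set.image_image]
    congr 1
    exact (Set.image_congr fun a ha => hval a (Finset.mem_insert_of_mem ha)).trans (Set.image_id _)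
  let x' := ψ (y x)
  have hx' : algebraMap T B x' = x := hval x (Finset.mem_insert_self _ _)
  have hn : ∀ n, x' ∈ J' ⊔ IT ^ n := fun n => by
    have hbn := pairHenselization_quotient_pow_bijective hBT n
    let e := RingEquiv.ofBijective _ hbn
    let g : B →+* T ⧸ IT ^ n := e.symm.toRingHom.comp (Ideal.Quotient.mk _)
    have hg : g.comp (algebraMap T B) = Ideal.Quotient.mk (IT ^ n) :=
      RingHom.ext fun a => e.symm_apply_eq.mpr rfl
    have h1 : algebraMap T B x' ∈ (J' ⊔ IT ^ n).map (algebraMap T B) := by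
      rw [Ideal.map_sup, hJ', hx', show IT ^ n = (I ^ n).map (algebraMap A T) from
        (Ideal.map_pow _ _ _).symm, Ideal.map_map, ← IsScalarTower.algebraMap_eq]
      exact hx n
    have h2 := Ideal.mem_map_of_mem g h1
    rw [Ideal.map_map, hg, ← RingHom.comp_apply, hg, Ideal.mem_quotient_iff_mem_sup,
      sup_assoc, sup_idem] at h2
    exact h2
  have h0 : Ideal.Quotient.mk J' x' ∈ (⨅ n : ℕ, IT ^ n • ⊤ : Submodule T (T ⧸ J')) := by
    rw [Submodule.mem_iInf]
    intro n
    rw [Ideal.smul_top_eq_map, Submodule.restrictScalars_mem, Ideal.Quotient.algebraMap_eq,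
      Ideal.mem_quotient_iff_mem_sup, sup_comm]
    exact hn n
  obtain ⟨⟨r, hr⟩, hrx⟩ := (Ideal.mem_iInf_smul_pow_eq_bot_iff (I := IT) _).mp h0
  have h1 : (r - 1) * x' ∈ J' := by
    rw [← Ideal.Quotient.eq_zero_iff_mem, sub_mul, one_mul, map_sub, sub_eq_zero]
    exact hrx
  have h2 := Ideal.mem_map_of_mem (algebraMap T B) h1
  rw [hJ', map_mul, hx'] at h2
  refine (Ideal.unit_mul_mem_iff_mem _ ?_).mp h2
  have hru := Ideal.mem_jacobson_bot.mp (hBT.1.jac (Ideal.mem_map_of_mem (algebraMap T B) hr)) (-1)
  rw [map_sub, map_one]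
  convert hru.neg using 1
  ring

/-- The reductions of a map from the henselization agree with the canonical ones. -/
theorem pairHenselization_hom_quotient_pow (hB : Hens2.IsPairHenselization A I B) {n : ℕ}
    (h : B →+* A ⧸ I ^ n) (hh : h.comp (algebraMap A B) = Ideal.Quotient.mk (I ^ n)) {b : B} :
    h b = 0 ↔ b ∈ (I ^ n).map (algebraMap A B) := by
  have hle : (I ^ n).map (algebraMap A B) ≤ RingHom.ker h :=
    Ideal.map_le_iff_le_comap.mpr fun a ha => by
      rw [Ideal.mem_comap, RingHom.mem_ker, ← RingHom.comp_apply, hh,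
        Ideal.Quotient.eq_zero_iff_mem.mpr ha]
  refine ⟨fun h0 => ?_, fun hm => hle hm⟩
  obtain ⟨y, hy⟩ := (pairHenselization_quotient_pow_bijective hB n).2 (Ideal.Quotient.mk _ b)
  obtain ⟨a, rfl⟩ := Ideal.Quotient.mk_surjective y
  rw [Ideal.quotientMap_mk, Ideal.Quotient.eq] at hy
  have h1 := RingHom.mem_ker.mp (hle hy)
  rw [map_sub, h0, sub_zero, ← RingHom.comp_apply, hh, Ideal.Quotient.eq_zero_iff_mem] at h1
  have := Ideal.sub_mem _ (Ideal.mem_map_of_mem (algebraMap A B) h1) hy
  rwa [sub_sub_cancel] at this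

/-- The henselization of a pair over a noetherian ring is noetherian. -/
theorem pairHenselization_isNoetherianRing [IsNoetherianRing A]
    (hB : Hens2.IsPairHenselization A I B) : IsNoetherianRing B := by
  classical
  have fg : I.FG := IsNoetherian.noetherian I
  let C := AdicCompletion I A
  have : IsNoetherianRing C := H05EGA4.isNoetherianRing_adicCompletion A I
  have := AdicCompletion.isAdicComplete_self I fg
  obtain ⟨g, hg, -⟩ := hB.2 C _ (algebraMap A C)
    (inferInstance : HenselianRing C (I.map (algebraMap A C))) le_rfl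
  refine (isNoetherianRing_iff_ideal_fg B).mpr fun J => ?_
  have hC : (Ideal.span (g '' (J : Set B))).FG := IsNoetherian.noetherian _
  obtain ⟨s, hs, hspan⟩ := (Submodule.fg_span_iff_fg_span_finset_subset _).mp hC
  obtain ⟨t, htJ, hts⟩ : ∃ t : Finset B, (t : Set B) ⊆ (J : Set B) ∧ t.image g = s :=
    Finset.subset_set_image_iff.mp hs
  refine ⟨t, le_antisymm (Submodule.span_le.mpr htJ) fun x hx => ?_⟩
  refine pairHenselization_mem_of_forall_mem_sup_pow hB ⟨t, rfl⟩ fun n => ?_
  have h1 : g x ∈ (Ideal.span (t : Set B)).map g := by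
    rw [Ideal.map_span, ← Finset.coe_image, hts]
    have h2 : g x ∈ Ideal.span (g '' (J : Set B)) := Ideal.subset_span ⟨x, hx, rfl⟩
    exact (le_of_eq hspan) h2
  let h := (AdicCompletion.evalₐ I n).toRingHom.comp g
  have hh : h.comp (algebraMap A B) = Ideal.Quotient.mk (I ^ n) := by
    rw [RingHom.comp_assoc, hg]
    exact AlgHom.comp_algebraMap _
  have hker : RingHom.ker h = (I ^ n).map (algebraMap A B) :=
    Ideal.ext fun b => pairHenselization_hom_quotient_pow hB h hh
  have h3 := Ideal.mem_map_of_mem (AdicCompletion.evalₐ I n).toRingHom h1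
  rw [Ideal.map_map, ← RingHom.comp_apply, ← Ideal.mem_comap,
    Ideal.comap_map_of_surjective' h, hker] at h3
  · exact h3
  · intro y
    obtain ⟨a, rfl⟩ := Ideal.Quotient.mk_surjective y
    exact ⟨algebraMap A B a, RingHom.congr_fun hh a⟩

/-- The henselization of a pair does not change the completion. -/
theorem pairHenselization_completion_bijective (hB : Hens2.IsPairHenselization A I B) :
    Function.Bijective (AdicCompletion.map I (Algebra.linearMap A B) :
      AdicCompletion I A → AdicCompletion I B) := by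
  have hmem : ∀ n (z : B), z ∈ (I ^ n • ⊤ : Submodule A B) ↔ z ∈ (I ^ n).map (algebraMap A B) :=
    fun n z => by rw [Ideal.smul_top_eq_map, Submodule.restrictScalars_mem]
  have hb : ∀ n, Function.Bijective
      ((Algebra.linearMap A B).reduceModIdeal (I ^ n)) := fun n => by
    obtain ⟨hi, hs⟩ := pairHenselization_quotient_pow_bijective hB n
    refine ⟨(injective_iff_map_eq_zero _).mpr fun q hq => ?_, fun q => ?_⟩
    · obtain ⟨a, rfl⟩ := Submodule.Quotient.mk_surjective _ q
      have hq' : (Submodule.Quotient.mk (algebraMap A B a) : B ⧸ (I ^ n • ⊤ : Submodule A B)) = 0 :=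
        hq
      rw [Submodule.Quotient.mk_eq_zero, hmem] at hq'
      have := (injective_iff_map_eq_zero _).mp hi (Ideal.Quotient.mk _ a) (by
        rw [Ideal.quotientMap_mk, Ideal.Quotient.eq_zero_iff_mem]; exact hq')
      rw [Submodule.Quotient.mk_eq_zero]
      exact (le_of_eq (Ideal.mul_top _).symm) (Ideal.Quotient.eq_zero_iff_mem.mp this)
    · obtain ⟨b, rfl⟩ := Submodule.Quotient.mk_surjective _ q
      obtain ⟨y, hy⟩ := hs (Ideal.Quotient.mk _ b)
      obtain ⟨a, rfl⟩ := Ideal.Quotient.mk_surjective y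
      rw [Ideal.quotientMap_mk, Ideal.Quotient.eq] at hy
      exact ⟨Submodule.Quotient.mk a, (Submodule.Quotient.eq _).mpr ((hmem n _).mpr hy)⟩
  refine ⟨fun x y hxy => AdicCompletion.ext fun n => (hb n).1 ?_, fun y => ?_⟩
  · have := congrArg (fun z => z.val n) hxy
    simpa using this
  · choose v hv using fun n => (hb n).2 (y.val n)
    refine ⟨⟨v, fun {m n} hmn => (hb m).1 ?_⟩, AdicCompletion.ext fun n => hv n⟩
    rw [hv m, ← y.prop hmn, ← hv n]
    exact LinearMap.congr_fun
      (AdicCompletion.transitionMap_comp_reduceModIdeal I (Algebra.linearMap A B) hmn).symm (v n)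

end Groth.Agent.H9Hens
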