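import Groth.Agent.H9Hens.BranchNormal
import Groth.Agent.H9Hens.BranchUnibranch
import Groth.Agent.H9Hens.StrictHens
import Groth.Agent.H9Hens.Noetherian
import Groth.Agent.H05EGA4.FormalFibres

/-!
# Branches of completions with geometrically normal formal fibres
-/

set_option linter.style.haveILetI false

universe u

open IsLocalRing TensorProduct Groth.Agent Groth.Agent.H05EGA4

namespace Groth.Agent.H9Hens

theorem henselianLocalRing_cpl (A : Type u) [CommRing A] [IsLocalRing A] [IsNoetherianRing A] :
    HenselianLocalRing (EGA4.Cpl A) := by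
  have : HenselianRing (EGA4.Cpl A) (maximalIdeal (EGA4.Cpl A)) := inferInstanceAs
    (HenselianRing (AdicCompletion (maximalIdeal A) A) (maximalIdeal (AdicCompletion (maximalIdeal A) A)))
  exact henselianLocalRing_of_henselianRing

theorem isLocalHom_cpl (A : Type u) [CommRing A] [IsLocalRing A] [IsNoetherianRing A] :
    IsLocalHom (algebraMap A (EGA4.Cpl A)) :=
  ((local_hom_TFAE _).out 0 2).mpr (by rw [AdicCompletion.maximalIdeal_eq_map])

theorem residue_trivial_cpl (A : Type u) [CommRing A] [IsLocalRing A] [IsNoetherianRing A] (x : EGA4.Cpl A) :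
    ∃ a : A, x - algebraMap A (EGA4.Cpl A) a ∈ maximalIdeal (EGA4.Cpl A) := by
  let I := maximalIdeal A
  obtain ⟨a, ha⟩ := Ideal.Quotient.mk_surjective (AdicCompletion.evalOneₐ I x)
  refine ⟨a, ?_⟩
  rw [AdicCompletion.maximalIdeal_eq_map, ← AdicCompletion.ker_evalOneₐ_eq_map I (IsNoetherian.noetherian I),
    RingHom.mem_ker, map_sub, sub_eq_zero]
  exact ha.symm.trans ((AdicCompletion.evalOneₐ I).commutes a).symm

variable {A : Type u} [CommRing A] [IsLocalRing A] [IsNoetherianRing A]

omit [IsLocalRing A] [IsNoetherianRing A] in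
theorem grsHom_zero_one_of_one_two {B : Type u} [CommRing B] [Algebra A B] (h : GRSHom 1 2 A B) :
    GRSHom 0 1 A B := h.mono (by norm_num) (by norm_num)

/-- With geometrically normal formal fibres, the completion has as many branches as the ring. -/
theorem numBranches_cpl (h : GRSHom 1 2 A (EGA4.Cpl A)) :
    Brnch.numBranches (EGA4.Cpl A) = Brnch.numBranches A := by
  haveI := isNoetherianRing_cpl A
  haveI := henselianLocalRing_cpl A
  haveI := isLocalHom_cpl A
  obtain ⟨S, _, _, _, _, π, hπ, hS⟩ := exists_isHenselization_colim A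
  haveI := hπ.henselianLocalRing
  haveI := hπ.isNoetherianRing (ker_algebraMap_residueField (R := A))
  have h' := grsHom_zero_one_of_one_two h
  have hm : ∀ x : S, ∃ a : A, x - algebraMap A S a ∈ maximalIdeal S := fun x => by
    obtain ⟨a, ha⟩ := residue_surjective (π x)
    refine ⟨a, ?_⟩
    rw [hπ.maximalIdeal_eq, RingHom.mem_ker, map_sub, π.commutes, ← ha]
    exact sub_self _
  obtain ⟨e₁⟩ := nonempty_minimalPrimes_equiv_sigma_maximalSpectrum A h' S (grsHom_of_isPtColim hπ) hm
  obtain ⟨e₂⟩ := nonempty_minimalPrimes_equiv_sigma_maximalSpectrum A h' (EGA4.Cpl A) h (residue_trivial_cpl A)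
  rw [numBranches_eq_card_minimalPrimes (EGA4.Cpl A), ← card_minimalPrimes_henselization A S]
  exact ENat.card_congr (e₂.trans e₁.symm)

/-- With geometrically normal formal fibres, the completion has as many geometric branches as the ring. -/
theorem numGeomBranches_cpl (h : GRSHom 1 2 A (EGA4.Cpl A)) :
    Brnch.numGeomBranches (EGA4.Cpl A) = Brnch.numGeomBranches A := by
  haveI := isNoetherianRing_cpl A
  haveI := henselianLocalRing_cpl A
  haveI := isLocalHom_cpl A
  let C := EGA4.Cpl A
  obtain ⟨kA, _, _, _, _, _, S, _, _, _, _, π, hπ, hS⟩ := exists_isStrictHenselization_colim A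
  obtain ⟨kC, _, _, _, _, _, T, _, _, _, _, ρ, hρ, hT⟩ := exists_isStrictHenselization_colim C
  haveI := hS.henselian
  haveI := hT.henselian
  haveI := hπ.isNoetherianRing (ker_algebraMap_of_tower (R := A) (k := kA))
  haveI := hρ.isNoetherianRing (ker_algebraMap_of_tower (R := C) (k := kC))
  have hsS := hS.isSepClosure
  have hsT := hT.isSepClosure
  haveI := hsS.1
  haveI := hsS.2
  haveI := hsT.1
  let : Algebra A T := ((algebraMap C T).comp (algebraMap A C)).toAlgebra
  haveI : IsScalarTower A C T := IsScalarTower.of_algebraMap_eq fun _ => rfl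
  haveI : IsLocalHom (algebraMap A T) := ⟨fun a ha => by
    exact IsUnit.of_map (algebraMap A C) a (IsUnit.of_map (algebraMap C T) _ ha)⟩
  let Ω := AlgebraicClosure (ResidueField T)
  let f : T →+* Ω := (algebraMap (ResidueField T) Ω).comp (residue T)
  let : Algebra A Ω := (f.comp (algebraMap A T)).toAlgebra
  let ψT : T →ₐ[A] Ω := { f with commutes' := fun _ => rfl }
  have hψT : RingHom.ker ψT = maximalIdeal T := by
    ext x
    show algebraMap (ResidueField T) Ω (residue T x) = 0 ↔ _
    rw [map_eq_zero, residue_eq_zero_iff]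
  let : Algebra (ResidueField A) Ω :=
    ((algebraMap (ResidueField T) Ω).comp (ResidueField.map (algebraMap A T))).toAlgebra
  let j : ResidueField S →ₐ[ResidueField A] Ω := IsAlgClosed.lift
  let ψS : S →ₐ[A] Ω :=
    { j.toRingHom.comp (residue S) with
      commutes' := fun a => by
        show j (residue S (algebraMap A S a)) = _
        exact j.commutes (residue A a) }
  have hψS : RingHom.ker ψS = maximalIdeal S := by
    ext x
    show j (residue S x) = 0 ↔ _
    rw [map_eq_zero, residue_eq_zero_iff]
  have h' := grsHom_zero_one_of_one_two h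
  have hT12 : GRSHom 1 2 A T := h.comp (grsHom_of_isPtColim hρ)
  obtain ⟨e₁⟩ := nonempty_minimalPrimes_equiv_sigma_algHom A h' S (grsHom_of_isPtColim hπ) Ω ψS hψS
  obtain ⟨e₂⟩ := nonempty_minimalPrimes_equiv_sigma_algHom A h' T hT12 Ω ψT hψT
  rw [← card_minimalPrimes_strictHenselization C T, ← card_minimalPrimes_strictHenselization A S]
  exact ENat.card_congr (e₂.trans e₁.symm)

/-- A henselian domain with geometrically normal formal fibres is analytically irreducible. -/
theorem isDomain_cpl_of_henselian {A : Type u} [CommRing A] [IsNoetherianRing A] [HenselianLocalRing A]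
    [IsDomain A] (h : GRSHom 1 2 A (EGA4.Cpl A)) : IsDomain (EGA4.Cpl A) := by
  haveI := isNoetherianRing_cpl A
  haveI := henselianLocalRing_cpl A
  haveI := isLocalHom_cpl A
  have h' := grsHom_zero_one_of_one_two h
  haveI : IsLocalHom (algebraMap A A) := ⟨fun a ha => ha⟩
  obtain ⟨e₁⟩ := nonempty_minimalPrimes_equiv_sigma_maximalSpectrum A h' A (grsHom_self A)
    fun x => ⟨x, by simp⟩
  obtain ⟨e₂⟩ := nonempty_minimalPrimes_equiv_sigma_maximalSpectrum A h' (EGA4.Cpl A) h (residue_trivial_cpl A)
  rw [isDomain_iff_isReduced_minimalPrimes]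
  refine ⟨isReduced_iff_rs.mpr (h'.rs (isReduced_iff_rs.mp inferInstance)), ?_⟩
  have hA : Nonempty (minimalPrimes A) ∧ Subsingleton (minimalPrimes A) :=
    ((isDomain_iff_isReduced_minimalPrimes A).mp inferInstance).2
  let e := e₁.trans e₂.symm
  exact ⟨e.nonempty_congr.mp hA.1, e.subsingleton_congr.mp hA.2⟩

end Groth.Agent.H9Hens
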