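import Groth.Agent.H9Hens.BranchCount
import Mathlib.RingTheory.Unramified.Finite
import Mathlib.RingTheory.Flat.EquationalCriterion
import Mathlib.RingTheory.AdicCompletion.AsTensorProduct
import Mathlib.RingTheory.AdicCompletion.LocalRing

/-!
Flatness over colimits of etale algebras, and monotonicity of the number of branches.
-/

namespace Groth.Agent.H9Hens

universe u

open IsLocalRing

/-- A module flat over the base is flat over the colimit of pointed etale algebras. -/
theorem IsPtColim.flat_of_restrictScalars {A : Type u} [CommRing A] {k : Type u} [CommRing k]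
    [Algebra A k] {H : Type u} [CommRing H] [Algebra A H] {π : H →ₐ[A] k} (hH : IsPtColim π)
    (M : Type u) [AddCommGroup M] [Module A M] [Module H M] [IsScalarTower A H M]
    [Module.Flat A M] : Module.Flat H M := by
  refine Module.Flat.iff_forall_isTrivialRelation.mpr fun {l} a x hax => ?_
  obtain ⟨S, _, _, _, φ, y, hy⟩ := hH.exists_rep_fin a
  let : Module S M := Module.compHom M φ.toRingHom
  have hsmul : ∀ (s : S) (m : M), s • m = φ s • m := fun _ _ => rfl
  have : IsScalarTower A S M := ⟨fun c s m => by
    rw [hsmul, hsmul, map_smul, smul_assoc]⟩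
  have : Module.Flat S M := Algebra.FormallyUnramified.flat_of_restrictScalars A S M
  obtain ⟨κ, c, z, hc, hca⟩ := Module.Flat.iff_forall_isTrivialRelation.mp
    (inferInstance : Module.Flat S M) (f := y) (x := x) (by
      simpa only [hsmul, hy] using hax)
  refine ⟨κ, fun i j => φ (c i j), z, fun i => ?_, fun j => ?_⟩
  · rw [hc i]
    simp only [hsmul]
  · have := congrArg φ (hca j)
    simpa [map_sum, hy] using this

/-- A flat local homomorphism of local rings cannot decrease the number of minimal primes. -/
theorem card_minimalPrimes_le {S T : Type u} [CommRing S] [CommRing T] [Algebra S T]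
    [Module.FaithfullyFlat S T] : ENat.card (minimalPrimes S) ≤ ENat.card (minimalPrimes T) := by
  have hex : ∀ p : minimalPrimes S, ∃ P : minimalPrimes T, P.1.comap (algebraMap S T) = p.1 := fun p => by
    have := p.2.1.1
    obtain ⟨P, hP⟩ := PrimeSpectrum.comap_surjective_of_faithfullyFlat (A := S) (B := T) ⟨p.1, inferInstance⟩
    obtain ⟨P₀, hP₀, hle⟩ := Ideal.exists_minimalPrimes_le (I := ⊥) (J := P.asIdeal) bot_le
    refine ⟨⟨P₀, hP₀⟩, ?_⟩
    have hle' : P₀.comap (algebraMap S T) ≤ p.1 :=
      (Ideal.comap_mono hle).trans (le_of_eq (congrArg PrimeSpectrum.asIdeal hP))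
    have := hP₀.1.1
    exact le_antisymm hle' (p.2.2 ⟨inferInstance, bot_le⟩ hle')
  choose F hF using hex
  refine ENat.card_le_card_of_injective (f := F) fun p p' h => Subtype.ext ?_
  rw [← hF p, ← hF p', h]

variable (A B : Type u) [CommRing A] [IsLocalRing A] [CommRing B] [IsLocalRing B] [Algebra A B]
  [IsLocalHom (algebraMap A B)] [Module.Flat A B]

/-- Branches cannot decrease under a flat local homomorphism into a henselian ring. -/
theorem numBranches_le_of_flat [HenselianLocalRing B] :
    Brnch.numBranches A ≤ ENat.card (minimalPrimes B) := by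
  obtain ⟨S, _, _, _, _, π, hπ, hS⟩ := exists_isHenselization_colim A
  obtain ⟨g, hg, -⟩ := hS.universal B (algebraMap A B) inferInstance
  let : Algebra S B := g.toAlgebra
  have : IsScalarTower A S B := IsScalarTower.of_algebraMap_eq fun a => (RingHom.congr_fun hg a).symm
  have := hπ.flat_of_restrictScalars B
  have : IsLocalHom (algebraMap S B) := by
    refine ((local_hom_TFAE (algebraMap S B)).out (a := IsLocalHom (algebraMap S B)) 0 2).mpr ?_
    rw [← hπ.map_maximalIdeal ker_algebraMap_residueField, Ideal.map_map,
      ← IsScalarTower.algebraMap_eq]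
    exact map_maximalIdeal_le _
  have : Module.FaithfullyFlat S B := Module.FaithfullyFlat.of_flat_of_isLocalHom
  rw [← card_minimalPrimes_henselization A S]
  exact card_minimalPrimes_le

/-- Geometric branches cannot decrease under a flat local homomorphism. -/
theorem numGeomBranches_le_of_flat :
    Brnch.numGeomBranches A ≤ Brnch.numGeomBranches B := by
  obtain ⟨kA, _, _, _, _, _, S, _, _, _, _, π, hπ, hS⟩ := exists_isStrictHenselization_colim A
  obtain ⟨kB, _, _, _, _, _, T, _, _, _, _, πT, hπT, hT⟩ := exists_isStrictHenselization_colim B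
  have := hT.henselian
  have := hS.isSepClosure.2
  have := hT.isSepClosure.1
  let : Algebra A T := ((algebraMap B T).comp (algebraMap A B)).toAlgebra
  have : IsScalarTower A B T := IsScalarTower.of_algebraMap_eq fun _ => rfl
  have : IsLocalHom (algebraMap A T) := RingHom.isLocalHom_comp _ _
  let τ : ResidueField S →ₐ[ResidueField A] ResidueField T := IsSepClosed.lift
  have hτ : τ.toRingHom.comp (ResidueField.map (algebraMap A S)) = ResidueField.map (algebraMap A T) :=
    RingHom.ext fun y => τ.commutes y
  obtain ⟨g, ⟨hg, -⟩, -⟩ := hS.universal T (algebraMap A T) τ.toRingHom hτ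
  let : Algebra S T := g.toAlgebra
  have : IsScalarTower A S T := IsScalarTower.of_algebraMap_eq fun a => (RingHom.congr_fun hg a).symm
  have := hπT.flat
  have : Module.Flat A T := Module.Flat.trans A B T
  have := hπ.flat_of_restrictScalars T
  have : IsLocalHom (algebraMap S T) := by
    refine ((local_hom_TFAE (algebraMap S T)).out (a := IsLocalHom (algebraMap S T)) 0 2).mpr ?_
    rw [← hπ.map_maximalIdeal ker_algebraMap_of_tower, Ideal.map_map,
      ← IsScalarTower.algebraMap_eq]
    exact map_maximalIdeal_le _
  have : Module.FaithfullyFlat S T := Module.FaithfullyFlat.of_flat_of_isLocalHom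
  rw [← card_minimalPrimes_strictHenselization A S, ← card_minimalPrimes_strictHenselization B T]
  exact card_minimalPrimes_le

/-- For a henselian local ring branches are minimal primes. -/
theorem numBranches_eq_card_minimalPrimes (B : Type u) [CommRing B] [HenselianLocalRing B] :
    Brnch.numBranches B = ENat.card (minimalPrimes B) := by
  have : IsLocalHom (algebraMap B B) := ⟨fun a h => h⟩
  have : Hensel.IsHenselization B B :=
    ⟨inferInstance, fun T _ _ f _ => ⟨f, RingHom.ext fun _ => rfl, fun g hg => by
      rw [← hg]; exact RingHom.ext fun _ => rfl⟩⟩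
  exact (card_minimalPrimes_henselization B B).symm

/-- The completion has at least as many branches. -/
theorem numBranches_le_completion (R : Type u) [CommRing R] [IsLocalRing R] [IsNoetherianRing R] :
    Brnch.numBranches R ≤ Brnch.numBranches (AdicCompletion (maximalIdeal R) R) ∧
      Brnch.numGeomBranches R ≤ Brnch.numGeomBranches (AdicCompletion (maximalIdeal R) R) := by
  refine ⟨?_, numGeomBranches_le_of_flat R _⟩
  have : HenselianRing (AdicCompletion (maximalIdeal R) R)
      (maximalIdeal (AdicCompletion (maximalIdeal R) R)) := inferInstance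
  have : HenselianLocalRing (AdicCompletion (maximalIdeal R) R) :=
    henselianLocalRing_of_henselianRing
  rw [numBranches_eq_card_minimalPrimes (AdicCompletion (maximalIdeal R) R)]
  exact numBranches_le_of_flat R _

end Groth.Agent.H9Hens
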