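import Groth.Agent.H9Hens.BranchCompletion
import Groth.Agent.H02CA.GeomIrred
import Groth.Agent.H1CAlg.NagataUnramified

/-!
# Formal fibres of henselian rings with geometrically reduced formal fibres are geometrically connected
-/

set_option linter.style.haveILetI false

universe u

open IsLocalRing TensorProduct Groth.Agent Groth.Agent.H05EGA4

namespace Groth.Agent.H9Hens

/-- A connected spectrum has no nontrivial idempotents. -/
theorem idempotent_eq_of_connectedSpace {R : Type u} [CommRing R] [ConnectedSpace (PrimeSpectrum R)] {e : R}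
    (he : IsIdempotentElem e) : e = 0 ∨ e = 1 := by
  have h : IsClopen ((PrimeSpectrum.basicOpen e : TopologicalSpace.Opens (PrimeSpectrum R)) : Set (PrimeSpectrum R)) :=
    PrimeSpectrum.isClopen_iff.mpr ⟨e, he, rfl⟩
  rcases isClopen_iff.mp h with h1 | h1
  · refine Or.inl (he.eq_zero_of_isNilpotent ((PrimeSpectrum.basicOpen_eq_bot_iff e).mp ?_))
    exact SetLike.coe_injective (h1.trans TopologicalSpace.Opens.coe_bot.symm)
  · refine Or.inr (PrimeSpectrum.basicOpen_injOn_isIdempotentElem he IsIdempotentElem.one ?_)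
    rw [PrimeSpectrum.basicOpen_one]
    exact SetLike.coe_injective (h1.trans TopologicalSpace.Opens.coe_top.symm)

/-- A nonzero ring without nontrivial idempotents has connected spectrum. -/
theorem connectedSpace_of_idempotents {R : Type u} [CommRing R] [Nontrivial R]
    (h : ∀ e : R, IsIdempotentElem e → e = 0 ∨ e = 1) : ConnectedSpace (PrimeSpectrum R) := by
  have hp : PreconnectedSpace (PrimeSpectrum R) := preconnectedSpace_iff_clopen.mpr fun s hs => by
    obtain ⟨e, he, rfl⟩ := PrimeSpectrum.isClopen_iff.mp hs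
    rcases h e he with rfl | rfl
    · left; simp
    · right; simp
  exact { hp with toNonempty := inferInstance }

/-- An element `x` with `x * x = x * d` of a base change of a normal domain with reduced fibres is divisible
by `d`. -/
theorem exists_eq_mul_of_mul_self {A D C : Type u} [CommRing A] [CommRing D] [IsDomain D] [IsNoetherianRing D]
    [IsIntegrallyClosed D] [Algebra A D] [Algebra.EssFiniteType A D] [CommRing C] [Algebra A C] [IsNoetherianRing C]
    (hC : GRSHom 0 1 A C) {d : D} (hd : d ≠ 0) {x : C ⊗[A] D}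
    (hx : x * x = x * ((1 : C) ⊗ₜ[A] d)) : ∃ y, x = y * ((1 : C) ⊗ₜ[A] d) := by
  classical
  haveI := hC.1
  let M := D ⧸ Ideal.span {d}
  have hfin := associatedPrimes.finite D M
  let ι := hfin.toFinset
  have hmem : ∀ i : ι, (i : Ideal D) ∈ associatedPrimes D M := fun i => hfin.mem_toFinset.mp i.2
  haveI : ∀ i : ι, (i : Ideal D).IsPrime := fun i => IsAssociatedPrime.isPrime (hmem i)
  let Dp := fun i : ι => Localization.AtPrime (i : Ideal D)
  let N := fun i : ι => Dp i ⧸ Ideal.span {algebraMap D (Dp i) d}
  let f : D →ₗ[A] ∀ i, N i := LinearMap.pi fun i =>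
    ((Ideal.Quotient.mkₐ A (Ideal.span {algebraMap D (Dp i) d})).comp (IsScalarTower.toAlgHom A D (Dp i))).toLinearMap
  -- the kernel
  have hex : Function.Exact (LinearMap.mulLeft A d) f := fun z => by
    constructor
    · intro hz
      by_contra hne
      have hz0 : Ideal.Quotient.mk (Ideal.span {d}) z ≠ 0 := fun h => by
        obtain ⟨w, hw⟩ := Ideal.mem_span_singleton.mp (Ideal.Quotient.eq_zero_iff_mem.mp h)
        exact hne ⟨w, hw.symm⟩
      obtain ⟨P, hP, hle⟩ := exists_le_isAssociatedPrime_of_isNoetherianRing (R := D) _ hz0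
      let i : ι := ⟨P, hfin.mem_toFinset.mpr hP⟩
      have h := congrFun hz i
      change Ideal.Quotient.mk _ (algebraMap D (Dp i) z) = 0 at h
      rw [Ideal.Quotient.eq_zero_iff_mem, Ideal.mem_span_singleton] at h
      obtain ⟨w, hw⟩ := h
      obtain ⟨⟨a, s⟩, has⟩ := IsLocalization.surj (i : Ideal D).primeCompl w
      have h1 : algebraMap D (Dp i) (z * s) = algebraMap D (Dp i) (d * a) := by
        rw [map_mul, map_mul, hw, mul_assoc, has]
      obtain ⟨⟨u, hu⟩, huv⟩ := (IsLocalization.eq_iff_exists (i : Ideal D).primeCompl (Dp i)).mp h1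
      have hus : u * (s : D) ∈ (⊥ : Submodule D M).colon {Ideal.Quotient.mk (Ideal.span {d}) z} := by
        rw [Submodule.mem_colon_singleton, Submodule.mem_bot]
        show Ideal.Quotient.mk (Ideal.span {d}) (u * (s : D) * z) = 0
        rw [Ideal.Quotient.eq_zero_iff_mem, Ideal.mem_span_singleton]
        exact ⟨u * a, by linear_combination huv⟩
      exact ((‹∀ i : ι, (i : Ideal D).IsPrime› i).mem_or_mem (hle hus)).elim hu s.2
    · rintro ⟨w, rfl⟩
      funext i
      show Ideal.Quotient.mk _ (algebraMap D (Dp i) (d * w)) = 0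
      rw [Ideal.Quotient.eq_zero_iff_mem, map_mul]
      exact Ideal.mul_mem_right _ _ (Ideal.mem_span_singleton_self _)
  -- divisibility at each associated prime
  have hloc : ∀ i : ι, ∃ y, Algebra.TensorProduct.map (AlgHom.id C C) (IsScalarTower.toAlgHom A D (Dp i)) x =
      ((1 : C) ⊗ₜ[A] algebraMap D (Dp i) d) * y := fun i => by
    let P : Ideal D := i
    let R := Dp i
    obtain ⟨t, n, htP, hspan, -⟩ := H1CAlg.exists_uniformizer_mem_of_isIntegrallyClosed hd (p := P) (hmem i)
    let π : R := algebraMap D R t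
    have hπm : π ∈ maximalIdeal R := (IsLocalization.AtPrime.to_map_mem_maximal_iff R P t).mpr htP
    haveI : IsNoetherianRing R := IsLocalization.isNoetherianRing P.primeCompl _ inferInstance
    have hinjR : Function.Injective (algebraMap D R) := IsLocalization.injective R P.primeCompl_le_nonZeroDivisors
    haveI : IsDomain R := inferInstance
    have hd0 : algebraMap D R d ≠ 0 := (map_ne_zero_iff _ hinjR).mpr hd
    obtain ⟨m, v, hv, hdv⟩ := WfDvdMonoid.max_power_factor' (x := π) hd0 fun hu => (mem_maximalIdeal _).mp hπm hu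
    have hvu : IsUnit v := by
      by_contra hvn
      exact hv (Ideal.mem_span_singleton.mp (hspan ((mem_maximalIdeal _).mpr hvn)))
    let x' : C ⊗[A] R := Algebra.TensorProduct.map (AlgHom.id C C) (IsScalarTower.toAlgHom A D R) x
    let ι₂ : R →ₐ[A] C ⊗[A] R := Algebra.TensorProduct.includeRight
    have hx' : x' * x' = x' * ι₂ (algebraMap D R d) := by
      show Algebra.TensorProduct.map _ _ x * Algebra.TensorProduct.map _ _ x = _
      rw [← map_mul, hx, map_mul, Algebra.TensorProduct.map_tmul]
      rfl
    rw [hdv, map_mul, map_pow] at hx'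
    -- multiplication by the uniformizer
    let mt : R →ₗ[A] R := LinearMap.mulLeft A π
    have hlT : ∀ y, mt.lTensor C y = ι₂ π * y := fun y => by
      induction y using TensorProduct.induction_on with
      | zero => simp
      | add u w hu hw => rw [map_add, hu, hw, mul_add]
      | tmul c r => rw [LinearMap.lTensor_tmul]; show _ = (1 : C) ⊗ₜ[A] π * (c ⊗ₜ r); rw [Algebra.TensorProduct.tmul_mul_tmul, one_mul]; rfl
    have hπ0 : π ≠ 0 ∨ m = 0 := by
      by_cases h0 : π = 0
      · exact Or.inr (by by_contra hm; exact hd0 (by rw [hdv, h0, zero_pow hm, zero_mul]))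
      · exact Or.inl h0
    have hreg : π ≠ 0 → ∀ y, ι₂ π * y = 0 → y = 0 := fun h0 y hy => by
      rw [← hlT] at hy
      exact (map_eq_zero_iff _ (Module.Flat.lTensor_preserves_injective_linearMap mt (mul_right_injective₀ h0))).mp hy
    -- modulo the uniformizer the ring is reduced
    let κ := P.ResidueField
    haveI : Algebra.EssFiniteType A κ := Algebra.EssFiniteType.comp A D κ
    haveI : IsNoetherianRing (κ ⊗[A] C) := H02CA.isNoetherianRing_tensor_of_essFiniteType _ _ _
    haveI : IsReduced (κ ⊗[A] C) := isReduced_iff_rs.mpr (hC.tensor_field κ (.inl inferInstance))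
    haveI : IsReduced (C ⊗[A] κ) :=
      isReduced_of_injective (Algebra.TensorProduct.comm A C κ) (Algebra.TensorProduct.comm A C κ).injective
    let res : R →ₐ[A] κ := IsScalarTower.toAlgHom A R κ
    have hexr : Function.Exact mt res.toLinearMap := fun r => by
      show residue R r = 0 ↔ _
      rw [residue_eq_zero_iff]
      constructor
      · intro hr
        obtain ⟨w, hw⟩ := Ideal.mem_span_singleton.mp (hspan hr)
        exact ⟨w, hw.symm⟩
      · rintro ⟨w, rfl⟩; exact Ideal.mul_mem_right _ _ hπm
    have hsq : ∀ y, (∃ z, y * y = ι₂ π * z) → ∃ z, y = ι₂ π * z := by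
      rintro y ⟨z, hz⟩
      let ρ := Algebra.TensorProduct.map (AlgHom.id C C) res
      have hρπ : ρ (ι₂ π) = 0 := by
        show ρ ((1 : C) ⊗ₜ[A] π) = 0
        rw [Algebra.TensorProduct.map_tmul]
        show (1 : C) ⊗ₜ[A] residue R π = 0
        rw [(residue_eq_zero_iff π).mpr hπm, TensorProduct.tmul_zero]
      have h2 : ρ y = 0 := IsReduced.eq_zero _ ⟨2, by rw [sq, ← map_mul, hz, map_mul, hρπ, zero_mul]⟩
      have h3 : res.toLinearMap.lTensor C y = 0 := by
        rw [← h2]
        induction y using TensorProduct.induction_on with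
        | zero => simp
        | add u w hu hw => rw [map_add, map_add]; congr 1
        | tmul c r => simp [ρ]
      obtain ⟨w, hw⟩ := (lTensor_exact C hexr (residue_surjective (R := R)) y).mp h3
      exact ⟨w, hw.symm.trans (hlT w)⟩
    -- powers of the uniformizer divide
    have hdiv : ∀ j ≤ m, ∃ y, x' = ι₂ π ^ j * y := fun j => by
      induction j with
      | zero => exact fun _ => ⟨x', by rw [pow_zero, one_mul]⟩
      | succ j ih =>
        intro hj
        obtain ⟨y, hy⟩ := ih (by omega)
        obtain ⟨l, rfl⟩ : ∃ l, m = j + 1 + l := ⟨m - (j + 1), by omega⟩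
        have h0 : π ≠ 0 := hπ0.resolve_right (by omega)
        have hcancel : ∀ k w, ι₂ π ^ k * w = 0 → w = 0 := fun k => by
          induction k with
          | zero => intro w hw; rwa [pow_zero, one_mul] at hw
          | succ k ihk => intro w hw; exact hreg h0 w (ihk _ (by rw [← hw]; ring))
        have h1 : y * y - ι₂ π ^ (l + 1) * y * ι₂ v = 0 := hcancel (j + j) _ (by
          rw [hy] at hx'
          linear_combination hx')
        obtain ⟨z, hz⟩ := hsq y ⟨ι₂ π ^ l * y * ι₂ v, by linear_combination h1⟩
        exact ⟨z, by rw [hy, hz]; ring⟩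
    obtain ⟨y, hy⟩ := hdiv m le_rfl
    obtain ⟨v, rfl⟩ := hvu
    refine ⟨ι₂ ((v⁻¹ : Rˣ) : R) * y, ?_⟩
    show x' = ι₂ (algebraMap D R d) * _
    rw [hdv, map_mul, map_pow, hy, mul_assoc, ← mul_assoc (ι₂ ↑v), ← map_mul, Units.mul_inv, map_one, one_mul]
  -- glue
  have hflat : Function.Exact ((LinearMap.mulLeft A d).lTensor C) (f.lTensor C) := Module.Flat.lTensor_exact C hex
  have hfx : f.lTensor C x = 0 := by
    apply (TensorProduct.piRight A A C N).injective
    rw [map_zero]
    funext i
    obtain ⟨y, hy⟩ := hloc i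
    let q : Dp i →ₐ[A] N i := Ideal.Quotient.mkₐ A _
    have e1 : ∀ z, TensorProduct.piRight A A C N (f.lTensor C z) i =
        Algebra.TensorProduct.map (AlgHom.id C C) q
          (Algebra.TensorProduct.map (AlgHom.id C C) (IsScalarTower.toAlgHom A D (Dp i)) z) := fun z => by
      induction z using TensorProduct.induction_on with
      | zero => simp
      | add u w hu hw => simp only [map_add, Pi.add_apply, hu, hw]
      | tmul c r => simp [f, q]; rfl
    rw [e1, hy, map_mul, Algebra.TensorProduct.map_tmul]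
    show (1 : C) ⊗ₜ[A] Ideal.Quotient.mk _ (algebraMap D (Dp i) d) * _ = 0
    have h0 : (Ideal.Quotient.mk (Ideal.span {algebraMap D (Dp i) d})) (algebraMap D (Dp i) d) = (0 : N i) :=
      Ideal.Quotient.eq_zero_iff_mem.mpr (Ideal.mem_span_singleton_self _)
    rw [show (1 : C) ⊗ₜ[A] (Ideal.Quotient.mk (Ideal.span {algebraMap D (Dp i) d})) (algebraMap D (Dp i) d) = (0 : C ⊗[A] N i) by rw [h0, TensorProduct.tmul_zero]]
    exact @zero_mul (C ⊗[A] N i) _ _
  obtain ⟨y, rfl⟩ := (hflat x).mp hfx
  refine ⟨y, ?_⟩
  clear hfx hx hloc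
  induction y using TensorProduct.induction_on with
  | zero => simp
  | add u w hu hw => rw [map_add, hu, hw, add_mul]
  | tmul c r => rw [LinearMap.lTensor_tmul, Algebra.TensorProduct.tmul_mul_tmul, mul_one, LinearMap.mulLeft_apply, mul_comm d]

/-- Base changes of completions of henselian rings to finite residue extensions have no nontrivial
idempotents. -/
theorem eq_zero_or_one_of_isIdempotentElem {A : Type u} [CommRing A] [IsNoetherianRing A] [HenselianLocalRing A]
    (h : GRSHom 0 1 A (EGA4.Cpl A)) (p : Ideal A) [p.IsPrime] (L : Type u) [Field L] [Algebra A L]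
    [Algebra p.ResidueField L] [IsScalarTower A p.ResidueField L] [FiniteDimensional p.ResidueField L]
    {e : EGA4.Cpl A ⊗[A] L} (he : IsIdempotentElem e) : e = 0 ∨ e = 1 := by
  haveI := isNoetherianRing_cpl A
  haveI := henselianLocalRing_cpl A
  haveI := isLocalHom_cpl A
  haveI := faithfullyFlat_cpl A
  let Q := A ⧸ p
  let K := FractionRing Q
  let eK : K ≃ₐ[Q] p.ResidueField := FractionRing.algEquiv Q p.ResidueField
  let : Algebra K L := ((algebraMap p.ResidueField L).comp eK.toRingHom).toAlgebra
  let : Algebra Q L := ((algebraMap K L).comp (algebraMap Q K)).toAlgebra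
  haveI : IsScalarTower Q K L := IsScalarTower.of_algebraMap_eq fun _ => rfl
  haveI : IsScalarTower A Q L := IsScalarTower.of_algebraMap_eq fun a => by
    show _ = algebraMap p.ResidueField L (eK (algebraMap Q K (Ideal.Quotient.mk p a)))
    rw [eK.commutes, IsScalarTower.algebraMap_apply A p.ResidueField L]
    rfl
  haveI : FiniteDimensional K L := by
    let : Algebra K p.ResidueField := eK.toRingHom.toAlgebra
    haveI : IsScalarTower K p.ResidueField L := IsScalarTower.of_algebraMap_eq fun _ => rfl
    haveI : Module.Finite K p.ResidueField :=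
      Module.Finite.of_surjective (Algebra.linearMap _ _) eK.surjective
    exact Module.Finite.trans p.ResidueField L
  haveI : IsLocalRing Q := IsLocalRing.of_surjective' _ Ideal.Quotient.mk_surjective
  let D := integralClosure Q L
  haveI : Module.Finite Q D := finite_integralClosure_of_geomReduced (h.cpl_quotient p) L
  haveI : Module.Finite A D := Module.Finite.trans Q D
  haveI : IsFractionRing D L := integralClosure.isFractionRing_of_finite_extension K L
  haveI : IsIntegrallyClosed D := integralClosure.isIntegrallyClosedOfFiniteExtension K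
  haveI : IsNoetherianRing D := IsNoetherianRing.of_finite A D
  let C := EGA4.Cpl A
  let X := C ⊗[A] D
  haveI : Algebra.IsIntegral A D := Algebra.IsIntegral.of_finite A D
  obtain ⟨eM⟩ := nonempty_maximalSpectrum_tensor_equiv (A := A) (H := C) D (residue_trivial_cpl A)
  haveI : Subsingleton (MaximalSpectrum D) := ⟨fun M N => MaximalSpectrum.ext
    (@maximal_eq_of_prime_le_of_isIntegral A _ _ D _ _ _ ⊥ Ideal.isPrime_bot _ _ M.isMaximal N.isMaximal
      bot_le bot_le)⟩
  haveI : Subsingleton (MaximalSpectrum X) := eM.subsingleton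
  obtain ⟨M0, hM0⟩ := Ideal.exists_maximal D
  let M : MaximalSpectrum X := eM.symm ⟨M0, hM0⟩
  haveI : IsLocalRing X := IsLocalRing.of_unique_max_ideal ⟨M.asIdeal, M.isMaximal,
    fun J hJ => congrArg MaximalSpectrum.asIdeal (Subsingleton.elim ⟨J, hJ⟩ M)⟩
  let : Algebra (C ⊗[A] D) (C ⊗[A] L) :=
    (Algebra.TensorProduct.map (AlgHom.id C C) (IsScalarTower.toAlgHom A D L)).toRingHom.toAlgebra
  haveI : IsScalarTower C (C ⊗[A] D) (C ⊗[A] L) := IsScalarTower.of_algebraMap_eq fun c =>
    ((Algebra.TensorProduct.map (AlgHom.id C C) (IsScalarTower.toAlgHom A D L)).commutes c).symm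
  haveI hloc := IsLocalization.tensorProduct_tensorProduct_right A C (nonZeroDivisors D) L (by
    refine RingHom.ext fun w => ?_
    exact Algebra.TensorProduct.map_tmul _ _ _ _)
  have hinj : Function.Injective (algebraMap (C ⊗[A] D) (C ⊗[A] L)) :=
    Module.Flat.lTensor_preserves_injective_linearMap (IsScalarTower.toAlgHom A D L).toLinearMap
      (IsFractionRing.injective D L)
  obtain ⟨⟨x, ⟨_, d, hd, rfl⟩⟩, hxd⟩ :=
    IsLocalization.surj ((nonZeroDivisors D).map (Algebra.TensorProduct.includeRight (R := A) (A := C))) e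
  let δ : X := (1 : C) ⊗ₜ[A] d
  change e * algebraMap X (C ⊗[A] L) δ = algebraMap X (C ⊗[A] L) x at hxd
  have hxx : x * x = x * δ := hinj (by
    rw [map_mul, map_mul, ← hxd]
    linear_combination (algebraMap X (C ⊗[A] L) δ) ^ 2 * he.eq)
  obtain ⟨y, hy⟩ := exists_eq_mul_of_mul_self h (nonZeroDivisors.ne_zero hd) hxx
  have hδ : IsUnit (algebraMap X (C ⊗[A] L) δ) :=
    IsLocalization.map_units (M := (nonZeroDivisors D).map (Algebra.TensorProduct.includeRight (R := A) (A := C)))
      (C ⊗[A] L) ⟨δ, d, hd, rfl⟩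
  have hey : e = algebraMap X (C ⊗[A] L) y := hδ.mul_right_cancel (by rw [hxd, hy, map_mul])
  have hyy : IsIdempotentElem y := hinj (by rw [map_mul, ← hey, he.eq])
  obtain rfl | rfl : y = 0 ∨ y = 1 := by
    rcases IsLocalRing.isUnit_or_isUnit_of_add_one (add_sub_cancel y 1) with hu | hu
    · exact Or.inr (hu.mul_left_cancel (by rw [hyy.eq, mul_one]))
    · exact Or.inl (hu.mul_left_cancel (by rw [sub_mul, one_mul, hyy.eq, sub_self, mul_zero]))
  · exact Or.inl (by rw [hey, map_zero])
  · exact Or.inr (by rw [hey, map_one])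

/-- The same for a finite extension of the residue field acting on the fibre. -/
theorem eq_zero_or_one_fibre {A : Type u} [CommRing A] [IsNoetherianRing A] [HenselianLocalRing A]
    (h : GRSHom 0 1 A (EGA4.Cpl A)) (p : Ideal A) [p.IsPrime] (L : Type u) [Field L]
    [Algebra p.ResidueField L] [FiniteDimensional p.ResidueField L]
    {e : L ⊗[p.ResidueField] (p.ResidueField ⊗[A] EGA4.Cpl A)} (he : IsIdempotentElem e) : e = 0 ∨ e = 1 := by
  let : Algebra A L := ((algebraMap p.ResidueField L).comp (algebraMap A p.ResidueField)).toAlgebra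
  haveI : IsScalarTower A p.ResidueField L := IsScalarTower.of_algebraMap_eq fun _ => rfl
  let e1 : L ⊗[p.ResidueField] (p.ResidueField ⊗[A] EGA4.Cpl A) ≃+* EGA4.Cpl A ⊗[A] L :=
    (Algebra.TensorProduct.cancelBaseChange A p.ResidueField L L (EGA4.Cpl A)).toRingEquiv.trans
      (Algebra.TensorProduct.comm A L (EGA4.Cpl A)).toRingEquiv
  have he1 : IsIdempotentElem (e1 e) := by
    show e1 e * e1 e = e1 e
    rw [← map_mul e1, he.eq]
  rcases eq_zero_or_one_of_isIdempotentElem h p L he1 with h0 | h1
  · exact Or.inl ((map_eq_zero_iff _ e1.injective).mp h0)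
  · exact Or.inr ((map_eq_one_iff _ e1.injective).mp h1)

/-- Geometric connectedness of formal fibres. -/
theorem connectedSpace_tensor_cpl {A : Type u} [CommRing A] [IsNoetherianRing A] [HenselianLocalRing A]
    (h : GRSHom 0 1 A (EGA4.Cpl A)) (K : Type u) [Field K] [Algebra A K] :
    ConnectedSpace (PrimeSpectrum (K ⊗[A] EGA4.Cpl A)) := by
  classical
  haveI := faithfullyFlat_cpl A
  let C := EGA4.Cpl A
  let p := RingHom.ker (algebraMap A K)
  haveI : p.IsPrime := RingHom.ker_isPrime _
  let κ := p.ResidueField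
  let : Algebra κ K := (Ideal.ResidueField.lift p (algebraMap A K) le_rfl fun x hx =>
    isUnit_iff_ne_zero.mpr fun h0 => hx h0).toAlgebra
  haveI : IsScalarTower A κ K :=
    .of_algebraMap_eq fun a => (Ideal.ResidueField.lift_algebraMap (I := p) (algebraMap A K) le_rfl _ a).symm
  let R := κ ⊗[A] C
  haveI : Nontrivial R := show Nontrivial (κ ⊗[A] C) from inferInstance
  let kb := AlgebraicClosure κ
  -- no idempotents over the algebraic closure
  haveI hconn : ConnectedSpace (PrimeSpectrum (kb ⊗[κ] R)) := by
    haveI : Nontrivial (kb ⊗[κ] R) := inferInstance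
    refine connectedSpace_of_idempotents (R := kb ⊗[κ] R) fun e he => ?_
    obtain ⟨L, hL, ⟨e', he'⟩, -⟩ := H02CA.GeomIrred.exists_finite_subextension e e
    have hinj := H02CA.GeomIrred.map_val_injective L R
    have he'2 : IsIdempotentElem e' := hinj (by rw [map_mul]; exact (congrArg₂ (· * ·) he' he').trans (he.eq.trans he'.symm))
    rcases eq_zero_or_one_fibre h p L he'2 with h0 | h1
    · left; rw [← he', h0, map_zero]
    · right; rw [← he', h1, map_one]
  let Ω := AlgebraicClosure K
  let j : kb →ₐ[κ] Ω := IsAlgClosed.lift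
  let : Algebra kb Ω := j.toRingHom.toAlgebra
  haveI : IsScalarTower κ kb Ω := IsScalarTower.of_algebraMap_eq fun x => (j.commutes x).symm
  haveI hΩ : ConnectedSpace (PrimeSpectrum (Ω ⊗[κ] R)) :=
    H02CA.GeomIrred.connectedSpace_of_ringEquiv
      (Algebra.TensorProduct.cancelBaseChange κ kb Ω Ω R).symm.toRingEquiv
      (H02CA.GeomIrred.connectedSpace_of_isSepClosed (k := kb) (kb ⊗[κ] R) Ω)
  refine H02CA.GeomIrred.connectedSpace_of_ringEquiv
    (Algebra.TensorProduct.cancelBaseChange A κ K K C).symm.toRingEquiv ?_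
  haveI : Nontrivial (K ⊗[κ] R) := inferInstance
  refine connectedSpace_of_idempotents (R := K ⊗[κ] R) fun e he => ?_
  let F := Algebra.TensorProduct.map (IsScalarTower.toAlgHom κ K Ω) (AlgHom.id κ R)
  have hF : Function.Injective F :=
    Module.Flat.rTensor_preserves_injective_linearMap _ (algebraMap K Ω).injective
  have hFe : IsIdempotentElem (F e) := by rw [IsIdempotentElem, ← map_mul, he.eq]
  rcases idempotent_eq_of_connectedSpace (R := Ω ⊗[κ] R) hFe with h0 | h1
  · left; exact (map_eq_zero_iff _ hF).mp h0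
  · right; exact (map_eq_one_iff _ hF).mp h1

end Groth.Agent.H9Hens
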