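import Groth.Agent.H9Hens.PtColim
import Mathlib.RingTheory.Smooth.IntegralClosure
import Mathlib.RingTheory.IntegralClosure.IntegrallyClosed
import Mathlib.RingTheory.Unramified.Field
import Mathlib.RingTheory.Etale.Field
import Mathlib.RingTheory.Artinian.Ring
import Mathlib.RingTheory.LocalRing.Basic
import Mathlib.RingTheory.Flat.FaithfullyFlat.Algebra

/-!
Normality of local colimits of pointed etale algebras.
-/

namespace Groth.Agent.H9Hens

universe u

open TensorProduct Polynomial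

section stage

variable (A : Type u) [CommRing A] [IsDomain A] (K : Type u) [Field K] [Algebra A K]
  [IsFractionRing A K] (S : Type u) [CommRing S] [Algebra A S] [Algebra.Etale A S]

omit [IsDomain A] in
theorem includeLeft_injective_of_flat :
    Function.Injective (fun s : S => s ⊗ₜ[A] (1 : K)) := by
  intro s t h
  have hinj := Module.Flat.lTensor_preserves_injective_linearMap (M := S)
    (Algebra.linearMap A K) (IsFractionRing.injective A K)
  have h2 : s ⊗ₜ[A] (1 : A) = t ⊗ₜ[A] (1 : A) := hinj (by simpa using h)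
  simpa using congrArg (TensorProduct.rid A S) h2

omit [IsDomain A] in
theorem exists_eq_tmul_one_of_isIntegral [IsIntegrallyClosed A] {l : S ⊗[A] K}
    (hl : IsIntegral S l) : ∃ r : S, r ⊗ₜ[A] (1 : K) = l := by
  obtain ⟨z, hz⟩ := (TensorProduct.toIntegralClosure_bijective_of_smooth (R := A) (S := S) (B := K)).2
    ⟨l, hl⟩
  replace hz := congrArg Subtype.val hz
  subst hz
  induction z with
  | zero => exact ⟨0, by simp⟩
  | add x y hx hy =>
    obtain ⟨a, ha⟩ := hx ((TensorProduct.toIntegralClosure A S K x).2)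
    obtain ⟨b, hb⟩ := hy ((TensorProduct.toIntegralClosure A S K y).2)
    exact ⟨a + b, by rw [map_add, Subalgebra.coe_add, ← ha, ← hb, TensorProduct.add_tmul]⟩
  | tmul s c =>
    obtain ⟨a, ha⟩ := IsIntegrallyClosed.isIntegral_iff.mp c.2
    refine ⟨a • s, ?_⟩
    show (a • s) ⊗ₜ[A] (1 : K) = s ⊗ₜ[A] (c : K)
    rw [TensorProduct.smul_tmul, ← ha, Algebra.smul_def, mul_one]

omit [IsDomain A] in
theorem exists_idem_of_stage [IsIntegrallyClosed A] (y : S) :
    ∃ (e₀ : S) (m : S ⊗[A] K), IsIdempotentElem e₀ ∧ e₀ * y = y ∧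
      (y ⊗ₜ[A] (1 : K)) * m = e₀ ⊗ₜ[A] 1 ∧ m * (e₀ ⊗ₜ[A] 1) = m := by
  let L := S ⊗[A] K
  have hE : Algebra.FormallyUnramified K (K ⊗[A] S) := inferInstance
  have : Module.Finite K (K ⊗[A] S) := Algebra.FormallyUnramified.finite_of_free K _
  have : IsArtinianRing (K ⊗[A] S) := isArtinian_of_tower K inferInstance
  have : IsReduced (K ⊗[A] S) := Algebra.FormallyUnramified.isReduced_of_field K _
  let c := (Algebra.TensorProduct.comm A S K).toRingEquiv
  have : IsReduced L := isReduced_of_injective c c.injective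
  have : IsArtinianRing L := Function.Surjective.isArtinianRing (f := (c.symm : K ⊗[A] S →+* L)) c.symm.surjective
  set l : L := y ⊗ₜ[A] 1 with hl
  obtain ⟨n, m, hm⟩ := IsArtinian.exists_pow_succ_smul_dvd l (1 : L)
  simp only [smul_eq_mul, mul_one] at hm
  have hlm : l * (1 - l * m) = 0 := by
    refine IsReduced.eq_zero _ ⟨n + 1, ?_⟩
    have h0 : l ^ n * (1 - l * m) = 0 := by
      rw [mul_sub, mul_one, ← mul_assoc, ← pow_succ, hm, sub_self]
    have : (l * (1 - l * m)) ^ (n + 1) = l ^ n * (1 - l * m) * (l * (1 - l * m) ^ n) := by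
      rw [mul_pow, pow_succ l, pow_succ (1 - l * m), mul_mul_mul_comm, mul_mul_mul_comm (l ^ n)]
      exact congrArg _ (mul_comm _ _) |>.trans (by rw [mul_mul_mul_comm, mul_comm l])
    rw [this, h0, zero_mul]
  have hidem : (l * m) * (l * m) = l * m := by linear_combination -m * hlm
  obtain ⟨e₀, he₀⟩ := exists_eq_tmul_one_of_isIntegral A K S (l := l * m)
    ⟨X ^ 2 - X, monic_X_pow_sub (lt_of_le_of_lt degree_X_le (by norm_num)), by
      simp [pow_two, hidem]⟩
  have hmul : ∀ a b : S, (a * b) ⊗ₜ[A] (1 : K) = (a ⊗ₜ[A] 1) * (b ⊗ₜ[A] 1) := fun a b => by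
    rw [Algebra.TensorProduct.tmul_mul_tmul, one_mul]
  refine ⟨e₀, m * (l * m), includeLeft_injective_of_flat A K S ?_,
    includeLeft_injective_of_flat A K S ?_, ?_, ?_⟩
  · show (e₀ * e₀) ⊗ₜ[A] (1 : K) = e₀ ⊗ₜ[A] 1
    rw [hmul, he₀, hidem]
  · show (e₀ * y) ⊗ₜ[A] (1 : K) = y ⊗ₜ[A] 1
    rw [hmul, he₀, ← hl]
    linear_combination -hlm
  · rw [he₀, ← mul_assoc, hidem]
  · rw [he₀, mul_assoc, hidem]

end stage

theorem idem_eq_zero_or_one {B : Type*} [CommRing B] [IsLocalRing B] {e : B}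
    (he : IsIdempotentElem e) : e = 0 ∨ e = 1 := by
  rcases IsLocalRing.isUnit_or_isUnit_one_sub_self e with h | h
  · exact Or.inr (h.mul_left_cancel (by rw [he.eq, mul_one]))
  · exact Or.inl (h.mul_left_cancel (by rw [sub_mul, one_mul, he.eq, sub_self, mul_zero]))

variable {A : Type u} [CommRing A] [IsDomain A] [IsIntegrallyClosed A]
  {k : Type u} [CommRing k] [Algebra A k]
variable {H : Type u} [CommRing H] [IsLocalRing H] [Algebra A H] {π : H →ₐ[A] k}

/-- A local colimit of pointed etale algebras over a normal domain is a domain. -/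
theorem IsPtColim.isDomain (hH : IsPtColim π) : IsDomain H := by
  suffices NoZeroDivisors H from NoZeroDivisors.to_isDomain H
  refine ⟨fun {a b} hab => ?_⟩
  obtain ⟨S₀, _, _, _, φ₀, z, hz⟩ := hH.exists_rep_fin ![a, b]
  have ha : φ₀ (z 0) = a := hz 0
  have hb : φ₀ (z 1) = b := hz 1
  obtain ⟨T, _, _, _, ψ, φ, hφ, hzero⟩ := hH.exists_eq_zero S₀ φ₀ (z 0 * z 1) (by
    rw [map_mul, ha, hb, hab])
  rw [map_mul] at hzero
  rw [← ha, ← hb, ← hφ, AlgHom.comp_apply, AlgHom.comp_apply]
  obtain ⟨e₀, m, he, hes, hm, -⟩ := exists_idem_of_stage A (FractionRing A) T (ψ (z 0))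
  rcases idem_eq_zero_or_one (he.map φ) with h | h
  · exact Or.inl (by rw [← hes, map_mul, h, zero_mul])
  · refine Or.inr ?_
    have : e₀ * ψ (z 1) = 0 := by
      refine includeLeft_injective_of_flat A (FractionRing A) T ?_
      show (e₀ * ψ (z 1)) ⊗ₜ[A] (1 : FractionRing A) = (0 : T) ⊗ₜ[A] 1
      rw [← one_mul (1 : FractionRing A), ← Algebra.TensorProduct.tmul_mul_tmul, ← hm, mul_right_comm,
        Algebra.TensorProduct.tmul_mul_tmul, hzero, one_mul, TensorProduct.zero_tmul, zero_mul]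
    rw [← one_mul (φ (ψ (z 1))), ← h, ← map_mul, this, map_zero]

/-- A local colimit of pointed etale algebras over a normal domain is integrally closed. -/
theorem IsPtColim.isIntegrallyClosed (hH : IsPtColim π) : IsIntegrallyClosed H := by
  have := hH.isDomain
  rw [isIntegrallyClosed_iff (FractionRing H)]
  intro x hx
  obtain ⟨g, hgm, hg⟩ := hx
  obtain ⟨a, ⟨b, hb⟩, rfl⟩ := IsLocalization.exists_mk'_eq (nonZeroDivisors H) x
  have hscale : eval a (g.scaleRoots b) = 0 := by
    have h := Polynomial.scaleRoots_eval₂_eq_zero (algebraMap H (FractionRing H)) (s := b) hg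
    rw [IsLocalization.mk'_spec' (FractionRing H) a ⟨b, hb⟩, eval₂_at_apply] at h
    exact (map_eq_zero_iff _ (IsFractionRing.injective H (FractionRing H))).mp h
  set n := g.natDegree with hn
  obtain ⟨S₀, _, _, _, φ₀, z, hz⟩ := hH.exists_rep_finset
    (Finset.univ : Finset (Fin (n + 3))) fun i : Fin (n + 3) =>
      if (i : ℕ) = n + 1 then a else if (i : ℕ) = n + 2 then b else g.coeff i
  replace hz : ∀ i, φ₀ (z i) = _ := fun i => hz i (Finset.mem_univ i)
  let c : Fin (n + 1) → S₀ := fun i => if (i : ℕ) = n then 1 else z ⟨i, by omega⟩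
  have hc : ∀ i : Fin (n + 1), φ₀ (c i) = g.coeff i := fun i => by
    by_cases hi : (i : ℕ) = n
    · simp [c, hi, hn, hgm.coeff_natDegree]
    · simp [c, hi, hz, show (i : ℕ) ≠ n + 1 by omega, show (i : ℕ) ≠ n + 2 by omega]
  let a₀ := z ⟨n + 1, by omega⟩
  let b₀ := z ⟨n + 2, by omega⟩
  have ha₀ : φ₀ a₀ = a := by simp [a₀, hz]
  have hb₀ : φ₀ b₀ = b := by simp [b₀, hz]
  let E := ∑ i : Fin (n + 1), c i * b₀ ^ (n - (i : ℕ)) * a₀ ^ (i : ℕ)
  have hE : φ₀ E = 0 := by
    rw [← hscale, eval_eq_sum_range, natDegree_scaleRoots, ← hn,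
      ← Fin.sum_univ_eq_sum_range (fun i => (g.scaleRoots b).coeff i * a ^ i)]
    simp [E, hc, ha₀, hb₀, coeff_scaleRoots, ← hn]
  obtain ⟨T, _, _, _, ψ, φ, hφ, hzero⟩ := hH.exists_eq_zero S₀ φ₀ E hE
  obtain ⟨e₀, m, he, hes, hm, hme⟩ := exists_idem_of_stage A (FractionRing A) T (ψ b₀)
  have he1 : φ e₀ = 1 := by
    refine (idem_eq_zero_or_one (he.map φ)).resolve_left fun h => ?_
    have : φ₀ b₀ = 0 := by rw [← hφ, AlgHom.comp_apply, ← hes, map_mul, h, zero_mul]
    exact nonZeroDivisors.ne_zero hb (hb₀.symm.trans this)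
  -- the element `a / b` at the stage `T`
  let ι : T →ₐ[A] T ⊗[A] FractionRing A := Algebra.TensorProduct.includeLeft
  let l := ι (ψ a₀) * m
  have hel : ι e₀ * l = l := by
    show ι e₀ * (ι (ψ a₀) * m) = ι (ψ a₀) * m
    rw [mul_left_comm, mul_comm (ι e₀) m]
    exact congrArg _ hme
  have hsum : ∑ i : Fin (n + 1), ι (ψ (c i)) * l ^ ((i : ℕ) + 1) = 0 := by
    have h := congrArg (fun t => ι t * m ^ n * l) hzero
    simp only [E, map_sum, map_mul, map_pow, map_zero, zero_mul, Finset.sum_mul] at h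
    rw [← h]
    refine Finset.sum_congr rfl fun i _ => ?_
    have hi : n - (i : ℕ) + (i : ℕ) = n := Nat.sub_add_cancel (Nat.lt_succ_iff.mp i.2)
    have hmn : m ^ n = m ^ (n - (i : ℕ)) * m ^ (i : ℕ) := by rw [← pow_add, hi]
    have hbm : ι (ψ b₀) * m = ι e₀ := hm
    calc ι (ψ (c i)) * l ^ ((i : ℕ) + 1)
        = ι (ψ (c i)) * ((ι (ψ b₀) * m) ^ (n - (i : ℕ)) * l) * l ^ (i : ℕ) := by
          rw [hbm]
          have : ∀ j : ℕ, ι e₀ ^ j * l = l := fun j => by
            induction j with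
            | zero => rw [pow_zero, one_mul]
            | succ j ih => rw [pow_succ, mul_assoc, hel, ih]
          rw [this, pow_succ']; ring
      _ = _ := by rw [hmn]; simp only [l]; ring
  have hint : IsIntegral T l := by
    refine ⟨∑ i : Fin (n + 1), C (ψ (c i)) * X ^ ((i : ℕ) + 1), ?_, ?_⟩
    · refine monic_of_natDegree_le_of_coeff_eq_one (n + 1) ?_ ?_
      · exact natDegree_sum_le_of_forall_le _ _ fun i _ =>
          (natDegree_C_mul_X_pow_le _ _).trans (by omega)
      · rw [finsetSum_coeff, Finset.sum_eq_single (Fin.last n) (fun i _ hi => ?_) (by simp)]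
        · simp [c]
        · rw [coeff_C_mul_X_pow, if_neg]
          intro h
          exact hi (Fin.ext (by rw [Fin.val_last]; omega))
    · rw [← hsum]
      simp [eval₂_finsetSum, ι]
  obtain ⟨r, hr⟩ := exists_eq_tmul_one_of_isIntegral A (FractionRing A) T hint
  have hbr : ψ b₀ * r = ψ a₀ * e₀ := by
    refine includeLeft_injective_of_flat A (FractionRing A) T ?_
    show ι (ψ b₀ * r) = ι (ψ a₀ * e₀)
    rw [map_mul, map_mul, show ι r = l from hr, ← show ι (ψ b₀) * m = ι e₀ from hm]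
    simp only [l]; ring
  refine ⟨φ r, ?_⟩
  rw [eq_comm, IsLocalization.mk'_eq_iff_eq_mul, ← map_mul]
  congr 1
  have h2 := congrArg φ hbr
  rw [map_mul, map_mul, he1, mul_one, ← AlgHom.comp_apply, ← AlgHom.comp_apply, hφ, ha₀, hb₀] at h2
  rw [mul_comm]
  exact h2.symm

/-- Integrally closed domains descend along faithfully flat algebras. -/
theorem isIntegrallyClosed_of_faithfullyFlat (R S : Type*) [CommRing R] [CommRing S] [Algebra R S]
    [Module.FaithfullyFlat R S] [IsDomain S] [IsIntegrallyClosed S] :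
    IsDomain R ∧ IsIntegrallyClosed R := by
  have hinj := FaithfulSMul.algebraMap_injective R S
  have : IsDomain R := hinj.isDomain
  refine ⟨this, (isIntegrallyClosed_iff (FractionRing R)).mpr fun {x} hx => ?_⟩
  obtain ⟨g, hgm, hg⟩ := hx
  obtain ⟨a, ⟨b, hb⟩, rfl⟩ := IsLocalization.exists_mk'_eq (nonZeroDivisors R) x
  have hb0 : algebraMap R S b ≠ 0 :=
    (map_ne_zero_iff _ hinj).mpr (nonZeroDivisors.ne_zero hb)
  have hscale : eval a (g.scaleRoots b) = 0 := by
    have h := Polynomial.scaleRoots_eval₂_eq_zero (algebraMap R (FractionRing R)) (s := b) hg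
    rw [IsLocalization.mk'_spec' (FractionRing R) a ⟨b, hb⟩, eval₂_at_apply] at h
    exact (map_eq_zero_iff _ (IsFractionRing.injective R (FractionRing R))).mp h
  have hdvd : algebraMap R S b ∣ algebraMap R S a := by
    let F := FractionRing S
    have hb1 : algebraMap S F (algebraMap R S b) ≠ 0 :=
      (map_ne_zero_iff _ (IsFractionRing.injective S F)).mpr hb0
    have hint : IsIntegral S (algebraMap S F (algebraMap R S a) / algebraMap S F (algebraMap R S b)) := by
      refine ⟨g.map (algebraMap R S), hgm.map _, ?_⟩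
      rw [eval₂_map]
      let f := (algebraMap S F).comp (algebraMap R S)
      have h := congrArg f hscale
      rw [map_zero, ← eval₂_at_apply, show f a = f b * (f a / f b) from
        (mul_div_cancel₀ _ hb1).symm, scaleRoots_eval₂_mul] at h
      exact (mul_eq_zero.mp h).resolve_left (pow_ne_zero _ hb1)
    obtain ⟨y, hy⟩ := (isIntegrallyClosed_iff F).mp inferInstance hint
    refine ⟨y, IsFractionRing.injective S F ?_⟩
    rw [map_mul, hy, mul_div_cancel₀ _ hb1]
  obtain ⟨y, hy⟩ : b ∣ a := by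
    rw [← Ideal.mem_span_singleton, ← Ideal.comap_map_eq_self_of_faithfullyFlat (B := S) (Ideal.span {b}),
      Ideal.mem_comap, Ideal.map_span, Set.image_singleton, Ideal.mem_span_singleton]
    exact hdvd
  exact ⟨y, by rw [eq_comm, IsLocalization.mk'_eq_iff_eq_mul, ← map_mul, hy, mul_comm]⟩

end Groth.Agent.H9Hens
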