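import Mathlib

/-!
Etale locally on the base, an unramified algebra near a prime with trivial residue extension
is a quotient of the base.
-/

universe u

open TensorProduct

namespace Groth.Agent.H9Hens

variable {A B : Type u} [CommRing A] [CommRing B] [Algebra A B]
  [Algebra.FiniteType A B] [Algebra.FormallyUnramified A B]

omit [Algebra.FiniteType A B] [Algebra.FormallyUnramified A B] in
theorem residueField_map_surjective_of_tensor (p : Ideal A) [p.IsPrime] (q : Ideal B) [q.IsPrime]
    [q.LiesOver p] (hq : Function.Surjective (Ideal.ResidueField.mapₐ p q (Algebra.ofId A B) (q.over_def p)))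
    {R' : Type u} [CommRing R'] [Algebra A R'] (P : Ideal R') [P.IsPrime] [P.LiesOver p]
    {C : Type u} [CommRing C] [Algebra R' C] [Algebra (R' ⊗[A] B) C]
    [IsScalarTower R' (R' ⊗[A] B) C]
    (hC : Function.Surjective (algebraMap (R' ⊗[A] B) C)) (PC : Ideal C) [PC.IsPrime]
    [PC.LiesOver P]
    (hPC : PC.comap (RingHom.comp (algebraMap (R' ⊗[A] B) C)
      Algebra.TensorProduct.includeRight.toRingHom) = q) :
    Function.Surjective (Ideal.ResidueField.mapₐ P PC (Algebra.ofId R' C) (PC.over_def P)) := by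
  let ρ : R' ⊗[A] B →+* PC.ResidueField :=
    (algebraMap C PC.ResidueField).comp (algebraMap (R' ⊗[A] B) C)
  let F₀ := Ideal.ResidueField.mapₐ P PC (Algebra.ofId R' C) (PC.over_def P)
  let Rg := F₀.toRingHom.fieldRange
  have hR : ∀ r : R', ρ (r ⊗ₜ[A] 1) ∈ Rg := fun r => by
    refine ⟨algebraMap R' P.ResidueField r, ?_⟩
    change F₀ (algebraMap R' P.ResidueField r) = _
    rw [F₀.commutes, IsScalarTower.algebraMap_apply R' C PC.ResidueField,
      IsScalarTower.algebraMap_apply R' (R' ⊗[A] B) C]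
    rfl
  have hA : ∀ a : A, ρ (1 ⊗ₜ[A] algebraMap A B a) ∈ Rg := fun a => by
    rw [Algebra.algebraMap_eq_smul_one, ← TensorProduct.smul_tmul, ← Algebra.algebraMap_eq_smul_one]
    exact hR _
  have hmem : ∀ z : B, z ∈ q ↔ ρ (1 ⊗ₜ[A] z) = 0 := fun z => by
    rw [← hPC]
    exact (Ideal.algebraMap_residueField_eq_zero (I := PC)).symm
  have hB : ∀ b : B, ρ (1 ⊗ₜ[A] b) ∈ Rg := fun b => by
    obtain ⟨x, hx⟩ := hq (algebraMap B q.ResidueField b)
    obtain ⟨a, s, hs, rfl⟩ := IsFractionRing.div_surjective (A := A ⧸ p) x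
    obtain ⟨a, rfl⟩ := Ideal.Quotient.mk_surjective a
    obtain ⟨s, rfl⟩ := Ideal.Quotient.mk_surjective s
    have hsq : algebraMap A B s ∉ q := fun h => by
      refine nonZeroDivisors.ne_zero hs (Ideal.Quotient.eq_zero_iff_mem.mpr ?_)
      exact (Ideal.mem_of_liesOver q p s).mpr h
    have hd : algebraMap A B s * b - algebraMap A B a ∈ q := by
      rw [← Ideal.algebraMap_residueField_eq_zero, map_sub, map_mul, sub_eq_zero]
      have hs0 : algebraMap B q.ResidueField (algebraMap A B s) ≠ 0 := fun h =>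
        hsq (Ideal.algebraMap_residueField_eq_zero.mp h)
      have hAq : ∀ c : A, Ideal.ResidueField.mapₐ p q (Algebra.ofId A B) (q.over_def p)
          (algebraMap (A ⧸ p) p.ResidueField (Ideal.Quotient.mk p c)) =
          algebraMap B q.ResidueField (algebraMap A B c) := fun c => by
        rw [← Ideal.Quotient.algebraMap_eq, ← IsScalarTower.algebraMap_apply A (A ⧸ p) p.ResidueField,
          AlgHom.commutes, ← IsScalarTower.algebraMap_apply A B q.ResidueField]
      rw [map_div₀, hAq, hAq, div_eq_iff hs0] at hx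
      rw [hx, mul_comm]
    have h0 : ρ (1 ⊗ₜ[A] algebraMap A B s) ≠ 0 := fun h => hsq ((hmem _).mpr h)
    have h1 : ρ (1 ⊗ₜ[A] algebraMap A B s) * ρ (1 ⊗ₜ[A] b) = ρ (1 ⊗ₜ[A] algebraMap A B a) := by
      rw [← map_mul, Algebra.TensorProduct.tmul_mul_tmul, one_mul, ← sub_eq_zero, ← map_sub,
        ← TensorProduct.tmul_sub]
      exact (hmem _).mp hd
    rw [show ρ (1 ⊗ₜ[A] b) = ρ (1 ⊗ₜ[A] algebraMap A B a) / ρ (1 ⊗ₜ[A] algebraMap A B s) from
      eq_div_of_mul_eq h0 ((mul_comm _ _).trans h1)]
    exact div_mem (hA a) (hA s)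
  have hall : ∀ c : C, algebraMap C PC.ResidueField c ∈ Rg := fun c => by
    obtain ⟨z, rfl⟩ := hC c
    change ρ z ∈ Rg
    induction z using TensorProduct.induction_on with
    | zero => rw [map_zero]; exact zero_mem _
    | tmul r b =>
      rw [show r ⊗ₜ[A] b = (r ⊗ₜ[A] 1) * (1 ⊗ₜ[A] b) by simp, map_mul]
      exact mul_mem (hR r) (hB b)
    | add x y hx hy => rw [map_add]; exact add_mem hx hy
  intro x
  obtain ⟨a, s, -, rfl⟩ := IsFractionRing.div_surjective (A := C ⧸ PC) x
  obtain ⟨a, rfl⟩ := Ideal.Quotient.mk_surjective a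
  obtain ⟨s, rfl⟩ := Ideal.Quotient.mk_surjective s
  exact div_mem (hall a) (hall s)

/-- Etale locally around `p`, an algebra unramified at `q` with trivial residue extension has an
open piece through `q` which is a quotient of the base. -/
theorem exists_etale_closed_chart (p : Ideal A) [p.IsPrime] (q : Ideal B) [q.IsPrime]
    [q.LiesOver p] (hq : Function.Surjective (Ideal.ResidueField.mapₐ p q (Algebra.ofId A B) (q.over_def p))) :
    ∃ (R' : Type u) (_ : CommRing R') (_ : Algebra A R') (_ : Algebra.Etale A R') (P : Ideal R')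
      (_ : P.IsPrime) (_ : P.LiesOver p) (e : R' ⊗[A] B),
      Function.Bijective (Ideal.ResidueField.mapₐ p P (Algebra.ofId _ _) (P.over_def p)) ∧
      (∀ (Q : Ideal (R' ⊗[A] B)), Q.IsPrime → Q.LiesOver P →
        Q.comap Algebra.TensorProduct.includeRight.toRingHom = q → e ∉ Q) ∧
      Function.Surjective (algebraMap R' (Localization.Away e)) := by
  obtain ⟨R', _, _, _, P, _, _, e, he, P', _, _, hP'q, heP', hpP, hfin, huniq⟩ :=
    Algebra.exists_etale_isIdempotentElem_forall_liesOver_eq p q
  let C := Localization.Away e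
  have hCs : Function.Surjective (algebraMap (R' ⊗[A] B) C) := by
    intro c
    obtain ⟨n, a, ha⟩ := IsLocalization.Away.surj e c
    have h1 : algebraMap (R' ⊗[A] B) C e = 1 :=
      IsIdempotentElem.iff_eq_one_of_isUnit (IsLocalization.Away.algebraMap_isUnit e) |>.mp (he.map _)
    exact ⟨a, by rw [← ha, h1, one_pow, mul_one]⟩
  have : Algebra.FormallyUnramified R' C := Algebra.FormallyUnramified.comp R' (R' ⊗[A] B) C
  have hdis : Disjoint (Submonoid.powers e : Set (R' ⊗[A] B)) P' :=
    (Ideal.disjoint_powers_iff_notMem_of_isPrime _).mpr heP'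
  let PC := P'.map (algebraMap (R' ⊗[A] B) C)
  have hPC : PC.IsPrime := IsLocalization.isPrime_of_isPrime_disjoint (.powers e) _ _ ‹_› hdis
  have hcPC : PC.comap (algebraMap (R' ⊗[A] B) C) = P' :=
    IsLocalization.under_map_of_isPrime_disjoint (.powers e) C ‹_› hdis
  have : PC.LiesOver P := ⟨by
    rw [Ideal.under_def, IsScalarTower.algebraMap_eq R' (R' ⊗[A] B) C, ← Ideal.comap_comap, hcPC]
    exact P'.over_def P⟩
  have hκ := residueField_map_surjective_of_tensor p q hq P hCs PC
    (by rw [← Ideal.comap_comap, hcPC]; exact hP'q)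
  -- the fibre is the field `κ(P)`
  have hone : ∀ (Q : Ideal C), Q.IsPrime → Q.LiesOver P → Q = PC := fun Q hQ hQP => by
    have := huniq (Q.comap (algebraMap _ C)) inferInstance ⟨by
      rw [Ideal.under_def, Ideal.comap_comap, ← IsScalarTower.algebraMap_eq]
      exact Q.over_def P⟩
      (fun h => hQ.ne_top (Ideal.eq_top_of_isUnit_mem _ h (IsLocalization.Away.algebraMap_isUnit e)))
    rw [← IsLocalization.map_under (.powers e) C Q]
    exact congrArg (Ideal.map _) this
  let F := P.Fiber C
  have : Subsingleton (PrimeSpectrum F) := by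
    refine (PrimeSpectrum.primesOverOrderIsoFiber R' C P).toEquiv.subsingleton_congr.mp
      ⟨fun Q₁ Q₂ => Subtype.ext ?_⟩
    rw [hone Q₁.1 Q₁.2.1 Q₁.2.2, hone Q₂.1 Q₂.2.1 Q₂.2.2]
  have hFred : IsReduced F := Algebra.FormallyUnramified.isReduced_of_field P.ResidueField F
  let : Algebra P.ResidueField PC.ResidueField :=
    (Ideal.ResidueField.mapₐ P PC (Algebra.ofId R' C) (PC.over_def P)).toRingHom.toAlgebra
  have : IsScalarTower R' P.ResidueField PC.ResidueField :=
    IsScalarTower.of_algebraMap_eq fun r => (AlgHom.commutes _ r).symm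
  let ρ : F →ₐ[P.ResidueField] PC.ResidueField :=
    Algebra.TensorProduct.lift (Algebra.ofId _ _) (IsScalarTower.toAlgHom R' C _) fun _ _ => .all _ _
  have hFfield : IsField F := by
    have : Nontrivial F := ρ.toRingHom.domain_nontrivial
    have : IsArtinianRing F := isArtinian_of_tower P.ResidueField inferInstance
    obtain ⟨M, hM⟩ := Ideal.exists_maximal F
    have : IsLocalRing F := IsLocalRing.of_unique_max_ideal ⟨M, hM, fun J hJ =>
      congrArg PrimeSpectrum.asIdeal (Subsingleton.elim (⟨J, hJ.isPrime⟩ : PrimeSpectrum F) ⟨M, hM.isPrime⟩)⟩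
    exact IsArtinianRing.isField_of_isReduced_of_isLocalRing F
  let := hFfield.toField
  have hFsurj : Function.Surjective (algebraMap P.ResidueField F) := fun z => by
    obtain ⟨c, hc⟩ := hκ (ρ z)
    exact ⟨c, ρ.toRingHom.injective ((ρ.commutes c).trans hc)⟩
  -- Nakayama
  let M := C ⧸ LinearMap.range (Algebra.linearMap R' C)
  have hM : (⟨P, ‹_›⟩ : PrimeSpectrum R') ∉ Module.support R' M := by
    rw [Module.mem_support_iff_nontrivial_residueField_tensorProduct, not_nontrivial_iff_subsingleton]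
    let π := (LinearMap.range (Algebra.linearMap R' C)).mkQ.baseChange P.ResidueField
    have hπ : Function.Surjective π := LinearMap.lTensor_surjective _ (Submodule.mkQ_surjective _)
    refine ⟨fun x y => ?_⟩
    suffices h : ∀ x, π x = 0 by
      obtain ⟨x, rfl⟩ := hπ x
      obtain ⟨y, rfl⟩ := hπ y
      rw [h, h]
    intro x
    obtain ⟨k, rfl⟩ := hFsurj x
    rw [Algebra.TensorProduct.algebraMap_apply, Algebra.algebraMap_self, RingHom.id_apply]
    change k ⊗ₜ[R'] ((LinearMap.range (Algebra.linearMap R' C)).mkQ 1) = 0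
    rw [Submodule.mkQ_apply, (Submodule.Quotient.mk_eq_zero (LinearMap.range (Algebra.linearMap R' C)) (x := (1 : C))).mpr ⟨1, by simp⟩,
      TensorProduct.tmul_zero]
  rw [Module.support_eq_zeroLocus, PrimeSpectrum.mem_zeroLocus, Set.not_subset] at hM
  obtain ⟨g, hgM, hgP⟩ := hM
  -- shrink the base
  let R'' := Localization.Away g
  let P'' := P.map (algebraMap R' R'')
  have hdis' : Disjoint (Submonoid.powers g : Set R') P :=
    (Ideal.disjoint_powers_iff_notMem_of_isPrime _).mpr hgP
  have : P''.IsPrime := IsLocalization.isPrime_of_isPrime_disjoint (.powers g) _ _ ‹_› hdis'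
  have hP''P : P''.comap (algebraMap R' R'') = P :=
    IsLocalization.under_map_of_isPrime_disjoint (.powers g) R'' ‹_› hdis'
  have : P''.LiesOver P := ⟨hP''P.symm⟩
  have : P''.LiesOver p := Ideal.LiesOver.trans P'' P p
  have : Algebra.Etale R' R'' := Algebra.Etale.of_isLocalizationAway g
  have : Algebra.Etale A R'' := Algebra.Etale.comp A R' R''
  let φ : R' ⊗[A] B →ₐ[A] R'' ⊗[A] B :=
    Algebra.TensorProduct.map (IsScalarTower.toAlgHom A R' R'') (AlgHom.id A B)
  refine ⟨R'', inferInstance, inferInstance, inferInstance, P'', inferInstance, inferInstance, φ e,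
    ?_, ?_, ?_⟩
  · have hloc : Function.Bijective (Ideal.ResidueField.mapₐ P P'' (Algebra.ofId _ _) (P''.over_def P)) :=
      RingHom.SurjectiveOnStalks.residueFieldMap_bijective
        (RingHom.surjectiveOnStalks_of_isLocalization (M := Submonoid.powers g) R'') P P'' _
    have heq : ⇑(Ideal.ResidueField.mapₐ p P'' (Algebra.ofId _ _) (P''.over_def p)) =
        Ideal.ResidueField.mapₐ P P'' (Algebra.ofId _ _) (P''.over_def P) ∘
          Ideal.ResidueField.mapₐ p P (Algebra.ofId _ _) (P.over_def p) := by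
      have h : (Ideal.ResidueField.mapₐ p P'' (Algebra.ofId A R'') (P''.over_def p)).toRingHom =
          (Ideal.ResidueField.mapₐ P P'' (Algebra.ofId R' R'') (P''.over_def P)).toRingHom.comp
            (Ideal.ResidueField.mapₐ p P (Algebra.ofId A R') (P.over_def p)).toRingHom := by
        refine Ideal.ResidueField.ringHom_ext (RingHom.ext fun a => ?_)
        simp
      exact funext fun x => RingHom.congr_fun h x
    rw [heq]
    exact hloc.comp hpP
  · intro Q hQ hQP hQq hQe
    refine heP' ?_
    have h1 : (Q.comap φ).LiesOver P := ⟨by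
      rw [Ideal.under_def, ← hP''P, Q.over_def P'', Ideal.under_def]
      refine Ideal.ext fun r => ?_
      simp [φ, Algebra.TensorProduct.algebraMap_apply]⟩
    have h2 : Q.comap φ = P' := Ideal.eq_of_comap_eq_comap_of_bijective_residueFieldMap hpP _ _ (by
      rw [hP'q, ← hQq]
      refine Ideal.ext fun b => ?_
      simp [φ])
    rw [← h2]
    exact hQe
  · let C'' := Localization.Away (φ e)
    let ψ : C →+* C'' := IsLocalization.Away.lift e
      (g := (algebraMap (R'' ⊗[A] B) C'').comp φ.toRingHom) (IsLocalization.Away.algebraMap_isUnit (φ e))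
    have hψ : ∀ z, ψ (algebraMap (R' ⊗[A] B) C z) = algebraMap _ C'' (φ z) := fun z =>
      IsLocalization.lift_eq _ z
    have hg : IsUnit (algebraMap R'' C'' (algebraMap R' R'' g)) :=
      (IsLocalization.Away.algebraMap_isUnit g).map _
    let Rg := (algebraMap R'' C'').range
    have hφR : ∀ r, algebraMap (R'' ⊗[A] B) C'' (φ (r ⊗ₜ[A] 1)) = algebraMap R'' C'' (algebraMap R' R'' r) := fun r => by
      rw [IsScalarTower.algebraMap_apply R'' (R'' ⊗[A] B) C'']
      rfl
    have hb : ∀ b : B, algebraMap (R'' ⊗[A] B) C'' (1 ⊗ₜ b) ∈ Rg := fun b => by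
      have hm : g • (Submodule.Quotient.mk (algebraMap (R' ⊗[A] B) C (1 ⊗ₜ b)) : M) = 0 :=
        Module.mem_annihilator.mp hgM _
      rw [← Submodule.Quotient.mk_smul, Submodule.Quotient.mk_eq_zero] at hm
      obtain ⟨r, hr⟩ := hm
      have h := congrArg ψ hr
      rw [Algebra.linearMap_apply, IsScalarTower.algebraMap_apply R' (R' ⊗[A] B) C, hψ,
        Algebra.smul_def, map_mul, IsScalarTower.algebraMap_apply R' (R' ⊗[A] B) C, hψ, hψ] at h
      have hL : algebraMap (R'' ⊗[A] B) C'' (φ (1 ⊗ₜ[A] b)) = algebraMap (R'' ⊗[A] B) C'' (1 ⊗ₜ b) := by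
        simp [φ]
      rw [show algebraMap R' (R' ⊗[A] B) r = r ⊗ₜ[A] 1 from rfl,
        show algebraMap R' (R' ⊗[A] B) g = g ⊗ₜ[A] 1 from rfl, hφR, hφR, hL] at h
      obtain ⟨v, hv⟩ := IsUnit.exists_left_inv (IsLocalization.Away.algebraMap_isUnit (S := R'') g)
      refine ⟨v * algebraMap R' R'' r, ?_⟩
      rw [map_mul, h, ← mul_assoc, ← map_mul, hv, map_one, one_mul]
    intro c
    obtain ⟨n, a, ha⟩ := IsLocalization.Away.surj (φ e) c
    have h1 : algebraMap (R'' ⊗[A] B) C'' (φ e) = 1 :=
      IsIdempotentElem.iff_eq_one_of_isUnit (IsLocalization.Away.algebraMap_isUnit (φ e)) |>.mp ((he.map φ).map _)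
    rw [h1, one_pow, mul_one] at ha
    subst ha
    change algebraMap (R'' ⊗[A] B) C'' a ∈ Rg
    induction a using TensorProduct.induction_on with
    | zero => rw [map_zero]; exact zero_mem _
    | tmul r b =>
      rw [show r ⊗ₜ[A] b = algebraMap R'' (R'' ⊗[A] B) r * (1 ⊗ₜ[A] b) by simp [Algebra.TensorProduct.algebraMap_apply],
        map_mul, ← IsScalarTower.algebraMap_apply]
      exact mul_mem ⟨r, rfl⟩ (hb b)
    | add x y hx hy => rw [map_add]; exact add_mem hx hy

end Groth.Agent.H9Hens
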