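import Mathlib
import Groth.Agent.H9Hens.EtaleChart
import Groth.Agent.H9Hens.StalkUnramified
import Groth.Agent.H8Props.EtalePrescribedResidue

/-!
Etale neighbourhoods over which unramified points are cut out by closed immersions.
-/

universe u

open CategoryTheory Limits AlgebraicGeometry TopologicalSpace

namespace Groth.Agent.H9Hens

variable {X Y S T : Scheme.{u}}

theorem residueFieldMap_surjective_of_chart {U V : Scheme.{u}} (a : U ⟶ X) (f : X ⟶ S) (b : V ⟶ S)
    [IsOpenImmersion a] (φ : U ⟶ V) (w : φ ≫ b = a ≫ f) (z : U)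
    (h : Function.Surjective (f.residueFieldMap (a z))) : Function.Surjective (φ.residueFieldMap z) := by
  have h2 : Function.Surjective ((a ≫ f).residueFieldMap z) := by
    rw [Scheme.residueFieldMap_comp]
    intro y
    obtain ⟨x, hx⟩ := (ConcreteCategory.bijective_of_isIso (a.residueFieldMap z)).2 y
    obtain ⟨x', rfl⟩ := h x
    exact ⟨x', hx⟩
  have key : ∀ (g₁ g₂ : U ⟶ S), g₁ = g₂ → Function.Surjective (g₂.residueFieldMap z) →
      Function.Surjective (g₁.residueFieldMap z) := by rintro g₁ _ rfl; exact id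
  have h1 := key _ _ w h2
  rw [Scheme.residueFieldMap_comp] at h1
  intro y
  obtain ⟨x, hx⟩ := h1 y
  exact ⟨_, hx⟩

theorem mapₐ_surjective_of_residueFieldMap {A B : Type u} [CommRing A] [CommRing B] [Algebra A B]
    (p : Ideal A) [p.IsPrime] (q : PrimeSpectrum B) [q.asIdeal.LiesOver p]
    (h : Function.Surjective
      ((Spec.map (CommRingCat.ofHom (algebraMap A B))).residueFieldMap q)) :
    Function.Surjective (Ideal.ResidueField.mapₐ p q.asIdeal (Algebra.ofId A B)
      (q.asIdeal.over_def p)) := by
  obtain rfl : p = (q.comap (algebraMap A B)).asIdeal := q.asIdeal.over_def p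
  let φ := CommRingCat.ofHom (algebraMap A B)
  let r : CommRingCat.of (q.comap (algebraMap A B)).asIdeal.ResidueField ⟶
      CommRingCat.of q.asIdeal.ResidueField :=
    (Scheme.Spec.residueFieldIso (.of A) (Spec.map φ q)).inv ≫ (Spec.map φ).residueFieldMap q ≫
      (Scheme.Spec.residueFieldIso (.of B) q).hom
  have hr : Function.Surjective r.hom := by
    simp only [r]
    exact ((ConcreteCategory.bijective_of_isIso (Scheme.Spec.residueFieldIso (.of B) q).hom).2.comp h).comp
      (ConcreteCategory.bijective_of_isIso (Scheme.Spec.residueFieldIso (.of A) (Spec.map φ q)).inv).2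
  have hcomm : φ ≫ CommRingCat.ofHom (algebraMap B q.asIdeal.ResidueField) =
      CommRingCat.ofHom (algebraMap A (q.comap (algebraMap A B)).asIdeal.ResidueField) ≫ r := by
    have h' : φ ≫ CommRingCat.ofHom (algebraMap B q.asIdeal.ResidueField) ≫
        (Scheme.Spec.residueFieldIso (.of B) q).inv =
        CommRingCat.ofHom (algebraMap A (q.comap (algebraMap A B)).asIdeal.ResidueField) ≫
          (Scheme.Spec.residueFieldIso (.of A) (Spec.map φ q)).inv ≫ (Spec.map φ).residueFieldMap q := by
      refine Spec.map_injective ?_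
      have hA := Scheme.Spec.map_residueFieldIso_inv_eq_fromSpecResidueField (.of A) (Spec.map φ q)
      have hB := Scheme.Spec.map_residueFieldIso_inv_eq_fromSpecResidueField (.of B) q
      have hn := Scheme.Hom.SpecMap_residueFieldMap_fromSpecResidueField (Spec.map φ) q
      refine ((Spec.map_comp _ _).trans (congrArg (fun t => t ≫ Spec.map φ)
        ((Spec.map_comp _ _).trans hB))).trans (hn.symm.trans ?_)
      refine (congrArg (fun t => Spec.map ((Spec.map φ).residueFieldMap q) ≫ t) hA.symm).trans ?_
      refine (Category.assoc _ _ _).symm.trans (Eq.trans ?_ (Spec.map_comp _ _).symm)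
      exact congrArg (fun t => t ≫ Spec.map (CommRingCat.ofHom
        (algebraMap A (q.comap (algebraMap A B)).asIdeal.ResidueField))) (Spec.map_comp _ _).symm
    have := congrArg (fun t => t ≫ (Scheme.Spec.residueFieldIso (.of B) q).hom) h'
    simp only [Category.assoc, Iso.inv_hom_id, Category.comp_id] at this
    exact this
  have heq : r.hom = (Ideal.ResidueField.mapₐ (q.comap (algebraMap A B)).asIdeal q.asIdeal
      (Algebra.ofId A B) (q.asIdeal.over_def _)).toRingHom := by
    refine Ideal.ResidueField.ringHom_ext (RingHom.ext fun a => ?_)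
    exact (RingHom.congr_fun (congrArg CommRingCat.Hom.hom hcomm) a).symm.trans
      ((IsScalarTower.algebraMap_apply A B q.asIdeal.ResidueField a).symm.trans
        (AlgHom.commutes (Ideal.ResidueField.mapₐ (q.comap (algebraMap A B)).asIdeal q.asIdeal
          (Algebra.ofId A B) (q.asIdeal.over_def _)) a).symm)
  intro y
  obtain ⟨x, hx⟩ := hr y
  exact ⟨x, (RingHom.congr_fun heq x).symm.trans hx⟩

/-- The chart at an unramified point with trivial residue extension. -/
theorem exists_chart_of_rational (f : Y ⟶ T) [LocallyOfFiniteType f] [FormallyUnramified f] (w : Y)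
    (hw : Function.Surjective (f.residueFieldMap w)) :
    ∃ (T' : Scheme.{u}) (g : T' ⟶ T) (t : T') (V : (pullback f g).Opens),
      Etale g ∧ g t = f w ∧ IsClosedImmersion (V.ι ≫ pullback.snd f g) ∧
      ∀ v : ↑(pullback f g), pullback.fst f g v = w → pullback.snd f g v = t → v ∈ V := by
  obtain ⟨_, ⟨U, hU, rfl⟩, hwU, -⟩ :=
    T.isBasis_affineOpens.exists_subset_of_mem_open (Set.mem_univ (f w)) isOpen_univ
  obtain ⟨_, ⟨W, hW, rfl⟩, hwW, hle⟩ :=
    Y.isBasis_affineOpens.exists_subset_of_mem_open (show w ∈ (f ⁻¹ᵁ U : Set Y) from hwU) (f ⁻¹ᵁ U).2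
  have hoW : IsOpenImmersion hW.fromSpec := hW.isOpenImmersion_fromSpec
  have hoU : IsOpenImmersion hU.fromSpec := hU.isOpenImmersion_fromSpec
  have hft : (f.appLE U W hle).hom.FiniteType := f.finiteType_appLE hU hW hle
  have hfu : (f.appLE U W hle).hom.FormallyUnramified :=
    HasRingHomProperty.appLE (P := @FormallyUnramified) f inferInstance ⟨U, hU⟩ ⟨W, hW⟩ hle
  algebraize [(f.appLE U W hle).hom]
  let φ := Spec.map (CommRingCat.ofHom (algebraMap Γ(T, U) Γ(Y, W)))
  have wφ : φ ≫ hU.fromSpec = hW.fromSpec ≫ f := IsAffineOpen.SpecMap_appLE_fromSpec f hU hW hle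
  obtain ⟨z, rfl⟩ := hW.range_fromSpec.ge hwW
  let q : PrimeSpectrum Γ(Y, W) := z
  let p := (q.comap (algebraMap Γ(T, U) Γ(Y, W))).asIdeal
  have : q.asIdeal.LiesOver p := ⟨rfl⟩
  have hq := mapₐ_surjective_of_residueFieldMap p q
    (residueFieldMap_surjective_of_chart hW.fromSpec f hU.fromSpec φ wφ z hw)
  obtain ⟨R, _, _, _, P, hP, hPp, e, -, huniq, hsurj⟩ := exists_etale_closed_chart p q.asIdeal hq
  let ψ : Γ(T, U) ⟶ .of R := CommRingCat.ofHom (algebraMap Γ(T, U) R)
  have : Etale (Spec.map ψ) := HasRingHomProperty.Spec_iff.mpr (RingHom.etale_algebraMap.mpr ‹_›)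
  let g' : Spec (.of R) ⟶ T := Spec.map ψ ≫ hU.fromSpec
  let M : CommRingCat.{u} := .of (TensorProduct Γ(T, U) R Γ(Y, W))
  let e₁ : Spec M ≅ pullback φ (Spec.map ψ) := (pullbackSpecIso _ _ _).symm ≪≫ pullbackSymmetry _ _
  let c : Spec M ⟶ pullback f g' :=
    e₁.hom ≫ pullback.map _ _ _ _ hW.fromSpec (𝟙 _) hU.fromSpec wφ (by simp [g'])
  have : IsOpenImmersion c := by dsimp only [c]; infer_instance
  have hc1 : c ≫ pullback.fst f g' = Spec.map (CommRingCat.ofHom
      (Algebra.TensorProduct.includeRight : Γ(Y, W) →ₐ[Γ(T, U)] _).toRingHom) ≫ hW.fromSpec := by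
    simp only [c, Category.assoc, pullback.lift_fst]
    rw [← Category.assoc]
    congr 1
    simp only [e₁, Iso.trans_hom, Iso.symm_hom, Category.assoc]
    erw [pullbackSymmetry_hom_comp_fst]
    exact pullbackSpecIso_inv_snd ..
  have hc2 : c ≫ pullback.snd f g' = Spec.map (CommRingCat.ofHom (algebraMap R M)) := by
    simp only [c, Category.assoc, pullback.lift_snd, Category.comp_id]
    simp only [e₁, Iso.trans_hom, Iso.symm_hom, Category.assoc]
    erw [pullbackSymmetry_hom_comp_snd]
    exact pullbackSpecIso_inv_fst ..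
  let ι : Spec (.of (Localization.Away e)) ⟶ pullback f g' :=
    Spec.map (CommRingCat.ofHom (algebraMap M (Localization.Away e))) ≫ c
  refine ⟨Spec (.of R), g', ⟨P, hP⟩, ι.opensRange, inferInstance, ?_, ?_, ?_⟩
  · show hU.fromSpec (Spec.map ψ ⟨P, hP⟩) = f (hW.fromSpec z)
    have h0 : Spec.map ψ ⟨P, hP⟩ = φ z := PrimeSpectrum.ext hPp.over.symm
    rw [h0, ← Scheme.Hom.comp_apply, ← Scheme.Hom.comp_apply, wφ]
  · have he : ι.opensRange.ι = ι.isoOpensRange.inv ≫ ι := by
      rw [Iso.eq_inv_comp]; exact Scheme.Hom.isoOpensRange_hom_ι ι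
    have : IsClosedImmersion (ι ≫ pullback.snd f g') := by
      rw [Category.assoc, hc2, ← Spec.map_comp]
      refine IsClosedImmersion.spec_of_surjective _ ?_
      intro y
      obtain ⟨r, hr⟩ := hsurj y
      exact ⟨r, (IsScalarTower.algebraMap_apply R (TensorProduct Γ(T, U) R Γ(Y, W))
        (Localization.Away e) r).symm.trans hr⟩
    rw [he, Category.assoc]
    infer_instance
  · intro v hv1 hv2
    have hvc : v ∈ Set.range c := by
      simp only [c, Scheme.Hom.comp_base, TopCat.coe_comp, Set.range_comp]
      rw [Set.range_eq_univ.mpr e₁.hom.surjective, Set.image_univ, Scheme.Pullback.range_map]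
      exact ⟨⟨z, hv1.symm⟩, ⟨_, rfl⟩⟩
    obtain ⟨Q, rfl⟩ := hvc
    rw [← Scheme.Hom.comp_apply, hc1, Scheme.Hom.comp_apply] at hv1
    rw [← Scheme.Hom.comp_apply, hc2] at hv2
    have h1 : (Q : PrimeSpectrum M).asIdeal.comap Algebra.TensorProduct.includeRight.toRingHom = q.asIdeal :=
      congrArg PrimeSpectrum.asIdeal (hW.fromSpec.isOpenEmbedding.injective hv1)
    have h2 : (Q : PrimeSpectrum M).asIdeal.LiesOver P := ⟨(congrArg PrimeSpectrum.asIdeal hv2).symm⟩
    have hQe := huniq _ (Q : PrimeSpectrum M).isPrime h2 h1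
    have hQb : ∀ Q' : PrimeSpectrum (TensorProduct Γ(T, U) R Γ(Y, W)), e ∉ Q'.asIdeal →
        ∃ r, PrimeSpectrum.comap (algebraMap _ (Localization.Away e)) r = Q' := fun Q' h =>
      (PrimeSpectrum.localization_away_comap_range (Localization.Away e) e).ge
        (show Q' ∈ (PrimeSpectrum.basicOpen e : Set _) from h)
    obtain ⟨r, hr⟩ := hQb Q hQe
    exact ⟨r, congrArg c hr⟩

/-- A point of a fibre product whose first residue extension is split by the second point is the
image of a morphism defined over the residue field of the second point. -/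
theorem exists_hom_of_splits (f : Y ⟶ S) (g : T ⟶ S) (v : ↑(pullback f g)) (x : Y) (t : T)
    (hx : pullback.fst f g v = x) (ht : pullback.snd f g v = t) (e : f x = g t)
    (H : ∀ a : Y.residueField x, ∃ p : Polynomial (S.residueField (f x)), p ≠ 0 ∧
      p.eval₂ (f.residueFieldMap x).hom a = 0 ∧
      (p.map ((S.residueFieldCongr e).hom ≫ g.residueFieldMap t).hom).Splits) :
    Function.Surjective ((pullback.snd f g).residueFieldMap v) ∧
      ∃ (σ : Y.residueField x ⟶ T.residueField t)
        (_ : f.residueFieldMap x ≫ σ = (S.residueFieldCongr e).hom ≫ g.residueFieldMap t)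
        (h : Spec (T.residueField t) ⟶ pullback f g),
        h ≫ pullback.fst f g = Spec.map σ ≫ Y.fromSpecResidueField x ∧
        h ≫ pullback.snd f g = T.fromSpecResidueField t ∧ v ∈ Set.range h := by
  subst hx ht
  let i := (pullback.snd f g).residueFieldMap v
  let j := (pullback.fst f g).residueFieldMap v
  let k := (S.residueFieldCongr e).hom ≫ g.residueFieldMap (pullback.snd f g v)
  have hk : f.residueFieldMap (pullback.fst f g v) ≫ j = k ≫ i := by
    have := Scheme.Hom.residueFieldMap_congr (pullback.condition (f := f) (g := g)) v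
    rw [Scheme.residueFieldMap_comp, Scheme.residueFieldMap_comp] at this
    exact this.trans (Category.assoc _ _ _).symm
  have hrange : ∀ a, j a ∈ i.hom.range := fun a => by
    obtain ⟨p, hp0, hpa, hsp⟩ := H a
    refine hsp.mem_range_of_isRoot (Polynomial.map_ne_zero hp0) ?_
    rw [Polynomial.IsRoot, Polynomial.map_map, Polynomial.eval_map, ← CommRingCat.hom_comp, ← hk,
      CommRingCat.hom_comp]
    have := Polynomial.hom_eval₂ p (f.residueFieldMap (pullback.fst f g v)).hom j.hom a
    rw [hpa, map_zero] at this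
    exact this.symm
  let σ : Y.residueField (pullback.fst f g v) ⟶ T.residueField (pullback.snd f g v) :=
    CommRingCat.ofHom ((RingEquiv.ofBijective i.hom.rangeRestrict
      ⟨fun a b hab => i.hom.injective (congrArg Subtype.val hab),
        RingHom.rangeRestrict_surjective _⟩).symm.toRingHom.comp
      (j.hom.codRestrict i.hom.range hrange))
  have hσ : σ ≫ i = j := by
    ext a
    exact congrArg Subtype.val ((RingEquiv.ofBijective i.hom.rangeRestrict
      ⟨fun a b hab => i.hom.injective (congrArg Subtype.val hab),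
        RingHom.rangeRestrict_surjective _⟩).apply_symm_apply ⟨j a, hrange a⟩)
  have hσk : f.residueFieldMap (pullback.fst f g v) ≫ σ = k := by
    ext a
    refine i.hom.injective ?_
    exact (RingHom.congr_fun (congrArg CommRingCat.Hom.hom hσ) _).trans
      (RingHom.congr_fun (congrArg CommRingCat.Hom.hom hk) a)
  have hw : (Spec.map σ ≫ Y.fromSpecResidueField (pullback.fst f g v)) ≫ f =
      T.fromSpecResidueField (pullback.snd f g v) ≫ g := by
    rw [Category.assoc, ← Scheme.Hom.SpecMap_residueFieldMap_fromSpecResidueField, ← Spec.map_comp_assoc,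
      hσk, Spec.map_comp, Category.assoc, Scheme.residueFieldCongr_fromSpecResidueField,
      Scheme.Hom.SpecMap_residueFieldMap_fromSpecResidueField]
  let h := pullback.lift _ _ hw
  have hh : Spec.map i ≫ h = (pullback f g).fromSpecResidueField v := by
    apply pullback.hom_ext
    · rw [Category.assoc, pullback.lift_fst, ← Spec.map_comp_assoc, hσ,
        Scheme.Hom.SpecMap_residueFieldMap_fromSpecResidueField]
    · rw [Category.assoc, pullback.lift_snd, Scheme.Hom.SpecMap_residueFieldMap_fromSpecResidueField]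
  let c₀ : Spec ((pullback f g).residueField v) := IsLocalRing.closedPoint _
  have hv : h (Spec.map i c₀) = v :=
    (congrArg (fun F : Spec ((pullback f g).residueField v) ⟶ pullback f g => F c₀) hh).trans
      (Scheme.fromSpecResidueField_apply _ _)
  refine ⟨?_, σ, hσk, h, pullback.lift_fst _ _ _, pullback.lift_snd _ _ _, _, hv⟩
  have hfac : ∃ ρ : (pullback f g).residueField v ⟶ T.residueField (pullback.snd f g v),
      Spec.map ρ ≫ (pullback f g).fromSpecResidueField v = h := by
    have hpt : h (IsLocalRing.closedPoint (T.residueField (pullback.snd f g v)) :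
        Spec (T.residueField (pullback.snd f g v))) = v :=
      (congrArg h (Subsingleton.elim (α := PrimeSpectrum (T.residueField (pullback.snd f g v))) _ _)).trans hv
    have key : ∀ w, h (IsLocalRing.closedPoint (T.residueField (pullback.snd f g v)) :
        Spec (T.residueField (pullback.snd f g v))) = w →
        ∃ ρ : (pullback f g).residueField w ⟶ T.residueField (pullback.snd f g v),
          Spec.map ρ ≫ (pullback f g).fromSpecResidueField w = h := by
      rintro _ rfl
      exact ⟨_, Scheme.descResidueField_stalkClosedPointTo_fromSpecResidueField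
        (T.residueField (pullback.snd f g v)) (pullback f g) h⟩
    exact key v hpt
  obtain ⟨ρ, hρ⟩ := hfac
  rw [← hρ, ← Category.assoc, ← Spec.map_comp] at hh
  have hid : ρ ≫ i = 𝟙 _ := Spec.map_injective (by
    rw [Spec.map_id, ← cancel_mono ((pullback f g).fromSpecResidueField v), hh, Category.id_comp])
  intro y
  exact ⟨ρ y, RingHom.congr_fun (congrArg CommRingCat.Hom.hom hid) y⟩

end Groth.Agent.H9Hens
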