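import Mathlib
import Groth.Agent.H9Hens.EtaleSplit

/-!
Etale neighbourhoods cutting out all unramified points over a point by closed immersions.
-/

universe u

open CategoryTheory Limits AlgebraicGeometry TopologicalSpace

namespace Groth.Agent.H9Hens

variable {X Y S : Scheme.{u}}

theorem finite_separable_residueField (f : Y ⟶ S) [LocallyOfFiniteType f] [FormallyUnramified f]
    (y : Y) (s : S) (h : f y = s) :
    letI := ((S.residueFieldCongr h).inv ≫ f.residueFieldMap y).hom.toAlgebra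
    FiniteDimensional (S.residueField s) (Y.residueField y) ∧
      Algebra.IsSeparable (S.residueField s) (Y.residueField y) := by
  subst h
  have h1 := ((stalk_unramified_iff f y).mp (FormallyUnramified.stalkMap f y)).2
  exact h1

/-- An etale neighbourhood whose residue field splits the residue fields of finitely many
unramified points. -/
theorem exists_splitting_nbhd (f : Y ⟶ S) [LocallyOfFiniteType f] [FormallyUnramified f] (s : S)
    {ι : Type} [Finite ι] (y : ι → Y) (hy : ∀ i, f (y i) = s) :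
    ∃ (U : Scheme.{u}) (g : U ⟶ S) (t : U) (_ : Etale g) (hg : g t = s),
      ∀ i (a : Y.residueField (y i)), ∃ p : Polynomial (S.residueField (f (y i))), p ≠ 0 ∧
        p.eval₂ (f.residueFieldMap (y i)).hom a = 0 ∧
        (p.map ((S.residueFieldCongr ((hy i).trans hg.symm)).hom ≫ g.residueFieldMap t).hom).Splits := by
  let K := S.residueField s
  let alg : ∀ i, Algebra K (Y.residueField (y i)) := fun i =>
    ((S.residueFieldCongr (hy i)).inv ≫ f.residueFieldMap (y i)).hom.toAlgebra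
  have hfd : ∀ i, FiniteDimensional K (Y.residueField (y i)) := fun i =>
    (finite_separable_residueField f (y i) s (hy i)).1
  have hsep : ∀ i, Algebra.IsSeparable K (Y.residueField (y i)) := fun i =>
    (finite_separable_residueField f (y i) s (hy i)).2
  let Ω := SeparableClosure K
  let σ : ∀ i, Y.residueField (y i) →ₐ[K] Ω := fun i => IsSepClosed.lift
  let M : IntermediateField K Ω := ⨆ i, (σ i).fieldRange
  have : ∀ i, FiniteDimensional K (σ i).fieldRange := fun i =>
    LinearEquiv.finiteDimensional (AlgEquiv.ofInjectiveField (σ i)).toLinearEquiv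
  have : FiniteDimensional K M := IntermediateField.finiteDimensional_iSup_of_finite
  let L : IntermediateField K Ω := IntermediateField.normalClosure K M Ω
  have : Normal K Ω := IsGalois.to_normal
  have hL : Normal K L := inferInstance
  have hLs : Algebra.IsSeparable K L := inferInstance
  have hLf : FiniteDimensional K L := inferInstance
  obtain ⟨U, g, t, hg, hget, ⟨e⟩⟩ := Groth.Agent.H8Props.EtalePrescribedResidue.exists_etale_nbhd S s L
  refine ⟨U, g, t, hget, hg, fun i a => ?_⟩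
  have hmem : σ i a ∈ L := by
    have h1 : σ i a ∈ M := le_iSup (fun j => (σ j).fieldRange) i ⟨a, rfl⟩
    exact IntermediateField.le_normalClosure M h1
  have hint : IsIntegral K a := IsIntegral.of_finite K a
  have hsp : ((minpoly K a).map (algebraMap K L)).Splits := by
    have h1 := hL.splits ⟨σ i a, hmem⟩
    rwa [show minpoly K (⟨σ i a, hmem⟩ : L) = minpoly K a from
      (minpoly.algHom_eq L.val Subtype.val_injective _).symm.trans
        (minpoly.algHom_eq (σ i) (σ i).injective a)] at h1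
  refine ⟨(minpoly K a).map (S.residueFieldCongr (hy i)).inv.hom,
    Polynomial.map_ne_zero (minpoly.ne_zero hint), ?_, ?_⟩
  · rw [Polynomial.eval₂_map, ← CommRingCat.hom_comp]
    exact minpoly.aeval K a
  · let := ((S.residueFieldCongr hg).inv ≫ g.residueFieldMap t).hom.toAlgebra
    have hcong : (S.residueFieldCongr (hy i)).inv ≫
        (S.residueFieldCongr ((hy i).trans hg.symm)).hom ≫ g.residueFieldMap t =
        (S.residueFieldCongr hg).inv ≫ g.residueFieldMap t := by
      simp only [Scheme.residueFieldCongr_inv, Scheme.residueFieldCongr_trans_hom_assoc]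
    rw [Polynomial.map_map, ← CommRingCat.hom_comp, hcong]
    have h2 := hsp.map e.toAlgHom.toRingHom
    rw [Polynomial.map_map, AlgHom.toRingHom_eq_coe, AlgHom.comp_algebraMap] at h2
    exact h2

theorem finite_and_rational_of_splits (f : Y ⟶ S) [LocallyOfFiniteType f] [FormallyUnramified f]
    {U : Scheme.{u}} (g : U ⟶ S) (t : U) {ι : Type} [Finite ι] (y : ι → Y) (hyt : ∀ i, f (y i) = g t)
    (H : ∀ i (a : Y.residueField (y i)), ∃ p : Polynomial (S.residueField (f (y i))), p ≠ 0 ∧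
        p.eval₂ (f.residueFieldMap (y i)).hom a = 0 ∧
        (p.map ((S.residueFieldCongr (hyt i)).hom ≫ g.residueFieldMap t).hom).Splits) :
    {v : ↑(pullback f g) | pullback.snd f g v = t ∧ ∃ i, pullback.fst f g v = y i}.Finite ∧
      ∀ v : ↑(pullback f g), pullback.snd f g v = t → (∃ i, pullback.fst f g v = y i) →
        Function.Surjective ((pullback.snd f g).residueFieldMap v) := by
  refine ⟨?_, fun v ht ⟨i, hi⟩ => (exists_hom_of_splits f g v (y i) t hi ht (hyt i) (H i)).1⟩
  let C : ι → Type u := fun i => {σ : Y.residueField (y i) ⟶ U.residueField t //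
    f.residueFieldMap (y i) ≫ σ = (S.residueFieldCongr (hyt i)).hom ≫ g.residueFieldMap t}
  have hC : ∀ i, Finite (C i) := fun i => by
    let := (f.residueFieldMap (y i)).hom.toAlgebra
    let := ((S.residueFieldCongr (hyt i)).hom ≫ g.residueFieldMap t).hom.toAlgebra
    have : FiniteDimensional (S.residueField (f (y i))) (Y.residueField (y i)) :=
      ((stalk_unramified_iff f (y i)).mp (FormallyUnramified.stalkMap f (y i))).2.1
    refine Finite.of_injective (β := Y.residueField (y i) →ₐ[S.residueField (f (y i))] U.residueField t)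
      (fun σ => { σ.1.hom with
        commutes' := fun r => RingHom.congr_fun (congrArg CommRingCat.Hom.hom σ.2) r }) ?_
    intro σ τ hστ
    exact Subtype.ext (CommRingCat.hom_ext (RingHom.ext fun a => AlgHom.congr_fun hστ a))
  have hw : ∀ (i : ι) (σ : C i), (Spec.map σ.1 ≫ Y.fromSpecResidueField (y i)) ≫ f =
      U.fromSpecResidueField t ≫ g := fun i σ => by
    rw [Category.assoc, ← Scheme.Hom.SpecMap_residueFieldMap_fromSpecResidueField, ← Spec.map_comp_assoc,
      σ.2, Spec.map_comp, Category.assoc, Scheme.residueFieldCongr_fromSpecResidueField,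
      Scheme.Hom.SpecMap_residueFieldMap_fromSpecResidueField]
  let c : Spec (U.residueField t) := IsLocalRing.closedPoint _
  refine (Set.finite_range fun z : Σ i, C i => pullback.lift _ _ (hw z.1 z.2) c).subset ?_
  rintro v ⟨ht, i, hi⟩
  obtain ⟨-, σ, hσ, h, h1, h2, z, hz⟩ := exists_hom_of_splits f g v (y i) t hi ht (hyt i) (H i)
  refine ⟨⟨i, σ, hσ⟩, ?_⟩
  have : pullback.lift _ _ (hw i ⟨σ, hσ⟩) = h := by
    apply pullback.hom_ext
    · exact (pullback.lift_fst _ _ _).trans h1.symm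
    · exact (pullback.lift_snd _ _ _).trans h2.symm
  have hzc : z = c := Subsingleton.elim (α := PrimeSpectrum (U.residueField t)) _ _
  rw [← hz, hzc]
  exact congrArg (fun F : Spec (U.residueField t) ⟶ pullback f g => F c) this

/-- A common refinement of finitely many etale neighbourhoods. -/
theorem exists_common_nbhd {U₁ : Scheme.{u}} (u₁ : U₁) {K : Type*} [Finite K]
    (T : K → Scheme.{u}) (g : ∀ k, T k ⟶ U₁) (t : ∀ k, T k) (hg : ∀ k, Etale (g k))
    (ht : ∀ k, g k (t k) = u₁) :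
    ∃ (U : Scheme.{u}) (h : U ⟶ U₁) (w : U), Etale h ∧ h w = u₁ ∧
      ∀ k, ∃ m : U ⟶ T k, m ≫ g k = h ∧ m w = t k := by
  classical
  cases nonempty_fintype K
  suffices ∀ s : Finset K, ∃ (U : Scheme.{u}) (h : U ⟶ U₁) (w : U), Etale h ∧ h w = u₁ ∧
      ∀ k ∈ s, ∃ m : U ⟶ T k, m ≫ g k = h ∧ m w = t k by
    obtain ⟨U, h, w, h1, h2, h3⟩ := this Finset.univ
    exact ⟨U, h, w, h1, h2, fun k => h3 k (Finset.mem_univ k)⟩
  intro s
  induction s using Finset.induction with
  | empty => exact ⟨U₁, 𝟙 _, u₁, inferInstance, rfl, fun k hk => absurd hk (Finset.notMem_empty k)⟩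
  | insert a s _ ih =>
    obtain ⟨U, h, w, hh, hw, hm⟩ := ih
    obtain ⟨w', hw1, hw2⟩ := Scheme.Pullback.exists_preimage_pullback (f := h) (g := g a) w (t a)
      (hw.trans (ht a).symm)
    have := hg a
    refine ⟨pullback h (g a), pullback.fst h (g a) ≫ h, w', inferInstance, ?_, fun k hk => ?_⟩
    · rw [Scheme.Hom.comp_apply, hw1, hw]
    · rcases Finset.mem_insert.mp hk with rfl | hk
      · exact ⟨pullback.snd _ _, pullback.condition.symm, hw2⟩
      · obtain ⟨m, hm1, hm2⟩ := hm k hk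
        exact ⟨pullback.fst _ _ ≫ m, by rw [Category.assoc, hm1], by rw [Scheme.Hom.comp_apply, hw1, hm2]⟩

theorem exists_charts_of_formallyUnramified (f : Y ⟶ S) [LocallyOfFiniteType f]
    [FormallyUnramified f] (s : S) {ι : Type} [Finite ι] (y : ι → Y) (hy : ∀ i, f (y i) = s) :
    ∃ (U : Scheme.{u}) (g : U ⟶ S) (w₀ : U), Etale g ∧ g w₀ = s ∧
      {v : ↑(pullback f g) | pullback.snd f g v = w₀ ∧ ∃ i, pullback.fst f g v = y i}.Finite ∧
      ∀ v : ↑(pullback f g), pullback.snd f g v = w₀ → (∃ i, pullback.fst f g v = y i) →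
        ∃ V : (pullback f g).Opens, v ∈ V ∧ IsClosedImmersion (V.ι ≫ pullback.snd f g) := by
  obtain ⟨U₁, g₁, u₁, hg₁, hu₁, H⟩ := exists_splitting_nbhd f s y hy
  obtain ⟨hfin, hrat⟩ := finite_and_rational_of_splits f g₁ u₁ y
    (fun i => (hy i).trans hu₁.symm) H
  let K := {v : ↑(pullback f g₁) // pullback.snd f g₁ v = u₁ ∧ ∃ i, pullback.fst f g₁ v = y i}
  have : Finite K := hfin.to_subtype
  have : FormallyUnramified (pullback.snd f g₁) := MorphismProperty.pullback_snd _ _ inferInstance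
  have hc := fun k : K => exists_chart_of_rational (pullback.snd f g₁) k.1 (hrat k.1 k.2.1 k.2.2)
  choose T gT t V hT htu hV huniq using hc
  obtain ⟨U, h, w₀, hh, hw₀, hm⟩ := exists_common_nbhd u₁ T gT t hT
    (fun k => (htu k).trans k.2.1)
  choose m hm1 hm2 using hm
  have hgw : (h ≫ g₁) w₀ = s := by rw [Scheme.Hom.comp_apply, hw₀, hu₁]
  let n₁ : pullback f (h ≫ g₁) ⟶ pullback f g₁ :=
    pullback.lift (pullback.fst _ _) (pullback.snd _ _ ≫ h)
      (by rw [Category.assoc, pullback.condition])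
  let n : ∀ k, pullback f (h ≫ g₁) ⟶ pullback (pullback.snd f g₁) (gT k) := fun k =>
    pullback.lift n₁ (pullback.snd _ _ ≫ m k) (by rw [pullback.lift_snd, Category.assoc, hm1])
  have hn₁ : IsPullback n₁ (pullback.snd f (h ≫ g₁)) (pullback.snd f g₁) h := by
    refine .of_right ?_ (pullback.lift_snd _ _ _) (IsPullback.of_hasPullback f g₁)
    rw [show n₁ ≫ pullback.fst f g₁ = pullback.fst _ _ from pullback.lift_fst _ _ _]
    exact IsPullback.of_hasPullback f (h ≫ g₁)
  have hn : ∀ k, IsPullback (n k) (pullback.snd f (h ≫ g₁)) (pullback.snd (pullback.snd f g₁) (gT k)) (m k) := by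
    intro k
    refine .of_right ?_ (pullback.lift_snd _ _ _) (IsPullback.of_hasPullback (pullback.snd f g₁) (gT k))
    rw [show n k ≫ pullback.fst (pullback.snd f g₁) (gT k) = n₁ from pullback.lift_fst _ _ _, hm1]
    exact hn₁
  let V' : K → (pullback f (h ≫ g₁)).Opens := fun k => n k ⁻¹ᵁ V k
  have hV' : ∀ k, IsClosedImmersion ((V' k).ι ≫ pullback.snd f (h ≫ g₁)) := fun k => by
    have hsq : IsPullback (n k ∣_ V k) ((V' k).ι ≫ pullback.snd f (h ≫ g₁))
        ((V k).ι ≫ pullback.snd (pullback.snd f g₁) (gT k)) (m k) :=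
      (isPullback_morphismRestrict (n k) (V k)).paste_vert (hn k)
    exact MorphismProperty.of_isPullback hsq (hV k)
  have hmem : ∀ v : ↑(pullback f (h ≫ g₁)), pullback.snd f (h ≫ g₁) v = w₀ →
      (∃ i, pullback.fst f (h ≫ g₁) v = y i) → ∃ k : K, v ∈ V' k := fun v hv ⟨i, hi⟩ => by
    have h1 : pullback.fst f g₁ (n₁ v) = y i := by
      rw [← Scheme.Hom.comp_apply, pullback.lift_fst]; exact hi
    have h2 : pullback.snd f g₁ (n₁ v) = u₁ := by
      rw [← Scheme.Hom.comp_apply, pullback.lift_snd, Scheme.Hom.comp_apply, hv, hw₀]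
    let k : K := ⟨n₁ v, h2, i, h1⟩
    refine ⟨k, huniq k (n k v) ?_ ?_⟩
    · rw [← Scheme.Hom.comp_apply, pullback.lift_fst]
    · rw [← Scheme.Hom.comp_apply, pullback.lift_snd, Scheme.Hom.comp_apply, hv, hm2]
  refine ⟨U, h ≫ g₁, w₀, inferInstance, hgw, ?_, fun v hv hi => ?_⟩
  · refine (Set.finite_iUnion fun k : K =>
      Set.Subsingleton.finite (s := {v | v ∈ V' k ∧ pullback.snd f (h ≫ g₁) v = w₀}) ?_).subset ?_
    · rintro v ⟨hvV, hv⟩ v' ⟨hv'V, hv'⟩
      have := hV' k
      exact congrArg Subtype.val (((V' k).ι ≫ pullback.snd f (h ≫ g₁)).isClosedEmbedding.injective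
        (a₁ := ⟨v, hvV⟩) (a₂ := ⟨v', hv'V⟩) (hv.trans hv'.symm))
    · rintro v ⟨hv, hi⟩
      obtain ⟨k, hk⟩ := hmem v hv hi
      exact Set.mem_iUnion.mpr ⟨k, hk, hv⟩
  · obtain ⟨k, hk⟩ := hmem v hv hi
    exact ⟨V' k, hk, hV' k⟩

/-- Over an etale neighbourhood, the unramified points over `s` are cut out by closed
immersions; an arbitrary open containing them may be prescribed. -/
theorem exists_charts (f : X ⟶ S) (s : S) {ι : Type} [Finite ι] (x : ι → X) (hs : ∀ i, f (x i) = s)
    (hx : ∀ i, ∃ W : X.Opens, x i ∈ W ∧ LocallyOfFiniteType (W.ι ≫ f) ∧ FormallyUnramified (W.ι ≫ f)) :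
    ∃ (U : Scheme.{u}) (g : U ⟶ S) (u : U), Etale g ∧ g u = s ∧
      {v : ↑(pullback f g) | pullback.snd f g v = u ∧ ∃ i, pullback.fst f g v = x i}.Finite ∧
      ∀ v : ↑(pullback f g), pullback.snd f g v = u → (∃ i, pullback.fst f g v = x i) →
        ∃ V : (pullback f g).Opens, v ∈ V ∧ IsClosedImmersion (V.ι ≫ pullback.snd f g) := by
  choose W hxW hWft hWur using hx
  let Y : X.Opens := ⨆ i, W i
  let 𝒰 : ∀ i, (W i).toScheme ⟶ Y.toScheme := fun i => X.homOfLE (le_iSup W i)
  have hft : LocallyOfFiniteType (Y.ι ≫ f) := by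
    refine IsZariskiLocalAtSource.of_openCover (P := @LocallyOfFiniteType)
      (.mkOfCovers ι (fun i => (W i).toScheme) 𝒰 ?_ inferInstance) fun i => ?_
    · rintro ⟨z, hz⟩
      obtain ⟨i, hi⟩ := TopologicalSpace.Opens.mem_iSup.mp hz
      exact ⟨i, ⟨z, hi⟩, Y.ι.isOpenEmbedding.injective
        (by rw [← Scheme.Hom.comp_apply, X.homOfLE_ι]; rfl)⟩
    · show LocallyOfFiniteType (𝒰 i ≫ Y.ι ≫ f)
      rw [X.homOfLE_ι_assoc]
      exact hWft i
  have hur : FormallyUnramified (Y.ι ≫ f) := by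
    refine IsZariskiLocalAtSource.of_openCover (P := @FormallyUnramified)
      (.mkOfCovers ι (fun i => (W i).toScheme) 𝒰 ?_ inferInstance) fun i => ?_
    · rintro ⟨z, hz⟩
      obtain ⟨i, hi⟩ := TopologicalSpace.Opens.mem_iSup.mp hz
      exact ⟨i, ⟨z, hi⟩, Y.ι.isOpenEmbedding.injective
        (by rw [← Scheme.Hom.comp_apply, X.homOfLE_ι]; rfl)⟩
    · show FormallyUnramified (𝒰 i ≫ Y.ι ≫ f)
      rw [X.homOfLE_ι_assoc]
      exact hWur i
  let y : ι → Y.toScheme := fun i => ⟨x i, TopologicalSpace.Opens.mem_iSup.mpr ⟨i, hxW i⟩⟩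
  obtain ⟨U, g, u, hg, hu, hfin, hV⟩ := exists_charts_of_formallyUnramified (Y.ι ≫ f) s y hs
  let j : pullback (Y.ι ≫ f) g ⟶ pullback f g :=
    pullback.map _ _ _ _ Y.ι (𝟙 _) (𝟙 _) (by simp) (by simp)
  have : IsOpenImmersion j := by dsimp only [j]; infer_instance
  have hj1 : j ≫ pullback.fst f g = pullback.fst (Y.ι ≫ f) g ≫ Y.ι := pullback.lift_fst _ _ _
  have hj2 : j ≫ pullback.snd f g = pullback.snd (Y.ι ≫ f) g :=
    (pullback.lift_snd _ _ _).trans (Category.comp_id _)
  have hpre : ∀ v : ↑(pullback f g), (∃ i, pullback.fst f g v = x i) → pullback.snd f g v = u →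
      ∃ v', j v' = v ∧ pullback.snd (Y.ι ≫ f) g v' = u ∧ ∃ i, pullback.fst (Y.ι ≫ f) g v' = y i := by
    intro v ⟨i, hi⟩ hv
    have : v ∈ Set.range j := by
      rw [Scheme.Pullback.range_map]
      exact ⟨⟨y i, hi.symm⟩, ⟨_, rfl⟩⟩
    obtain ⟨v', rfl⟩ := this
    rw [← Scheme.Hom.comp_apply, hj1] at hi
    rw [← Scheme.Hom.comp_apply, hj2] at hv
    exact ⟨v', rfl, hv, i, Y.ι.isOpenEmbedding.injective hi⟩
  refine ⟨U, g, u, hg, hu, (hfin.image j).subset ?_, fun v hv hi => ?_⟩
  · rintro v ⟨hv, hi⟩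
    obtain ⟨v', rfl, h1, h2⟩ := hpre v hi hv
    exact ⟨v', ⟨h1, h2⟩, rfl⟩
  · obtain ⟨v', rfl, h1, h2⟩ := hpre v hi hv
    obtain ⟨V, hvV, hVc⟩ := hV v' h1 h2
    refine ⟨j ''ᵁ V, ⟨v', hvV, rfl⟩, ?_⟩
    have e : (j ''ᵁ V).ι = (j.isoImage V).inv ≫ V.ι ≫ j := by
      rw [Iso.eq_inv_comp, Scheme.Hom.isoImage_hom_ι]
    rw [e, Category.assoc, Category.assoc, hj2]
    infer_instance

end Groth.Agent.H9Hens
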