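import Groth.Agent.H9Hens.ProperPair
import Mathlib.Topology.NoetherianSpace
import Mathlib.Topology.Connected.Clopen

/-!
Connectedness consequences of unique lifting of clopens.
-/

set_option autoImplicit false
universe u

open CategoryTheory CategoryTheory.Limits AlgebraicGeometry

namespace Groth.Agent.H9Hens.ProperPairApps

variable {P Y : Type u} [TopologicalSpace P] [TopologicalSpace Y] {e : P → Y}

theorem connectedSpace_iff (he : Continuous e)
    (h : ∀ V : Set P, IsClopen V → ∃! U : Set Y, IsClopen U ∧ e ⁻¹' U = V) :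
    ConnectedSpace Y ↔ ConnectedSpace P := by
  have hne : Nonempty Y → Nonempty P := fun hY => by
    by_contra hP
    haveI : IsEmpty P := not_nonempty_iff.1 hP
    obtain ⟨U, -, hu⟩ := h ∅ isClopen_empty
    have he1 : (Set.univ : Set Y) = ∅ :=
      (hu _ ⟨isClopen_univ, Set.eq_empty_of_isEmpty _⟩).trans (hu _ ⟨isClopen_empty, Set.preimage_empty⟩).symm
    exact Set.empty_ne_univ (α := Y) he1.symm
  constructor
  · intro hY
    refine { toNonempty := hne hY.toNonempty, toPreconnectedSpace := preconnectedSpace_iff_clopen.2 fun s hs => ?_ }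
    obtain ⟨U, ⟨hUc, rfl⟩, -⟩ := h s hs
    rcases isClopen_iff.1 hUc with rfl | rfl
    · exact Or.inl Set.preimage_empty
    · exact Or.inr Set.preimage_univ
  · intro hP
    refine { toNonempty := hP.toNonempty.map e, toPreconnectedSpace := preconnectedSpace_iff_clopen.2 fun s hs => ?_ }
    obtain ⟨U, -, hu⟩ := h (e ⁻¹' s) (hs.preimage he)
    rcases isClopen_iff.1 (hs.preimage he) with h0 | h0
    · exact Or.inl ((hu s ⟨hs, rfl⟩).trans (hu ∅ ⟨isClopen_empty, by rw [Set.preimage_empty, h0]⟩).symm)
    · exact Or.inr ((hu s ⟨hs, rfl⟩).trans (hu Set.univ ⟨isClopen_univ, by rw [Set.preimage_univ, h0]⟩).symm)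

theorem isClopen_connectedComponent_of_noetherian [TopologicalSpace.NoetherianSpace Y] (y : Y) :
    IsClopen (connectedComponent y) := by
  refine ⟨isClosed_connectedComponent, ?_⟩
  have hc : (connectedComponent y)ᶜ =
      ⋃ T ∈ {T ∈ irreducibleComponents Y | ¬ T ⊆ connectedComponent y}, T := by
    ext z
    simp only [Set.mem_compl_iff, Set.mem_iUnion, Set.mem_ofPred_eq, exists_prop]
    refine ⟨fun hz => ⟨irreducibleComponent z, ⟨irreducibleComponent_mem_irreducibleComponents z,
      fun hle => hz (hle mem_irreducibleComponent)⟩, mem_irreducibleComponent⟩, ?_⟩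
    rintro ⟨T, ⟨hT, hnle⟩, hzT⟩ hz
    refine hnle ?_
    rw [connectedComponent_eq hz]
    exact hT.1.isConnected.isPreconnected.subset_connectedComponent hzT
  rw [← isClosed_compl_iff, hc]
  exact (TopologicalSpace.NoetherianSpace.finite_irreducibleComponents.subset (Set.sep_subset _ _)).isClosed_biUnion
    fun T hT => isClosed_of_mem_irreducibleComponents T hT.1

theorem bijective_connectedComponentsMap [TopologicalSpace.NoetherianSpace Y] [TopologicalSpace.NoetherianSpace P]
    (he : Continuous e) (h : ∀ V : Set P, IsClopen V → ∃! U : Set Y, IsClopen U ∧ e ⁻¹' U = V) :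
    Function.Bijective he.connectedComponentsMap := by
  constructor
  · intro a b hab
    obtain ⟨x, rfl⟩ := ConnectedComponents.surjective_coe a
    obtain ⟨y, rfl⟩ := ConnectedComponents.surjective_coe b
    rw [ConnectedComponents.coe_eq_coe']
    obtain ⟨U, ⟨hUc, hU⟩, -⟩ := h _ (isClopen_connectedComponent_of_noetherian y)
    have hab' : connectedComponent (e x) = connectedComponent (e y) := ConnectedComponents.coe_eq_coe.1 hab
    have hy : e y ∈ U := hU.ge mem_connectedComponent
    have hx : e x ∈ U := hUc.connectedComponent_subset hy (hab' ▸ mem_connectedComponent)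
    exact hU.le hx
  · intro a
    obtain ⟨y, rfl⟩ := ConnectedComponents.surjective_coe a
    by_contra hcon
    have h0 : e ⁻¹' connectedComponent y = ∅ := Set.eq_empty_of_forall_notMem fun x hx =>
      hcon ⟨x, ConnectedComponents.coe_eq_coe'.2 hx⟩
    obtain ⟨U, -, hu⟩ := h ∅ isClopen_empty
    have h1 := (hu _ ⟨isClopen_connectedComponent_of_noetherian y, h0⟩).trans (hu _ ⟨isClopen_empty, Set.preimage_empty⟩).symm
    exact Set.eq_empty_iff_forall_notMem.1 h1 y mem_connectedComponent

/-- The range of the projection from the closed fibre. -/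
theorem range_fst_quotient {A : Type u} [CommRing A] (I : Ideal A) {X : Scheme.{u}} (f : X ⟶ Spec (CommRingCat.of A)) :
    Set.range (pullback.fst f (Spec.map (CommRingCat.ofHom (Ideal.Quotient.mk I)))) =
      f ⁻¹' PrimeSpectrum.zeroLocus (I : Set A) := by
  rw [Scheme.Pullback.range_fst]
  congr 1
  show Set.range (PrimeSpectrum.comap (Ideal.Quotient.mk I)) = _
  rw [range_comap_of_surjective _ _ Ideal.Quotient.mk_surjective, Ideal.mk_ker]

/-- The closed fibre of a proper scheme over a henselian pair. -/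
theorem henselian_couple_fibre {A : Type u} [CommRing A] (I : Ideal A) [HenselianRing A I] {X : Scheme.{u}}
    (f : X ⟶ Spec (CommRingCat.of A)) [IsProper f] :
    ∀ (Y : Scheme.{u}) (g : Y ⟶ X), IsFinite g →
      ∀ V : Set ↥(pullback g (pullback.fst f (Spec.map (CommRingCat.ofHom (Ideal.Quotient.mk I))))), IsClopen V →
        ∃! U : Set ↥Y, IsClopen U ∧
          (pullback.fst g (pullback.fst f (Spec.map (CommRingCat.ofHom (Ideal.Quotient.mk I))))).base ⁻¹' U = V := by
  haveI : IsClosedImmersion (Spec.map (CommRingCat.ofHom (Ideal.Quotient.mk I))) :=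
    IsClosedImmersion.spec_of_surjective _ Ideal.Quotient.mk_surjective
  exact ProperPair.henselian_couple I f _ (range_fst_quotient I f)

theorem uniqueLift_fibre {A : Type u} [CommRing A] (I : Ideal A) [HenselianRing A I] {X : Scheme.{u}}
    (f : X ⟶ Spec (CommRingCat.of A)) [IsProper f]
    (V : Set ↥(pullback f (Spec.map (CommRingCat.ofHom (Ideal.Quotient.mk I))))) (hV : IsClopen V) :
    ∃! U : Set ↥X, IsClopen U ∧ (pullback.fst f (Spec.map (CommRingCat.ofHom (Ideal.Quotient.mk I)))).base ⁻¹' U = V := by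
  haveI : IsClosedImmersion (Spec.map (CommRingCat.ofHom (Ideal.Quotient.mk I))) :=
    IsClosedImmersion.spec_of_surjective _ Ideal.Quotient.mk_surjective
  set i := pullback.fst f (Spec.map (CommRingCat.ofHom (Ideal.Quotient.mk I)))
  have h := henselian_couple_fibre I f X (𝟙 X) inferInstance ((pullback.snd (𝟙 X) i).base ⁻¹' V)
    (hV.preimage (pullback.snd (𝟙 X) i).continuous)
  have e : ∀ U : Set ↥X, (pullback.fst (𝟙 X) i).base ⁻¹' U = (pullback.snd (𝟙 X) i).base ⁻¹' V ↔ i.base ⁻¹' U = V := by
    intro U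
    have hc : pullback.fst (𝟙 X) i = pullback.snd (𝟙 X) i ≫ i := by rw [← pullback.condition, Category.comp_id]
    rw [hc, Scheme.Hom.comp_base, TopCat.coe_comp, Set.preimage_comp]
    exact (pullback.snd (𝟙 X) i).surjective.preimage_injective.eq_iff
  obtain ⟨U, hU, hu⟩ := h
  exact ⟨U, ⟨hU.1, (e U).1 hU.2⟩, fun U' hU' => hu U' ⟨hU'.1, (e U').2 hU'.2⟩⟩

end Groth.Agent.H9Hens.ProperPairApps
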