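import Mathlib
import Groth.Agent.H02CA.CompletionFlat
import Groth.Agent.H24Adic.Basic

/-!
Unramified and etale local homomorphisms on completions.
-/

universe u

open IsLocalRing

namespace Groth.Agent.H9Hens

theorem finite_residueField_of_formallyUnramified (R S : Type u) [CommRing R] [CommRing S]
    [IsLocalRing R] [IsLocalRing S] [Algebra R S] [IsLocalHom (algebraMap R S)]
    [Algebra.EssFiniteType R S] [Algebra.FormallyUnramified R S] :
    Module.Finite (ResidueField R) (ResidueField S) :=
  Algebra.FormallyUnramified.finite_of_free _ _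

variable {A B : Type u} [CommRing A] [CommRing B] [IsLocalRing A] [IsLocalRing B]
  [IsNoetherianRing A] [IsNoetherianRing B] [Algebra A B] [IsLocalHom (algebraMap A B)]
  (ψ : AdicCompletion (maximalIdeal A) A →+* AdicCompletion (maximalIdeal B) B)
  (hψ : ψ.comp (algebraMap A (AdicCompletion (maximalIdeal A) A)) =
    (algebraMap B (AdicCompletion (maximalIdeal B) B)).comp (algebraMap A B))

include hψ

omit [IsLocalHom (algebraMap A B)] in
theorem map_maximalIdeal_completion_iff :
    (maximalIdeal (AdicCompletion (maximalIdeal A) A)).map ψ =
        maximalIdeal (AdicCompletion (maximalIdeal B) B) ↔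
      (maximalIdeal A).map (algebraMap A B) = maximalIdeal B := by
  have hff : Module.FaithfullyFlat B (AdicCompletion (maximalIdeal B) B) :=
    Module.FaithfullyFlat.of_flat_of_isLocalHom
  rw [AdicCompletion.maximalIdeal_eq_map, Ideal.map_map, hψ, ← Ideal.map_map,
    AdicCompletion.maximalIdeal_eq_map]
  refine ⟨fun h => ?_, fun h => congrArg (Ideal.map _) h⟩
  have := congrArg (Ideal.comap (algebraMap B (AdicCompletion (maximalIdeal B) B))) h
  rwa [Ideal.comap_map_eq_self_of_faithfullyFlat, Ideal.comap_map_eq_self_of_faithfullyFlat] at this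

theorem finite_completion (hm : (maximalIdeal A).map (algebraMap A B) = maximalIdeal B)
    [Module.Finite (ResidueField A) (ResidueField B)] : ψ.Finite := by
  let := ψ.toAlgebra
  let Ah := AdicCompletion (maximalIdeal A) A
  let Bh := AdicCompletion (maximalIdeal B) B
  let I := maximalIdeal Ah
  have hI : I.map (algebraMap Ah Bh) = maximalIdeal Bh :=
    (map_maximalIdeal_completion_iff ψ hψ).mpr hm
  have hH : IsHausdorff I Bh := ⟨fun x hx => by
    refine IsHausdorff.haus (I := maximalIdeal Bh) inferInstance x fun n => ?_
    have := hx n
    rw [SModEq.zero, Ideal.smul_top_eq_map, Ideal.map_pow, hI] at this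
    rw [SModEq.zero, smul_eq_mul, Ideal.mul_top]
    exact this⟩
  obtain ⟨n, s, hs⟩ := Module.Finite.exists_fin (R := ResidueField A) (M := ResidueField B)
  choose b hb using fun i => residue_surjective (R := B) (s i)
  have key : Submodule.span Ah (Set.range fun i => algebraMap B Bh (b i)) ⊔
      I • (⊤ : Submodule Ah Bh) = ⊤ := by
    refine top_le_iff.mp fun z _ => ?_
    obtain ⟨c, hc⟩ := (AdicCompletion.residueField_map_bijective B).2 (residue _ z)
    obtain ⟨y, rfl⟩ := residue_surjective c
    rw [ResidueField.map_residue] at hc
    have h1 : residue B y ∈ Submodule.span (ResidueField A) (Set.range s) := hs ▸ Submodule.mem_top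
    obtain ⟨c, hc1⟩ := (Submodule.mem_span_range_iff_exists_fun _).mp h1
    choose a ha using fun i => residue_surjective (R := A) (c i)
    refine Submodule.mem_sup.mpr ⟨∑ i, algebraMap A Ah (a i) • algebraMap B Bh (b i), ?_,
      z - ∑ i, algebraMap A Ah (a i) • algebraMap B Bh (b i), ?_, add_sub_cancel _ _⟩
    · exact Submodule.sum_mem _ fun i _ => Submodule.smul_mem _ _ (Submodule.subset_span ⟨i, rfl⟩)
    · rw [Ideal.smul_top_eq_map, hI, Submodule.restrictScalars_mem, ← residue_eq_zero_iff, map_sub,
        map_sum, sub_eq_zero, ← hc, ← ResidueField.map_residue, ← hc1, map_sum]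
      refine Finset.sum_congr rfl fun i _ => ?_
      rw [Algebra.smul_def, Algebra.smul_def, map_mul, map_mul, ← ha, ← hb,
        ResidueField.algebraMap_residue, ResidueField.map_residue, ResidueField.map_residue]
      congr 2
      exact (RingHom.congr_fun hψ (a i)).symm
  have := H24Adic.span_eq_top_of_sup_smul_eq_top I _ key
  exact ⟨this ▸ Submodule.fg_span (Set.finite_range _)⟩

theorem residue_finite_separable_of_completion
    (h : letI := ψ.toAlgebra; ∀ [IsLocalHom (algebraMap (AdicCompletion (maximalIdeal A) A)
        (AdicCompletion (maximalIdeal B) B))],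
      Module.Finite (ResidueField (AdicCompletion (maximalIdeal A) A))
          (ResidueField (AdicCompletion (maximalIdeal B) B)) ∧
        Algebra.IsSeparable (ResidueField (AdicCompletion (maximalIdeal A) A))
          (ResidueField (AdicCompletion (maximalIdeal B) B))) :
    Module.Finite (ResidueField A) (ResidueField B) ∧
      Algebra.IsSeparable (ResidueField A) (ResidueField B) := by
  let := ψ.toAlgebra
  have := H02CA.isLocalHom_completion (algebraMap A B) ψ hψ
  have : IsLocalHom (algebraMap (AdicCompletion (maximalIdeal A) A)
      (AdicCompletion (maximalIdeal B) B)) := this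
  obtain ⟨hfin, hsep⟩ := h
  let eA := RingEquiv.ofBijective _ (AdicCompletion.residueField_map_bijective A)
  let eB := RingEquiv.ofBijective _ (AdicCompletion.residueField_map_bijective B)
  have he : RingHom.comp (algebraMap (ResidueField A) (ResidueField B)) eA.symm.toRingHom =
      RingHom.comp eB.symm.toRingHom (algebraMap (ResidueField (AdicCompletion (maximalIdeal A) A))
        (ResidueField (AdicCompletion (maximalIdeal B) B))) := by
    refine RingHom.ext fun x => ?_
    obtain ⟨y, rfl⟩ := eA.surjective x
    obtain ⟨a, rfl⟩ := residue_surjective y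
    refine eB.injective ?_
    change eB (algebraMap (ResidueField A) (ResidueField B) (eA.symm (eA (residue A a)))) =
      eB (eB.symm (algebraMap _ _ (eA (residue A a))))
    rw [RingEquiv.symm_apply_apply, RingEquiv.apply_symm_apply]
    simp only [eA, eB, RingEquiv.ofBijective_apply, ResidueField.algebraMap_residue,
      ResidueField.map_residue]
    exact congrArg (residue _) (RingHom.congr_fun hψ a).symm
  exact ⟨Module.Finite.of_equiv_equiv eA.symm eB.symm he,
    Algebra.IsSeparable.of_equiv_equiv eA.symm eB.symm he⟩

theorem residue_finite_separable_to_completion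
    [Module.Finite (ResidueField A) (ResidueField B)]
    [Algebra.IsSeparable (ResidueField A) (ResidueField B)] :
    letI := ψ.toAlgebra; ∀ [IsLocalHom (algebraMap (AdicCompletion (maximalIdeal A) A)
        (AdicCompletion (maximalIdeal B) B))],
      Algebra.IsSeparable (ResidueField (AdicCompletion (maximalIdeal A) A))
          (ResidueField (AdicCompletion (maximalIdeal B) B)) := by
  let := ψ.toAlgebra
  intro _
  refine Algebra.IsSeparable.of_equiv_equiv
    (RingEquiv.ofBijective _ (AdicCompletion.residueField_map_bijective A))
    (RingEquiv.ofBijective _ (AdicCompletion.residueField_map_bijective B)) ?_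
  refine Ideal.Quotient.ringHom_ext (RingHom.ext fun a => ?_)
  exact congrArg (residue _) (RingHom.congr_fun hψ a)

theorem unramified_completion_iff :
    ((maximalIdeal A).map (algebraMap A B) = maximalIdeal B ∧
        Module.Finite (ResidueField A) (ResidueField B) ∧
        Algebra.IsSeparable (ResidueField A) (ResidueField B)) ↔
      (ψ.FiniteType ∧ ψ.FormallyUnramified) := by
  let := ψ.toAlgebra
  have := H02CA.isLocalHom_completion (algebraMap A B) ψ hψ
  have hloc : IsLocalHom (algebraMap (AdicCompletion (maximalIdeal A) A)
      (AdicCompletion (maximalIdeal B) B)) := this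
  constructor
  · rintro ⟨hm, hfin, hsep⟩
    have hF := finite_completion ψ hψ hm
    have : Module.Finite (AdicCompletion (maximalIdeal A) A) (AdicCompletion (maximalIdeal B) B) := hF
    have := residue_finite_separable_to_completion ψ hψ
    exact ⟨RingHom.FiniteType.of_finite hF, Algebra.FormallyUnramified.iff_map_maximalIdeal_eq.mpr
      ⟨this, (map_maximalIdeal_completion_iff ψ hψ).mpr hm⟩⟩
  · rintro ⟨hft, hfu⟩
    have : Algebra.FiniteType (AdicCompletion (maximalIdeal A) A)
      (AdicCompletion (maximalIdeal B) B) := hft
    have : Algebra.FormallyUnramified (AdicCompletion (maximalIdeal A) A)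
      (AdicCompletion (maximalIdeal B) B) := hfu
    obtain ⟨hsep, hm⟩ := Algebra.FormallyUnramified.iff_map_maximalIdeal_eq.mp this
    exact ⟨(map_maximalIdeal_completion_iff ψ hψ).mp hm,
      residue_finite_separable_of_completion ψ hψ ⟨finite_residueField_of_formallyUnramified _ _, hsep⟩⟩

end Groth.Agent.H9Hens
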