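import Groth.Agent.H8Props.Stein.Connected
import Groth.Agent.H9Hens.SchemeSections
import Groth.Agent.H9Hens.Pair
import Groth.Agent.H9Hens.Idem

/-!
Proper schemes over henselian pairs give henselian couples.
-/

set_option autoImplicit false
set_option linter.style.haveILetI false
universe u

open CategoryTheory CategoryTheory.Limits AlgebraicGeometry

namespace Groth.Agent.H9Hens.ProperPair

theorem exists_clopen_eq_preimage {Y N : Type u} [TopologicalSpace Y] [TopologicalSpace N] (π : Y → N)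
    (hcl : IsClosedMap π) (hsurj : Function.Surjective π) (hconn : ∀ n, IsPreconnected (π ⁻¹' {n}))
    (U : Set Y) (hU : IsClopen U) : ∃ W : Set N, IsClopen W ∧ π ⁻¹' W = U := by
  have hsat : π ⁻¹' (π '' U) = U := by
    refine Set.Subset.antisymm ?_ (Set.subset_preimage_image π U)
    rintro y ⟨u, hu, huy⟩
    exact (hconn (π y)).subset_isClopen hU ⟨u, huy, hu⟩ rfl
  refine ⟨π '' U, ⟨hcl _ hU.1, ?_⟩, hsat⟩
  have : π '' U = (π '' Uᶜ)ᶜ := by
    ext n
    refine ⟨?_, fun hn => ?_⟩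
    · rintro ⟨u, hu, rfl⟩ ⟨v, hv, hvu⟩
      have : v ∈ π ⁻¹' (π '' U) := ⟨u, hu, hvu.symm⟩
      rw [hsat] at this
      exact hv this
    · obtain ⟨y, rfl⟩ := hsurj n
      exact ⟨y, by_contra fun hy => hn ⟨y, hy, rfl⟩, rfl⟩
  rw [this]
  exact (hcl _ hU.compl.1).isOpen_compl

theorem uniqueLift_of_connected_fibres {Y N : Type u} [TopologicalSpace Y] [TopologicalSpace N] (π : Y → N)
    (hc : Continuous π) (hcl : IsClosedMap π) (hsurj : Function.Surjective π)
    (hconn : ∀ n, IsConnected (π ⁻¹' {n})) (Z : Set N)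
    (h : ∀ V : Set Z, IsClopen V → ∃! W : Set N, IsClopen W ∧ Subtype.val ⁻¹' W = V) :
    ∀ V : Set ↥(π ⁻¹' Z), IsClopen V → ∃! U : Set Y, IsClopen U ∧ Subtype.val ⁻¹' U = V := by
  intro V hV
  have hsurj' : Function.Surjective (Z.restrictPreimage π) := fun n => by
    obtain ⟨y, hy⟩ := hsurj n.1
    exact ⟨⟨y, show π y ∈ Z by rw [hy]; exact n.2⟩, Subtype.ext hy⟩
  have hconn' : ∀ n, IsPreconnected (Z.restrictPreimage π ⁻¹' {n}) := by
    intro n
    rw [← Topology.IsInducing.subtypeVal.isPreconnected_image]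
    have e : Subtype.val '' (Z.restrictPreimage π ⁻¹' {n}) = π ⁻¹' {n.1} := by
      ext y
      refine ⟨?_, fun hy => ⟨⟨y, show π y ∈ Z by rw [show π y = n.1 from hy]; exact n.2⟩, Subtype.ext hy, rfl⟩⟩
      rintro ⟨⟨z, hz⟩, h1, rfl⟩
      exact congrArg Subtype.val h1
    rw [e]
    exact (hconn n.1).isPreconnected
  obtain ⟨V₀, hV₀, hV₀V⟩ := exists_clopen_eq_preimage (Z.restrictPreimage π) (hcl.restrictPreimage Z) hsurj' hconn' V hV
  obtain ⟨W, hW, huniq⟩ := h V₀ hV₀
  refine ⟨π ⁻¹' W, ⟨hW.1.preimage hc, ?_⟩, fun U' hU' => ?_⟩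
  · rw [← hV₀V, ← hW.2]
    rfl
  · obtain ⟨W', hW'c, rfl⟩ := exists_clopen_eq_preimage π hcl hsurj (fun n => (hconn n).isPreconnected) U' hU'.1
    rw [huniq W' ⟨hW'c, ?_⟩]
    apply hsurj'.preimage_injective
    rw [hV₀V, ← hU'.2]
    rfl

theorem eq_of_idem_of_sub_mem {C : Type u} [CommRing C] {I : Ideal C} (hI : I ≤ Ideal.jacobson ⊥) {e e' : C}
    (he : IsIdempotentElem e) (he' : IsIdempotentElem e') (h : e - e' ∈ I) : e = e' := by
  have h3 : (1 - (e - e') * (e - e')) * (e - e') = 0 := by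
    linear_combination (-1 - e + 3 * e') * he.eq + (1 - 3 * e + e') * he'.eq
  have h4 : IsUnit (1 - (e - e') * (e - e')) := by
    have := Ideal.mem_jacobson_bot.1 (hI h) (-(e - e'))
    rw [show 1 - (e - e') * (e - e') = (e - e') * -(e - e') + 1 by ring]
    exact this
  exact sub_eq_zero.1 (h4.mul_right_eq_zero.1 h3)

variable {B : Type u} [CommRing B] (J : Ideal B) [HenselianRing B J]

/-- Clopens of an affine scheme integral over a henselian pair. -/
theorem uniqueLift_integral {N : Scheme.{u}} [IsAffine N] (ρ : N ⟶ Spec (CommRingCat.of B)) [IsIntegralHom ρ] :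
    ∀ V : Set ↥(ρ ⁻¹' PrimeSpectrum.zeroLocus (J : Set B)), IsClopen V →
      ∃! U : Set N, IsClopen U ∧ Subtype.val ⁻¹' U = V := by
  let α : CommRingCat.of B ⟶ Γ(N, ⊤) := (Scheme.ΓSpecIso _).inv ≫ ρ.appTop
  letI : Algebra B Γ(N, ⊤) := α.hom.toAlgebra
  have hα : ρ = N.isoSpec.hom ≫ Spec.map α := by
    refine ext_of_isAffine ?_
    simp [α, Scheme.isoSpec, Scheme.toSpecΓ_appTop]
  haveI : Algebra.IsIntegral B Γ(N, ⊤) := by
    haveI : IsIntegralHom (Spec.map α) := by
      rw [show Spec.map α = N.isoSpec.inv ≫ ρ by rw [hα, Iso.inv_hom_id_assoc]]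
      infer_instance
    exact algebraMap_isIntegral_iff.1 (IsIntegralHom.SpecMap_iff.1 ‹_›)
  let h := N.isoSpec.hom.homeomorph
  let j : ↥(ρ ⁻¹' PrimeSpectrum.zeroLocus (J : Set B)) → PrimeSpectrum Γ(N, ⊤) := fun z => h z.1
  have hr : Set.range j = PrimeSpectrum.zeroLocus ((J.map (algebraMap B Γ(N, ⊤)) : Ideal Γ(N, ⊤)) : Set Γ(N, ⊤)) := by
    have key : ∀ n : N, ρ n ∈ PrimeSpectrum.zeroLocus (J : Set B) ↔
        h n ∈ PrimeSpectrum.zeroLocus ((J.map (algebraMap B Γ(N, ⊤)) : Ideal Γ(N, ⊤)) : Set Γ(N, ⊤)) := by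
      intro n
      have e : ρ n = PrimeSpectrum.comap α.hom (h n) := by rw [hα]; rfl
      have k : ∀ P : PrimeSpectrum Γ(N, ⊤), PrimeSpectrum.comap α.hom P ∈ PrimeSpectrum.zeroLocus (J : Set B) ↔
          P ∈ PrimeSpectrum.zeroLocus ((J.map (algebraMap B Γ(N, ⊤)) : Ideal Γ(N, ⊤)) : Set Γ(N, ⊤)) := fun P => by
        rw [PrimeSpectrum.mem_zeroLocus, PrimeSpectrum.mem_zeroLocus]
        exact Ideal.map_le_iff_le_comap.symm
      rw [e]
      exact k (h n)
    ext q
    refine ⟨?_, fun hq => ⟨⟨h.symm q, (key _).2 (by rwa [h.apply_symm_apply])⟩, h.apply_symm_apply q⟩⟩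
    rintro ⟨⟨n, hn⟩, rfl⟩
    exact (key n).1 hn
  have hj : Topology.IsClosedEmbedding j :=
    h.isClosedEmbedding.comp ((PrimeSpectrum.isClosed_zeroLocus _).preimage ρ.continuous).isClosedEmbedding_subtypeVal
  have H := (clopen_lift_iff (J.map (algebraMap B Γ(N, ⊤))) j hj hr).2 fun b hb => by
    obtain ⟨e, he, heb⟩ := exists_idem_lift_integral (I := J) b hb
    refine ⟨e, ⟨he, heb⟩, fun e' he' => eq_of_idem_of_sub_mem (map_le_jacobson_of_isIntegral (HenselianRing.jac (I := J))) he'.1 he ?_⟩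
    convert sub_mem he'.2 heb using 1
    ring
  intro V hV
  obtain ⟨U, hU, huniq⟩ := H V hV
  refine ⟨h ⁻¹' U, ⟨hU.1.preimage h.continuous, hU.2⟩, fun U' hU' => ?_⟩
  have h1 : h.symm ⁻¹' U' = U := huniq _ ⟨hU'.1.preimage h.symm.continuous, by
    rw [← hU'.2]
    ext z
    show h.symm (h z.1) ∈ U' ↔ z.1 ∈ U'
    rw [h.symm_apply_apply]⟩
  rw [← h1]
  ext n
  show n ∈ U' ↔ h.symm (h n) ∈ U'
  rw [h.symm_apply_apply]

/-- Clopens of a proper scheme over a henselian pair. -/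
theorem uniqueLift_proper {Y : Scheme.{u}} (p : Y ⟶ Spec (CommRingCat.of B)) [IsProper p] :
    ∀ V : Set ↥(p ⁻¹' PrimeSpectrum.zeroLocus (J : Set B)), IsClopen V →
      ∃! U : Set Y, IsClopen U ∧ Subtype.val ⁻¹' U = V := by
  haveI : GeometricallyConnected p.toNormalization := H8Props.Stein.geometricallyConnected_toNormalization p
  haveI : IsAffine p.normalization := isAffine_of_isAffineHom p.fromNormalization
  have hcl : IsClosedMap p.toNormalization := p.toNormalization.isClosedMap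
  have h := uniqueLift_of_connected_fibres p.toNormalization p.toNormalization.continuous hcl
    p.toNormalization.surjective p.toNormalization.isConnected_preimage_singleton
    _ (uniqueLift_integral J p.fromNormalization)
  have e : (p : Y → Spec (CommRingCat.of B)) = p.fromNormalization ∘ p.toNormalization := by
    rw [← TopCat.coe_comp, ← Scheme.Hom.comp_base, p.toNormalization_fromNormalization]
  rw [← Set.preimage_comp, ← e] at h
  exact h

/-- A proper scheme over a henselian pair gives a henselian couple. -/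
theorem henselian_couple {X X₀ : Scheme.{u}} (f : X ⟶ Spec (CommRingCat.of B)) [IsProper f] (i : X₀ ⟶ X)
    [IsClosedImmersion i] (hr : Set.range i = f ⁻¹' PrimeSpectrum.zeroLocus (J : Set B)) :
    ∀ (Y : Scheme.{u}) (g : Y ⟶ X), IsFinite g → ∀ V : Set ↥(pullback g i), IsClopen V →
      ∃! U : Set ↥Y, IsClopen U ∧ (pullback.fst g i).base ⁻¹' U = V := by
  intro Y g hg V hV
  haveI := hg
  have h := uniqueLift_proper J (g ≫ f)
  have hrange : Set.range (pullback.fst g i) = (g ≫ f) ⁻¹' PrimeSpectrum.zeroLocus (J : Set B) := by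
    rw [Scheme.Pullback.range_fst, hr]
    rfl
  rw [← hrange] at h
  let e := (pullback.fst g i).isEmbedding.toHomeomorph
  have key : ∀ (U : Set Y) (W : Set (Set.range (pullback.fst g i))),
      (pullback.fst g i) ⁻¹' U = e ⁻¹' W ↔ Subtype.val ⁻¹' U = W := by
    intro U W
    rw [← e.surjective.preimage_injective.eq_iff]
    rfl
  obtain ⟨U, hU, huniq⟩ := h (e.symm ⁻¹' V) (hV.preimage e.symm.continuous)
  have hV' : e ⁻¹' (e.symm ⁻¹' V) = V := by ext p; simp
  rw [← hV']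
  exact ⟨U, ⟨hU.1, (key U _).2 hU.2⟩, fun U' hU' => huniq U' ⟨hU'.1, (key U' _).1 hU'.2⟩⟩

end Groth.Agent.H9Hens.ProperPair
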