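import Groth.Agent.H9Hens.TensorHens
import Groth.Agent.H9Hens.Split
import Groth.Agent.S14620
import Groth.Agent.S0507
import Groth.Agent.S0538

/-!
# Henselizations at quasi-finite points are finite

For `R → S` of finite type and quasi-finite at `q`, the (strict) henselization of `S_q` is finite over
that of `R_p`.
-/

universe u

open TensorProduct IsLocalRing

namespace Groth.Agent.H9Hens

theorem isHenselization_self (T : Type u) [CommRing T] [HenselianLocalRing T] :
    Hensel.IsHenselization T T :=
  ⟨inferInstance, fun U _ _ f _ => ⟨f, RingHom.comp_id f, fun g hg => (RingHom.comp_id g).symm.trans hg⟩⟩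

theorem isStrictHenselization_self (T : Type u) [CommRing T] [HenselianLocalRing T]
    [IsSepClosed (ResidueField T)] : Hensel.IsStrictHenselization T T := by
  refine ⟨inferInstance, ?_, fun U _ _ f _ τ hτ =>
    ⟨f, ⟨RingHom.comp_id f, fun x => (DFunLike.congr_fun hτ (residue T x)).symm⟩,
      fun g hg => (RingHom.comp_id g).symm.trans hg.1⟩⟩
  rw [show (ResidueField.instAlgebra : Algebra (ResidueField T) (ResidueField T)) = Algebra.id _ from
    Algebra.algebra_ext _ _ fun x => by obtain ⟨y, rfl⟩ := residue_surjective x; rfl]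
  infer_instance

variable {R S : Type u} [CommRing R] [CommRing S] [Algebra R S] [Algebra.FiniteType R S]
  {p : Ideal R} [p.IsPrime] {q : Ideal S} [q.IsPrime] [q.LiesOver p] [Algebra.QuasiFiniteAt R q]
  {Rh : Type u} [CommRing Rh] [HenselianLocalRing Rh]
  [Algebra (Localization.AtPrime p) Rh] [IsLocalHom (algebraMap (Localization.AtPrime p) Rh)]
  [Algebra R Rh] [IsScalarTower R (Localization.AtPrime p) Rh]
  {Sh : Type u} [CommRing Sh] [IsLocalRing Sh] [Algebra (Localization.AtPrime q) Sh]
  [IsLocalHom (algebraMap (Localization.AtPrime q) Sh)]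
  [Algebra S Sh] [IsScalarTower S (Localization.AtPrime q) Sh]
  [Algebra R Sh] [IsScalarTower R S Sh] [Algebra Rh Sh] [IsScalarTower R Rh Sh]

omit [Algebra.FiniteType R S] [Algebra.QuasiFiniteAt R q] in
include q in
/-- The map `Rʰ → Sʰ` is local when the maximal ideal of `Rʰ` comes from `p`. -/
theorem isLocalHom_of_map_maximalIdeal
    (hm : (maximalIdeal (Localization.AtPrime p)).map (algebraMap (Localization.AtPrime p) Rh) = maximalIdeal Rh) :
    IsLocalHom (algebraMap Rh Sh) := by
  refine ⟨fun x hx => ?_⟩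
  by_contra hxu
  refine (mem_maximalIdeal _).mp ?_ hx
  have hle : maximalIdeal Rh ≤ (maximalIdeal Sh).comap (algebraMap Rh Sh) := by
    rw [← hm, ← Localization.AtPrime.map_eq_maximalIdeal, Ideal.map_map, ← IsScalarTower.algebraMap_eq,
      Ideal.map_le_iff_le_comap]
    intro r hr
    rw [Ideal.mem_comap, Ideal.mem_comap, ← IsScalarTower.algebraMap_apply,
      IsScalarTower.algebraMap_apply R S Sh, mem_maximalIdeal_of_mem (q := q)]
    rw [Ideal.LiesOver.over (P := q) (p := p)] at hr
    exact hr
  exact hle ((mem_maximalIdeal _).mpr hxu)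

include p q in
/-- `(Rʰ ⊗ S)_Q` is finite over `Rʰ`, henselian local, with residue field finite over that of `Rʰ`. -/
theorem finite_tensor_localization [IsLocalHom (algebraMap Rh Sh)] (φ : Rh ⊗[R] S →+* Sh)
    (hφl : ∀ x, φ (x ⊗ₜ 1) = algebraMap Rh Sh x) (hφr : ∀ s, φ (1 ⊗ₜ s) = algebraMap S Sh s)
    (Q : Ideal (Rh ⊗[R] S)) [Q.IsPrime] (hQ : Q = (maximalIdeal Sh).comap φ) :
    Module.Finite Rh (Localization.AtPrime Q) ∧ HenselianLocalRing (Localization.AtPrime Q) ∧
      IsLocalHom (algebraMap Rh (Localization.AtPrime Q)) := by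
  have hlies : Q.LiesOver (maximalIdeal Rh) := by
    refine ⟨Ideal.ext fun x => ?_⟩
    rw [Ideal.mem_comap, hQ, Ideal.mem_comap, Algebra.TensorProduct.algebraMap_apply]
    simp only [Algebra.algebraMap_self_apply, hφl]
    rw [mem_maximalIdeal, mem_maximalIdeal, mem_nonunits_iff, mem_nonunits_iff, isUnit_map_iff]
  have hq : q = Q.comap Algebra.TensorProduct.includeRight.toRingHom := by
    ext s
    rw [Ideal.mem_comap, hQ, Ideal.mem_comap]
    show _ ↔ φ (1 ⊗ₜ s) ∈ _
    rw [hφr, mem_maximalIdeal_of_mem (q := q)]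
  have : Algebra.QuasiFiniteAt Rh Q := Algebra.QuasiFiniteAt.baseChange q Q hq
  have hfin : Module.Finite Rh (Localization.AtPrime Q) := finite_localization_of_quasiFiniteAt Q hlies
  have hloc : IsLocalHom (algebraMap Rh (Localization.AtPrime Q)) := ⟨fun x hx => by
    rw [IsScalarTower.algebraMap_apply Rh (Rh ⊗[R] S) (Localization.AtPrime Q),
      IsLocalization.AtPrime.isUnit_to_map_iff _ Q, Ideal.mem_primeCompl_iff] at hx
    rw [← notMem_maximalIdeal, hlies.over]
    exact hx⟩
  have : HenselianRing Rh (maximalIdeal Rh) := inferInstance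
  have hH : HenselianRing (Localization.AtPrime Q) ((maximalIdeal Rh).map (algebraMap Rh _)) :=
    henselianRing_of_isIntegral _
  have hrad := henselianRing_radical (I := (maximalIdeal Rh).map (algebraMap Rh (Localization.AtPrime Q)))
  have hle : (maximalIdeal Rh).map (algebraMap Rh (Localization.AtPrime Q)) ≤ maximalIdeal _ :=
    IsLocalRing.map_maximalIdeal_le _
  have hradeq : ((maximalIdeal Rh).map (algebraMap Rh (Localization.AtPrime Q))).radical = maximalIdeal _ := by
    refine le_antisymm ((maximalIdeal.isMaximal _).isPrime.radical_le_iff.mpr hle) ?_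
    rw [Ideal.radical_eq_sInf]
    refine le_sInf fun P ⟨hP, hPp⟩ => ?_
    have : (P.comap (algebraMap Rh (Localization.AtPrime Q))).IsMaximal := by
      rw [le_antisymm (IsLocalRing.le_maximalIdeal (Ideal.comap_ne_top _ hPp.ne_top))
        (Ideal.map_le_iff_le_comap.mp hP)]
      exact maximalIdeal.isMaximal Rh
    have : P.IsMaximal := Ideal.isMaximal_of_isIntegral_of_isMaximal_comap P this
    exact (IsLocalRing.eq_maximalIdeal this).ge
  rw [hradeq] at hrad
  exact ⟨hfin, henselianLocalRing_of_henselianRing, hloc⟩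

include p q in
/-- The henselization of `S_q` is finite over that of `R_p`. -/
theorem finite_henselization [Hensel.IsHenselization (Localization.AtPrime p) Rh]
    [Hensel.IsHenselization (Localization.AtPrime q) Sh] : Module.Finite Rh Sh := by
  have : IsLocalHom (algebraMap Rh Sh) :=
    isLocalHom_of_map_maximalIdeal (p := p) (q := q) (S0507.result (Localization.AtPrime p) Rh)
  let φ := (Algebra.TensorProduct.lift (IsScalarTower.toAlgHom R Rh Sh) (IsScalarTower.toAlgHom R S Sh)
    (fun _ _ => Commute.all _ _)).toRingHom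
  have hφl : ∀ x, φ (x ⊗ₜ 1) = algebraMap Rh Sh x := fun x => by simp [φ]
  have hφr : ∀ s, φ (1 ⊗ₜ s) = algebraMap S Sh s := fun s => by simp [φ]
  have : ((maximalIdeal Sh).comap φ).IsPrime := Ideal.IsPrime.comap φ
  obtain ⟨hfin, hH, -⟩ := finite_tensor_localization (p := p) (q := q) φ hφl hφr _ rfl
  have : Hensel.IsHenselization (Localization.AtPrime ((maximalIdeal Sh).comap φ))
    (Localization.AtPrime ((maximalIdeal Sh).comap φ)) := isHenselization_self _
  obtain ⟨e, he⟩ := exists_henselization_equiv (p := p) (q := q) φ hφl hφr _ rfl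
    (E := Localization.AtPrime ((maximalIdeal Sh).comap φ))
  exact Module.Finite.equiv (AlgEquiv.ofRingEquiv (f := e) fun x => (he (x ⊗ₜ 1)).trans (hφl x)).toLinearEquiv

include p q in
/-- The strict henselization of `S_q` is finite over that of `R_p`, with purely inseparable residue
extension. -/
theorem finite_strictHenselization [IsLocalHom (algebraMap Rh Sh)] [IsSepClosed (ResidueField Rh)]
    [Hensel.IsStrictHenselization (Localization.AtPrime p) Rh]
    [Hensel.IsStrictHenselization (Localization.AtPrime q) Sh] :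
    Module.Finite Rh Sh ∧ Module.Finite (ResidueField Rh) (ResidueField Sh) ∧
      IsPurelyInseparable (ResidueField Rh) (ResidueField Sh) := by
  let φ := (Algebra.TensorProduct.lift (IsScalarTower.toAlgHom R Rh Sh) (IsScalarTower.toAlgHom R S Sh)
    (fun _ _ => Commute.all _ _)).toRingHom
  have hφl : ∀ x, φ (x ⊗ₜ 1) = algebraMap Rh Sh x := fun x => by simp [φ]
  have hφr : ∀ s, φ (1 ⊗ₜ s) = algebraMap S Sh s := fun s => by simp [φ]
  have : ((maximalIdeal Sh).comap φ).IsPrime := Ideal.IsPrime.comap φ
  obtain ⟨hfin, hH, hloc⟩ := finite_tensor_localization (p := p) (q := q) φ hφl hφr _ rfl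
  obtain ⟨_, hsc⟩ := S14620.result (algebraMap Rh (Localization.AtPrime ((maximalIdeal Sh).comap φ)))
    (RingHom.finite_algebraMap.mpr hfin) ⟨inferInstance, inferInstance⟩
  have : Hensel.IsStrictHenselization (Localization.AtPrime ((maximalIdeal Sh).comap φ))
    (Localization.AtPrime ((maximalIdeal Sh).comap φ)) := isStrictHenselization_self _
  obtain ⟨e, he⟩ := exists_strictHenselization_equiv (p := p) (q := q) φ hφl hφr _ rfl
    (E := Localization.AtPrime ((maximalIdeal Sh).comap φ))
  have hfin' : Module.Finite Rh Sh := Module.Finite.equiv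
    (AlgEquiv.ofRingEquiv (f := e) fun x => (he (x ⊗ₜ 1)).trans (hφl x)).toLinearEquiv
  have hres : Module.Finite (ResidueField Rh) (ResidueField Sh) := inferInstance
  exact ⟨hfin', hres, inferInstance⟩

end Groth.Agent.H9Hens
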