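import Groth.Agent.H9Hens.Milnor
import Mathlib.RingTheory.Flat.Tensor
import Mathlib.RingTheory.Flat.Equalizer
import Mathlib.LinearAlgebra.TensorProduct.Associator
import Mathlib.LinearAlgebra.Finsupp.LinearCombination
import Mathlib.RingTheory.Finiteness.ModuleFinitePresentation

/-!
# Flatness descends along Milnor squares
-/

set_option autoImplicit false

universe u

open TensorProduct

namespace Groth.Agent.H9Hens.Milnor

section T

variable {R : Type u} [CommRing R]

/-- `Tor₁ (M, L) = 0`, phrased with short exact sequences ending in `M`. -/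
def T (L M : Type u) [AddCommGroup L] [Module R L] [AddCommGroup M] [Module R M] : Prop :=
  ∀ (X Y : Type u) [AddCommGroup X] [Module R X] [AddCommGroup Y] [Module R Y]
    (i : X →ₗ[R] Y) (p : Y →ₗ[R] M), Function.Injective i → Function.Exact i p →
      Function.Surjective p → Function.Injective (i.rTensor L)

variable {L : Type u} [AddCommGroup L] [Module R L]

theorem T_of_flat {M : Type u} [AddCommGroup M] [Module R M] [Module.Flat R M] :
    T (R := R) L M := by
  intro X Y _ _ _ _ i p hi he hp
  have h := LinearMap.lTensor_injective_of_exact_of_flat p hp i hi he L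
  intro a b hab
  apply (TensorProduct.comm R X L).injective
  apply h
  have key : ∀ z, i.lTensor L (TensorProduct.comm R X L z) =
      TensorProduct.comm R Y L (i.rTensor L z) := fun z => by
    induction z using TensorProduct.induction_on with
    | zero => simp
    | tmul x y => simp
    | add a b ha hb => simp only [map_add, ha, hb]
  rw [key, key, hab]

theorem T_of_quot {K G M : Type u} [AddCommGroup K] [Module R K] [AddCommGroup G] [Module R G]
    [AddCommGroup M] [Module R M] (k : K →ₗ[R] G) (g : G →ₗ[R] M) (hkg : Function.Exact k g)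
    (hg : Function.Surjective g) (hG : T (R := R) L G) (hk : Function.Injective (k.rTensor L)) :
    T (R := R) L M := by
  intro X Y _ _ _ _ i p hi hip hp
  let P : Submodule R (Y × G) :=
    LinearMap.ker (p ∘ₗ LinearMap.fst R Y G - g ∘ₗ LinearMap.snd R Y G)
  have hmem : ∀ y z, (y, z) ∈ P ↔ p y = g z := fun y z => by simp [P, sub_eq_zero]
  let iX : X →ₗ[R] P := (i.prod 0).codRestrict P fun x =>
    (hmem (i x) 0).mpr (by rw [hip.apply_apply_eq_zero, map_zero])
  let iK : K →ₗ[R] P := (LinearMap.prod 0 k).codRestrict P fun x =>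
    (hmem 0 (k x)).mpr (by rw [hkg.apply_apply_eq_zero, map_zero])
  let pY : P →ₗ[R] Y := LinearMap.fst R Y G ∘ₗ P.subtype
  let pG : P →ₗ[R] G := LinearMap.snd R Y G ∘ₗ P.subtype
  have h1 : Function.Exact iX pG := fun ⟨⟨y, z⟩, hyz⟩ => by
    refine ⟨fun (h : z = 0) => ?_, ?_⟩
    · obtain ⟨x, rfl⟩ := (hip y).mp (by rw [(hmem y z).mp hyz, h, map_zero])
      exact ⟨x, Subtype.ext (Prod.ext rfl h.symm)⟩
    · rintro ⟨x, hx⟩
      exact (congrArg (fun w : P => w.1.2) hx).symm
  have h2 : Function.Exact iK pY := fun ⟨⟨y, z⟩, hyz⟩ => by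
    refine ⟨fun (h : y = 0) => ?_, ?_⟩
    · obtain ⟨x, rfl⟩ := (hkg z).mp (by rw [← (hmem y z).mp hyz, h, map_zero])
      exact ⟨x, Subtype.ext (Prod.ext h.symm rfl)⟩
    · rintro ⟨x, hx⟩
      exact (congrArg (fun w : P => w.1.1) hx).symm
  have hpG : Function.Surjective pG := fun z => by
    obtain ⟨y, hy⟩ := hp (g z)
    exact ⟨⟨(y, z), (hmem y z).mpr hy⟩, rfl⟩
  have hpY : Function.Surjective pY := fun y => by
    obtain ⟨z, hz⟩ := hg (p y)
    exact ⟨⟨(y, z), (hmem y z).mpr hz.symm⟩, rfl⟩
  have hinj := hG X P iX pG (fun a b h => hi (congrArg (fun w : P => w.1.1) h)) h1 hpG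
  refine (injective_iff_map_eq_zero _).mpr fun z hz => hinj ?_
  rw [map_zero]
  have hz' : pY.rTensor L (iX.rTensor L z) = 0 := by
    rw [← LinearMap.rTensor_comp_apply, show pY ∘ₗ iX = i from rfl, hz]
  obtain ⟨w, hw⟩ := (rTensor_exact L h2 hpY _).mp hz'
  have hk0 : k.rTensor L w = 0 := by
    rw [show k = pG ∘ₗ iK from rfl, LinearMap.rTensor_comp_apply, hw, ← LinearMap.rTensor_comp_apply,
      show pG ∘ₗ iX = 0 from rfl]
    simp
  rw [← hw, (injective_iff_map_eq_zero _).mp hk w hk0, map_zero]

theorem T_ext {M₁ M M₂ : Type u} [AddCommGroup M₁] [Module R M₁] [AddCommGroup M] [Module R M]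
    [AddCommGroup M₂] [Module R M₂] (f : M₁ →ₗ[R] M) (s : M →ₗ[R] M₂) (hf : Function.Injective f)
    (hfs : Function.Exact f s) (hs : Function.Surjective s) (h₁ : T (R := R) L M₁)
    (h₂ : T (R := R) L M₂) : T (R := R) L M := by
  intro X Y _ _ _ _ i p hi hip hp
  let P : Submodule R (Y × M₁) :=
    LinearMap.ker (p ∘ₗ LinearMap.fst R Y M₁ - f ∘ₗ LinearMap.snd R Y M₁)
  have hmem : ∀ y z, (y, z) ∈ P ↔ p y = f z := fun y z => by simp [P, sub_eq_zero]
  let iX : X →ₗ[R] P := (i.prod 0).codRestrict P fun x =>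
    (hmem (i x) 0).mpr (by rw [hip.apply_apply_eq_zero, map_zero])
  let pY : P →ₗ[R] Y := LinearMap.fst R Y M₁ ∘ₗ P.subtype
  let pM : P →ₗ[R] M₁ := LinearMap.snd R Y M₁ ∘ₗ P.subtype
  have h1 : Function.Exact iX pM := fun ⟨⟨y, z⟩, hyz⟩ => by
    refine ⟨fun (h : z = 0) => ?_, ?_⟩
    · obtain ⟨x, rfl⟩ := (hip y).mp (by rw [(hmem y z).mp hyz, h, map_zero])
      exact ⟨x, Subtype.ext (Prod.ext rfl h.symm)⟩
    · rintro ⟨x, hx⟩
      exact (congrArg (fun w : P => w.1.2) hx).symm
  have hpM : Function.Surjective pM := fun z => by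
    obtain ⟨y, hy⟩ := hp (f z)
    exact ⟨⟨(y, z), (hmem y z).mpr hy⟩, rfl⟩
  have hpY : Function.Injective pY := by
    rintro ⟨⟨y, z⟩, ha⟩ ⟨⟨y', z'⟩, hb⟩ h
    change y = y' at h
    subst h
    exact Subtype.ext (Prod.ext rfl (hf (((hmem y z).mp ha).symm.trans ((hmem y z').mp hb))))
  have h2 : Function.Exact pY (s ∘ₗ p) := fun y => by
    refine ⟨fun (h : s (p y) = 0) => ?_, ?_⟩
    · obtain ⟨z, hz⟩ := (hfs (p y)).mp h
      exact ⟨⟨(y, z), (hmem y z).mpr hz.symm⟩, rfl⟩
    · rintro ⟨⟨⟨y', z⟩, hw⟩, rfl⟩
      show s (p y') = 0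
      rw [(hmem y' z).mp hw, hfs.apply_apply_eq_zero]
  have hinj₁ := h₁ X P iX pM (fun a b h => hi (congrArg (fun w : P => w.1.1) h)) h1 hpM
  have hinj₂ := h₂ P Y pY (s ∘ₗ p) hpY h2 (hs.comp hp)
  rw [show i = pY ∘ₗ iX from rfl, LinearMap.rTensor_comp]
  exact hinj₂.comp hinj₁

theorem T_of_retract {M M₀ : Type u} [AddCommGroup M] [Module R M] [AddCommGroup M₀] [Module R M₀]
    (f : M →ₗ[R] M₀) (s : M₀ →ₗ[R] M) (hfs : f ∘ₗ s = LinearMap.id) (h : T (R := R) L M) :
    T (R := R) L M₀ := by
  intro X Y _ _ _ _ i p hi hip hp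
  -- `M = ker f × M₀`
  let F := LinearMap.ker f
  have hfs' : ∀ x, f (s x) = x := LinearMap.congr_fun hfs
  let j : X →ₗ[R] Y × F := i.prod 0
  let p' : Y × F →ₗ[R] M := (s ∘ₗ p).coprod F.subtype
  have hp' : Function.Surjective p' := fun m => by
    obtain ⟨y, hy⟩ := hp (f m)
    exact ⟨(y, ⟨m - s (f m), by simp [F, hfs']⟩), by simp [p', hy]⟩
  have he : Function.Exact j p' := fun ⟨y, v⟩ => by
    refine ⟨fun (h0 : s (p y) + (v : M) = 0) => ?_, ?_⟩
    · have hy : p y = 0 := by
        have := congrArg f h0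
        rwa [map_add, hfs', LinearMap.mem_ker.mp v.2, add_zero, map_zero] at this
      rw [hy, map_zero, zero_add] at h0
      obtain ⟨x, rfl⟩ := (hip y).mp hy
      exact ⟨x, Prod.ext rfl (Subtype.ext h0.symm)⟩
    · rintro ⟨x, hx⟩
      rw [← hx]
      show s (p (i x)) + (0 : M) = 0
      rw [hip.apply_apply_eq_zero, map_zero, add_zero]
  have hj := h X (Y × F) j p' (fun a b hab => hi (congrArg Prod.fst hab)) he hp'
  have : j = LinearMap.inl R Y F ∘ₗ i := LinearMap.ext fun x => rfl
  rw [this, LinearMap.rTensor_comp, LinearMap.coe_comp] at hj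
  exact hj.of_comp

theorem T_of_equiv {M M₀ : Type u} [AddCommGroup M] [Module R M] [AddCommGroup M₀] [Module R M₀]
    (e : M ≃ₗ[R] M₀) (h : T (R := R) L M) : T (R := R) L M₀ :=
  T_of_retract e.toLinearMap e.symm.toLinearMap (LinearMap.ext e.apply_symm_apply) h

theorem flat_of_forall_T (h : ∀ (M : Type u) [AddCommGroup M] [Module R M], T (R := R) L M) :
    Module.Flat R L := by
  rw [Module.Flat.iff_rTensor_injective']
  exact fun I => h (R ⧸ I) I R I.subtype I.mkQ Subtype.val_injective
    (LinearMap.exact_subtype_mkQ I) (Submodule.mkQ_surjective I)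

theorem rTensor_rTensor_injective {X Y : Type u} [AddCommGroup X] [Module R X] [AddCommGroup Y]
    [Module R Y] (f : X →ₗ[R] Y) (F : Type u) [AddCommGroup F] [Module R F] [Module.Flat R F]
    (h : Function.Injective (f.rTensor L)) : Function.Injective ((f.rTensor F).rTensor L) := by
  have key : ∀ z, TensorProduct.rightComm R Y F L ((f.rTensor F).rTensor L z) =
      (f.rTensor L).rTensor F (TensorProduct.rightComm R X F L z) := fun z => by
    induction z using TensorProduct.induction_on with
    | zero => simp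
    | tmul a l =>
      induction a using TensorProduct.induction_on with
      | zero => simp
      | tmul x v => simp
      | add a b ha hb => simp only [TensorProduct.add_tmul, map_add, ha, hb]
    | add a b ha hb => simp only [map_add, ha, hb]
  intro a b hab
  apply (TensorProduct.rightComm R X F L).injective
  apply Module.Flat.rTensor_preserves_injective_linearMap (M := F) _ h
  rw [← key, ← key, hab]

theorem injective_rTensor_of_flat_baseChange {S : Type u} [CommRing S] [Algebra R S]
    [Module.Flat S (S ⊗[R] L)] {X Y : Type u} [AddCommGroup X] [Module R X] [Module S X]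
    [IsScalarTower R S X] [AddCommGroup Y] [Module R Y] [Module S Y] [IsScalarTower R S Y]
    (f : X →ₗ[S] Y) (hf : Function.Injective f) :
    Function.Injective ((f.restrictScalars R).rTensor L) := by
  let eX := AlgebraTensorModule.cancelBaseChange R S S X L
  let eY := AlgebraTensorModule.cancelBaseChange R S S Y L
  have key : ∀ z, (f.restrictScalars R).rTensor L (eX z) = eY (f.rTensor (S ⊗[R] L) z) := fun z => by
    induction z using TensorProduct.induction_on with
    | zero => simp
    | tmul x w =>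
      induction w using TensorProduct.induction_on with
      | zero => simp
      | tmul s l => simp [eX, eY]
      | add a b ha hb => simp only [TensorProduct.tmul_add, map_add, ha, hb]
    | add a b ha hb => simp only [map_add, ha, hb]
  intro a b hab
  obtain ⟨a, rfl⟩ := eX.surjective a
  obtain ⟨b, rfl⟩ := eX.surjective b
  rw [key, key] at hab
  rw [Module.Flat.rTensor_preserves_injective_linearMap f hf (eY.injective hab)]

theorem T_of_module {S : Type u} [CommRing S] [Algebra R S] [Module.Flat S (S ⊗[R] L)]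
    (hfree : ∀ (F : Type u) [AddCommGroup F] [Module R F] [Module.Flat R F], T (R := R) L (S ⊗[R] F))
    (M : Type u) [AddCommGroup M] [Module R M] [Module S M] [IsScalarTower R S M] :
    T (R := R) L M := by
  have key : ∀ (G K : Type u) [AddCommGroup G] [Module R G] [Module S G] [IsScalarTower R S G]
      [AddCommGroup K] [Module R K] [Module S K] [IsScalarTower R S K] (k : K →ₗ[S] G) (g : G →ₗ[S] M),
      Function.Injective k → Function.Exact k g → Function.Surjective g → T (R := R) L G →
      T (R := R) L M := fun G K _ _ _ _ _ _ _ _ k g hk he hg hG =>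
    T_of_quot (k.restrictScalars R) (g.restrictScalars R) he hg hG
      (injective_rTensor_of_flat_baseChange k hk)
  let q : (M →₀ R) →ₗ[R] M := Finsupp.linearCombination R id
  let g := LinearMap.liftBaseChange S q
  refine key (S ⊗[R] (M →₀ R)) (LinearMap.ker g) (LinearMap.ker g).subtype g Subtype.val_injective
    (LinearMap.exact_subtype_ker_map g) (fun m => ?_) (hfree _)
  exact ⟨1 ⊗ₜ Finsupp.single m 1, by simp [g, q]⟩

end T

section Square

variable {B' B A' A : Type u} [CommRing B'] [CommRing B] [CommRing A'] [CommRing A]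
  [Algebra B' B] [Algebra B' A'] [Algebra B A] [Algebra A' A] [Algebra B' A]
  [IsScalarTower B' B A] [IsScalarTower B' A' A]

theorem exists_kerLift (hsq : EtMil.IsFibreSquare B' B A' A) :
    ∃ ψ : ↥(RingHom.ker (algebraMap A' A)) →ₗ[B'] B', Function.Injective ψ ∧
      Function.Exact ψ (Algebra.linearMap B' B) ∧
      ∀ i, algebraMap B' A' (ψ i) = i.1 := by
  have h := weak_of_isFibreSquare hsq
  choose w hw using fun i : ↥(RingHom.ker (algebraMap A' A)) => h.ker i.1 i.2
  let ψ : ↥(RingHom.ker (algebraMap A' A)) →ₗ[B'] B' :=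
    { toFun := w
      map_add' := fun a b => ext_of_isFibreSquare hsq (by simp [(hw _).1]) (by simp [(hw _).2])
      map_smul' := fun c a => ext_of_isFibreSquare hsq (by simp [(hw _).1])
        (by simp [(hw _).2, Algebra.smul_def]) }
  have hψ : ∀ i, algebraMap B' A' (ψ i) = i.1 := fun i => (hw i).2
  refine ⟨ψ, fun a b hab => Subtype.ext (by rw [← hψ a, hab, hψ b]), fun x => ⟨fun hx => ?_, ?_⟩, hψ⟩
  · have hx' : algebraMap A' A (algebraMap B' A' x) = 0 := by
      rw [← IsScalarTower.algebraMap_apply, IsScalarTower.algebraMap_apply B' B A,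
        show algebraMap B' B x = 0 from hx, map_zero]
    exact ⟨⟨_, hx'⟩, ext_of_isFibreSquare hsq ((hw _).1.trans hx.symm) (hψ _)⟩
  · rintro ⟨i, rfl⟩
    exact (hw i).1

variable {L : Type u} [AddCommGroup L] [Module B' L]
  [Module.Flat B (B ⊗[B'] L)] [Module.Flat A' (A' ⊗[B'] L)]

theorem T_left (hsq : EtMil.IsFibreSquare B' B A' A) (M : Type u) [AddCommGroup M] [Module B' M]
    [Module B M] [IsScalarTower B' B M] : T (R := B') L M := by
  refine T_of_module (S := B) (fun F _ _ _ => ?_) M
  obtain ⟨ψ, hψ, hex, hα⟩ := exists_kerLift hsq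
  have h := weak_of_isFibreSquare hsq
  refine T_of_quot (ψ.rTensor F) ((Algebra.linearMap B' B).rTensor F) (rTensor_exact F hex h.surjB)
    (LinearMap.rTensor_surjective F h.surjB) T_of_flat (rTensor_rTensor_injective ψ F ?_)
  have hι : ((RingHom.ker (algebraMap A' A)).subtype.restrictScalars B') =
      Algebra.linearMap B' A' ∘ₗ ψ := LinearMap.ext fun i => (hα i).symm
  have h2 := injective_rTensor_of_flat_baseChange (R := B') (L := L)
    ((RingHom.ker (algebraMap A' A)).subtype) Subtype.val_injective
  rw [hι, LinearMap.rTensor_comp, LinearMap.coe_comp] at h2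
  exact h2.of_comp

theorem T_right (hsq : EtMil.IsFibreSquare B' B A' A) (M : Type u) [AddCommGroup M] [Module B' M]
    [Module A' M] [IsScalarTower B' A' M] : T (R := B') L M := by
  refine T_of_module (S := A') (fun F _ _ _ => ?_) M
  obtain ⟨h1, h2, h3⟩ := H28Pinch.props (R := B') hsq
  have hP : T (R := B') L ((B × A') ⊗[B'] F) :=
    T_ext ((H28Pinch.incl B' B' B A').rTensor F) ((H28Pinch.diff B' B A' A).rTensor F)
      (Module.Flat.rTensor_preserves_injective_linearMap _ h1) (rTensor_exact F h2 h3)
      (LinearMap.rTensor_surjective F h3) T_of_flat (T_left hsq _)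
  refine T_of_retract ((LinearMap.snd B' B A').rTensor F) ((LinearMap.inr B' B A').rTensor F) ?_ hP
  rw [← LinearMap.rTensor_comp, LinearMap.snd_comp_inr, LinearMap.rTensor_id]

theorem T_all (hsq : EtMil.IsFibreSquare B' B A' A) (M : Type u) [AddCommGroup M] [Module B' M] :
    T (R := B') L M := by
  have h := weak_of_isFibreSquare hsq
  let θ : M →ₗ[B'] (B ⊗[B'] M) × (A' ⊗[B'] M) :=
    (TensorProduct.mk B' B M 1).prod (TensorProduct.mk B' A' M 1)
  -- the kernel of `θ` is a `B`-module
  have hKer : T (R := B') L (LinearMap.ker θ) := by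
    have hbij : Function.Bijective (TensorProduct.mk B' B (LinearMap.ker θ) 1) := by
      refine ⟨(injective_iff_map_eq_zero _).mpr fun x hx => ?_,
        TensorProduct.mk_surjective B' _ B h.surjB⟩
      refine Submodule.smul_induction_on ((one_tmul_eq_zero_iff h.surjB x).mp hx)
        (fun j hj y _ => ?_) (fun a b ha hb => by rw [ha, hb, add_zero])
      exact Subtype.ext (smul_eq_zero_of_one_tmul_eq_zero hsq
        (congrArg Prod.snd (LinearMap.mem_ker.mp y.2)) hj)
    exact T_of_equiv (LinearEquiv.ofBijective _ hbij).symm (T_left hsq _)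
  -- the image of `θ`
  let δ : (B ⊗[B'] M) × (A' ⊗[B'] M) →ₗ[B'] A ⊗[B'] M :=
    (IsScalarTower.toAlgHom B' B A).toLinearMap.rTensor M ∘ₗ LinearMap.fst B' _ _ -
      (IsScalarTower.toAlgHom B' A' A).toLinearMap.rTensor M ∘ₗ LinearMap.snd B' _ _
  have hδθ : ∀ m, δ (θ m) = 0 := fun m => by simp [δ, θ]
  have hδ : Function.Surjective δ := fun z => by
    obtain ⟨y, hy⟩ := LinearMap.rTensor_surjective M
      (g := (IsScalarTower.toAlgHom B' A' A).toLinearMap) h.surjA z
    exact ⟨(0, -y), by simp [δ, hy]⟩
  have hex : ∀ z, δ z = 0 → z ∈ LinearMap.range θ := fun z hz => by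
    obtain ⟨l, h1, h2⟩ := exists_of_rTensor_eq hsq z.1 z.2 (sub_eq_zero.mp hz)
    exact ⟨l, Prod.ext h1 h2⟩
  let q : (A ⊗[B'] M →₀ B') →ₗ[B'] A ⊗[B'] M := Finsupp.linearCombination B' id
  have hq : Function.Surjective q := Finsupp.linearCombination_surjective _ Function.surjective_id
  obtain ⟨f, hf⟩ := Module.projective_lifting_property δ q hδ
  have hf' : ∀ v, δ (f v) = q v := fun v => LinearMap.congr_fun hf v
  have hW : T (R := B') L (LinearMap.ker q) := by
    obtain ⟨ψ, hψ, hψex, -⟩ := exists_kerLift hsq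
    let F := A ⊗[B'] M →₀ B'
    let g := LinearMap.liftBaseChange B q
    let ι : ↥(RingHom.ker (algebraMap A' A)) ⊗[B'] F →ₗ[B'] LinearMap.ker q :=
      ((TensorProduct.lid B' F).toLinearMap ∘ₗ ψ.rTensor F).codRestrict _ fun t => by
        induction t using TensorProduct.induction_on with
        | zero => simp
        | tmul i v =>
          have hj : algebraMap B' B (ψ i) = 0 := hψex.apply_apply_eq_zero i
          rw [LinearMap.mem_ker]
          show q (TensorProduct.lid B' F (ψ i ⊗ₜ v)) = 0
          rw [TensorProduct.lid_tmul, map_smul, ← algebraMap_smul A (ψ i) (q v),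
            IsScalarTower.algebraMap_apply B' B A, hj, map_zero, zero_smul]
        | add a b ha hb => rw [map_add]; exact add_mem ha hb
    let π : LinearMap.ker q →ₗ[B'] LinearMap.ker g :=
      { toFun := fun v => ⟨(1 : B) ⊗ₜ v.1, by simp [g, LinearMap.mem_ker.mp v.2]⟩
        map_add' := fun a b => Subtype.ext (TensorProduct.tmul_add _ _ _)
        map_smul' := fun c a => Subtype.ext (TensorProduct.tmul_smul _ _ _) }
    refine T_ext (M₂ := ↥(LinearMap.ker g)) ι π ?_ ?_ ?_ (T_right hsq _) (T_left hsq _)
    · intro a b hab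
      apply Module.Flat.rTensor_preserves_injective_linearMap (M := F) ψ hψ
      exact (TensorProduct.lid B' F).injective (congrArg Subtype.val hab)
    · intro v
      constructor
      · intro hv
        have hv' : (Algebra.linearMap B' B).rTensor F ((1 : B') ⊗ₜ v.1) = 0 := by
          have := congrArg Subtype.val hv
          simpa [π] using this
        obtain ⟨t, ht⟩ := (rTensor_exact F hψex h.surjB _).mp hv'
        refine ⟨t, Subtype.ext ?_⟩
        show TensorProduct.lid B' F (ψ.rTensor F t) = v.1
        rw [ht, TensorProduct.lid_tmul, one_smul]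
      · rintro ⟨t, rfl⟩
        refine Subtype.ext ?_
        show (1 : B) ⊗ₜ[B'] TensorProduct.lid B' F (ψ.rTensor F t) = 0
        have key : ∀ s : B' ⊗[B'] F, (1 : B) ⊗ₜ[B'] TensorProduct.lid B' F s =
            (Algebra.linearMap B' B).rTensor F s := fun s => by
          obtain ⟨v, rfl⟩ := exists_one_tmul (R := B') (S := B') (fun b => ⟨b, rfl⟩) s
          simp
        rw [key, (rTensor_exact F hψex h.surjB).apply_apply_eq_zero]
    · rintro ⟨w, hw⟩
      obtain ⟨v, rfl⟩ := exists_one_tmul h.surjB w
      exact ⟨⟨v, by simpa [g] using hw⟩, rfl⟩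
  have hQ : T (R := B') L (LinearMap.range θ) := by
    let Q := LinearMap.range θ
    let Φ : Q × (A ⊗[B'] M →₀ B') →ₗ[B'] (B ⊗[B'] M) × (A' ⊗[B'] M) := Q.subtype.coprod f
    have hmemQ : ∀ v : LinearMap.ker q, -f v.1 ∈ Q := fun v =>
      hex _ (by rw [map_neg, hf', LinearMap.mem_ker.mp v.2, neg_zero])
    let ι : LinearMap.ker q →ₗ[B'] Q × (A ⊗[B'] M →₀ B') :=
      ((-(f ∘ₗ (LinearMap.ker q).subtype)).codRestrict Q hmemQ).prod (LinearMap.ker q).subtype
    have hT : T (R := B') L (Q × (A ⊗[B'] M →₀ B')) := by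
      refine T_ext ι Φ (fun a b hab => Subtype.ext (congrArg Prod.snd hab)) ?_ ?_ hW ?_
      · rintro ⟨⟨x, hx⟩, v⟩
        constructor
        · intro h0
          have h0' : x + f v = 0 := h0
          have hv : q v = 0 := by
            obtain ⟨m, rfl⟩ := hx
            have := congrArg δ h0'
            rwa [map_add, hδθ, zero_add, hf', map_zero] at this
          exact ⟨⟨v, hv⟩, Prod.ext (Subtype.ext (eq_neg_of_add_eq_zero_left h0').symm) rfl⟩
        · rintro ⟨v', hv'⟩
          rw [← hv']
          show -f v'.1 + f v'.1 = 0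
          exact neg_add_cancel _
      · intro z
        obtain ⟨v, hv⟩ := hq (δ z)
        exact ⟨(⟨z - f v, hex _ (by rw [map_sub, hf', hv, sub_self])⟩, v), sub_add_cancel z (f v)⟩
      · exact T_ext (LinearMap.inl B' _ _) (LinearMap.snd B' _ _) LinearMap.inl_injective
          Function.Exact.inl_snd LinearMap.snd_surjective (T_left hsq _) (T_right hsq _)
    exact T_of_retract (LinearMap.fst B' Q _) (LinearMap.inl B' Q _) (LinearMap.fst_comp_inl _ _ _) hT
  exact T_ext (LinearMap.ker θ).subtype θ.rangeRestrict Subtype.val_injective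
    (fun m => by simp [← LinearMap.mem_ker]) θ.surjective_rangeRestrict hKer hQ

theorem flat_of_flat_baseChange (hsq : EtMil.IsFibreSquare B' B A' A) : Module.Flat B' L :=
  flat_of_forall_T fun M _ _ => T_all hsq M

theorem finitePresentation_of_baseChange (hsq : EtMil.IsFibreSquare B' B A' A)
    [Module.FinitePresentation B (B ⊗[B'] L)] [Module.FinitePresentation A' (A' ⊗[B'] L)] :
    Module.FinitePresentation B' L := by
  haveI := flat_of_flat_baseChange (L := L) hsq
  haveI := finite_of_baseChange hsq L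
  obtain ⟨n, p, hp⟩ := Module.Finite.exists_fin' B' L
  have key : ∀ (S : Type u) [CommRing S] [Algebra B' S] [Module.FinitePresentation S (S ⊗[B'] L)],
      Module.Finite S (S ⊗[B'] LinearMap.ker p) := by
    intro S _ _ _
    let k := (LinearMap.ker p).subtype.baseChange S
    let g := p.baseChange S
    have hinj : Function.Injective k :=
      LinearMap.lTensor_injective_of_exact_of_flat p hp _ Subtype.val_injective
        (LinearMap.exact_subtype_ker_map p) S
    have hex : LinearMap.ker g = LinearMap.range k :=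
      SetLike.ext fun x => lTensor_exact S (LinearMap.exact_subtype_ker_map p) hp x
    have hfg := Module.FinitePresentation.fg_ker g (LinearMap.lTensor_surjective S hp)
    rw [hex] at hfg
    haveI := Module.Finite.iff_fg.mpr hfg
    exact Module.Finite.equiv (LinearEquiv.ofInjective k hinj).symm
  haveI := key B
  haveI := key A'
  haveI := finite_of_baseChange hsq ↥(LinearMap.ker p)
  exact Module.finitePresentation_of_surjective p hp (Module.Finite.iff_fg.mp inferInstance)

end Square

end Groth.Agent.H9Hens.Milnor
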