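import Groth.Agent.H9Hens.Glue
import Groth.Agent.H9Hens.MilnorFlat
import Groth.Agent.H8Props.FlatKernel
import Mathlib.RingTheory.Flat.EquationalCriterion

/-!
# Flatness and finiteness along glueing pairs
-/

set_option autoImplicit false

universe u

open TensorProduct

namespace Groth.Agent.H9Hens.Glue

open Milnor (T T_ext T_of_flat T_of_module T_of_retract T_of_equiv)

section General

variable {R : Type u} [CommRing R] {L : Type u} [AddCommGroup L] [Module R L]

/-- `Tor₁` vanishing passes to a submodule with flat quotient. -/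
theorem T_of_sub_flat {Q P G : Type u} [AddCommGroup Q] [Module R Q] [AddCommGroup P] [Module R P]
    [AddCommGroup G] [Module R G] [Module.Flat R G] (ι : Q →ₗ[R] P) (g : P →ₗ[R] G)
    (hι : Function.Injective ι) (he : Function.Exact ι g) (hg : Function.Surjective g)
    (hP : T (R := R) L P) : T (R := R) L Q := by
  intro X Y _ _ _ _ i p hi hip hp
  let π : (G →₀ R) →ₗ[R] G := Finsupp.linearCombination R id
  have hπ : Function.Surjective π := Finsupp.linearCombination_surjective _ Function.surjective_id
  haveI : Module.Flat R (LinearMap.ker π) := H8Props.flat_of_exact (P := ↥(LinearMap.ker π)) (M := G →₀ R) (Q := G) (LinearMap.ker π).subtype π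
    Subtype.val_injective (LinearMap.exact_subtype_ker_map π) hπ
  obtain ⟨σ, hσ⟩ := Module.projective_lifting_property g π hg
  have hσ' : ∀ v, g (σ v) = π v := fun v => LinearMap.congr_fun hσ v
  let Φ : Y × (G →₀ R) →ₗ[R] P := (ι ∘ₗ p).coprod σ
  have hΦ : Function.Surjective Φ := fun z => by
    obtain ⟨v, hv⟩ := hπ (g z)
    obtain ⟨q, hq⟩ := (he (z - σ v)).mp (by rw [map_sub, hσ', hv, sub_self])
    obtain ⟨y, rfl⟩ := hp q
    exact ⟨(y, v), by simp [Φ, hq]⟩
  let W := LinearMap.ker Φ
  let j : X →ₗ[R] W := (i.prod 0).codRestrict W fun x =>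
    show Φ (i x, 0) = 0 by simp [Φ, hip.apply_apply_eq_zero]
  let s : W →ₗ[R] LinearMap.ker π :=
    (LinearMap.snd R Y (G →₀ R) ∘ₗ W.subtype).codRestrict _ fun w => by
      have hw : ι (p w.1.1) + σ w.1.2 = 0 := LinearMap.mem_ker.mp w.2
      rw [LinearMap.mem_ker]
      have := congrArg g hw
      rwa [map_add, he.apply_apply_eq_zero, zero_add, hσ', map_zero] at this
  have hjs : Function.Exact j s := fun ⟨⟨y, v⟩, hw⟩ => by
    refine ⟨fun h => ?_, ?_⟩
    · have hv : v = 0 := congrArg Subtype.val h
      have hw' : ι (p y) + σ v = 0 := LinearMap.mem_ker.mp hw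
      rw [hv, map_zero, add_zero] at hw'
      obtain ⟨x, rfl⟩ := (hip y).mp (hι (hw'.trans (map_zero ι).symm))
      exact ⟨x, Subtype.ext (Prod.ext rfl hv.symm)⟩
    · rintro ⟨x, hx⟩
      rw [← hx]
      exact Subtype.ext rfl
  have hs : Function.Surjective s := fun ⟨v, hv⟩ => by
    obtain ⟨q, hq⟩ := (he (σ v)).mp (by rw [hσ']; exact hv)
    obtain ⟨y, hy⟩ := hp (-q)
    exact ⟨⟨(y, v), show ι (p y) + σ v = 0 by rw [hy, map_neg, hq]; simp⟩, rfl⟩
  have h1 := (T_of_flat (L := L) : T (R := R) L (LinearMap.ker π)) X W j s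
    (fun a b hab => hi (congrArg (fun w : W => w.1.1) hab)) hjs hs
  have h2 := hP W (Y × (G →₀ R)) W.subtype Φ Subtype.val_injective
    (LinearMap.exact_subtype_ker_map Φ) hΦ
  have h3 := h2.comp h1
  rw [← LinearMap.coe_comp, ← LinearMap.rTensor_comp, show W.subtype ∘ₗ j = LinearMap.inl R Y _ ∘ₗ i
    from rfl, LinearMap.rTensor_comp, LinearMap.coe_comp] at h3
  exact h3.of_comp

end General

variable {R R' : Type u} [CommRing R] [CommRing R'] [Algebra R R'] {f : R}
variable {L : Type u} [AddCommGroup L] [Module R L]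

theorem T_loc [Module.Flat (Localization.Away f) (Localization.Away f ⊗[R] L)]
    (X : Type u) [AddCommGroup X] [Module R X] [Module (Localization.Away f) X]
    [IsScalarTower R (Localization.Away f) X] : T (R := R) L X := by
  refine T_of_module (S := Localization.Away f) (fun F _ _ _ => ?_) X
  haveI : Module.Flat R (Localization.Away f) := IsLocalization.flat (Localization.Away f) (Submonoid.powers f)
  exact T_of_flat

theorem T_awayTensor [Module.Flat (Localization.Away f) (Localization.Away f ⊗[R] L)]
    (F : Type u) [AddCommGroup F] [Module R F] :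
    T (R := R) L (Localization.Away (algebraMap R R' f) ⊗[R] F) := by
  letI : Algebra (Localization.Away f) (Localization.Away (algebraMap R R' f)) :=
    (Localization.awayMap (algebraMap R R') f).toAlgebra
  haveI : IsScalarTower R (Localization.Away f) (Localization.Away (algebraMap R R' f)) :=
    IsScalarTower.of_algebraMap_eq fun r => by
      rw [RingHom.algebraMap_toAlgebra, awayMap_algebraMap, ← IsScalarTower.algebraMap_apply]
  exact T_loc (f := f) _

variable [Module.Flat R' (R' ⊗[R] L)] [Module.Flat (Localization.Away f) (Localization.Away f ⊗[R] L)]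

theorem T_completion (h : EtGlue.IsGlueingPair R R' f) (X : Type u) [AddCommGroup X] [Module R X]
    [Module R' X] [IsScalarTower R R' X] : T (R := R) L X := by
  refine T_of_module (S := R') (fun F _ _ _ => ?_) X
  obtain ⟨h1, h2, h3⟩ := props h
  have hP : T (R := R) L ((R' × Localization.Away f) ⊗[R] F) :=
    T_ext ((incl R R' f).rTensor F) ((diff R R' f).rTensor F)
      (Module.Flat.rTensor_preserves_injective_linearMap _ h1) (rTensor_exact F h2 h3)
      (LinearMap.rTensor_surjective F h3) T_of_flat (T_awayTensor F)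
  refine T_of_retract ((LinearMap.fst R R' (Localization.Away f)).rTensor F)
    ((LinearMap.inl R R' (Localization.Away f)).rTensor F) ?_ hP
  rw [← LinearMap.rTensor_comp, LinearMap.fst_comp_inl, LinearMap.rTensor_id]

theorem T_torsion (h : EtGlue.IsGlueingPair R R' f) (X : Type u) [AddCommGroup X] [Module R X]
    (hX : ∀ x : X, ∃ n : ℕ, f ^ n • x = 0) : T (R := R) L X :=
  T_of_equiv (LinearEquiv.ofBijective _ (bijective_mk_of_torsion h.1 hX)).symm (T_completion h _)

theorem T_all (h : EtGlue.IsGlueingPair R R' f) (X : Type u) [AddCommGroup X] [Module R X] :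
    T (R := R) L X := by
  obtain ⟨-, h2, h3⟩ := props h
  let e := TensorProduct.prodLeft R R R' (Localization.Away f) X
  let θ : X →ₗ[R] (R' ⊗[R] X) × (Localization.Away f ⊗[R] X) :=
    (TensorProduct.mk R R' X 1).prod (TensorProduct.mk R (Localization.Away f) X 1)
  let δ := (diff R R' f).rTensor X ∘ₗ e.symm.toLinearMap
  have hθ : ∀ x, e ((incl R R' f).rTensor X ((1 : R) ⊗ₜ x)) = θ x := fun x => by
    simp [e, θ, incl, TensorProduct.prodLeft_tmul]
  have hex : Function.Exact θ δ := fun z => by
    constructor
    · intro hz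
      obtain ⟨t, ht⟩ := (rTensor_exact X h2 h3 (e.symm z)).mp hz
      refine ⟨TensorProduct.lid R X t, ?_⟩
      rw [← hθ, show (1 : R) ⊗ₜ[R] TensorProduct.lid R X t = t from
        (TensorProduct.lid R X).symm_apply_apply t, ht, e.apply_symm_apply]
    · rintro ⟨x, rfl⟩
      show (diff R R' f).rTensor X (e.symm (θ x)) = 0
      rw [← hθ, e.symm_apply_apply]
      exact (rTensor_exact X h2 h3).apply_apply_eq_zero _
  have hδ : Function.Surjective δ :=
    (LinearMap.rTensor_surjective X h3).comp e.symm.surjective
  have hKer : T (R := R) L (LinearMap.ker θ) := T_torsion h _ fun x => by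
    obtain ⟨n, hn⟩ := exists_pow_smul_eq_zero_of_tmul x.1
      (congrArg Prod.snd (LinearMap.mem_ker.mp x.2))
    exact ⟨n, Subtype.ext hn⟩
  have hQ : T (R := R) L (LinearMap.range θ) := by
    letI : Algebra (Localization.Away f) (Localization.Away (algebraMap R R' f)) :=
      (Localization.awayMap (algebraMap R R') f).toAlgebra
    haveI : IsScalarTower R (Localization.Away f) (Localization.Away (algebraMap R R' f)) :=
      IsScalarTower.of_algebraMap_eq fun r => by
        rw [RingHom.algebraMap_toAlgebra, awayMap_algebraMap, ← IsScalarTower.algebraMap_apply]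
    let q : (Localization.Away (algebraMap R R' f) ⊗[R] X →₀ R) →ₗ[R]
        Localization.Away (algebraMap R R' f) ⊗[R] X := Finsupp.linearCombination R id
    let g := LinearMap.liftBaseChange (Localization.Away f) q
    have hg : Function.Surjective g := fun z => ⟨1 ⊗ₜ Finsupp.single z 1, by simp [g, q]⟩
    haveI : Module.Flat R (Localization.Away f) :=
      IsLocalization.flat (Localization.Away f) (Submonoid.powers f)
    let P := LinearMap.ker (δ ∘ₗ LinearMap.fst R _
        (Localization.Away f ⊗[R] (Localization.Away (algebraMap R R' f) ⊗[R] X →₀ R)) -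
      (g.restrictScalars R) ∘ₗ LinearMap.snd R _ _)
    have hmem : ∀ z v, (z, v) ∈ P ↔ δ z = g v := fun z v => by simp [P, sub_eq_zero]
    let pG := LinearMap.snd R _ _ ∘ₗ P.subtype
    let pP := LinearMap.fst R _ _ ∘ₗ P.subtype
    have hT : T (R := R) L P := by
      let k : LinearMap.ker g →ₗ[R] P :=
        ((0 : LinearMap.ker g →ₗ[R] (R' ⊗[R] X) × (Localization.Away f ⊗[R] X)).prod
          ((LinearMap.ker g).subtype.restrictScalars R)).codRestrict P
          fun v => (hmem _ _).mpr (by simp [LinearMap.mem_ker.mp v.2])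
      refine T_ext (M₁ := ↥(LinearMap.ker g)) k pP ?_ ?_ ?_ (T_loc (f := f) _) ?_
      · intro a b hab
        exact Subtype.ext (congrArg (fun w : P => w.1.2) hab)
      · rintro ⟨⟨z, v⟩, hzv⟩
        constructor
        · intro (h0 : z = 0)
          have hv : g v = 0 := by rw [← (hmem z v).mp hzv, h0, map_zero]
          exact ⟨⟨v, hv⟩, Subtype.ext (Prod.ext h0.symm rfl)⟩
        · rintro ⟨w, hw⟩
          exact (congrArg (fun t : P => t.1.1) hw).symm
      · intro z
        obtain ⟨v, hv⟩ := hg (δ z)
        exact ⟨⟨(z, v), (hmem z v).mpr hv.symm⟩, rfl⟩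
      · exact T_ext (LinearMap.inl R _ _) (LinearMap.snd R _ _) LinearMap.inl_injective
          Function.Exact.inl_snd LinearMap.snd_surjective (T_completion h _) (T_loc (f := f) _)
    let ι : LinearMap.range θ →ₗ[R] P :=
      ((LinearMap.range θ).subtype.prod 0).codRestrict P fun z => (hmem _ _).mpr (by
        obtain ⟨x, hx⟩ := z.2
        rw [LinearMap.zero_apply, map_zero]
        show δ z.1 = 0
        rw [← hx, hex.apply_apply_eq_zero])
    refine T_of_sub_flat ι pG (fun a b hab => Subtype.ext (congrArg (fun w : P => w.1.1) hab)) ?_ ?_ hT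
    · rintro ⟨⟨z, v⟩, hzv⟩
      constructor
      · intro (h0 : v = 0)
        have hz : δ z = 0 := by rw [(hmem z v).mp hzv, h0, map_zero]
        exact ⟨⟨z, (hex z).mp hz⟩, Subtype.ext (Prod.ext rfl h0.symm)⟩
      · rintro ⟨w, hw⟩
        exact (congrArg (fun t : P => t.1.2) hw).symm
    · intro v
      obtain ⟨z, hz⟩ := hδ (g v)
      exact ⟨⟨(z, v), (hmem z v).mpr hz⟩, rfl⟩
  exact T_ext (LinearMap.ker θ).subtype θ.rangeRestrict Subtype.val_injective
    (fun m => by simp [← LinearMap.mem_ker]) θ.surjective_rangeRestrict hKer hQ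

theorem flat_of_baseChange (h : EtGlue.IsGlueingPair R R' f) : Module.Flat R L :=
  Milnor.flat_of_forall_T fun M _ _ => T_all h M

section Finite

theorem subsingleton_tensor_quotient {S : Type u} [CommRing S] [Algebra R S] {M : Type u}
    [AddCommGroup M] [Module R M] (N : Submodule R M) (v : Set M) (hv : v ⊆ N)
    (hspan : Submodule.span S ((fun l => (1 : S) ⊗ₜ[R] l) '' v) = ⊤) :
    Subsingleton (S ⊗[R] (M ⧸ N)) := by
  refine subsingleton_of_forall_eq 0 fun z => ?_
  obtain ⟨w, rfl⟩ : ∃ w, N.mkQ.baseChange S w = z :=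
    LinearMap.lTensor_surjective S N.mkQ_surjective z
  have hw : w ∈ Submodule.span S ((fun l => (1 : S) ⊗ₜ[R] l) '' v) := hspan ▸ Submodule.mem_top
  refine LinearMap.mem_ker.mp (Submodule.span_le.mpr ?_ hw)
  rintro _ ⟨l, hl, rfl⟩
  simp [(Submodule.Quotient.mk_eq_zero N).mpr (hv hl)]

omit [Module.Flat R' (R' ⊗[R] L)] [Module.Flat (Localization.Away f) (Localization.Away f ⊗[R] L)] in
theorem finite_of_baseChange (hq : EtGlue.QuotPowBijective R R' f) (M : Type u) [AddCommGroup M]
    [Module R M] [Module.Finite R' (R' ⊗[R] M)]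
    [Module.Finite (Localization.Away f) (Localization.Away f ⊗[R] M)] : Module.Finite R M := by
  classical
  obtain ⟨s, hs⟩ := Milnor.exists_finset_baseChange (R := R) (S := R') M
  obtain ⟨t, ht⟩ := Milnor.exists_finset_baseChange (R := R) (S := Localization.Away f) M
  let N := Submodule.span R ((s ∪ t : Finset M) : Set M)
  haveI := subsingleton_tensor_quotient N _ (fun x hx => Submodule.subset_span
    (Finset.mem_coe.mpr (Finset.mem_union_left t hx))) hs
  haveI := subsingleton_tensor_quotient N _ (fun x hx => Submodule.subset_span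
    (Finset.mem_coe.mpr (Finset.mem_union_right s hx))) ht
  haveI := eq_zero_of_torsion (M := M ⧸ N) hq fun q =>
    exists_pow_smul_eq_zero_of_tmul q (Subsingleton.elim _ _)
  exact ⟨⟨s ∪ t, Submodule.Quotient.subsingleton_iff.mp this⟩⟩

theorem finitePresentation_of_baseChange (h : EtGlue.IsGlueingPair R R' f)
    [Module.FinitePresentation R' (R' ⊗[R] L)]
    [Module.FinitePresentation (Localization.Away f) (Localization.Away f ⊗[R] L)] :
    Module.FinitePresentation R L := by
  haveI := flat_of_baseChange (L := L) h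
  haveI := finite_of_baseChange h.1 L
  obtain ⟨n, p, hp⟩ := Module.Finite.exists_fin' R L
  have key : ∀ (S : Type u) [CommRing S] [Algebra R S] [Module.FinitePresentation S (S ⊗[R] L)],
      Module.Finite S (S ⊗[R] LinearMap.ker p) := by
    intro S _ _ _
    let k := (LinearMap.ker p).subtype.baseChange S
    let g := p.baseChange S
    have hinj : Function.Injective k :=
      LinearMap.lTensor_injective_of_exact_of_flat p hp _ Subtype.val_injective
        (LinearMap.exact_subtype_ker_map p) S
    have hex : LinearMap.ker g = LinearMap.range k :=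
      SetLike.ext fun x => lTensor_exact S (LinearMap.exact_subtype_ker_map p) hp x
    have hfg := Module.FinitePresentation.fg_ker g (LinearMap.lTensor_surjective S hp)
    rw [hex] at hfg
    haveI := Module.Finite.iff_fg.mpr hfg
    exact Module.Finite.equiv (LinearEquiv.ofInjective k hinj).symm
  haveI := key R'
  haveI := key (Localization.Away f)
  haveI := finite_of_baseChange h.1 ↥(LinearMap.ker p)
  exact Module.finitePresentation_of_surjective p hp (Module.Finite.iff_fg.mp inferInstance)

end Finite

end Groth.Agent.H9Hens.Glue
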