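import Groth.Agent.H9Hens.GlueFlat
import Groth.Agent.S2004
import Mathlib.RingTheory.Smooth.Fiber
import Mathlib.RingTheory.Etale.Kaehler
import Mathlib.RingTheory.RingHom.Etale
import Mathlib.RingTheory.RingHom.Finite
import Mathlib.RingTheory.RingHom.FiniteType
import Mathlib.RingTheory.RingHom.FinitePresentation
import Mathlib.RingTheory.RingHom.Flat
import Mathlib.RingTheory.TensorProduct.Finite

/-!
# Glueing pairs detect properties of algebras
-/

set_option autoImplicit false

universe u

open TensorProduct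

namespace Groth.Agent.H9Hens.Glue

variable {R R' : Type u} [CommRing R] [CommRing R'] [Algebra R R'] {f : R}

theorem eq_top_of_range (hq : EtGlue.QuotPowBijective R R' f) {M : Type u} [AddCommGroup M]
    [Module R M] (N : Submodule R M) (h' : ∀ z, z ∈ LinearMap.range (N.subtype.lTensor R'))
    (hf : ∀ z, z ∈ LinearMap.range (N.subtype.lTensor (Localization.Away f))) : N = ⊤ := by
  refine eq_top_of_baseChange hq N h' fun m => ?_
  obtain ⟨w, hw⟩ := hf ((1 : Localization.Away f) ⊗ₜ m)
  have h0 : (1 : Localization.Away f) ⊗ₜ[R] (N.mkQ m) = 0 := by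
    rw [← LinearMap.lTensor_tmul, ← hw, ← LinearMap.lTensor_comp_apply, show N.mkQ ∘ₗ N.subtype = 0
      from LinearMap.ext fun x => (Submodule.Quotient.mk_eq_zero N).mpr x.2]
    simp
  obtain ⟨n, hn⟩ := exists_pow_smul_eq_zero_of_tmul _ h0
  exact ⟨n, by rw [← map_smul] at hn; exact (Submodule.Quotient.mk_eq_zero N).mp hn⟩

variable {B : Type u} [CommRing B] [Algebra R B]

theorem exists_finset_algMap (S : Type u) [CommRing S] [Algebra R S]
    [Algebra.FiniteType S (S ⊗[R] B)] :
    ∃ s : Finset B, ∀ C : Subalgebra R B, (s : Set B) ⊆ C →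
      ∀ z, z ∈ LinearMap.range ((Subalgebra.toSubmodule C).subtype.lTensor S) := by
  classical
  obtain ⟨t, ht⟩ := (Algebra.FiniteType.out (R := S) (A := S ⊗[R] B))
  choose k c using fun z : S ⊗[R] B => TensorProduct.exists_finset z
  refine ⟨t.biUnion fun z => (k z).image Prod.snd, fun C hC z => ?_⟩
  have hmem : ∀ w, w ∈ LinearMap.range ((Subalgebra.toSubmodule C).subtype.lTensor S) ↔
      w ∈ (Algebra.TensorProduct.map (AlgHom.id S S) C.val).range := by
    intro w
    have key : ∀ v, (Subalgebra.toSubmodule C).subtype.lTensor S v =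
        Algebra.TensorProduct.map (AlgHom.id S S) C.val v := fun v => by
      induction v using TensorProduct.induction_on with
      | zero => simp
      | tmul a b => simp
      | add a b ha hb => simp only [map_add, ha, hb]
    exact ⟨fun ⟨v, hv⟩ => ⟨v, (key v).symm.trans hv⟩, fun ⟨v, hv⟩ => ⟨v, (key v).trans hv⟩⟩
  rw [hmem]
  have hz : z ∈ Algebra.adjoin S (t : Set (S ⊗[R] B)) := ht ▸ Algebra.mem_top
  refine Algebra.adjoin_le (fun w hw => ?_) hz
  rw [SetLike.mem_coe, c w]
  refine Subalgebra.sum_mem _ fun p hp => ?_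
  have hp2 : p.2 ∈ C := hC (Finset.mem_coe.mpr
    (Finset.mem_biUnion.mpr ⟨w, hw, Finset.mem_image.mpr ⟨p, hp, rfl⟩⟩))
  exact ⟨p.1 ⊗ₜ ⟨p.2, hp2⟩, by simp⟩

theorem finiteType_of_baseChange (hq : EtGlue.QuotPowBijective R R' f)
    [Algebra.FiniteType R' (R' ⊗[R] B)]
    [Algebra.FiniteType (Localization.Away f) (Localization.Away f ⊗[R] B)] :
    Algebra.FiniteType R B := by
  classical
  obtain ⟨s, hs⟩ := exists_finset_algMap (R := R) (B := B) R'
  obtain ⟨t, ht⟩ := exists_finset_algMap (R := R) (B := B) (Localization.Away f)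
  have h := eq_top_of_range hq (Subalgebra.toSubmodule (Algebra.adjoin R ((s ∪ t : Finset B) : Set B)))
    (hs _ fun x hx => Algebra.subset_adjoin (Finset.mem_coe.mpr (Finset.mem_union_left t hx)))
    (ht _ fun x hx => Algebra.subset_adjoin (Finset.mem_coe.mpr (Finset.mem_union_right s hx)))
  exact ⟨⟨s ∪ t, Algebra.toSubmodule_eq_top.mp h⟩⟩

/-- Finitely many elements of an ideal generate its base change. -/
theorem exists_finset_ker (S : Type u) [CommRing S] [Algebra R S] {P : Type u} [CommRing P]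
    [Algebra R P] [Algebra.FinitePresentation R P] (p : P →ₐ[R] B) (hp : Function.Surjective p)
    [Algebra.FinitePresentation S (S ⊗[R] B)]
    (hinj : Function.Injective
      (((RingHom.ker p).restrictScalars R).subtype.lTensor S)) :
    ∃ s : Finset P, (∀ x ∈ s, p x = 0) ∧
      ∀ L : Submodule R ((RingHom.ker p).restrictScalars R),
        (∀ (x : P) (l : P) (hx : x ∈ s) (hm : l * x ∈ (RingHom.ker p).restrictScalars R),
          ⟨l * x, hm⟩ ∈ L) →
        ∀ z, z ∈ LinearMap.range (L.subtype.lTensor S) := by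
  classical
  let g := Algebra.TensorProduct.map (AlgHom.id S S) p
  have hg : Function.Surjective g := fun z => by
    induction z using TensorProduct.induction_on with
    | zero => exact ⟨0, map_zero _⟩
    | tmul a b =>
      obtain ⟨b, rfl⟩ := hp b
      exact ⟨a ⊗ₜ b, rfl⟩
    | add x y hx hy =>
      obtain ⟨a, rfl⟩ := hx
      obtain ⟨b, rfl⟩ := hy
      exact ⟨a + b, map_add _ _ _⟩
  obtain ⟨t, ht⟩ := Algebra.FinitePresentation.ker_fG_of_surjective g hg
  let K := (RingHom.ker p).restrictScalars R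
  let ι := K.subtype.lTensor S
  have hex : ∀ w : S ⊗[R] P, g w = 0 → w ∈ LinearMap.range ι := by
    intro w hw
    have hexact : Function.Exact K.subtype p.toLinearMap := fun x =>
      ⟨fun hx => ⟨⟨x, hx⟩, rfl⟩, by rintro ⟨k, rfl⟩; exact k.2⟩
    refine (lTensor_exact S hexact hp w).mp ?_
    rw [← hw]
    clear hw
    induction w using TensorProduct.induction_on with
    | zero => simp
    | tmul a b => simp [g]
    | add x y hx hy => simp only [map_add, hx, hy]
  have hc : ∀ w ∈ t, ∃ k : Finset (S × K), w = ∑ i ∈ k, i.1 ⊗ₜ[R] (i.2 : P) := fun w hw => by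
    have hmem : w ∈ RingHom.ker g.toRingHom := by rw [← ht]; exact Ideal.subset_span hw
    obtain ⟨v, hv⟩ := hex w (RingHom.mem_ker.mp hmem)
    obtain ⟨k, hk⟩ := TensorProduct.exists_finset v
    refine ⟨k, ?_⟩
    rw [← hv, hk, map_sum]
    rfl
  choose k c using hc
  refine ⟨t.attach.biUnion fun w => (k w.1 w.2).image fun i => (i.2 : P), fun x hx => ?_,
    fun L hL z => ?_⟩
  · obtain ⟨w, -, hx⟩ := Finset.mem_biUnion.mp hx
    obtain ⟨i, -, rfl⟩ := Finset.mem_image.mp hx
    exact i.2.2
  let W : Submodule R (S ⊗[R] P) := LinearMap.range (ι ∘ₗ L.subtype.lTensor S)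
  suffices hW : ι z ∈ W by
    obtain ⟨v, hv⟩ := hW
    exact ⟨v, hinj hv⟩
  have hg0 : ι z ∈ Ideal.span (t : Set (S ⊗[R] P)) := by
    rw [show Ideal.span (t : Set (S ⊗[R] P)) = RingHom.ker g.toRingHom from ht, RingHom.mem_ker]
    show g (ι z) = 0
    induction z using TensorProduct.induction_on with
    | zero => simp
    | tmul a b =>
      show g (a ⊗ₜ[R] (b : P)) = 0
      simp [g, RingHom.mem_ker.mp b.2]
    | add x y hx hy => simp only [map_add, hx, hy, add_zero]
  have hclosed : ∀ q : S ⊗[R] P, ∀ w ∈ t, q * w ∈ W := by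
    intro q w hw
    rw [c w hw, Finset.mul_sum]
    refine sum_mem fun i hi => ?_
    induction q using TensorProduct.induction_on with
    | zero => rw [zero_mul]; exact zero_mem _
    | tmul a l =>
      have hm : l * (i.2 : P) ∈ K := by
        show p (l * (i.2 : P)) = 0
        rw [map_mul, RingHom.mem_ker.mp i.2.2, mul_zero]
      refine ⟨(a * i.1) ⊗ₜ ⟨⟨l * (i.2 : P), hm⟩, hL _ l (Finset.mem_biUnion.mpr
        ⟨⟨w, hw⟩, Finset.mem_attach _ _, Finset.mem_image.mpr ⟨i, hi, rfl⟩⟩) hm⟩, ?_⟩
      rw [Algebra.TensorProduct.tmul_mul_tmul]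
      rfl
    | add x y hx hy => rw [add_mul]; exact add_mem hx hy
  have : ∀ y ∈ Ideal.span (t : Set (S ⊗[R] P)), ∀ q : S ⊗[R] P, q * y ∈ W := by
    intro y hy
    induction hy using Submodule.span_induction with
    | mem w hw => exact fun q => hclosed q w hw
    | zero => intro q; rw [mul_zero]; exact zero_mem _
    | add x y _ _ hx hy => intro q; rw [mul_add]; exact add_mem (hx q) (hy q)
    | smul c x _ hx => intro q; rw [smul_eq_mul, ← mul_assoc]; exact hx _
  simpa using this _ hg0 1

theorem algebra_finitePresentation_of_baseChange (h : EtGlue.IsGlueingPair R R' f)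
    [Module.Flat R' (R' ⊗[R] B)]
    [Module.Flat (Localization.Away f) (Localization.Away f ⊗[R] B)]
    [Algebra.FinitePresentation R' (R' ⊗[R] B)]
    [Algebra.FinitePresentation (Localization.Away f) (Localization.Away f ⊗[R] B)] :
    Algebra.FinitePresentation R B := by
  classical
  haveI := flat_of_baseChange (L := B) h
  haveI := finiteType_of_baseChange (B := B) h.1
  obtain ⟨n, p, hp⟩ := Algebra.FiniteType.iff_quotient_mvPolynomial''.mp
    (inferInstance : Algebra.FiniteType R B)
  let K := (RingHom.ker p).restrictScalars R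
  have hinj : ∀ (S : Type u) [CommRing S] [Algebra R S], Function.Injective (K.subtype.lTensor S) :=
    fun S _ _ => LinearMap.lTensor_injective_of_exact_of_flat p.toLinearMap hp _ Subtype.val_injective
      (fun x => ⟨fun hx => ⟨⟨x, hx⟩, rfl⟩, by rintro ⟨k, rfl⟩; exact k.2⟩) S
  obtain ⟨s, hs0, hs⟩ := exists_finset_ker R' p hp (hinj R')
  obtain ⟨t, ht0, ht⟩ := exists_finset_ker (Localization.Away f) p hp (hinj _)
  let L : Submodule R K := ((Ideal.span ((s ∪ t : Finset _) : Set _)).restrictScalars R).comap K.subtype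
  have hL : L = ⊤ := eq_top_of_range h.1 L
    (hs L fun x l hx hm => Ideal.mul_mem_left _ _
      (Ideal.subset_span (Finset.mem_coe.mpr (Finset.mem_union_left t hx))))
    (ht L fun x l hx hm => Ideal.mul_mem_left _ _
      (Ideal.subset_span (Finset.mem_coe.mpr (Finset.mem_union_right s hx))))
  refine Algebra.FinitePresentation.of_surjective hp ⟨s ∪ t, le_antisymm ?_ fun x hx => ?_⟩
  · refine Ideal.span_le.mpr fun x hx => ?_
    rcases Finset.mem_union.mp hx with h' | h'
    · exact hs0 x h'
    · exact ht0 x h'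
  · exact (Submodule.eq_top_iff'.mp hL ⟨x, hx⟩ :)

theorem algebra_formallyUnramified_of_baseChange (hq : EtGlue.QuotPowBijective R R' f)
    [Algebra.FormallyUnramified R' (R' ⊗[R] B)]
    [Algebra.FormallyUnramified (Localization.Away f) (Localization.Away f ⊗[R] B)] :
    Algebra.FormallyUnramified R B := by
  rw [Algebra.formallyUnramified_iff]
  have key : ∀ (S : Type u) [CommRing S] [Algebra R S]
      [Algebra.FormallyUnramified S (S ⊗[R] B)], Subsingleton (S ⊗[R] Ω[B⁄R]) := fun S _ _ _ => by
    letI := Algebra.TensorProduct.rightAlgebra (R := R) (A := S) (B := B)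
    exact (KaehlerDifferential.tensorKaehlerEquivBase R S B (S ⊗[R] B)).toEquiv.subsingleton
  haveI := key R'
  haveI := key (Localization.Away f)
  exact eq_zero_of_torsion hq fun q => exists_pow_smul_eq_zero_of_tmul q (Subsingleton.elim _ _)

theorem algebra_etale_of_baseChange (h : EtGlue.IsGlueingPair R R' f)
    [Algebra.Etale R' (R' ⊗[R] B)]
    [Algebra.Etale (Localization.Away f) (Localization.Away f ⊗[R] B)] : Algebra.Etale R B := by
  haveI := flat_of_baseChange (L := B) h
  haveI := algebra_finitePresentation_of_baseChange (B := B) h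
  haveI := algebra_formallyUnramified_of_baseChange (B := B) h.1
  exact Algebra.Etale.of_formallyUnramified_of_flat

section Detect

attribute [local instance] Algebra.TensorProduct.rightAlgebra

variable (A : Type u) [CommRing A] [Algebra R A]

theorem cong_tensor (hq : EtGlue.QuotPowBijective R R' f) :
    EtGlue.QuotPowBijective A (R' ⊗[R] A) (algebraMap R A f) := by
  intro n _
  have e : (1 : R') ⊗ₜ[R] (algebraMap R A f ^ n) = algebraMap R (R' ⊗[R] A) (f ^ n) := by
    rw [← map_pow, Algebra.algebraMap_eq_smul_one, TensorProduct.tmul_smul,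
      Algebra.algebraMap_eq_smul_one]
    rfl
  have hspan : (Ideal.span {algebraMap R A f ^ n}).map (algebraMap A (R' ⊗[R] A)) =
      Ideal.span {algebraMap R (R' ⊗[R] A) (f ^ n)} := by
    rw [Ideal.map_span, Set.image_singleton, ← e]
    rfl
  refine ⟨(injective_iff_map_eq_zero _).mpr fun a ha => ?_, fun z => ?_⟩
  · obtain ⟨a, rfl⟩ := Ideal.Quotient.mk_surjective a
    rw [Ideal.quotientMap_mk, Ideal.Quotient.eq_zero_iff_mem, hspan, Ideal.mem_span_singleton'] at ha
    obtain ⟨y, hy⟩ := ha
    obtain ⟨a', ha'⟩ := exists_eq_pow_smul hq (m := a) (y := y) (n := n)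
      (by rw [Algebra.smul_def, mul_comm, hy]; rfl)
    rw [Ideal.Quotient.eq_zero_iff_mem, Ideal.mem_span_singleton', ha', ← map_pow, Algebra.smul_def]
    exact ⟨a', mul_comm _ _⟩
  · obtain ⟨z, rfl⟩ := Ideal.Quotient.mk_surjective z
    obtain ⟨a, y, hy⟩ := exists_eq_one_tmul_add hq n z
    refine ⟨Ideal.Quotient.mk _ a, ?_⟩
    rw [Ideal.quotientMap_mk, Ideal.Quotient.eq, hspan, Ideal.mem_span_singleton']
    exact ⟨-y, by rw [hy, Algebra.smul_def, show algebraMap A (R' ⊗[R] A) a = 1 ⊗ₜ a from rfl]; ring⟩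

theorem isGlueingPair_tensor (hq : EtGlue.QuotPowBijective R R' f) (hA : EtGlue.IsGlueable R R' f A) :
    EtGlue.IsGlueingPair A (R' ⊗[R] A) (algebraMap R A f) := by
  obtain ⟨hi, hs⟩ := (isGlueable_iff hq).mp hA
  refine (S2004.result A (R' ⊗[R] A) (algebraMap R A f) (cong_tensor A hq)).mpr ⟨?_, ?_⟩
  · rintro x ⟨n, hn⟩ h0
    exact hi x ⟨n, by rw [Algebra.smul_def, map_pow]; exact hn⟩ h0
  · rintro x ⟨n, hn⟩
    obtain ⟨m, ⟨k, hk⟩, hm⟩ := hs x ⟨n, by
      rw [Algebra.smul_def, map_pow, ← hn]
      congr 2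
      exact RingHom.congr_fun Algebra.TensorProduct.includeLeftRingHom_comp_algebraMap f⟩
    exact ⟨m, ⟨k, by rw [← map_pow, ← Algebra.smul_def]; exact hk⟩, hm⟩

/-- A stable property detected along `(A, R' ⊗ A, f)` is detected by the two induced maps. -/
theorem detect (B : Type u) [CommRing B] [Algebra R B] (φ : A →ₐ[R] B)
    (P : ∀ {S T : Type u} [CommRing S] [CommRing T], (S →+* T) → Prop)
    (hbc : RingHom.IsStableUnderBaseChange @P) (hiso : RingHom.RespectsIso @P)
    (hdesc : ∀ (C : Type u) [CommRing C] [Algebra A C],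
      P (algebraMap (R' ⊗[R] A) ((R' ⊗[R] A) ⊗[A] C)) →
      P (algebraMap (Localization.Away (algebraMap R A f))
        (Localization.Away (algebraMap R A f) ⊗[A] C)) → P (algebraMap A C)) :
    P φ.toRingHom ↔ P (Localization.awayMap φ.toRingHom (algebraMap R A f)) ∧
      P (Algebra.TensorProduct.map (AlgHom.id R R') φ).toRingHom := by
  letI : Algebra A B := φ.toRingHom.toAlgebra
  haveI : IsScalarTower R A B := IsScalarTower.of_algebraMap_eq fun r => (φ.commutes r).symm
  let g := algebraMap R A f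
  let φ' := Algebra.TensorProduct.map (AlgHom.id R R') φ
  letI : Algebra (R' ⊗[R] A) (R' ⊗[R] B) := φ'.toRingHom.toAlgebra
  letI : Algebra A (R' ⊗[R] B) := ((algebraMap B (R' ⊗[R] B)).comp (algebraMap A B)).toAlgebra
  haveI : IsScalarTower A B (R' ⊗[R] B) := IsScalarTower.of_algebraMap_eq fun a => rfl
  haveI : IsScalarTower R A (R' ⊗[R] B) := IsScalarTower.of_algebraMap_eq fun r => by
    show algebraMap R (R' ⊗[R] B) r = algebraMap B (R' ⊗[R] B) (algebraMap A B (algebraMap R A r))
    rw [← IsScalarTower.algebraMap_apply R A B, ← IsScalarTower.algebraMap_apply R B (R' ⊗[R] B)]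
  haveI : IsScalarTower A (R' ⊗[R] A) (R' ⊗[R] B) :=
    IsScalarTower.of_algebraMap_eq fun a => by
      show (algebraMap A (R' ⊗[R] B)) a = φ' ((1 : R') ⊗ₜ a)
      rw [IsScalarTower.algebraMap_apply A B (R' ⊗[R] B)]
      simp [φ']
      rfl
  haveI : IsScalarTower R' (R' ⊗[R] A) (R' ⊗[R] B) :=
    IsScalarTower.of_algebraMap_eq fun r => by
      show r ⊗ₜ[R] (1 : B) = φ' (r ⊗ₜ 1)
      simp [φ']
  haveI hpo : Algebra.IsPushout A B (R' ⊗[R] A) (R' ⊗[R] B) :=
    (Algebra.IsPushout.comp_iff R A R' (R' ⊗[R] A) (T := B) (T' := R' ⊗[R] B)).mp inferInstance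
  letI : Algebra (Localization.Away g) (Localization.Away (φ.toRingHom g)) :=
    (Localization.awayMap φ.toRingHom g).toAlgebra
  haveI : IsScalarTower A (Localization.Away g) (Localization.Away (φ.toRingHom g)) :=
    IsScalarTower.of_algebraMap_eq fun a => by
      rw [IsScalarTower.algebraMap_apply A B (Localization.Away (φ.toRingHom g))]
      show _ = Localization.awayMap φ.toRingHom g (algebraMap A _ a)
      rw [Localization.awayMap, IsLocalization.Away.map, IsLocalization.map_eq]
      rfl
  haveI : IsLocalization (Algebra.algebraMapSubmonoid B (Submonoid.powers g))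
      (Localization.Away (φ.toRingHom g)) := by
    rw [Algebra.algebraMapSubmonoid, Submonoid.map_powers]
    exact inferInstanceAs (IsLocalization.Away (φ.toRingHom g) _)
  haveI hpl0 : Algebra.IsPushout A B (Localization.Away g) (Localization.Away (φ.toRingHom g)) :=
    Algebra.isPushout_of_isLocalization (R := A) (T := B) (A := Localization.Away g)
      (B := Localization.Away (φ.toRingHom g)) (Submonoid.powers g)
  haveI hpl : Algebra.IsPushout A (Localization.Away g) B (Localization.Away (φ.toRingHom g)) :=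
    hpl0.symm
  haveI hpo' : Algebra.IsPushout A (R' ⊗[R] A) B (R' ⊗[R] B) := hpo.symm
  have e' := Algebra.IsPushout.equiv A (R' ⊗[R] A) B (R' ⊗[R] B)
  have e₁ := Algebra.IsPushout.equiv A (Localization.Away g) B (Localization.Away (φ.toRingHom g))
  constructor
  · intro h
    exact ⟨hbc A B (Localization.Away g) (Localization.Away (φ.toRingHom g)) h,
      hbc A B (R' ⊗[R] A) (R' ⊗[R] B) h⟩
  · rintro ⟨h₁, h'⟩
    refine hdesc B ?_ ?_
    · have := hiso.1 _ e'.symm.toRingEquiv h'
      rwa [show e'.symm.toRingEquiv.toRingHom.comp φ'.toRingHom =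
        algebraMap (R' ⊗[R] A) ((R' ⊗[R] A) ⊗[A] B) from e'.symm.toAlgHom.comp_algebraMap] at this
    · have := hiso.1 _ e₁.symm.toRingEquiv h₁
      rwa [show e₁.symm.toRingEquiv.toRingHom.comp (Localization.awayMap φ.toRingHom g) =
        algebraMap (Localization.Away g) (Localization.Away g ⊗[A] B) from
          e₁.symm.toAlgHom.comp_algebraMap] at this

end Detect

end Groth.Agent.H9Hens.Glue
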