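import Groth.Prelude.Def_EtGlue
import Mathlib.Algebra.Module.LocalizedModule.IsLocalization
import Mathlib.RingTheory.Localization.BaseChange
import Mathlib.LinearAlgebra.TensorProduct.RightExactness
import Mathlib.LinearAlgebra.TensorProduct.Prod
import Mathlib.RingTheory.Finiteness.Basic
import Mathlib.RingTheory.Flat.Localization

/-!
# Glueing pairs: comparison modulo powers of `f` and torsion modules
-/

set_option autoImplicit false

universe u

open TensorProduct

namespace Groth.Agent.H9Hens.Glue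

variable {R R' : Type u} [CommRing R] [CommRing R'] [Algebra R R']

variable (R') in
/-- `R ⧸ J → R' ⧸ J R'` is bijective, in terms of elements. -/
structure Cong (J : Ideal R) : Prop where
  exists_sub : ∀ x : R', ∃ r : R, x - algebraMap R R' r ∈ J.map (algebraMap R R')
  mem : ∀ r : R, algebraMap R R' r ∈ J.map (algebraMap R R') → r ∈ J

theorem cong_of_bijective {J : Ideal R}
    (h : Function.Bijective (Ideal.quotientMap (J.map (algebraMap R R')) (algebraMap R R')
      Ideal.le_comap_map)) : Cong R' J where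
  exists_sub x := by
    obtain ⟨r, hr⟩ := h.2 (Ideal.Quotient.mk _ x)
    obtain ⟨r, rfl⟩ := Ideal.Quotient.mk_surjective r
    rw [Ideal.quotientMap_mk, Ideal.Quotient.eq] at hr
    exact ⟨r, by simpa using neg_mem hr⟩
  mem r hr := by
    rw [← Ideal.Quotient.eq_zero_iff_mem]
    refine h.1 ?_
    rw [Ideal.quotientMap_mk, map_zero]
    exact Ideal.Quotient.eq_zero_iff_mem.mpr hr

theorem cong_top : Cong R' (⊤ : Ideal R) :=
  ⟨fun x => ⟨0, by simp [Ideal.map_top]⟩, fun _ _ => Submodule.mem_top⟩

theorem cong_span_pow {f : R} (hq : EtGlue.QuotPowBijective R R' f) (n : ℕ) :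
    Cong R' (Ideal.span {f ^ n}) := by
  rcases Nat.eq_zero_or_pos n with rfl | hn
  · rw [pow_zero, Ideal.span_singleton_one]; exact cong_top
  · exact cong_of_bijective (hq n hn)

variable {M : Type u} [AddCommGroup M] [Module R M]

theorem exists_sub_mem_smul {J : Ideal R} (h : Cong R' J) (z : R' ⊗[R] M) :
    ∃ m : M, z - (1 : R') ⊗ₜ[R] m ∈ J • (⊤ : Submodule R (R' ⊗[R] M)) := by
  induction z using TensorProduct.induction_on with
  | zero => exact ⟨0, by simp⟩
  | tmul x m =>
    obtain ⟨r, hr⟩ := h.exists_sub x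
    refine ⟨r • m, ?_⟩
    rw [show x ⊗ₜ[R] m - (1 : R') ⊗ₜ[R] (r • m) = (x - algebraMap R R' r) ⊗ₜ[R] m by
      rw [TensorProduct.sub_tmul, Algebra.algebraMap_eq_smul_one, TensorProduct.smul_tmul]]
    have hr' : x - algebraMap R R' r ∈ J • (⊤ : Submodule R R') := by
      rwa [Ideal.smul_top_eq_map]
    refine Submodule.smul_induction_on hr' (fun j hj y _ => ?_) (fun a b ha hb => by
      rw [TensorProduct.add_tmul]; exact add_mem ha hb)
    rw [← TensorProduct.smul_tmul']
    exact Submodule.smul_mem_smul hj Submodule.mem_top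
  | add a b ha hb =>
    obtain ⟨m, hm⟩ := ha
    obtain ⟨n, hn⟩ := hb
    refine ⟨m + n, ?_⟩
    rw [TensorProduct.tmul_add, add_sub_add_comm]
    exact add_mem hm hn

theorem mem_smul_of_one_tmul_mem {J : Ideal R} (h : Cong R' J) {m : M}
    (hm : (1 : R') ⊗ₜ[R] m ∈ J • (⊤ : Submodule R (R' ⊗[R] M))) : m ∈ J • (⊤ : Submodule R M) := by
  choose c hc using h.exists_sub
  let Q := M ⧸ J • (⊤ : Submodule R M)
  have hJ : ∀ j ∈ J, ∀ q : Q, j • q = 0 := fun j hj q => by
    obtain ⟨x, rfl⟩ := Submodule.Quotient.mk_surjective _ q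
    rw [← Submodule.Quotient.mk_smul, Submodule.Quotient.mk_eq_zero]
    exact Submodule.smul_mem_smul hj Submodule.mem_top
  have huniq : ∀ x r, x - algebraMap R R' r ∈ J.map (algebraMap R R') →
      ∀ q : Q, c x • q = r • q := fun x r hr q => by
    rw [← sub_eq_zero, ← sub_smul]
    refine hJ _ (h.mem _ ?_) q
    rw [map_sub]
    simpa using sub_mem hr (hc x)
  let φ : R' →ₗ[R] M →ₗ[R] Q :=
    { toFun := fun x => c x • (J • (⊤ : Submodule R M)).mkQ
      map_add' := fun x y => LinearMap.ext fun m => by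
        rw [LinearMap.add_apply, LinearMap.smul_apply, LinearMap.smul_apply, LinearMap.smul_apply,
          huniq (x + y) (c x + c y) (by rw [map_add, add_sub_add_comm]; exact add_mem (hc x) (hc y)),
          add_smul]
      map_smul' := fun r x => LinearMap.ext fun m => by
        rw [RingHom.id_apply, LinearMap.smul_apply, LinearMap.smul_apply, LinearMap.smul_apply,
          huniq (r • x) (r * c x) (by
            rw [Algebra.smul_def, map_mul, ← mul_sub]; exact Ideal.mul_mem_left _ _ (hc x)),
          mul_smul] }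
  have h0 : TensorProduct.lift φ ((1 : R') ⊗ₜ[R] m) = 0 := by
    refine Submodule.smul_induction_on hm (fun j hj z _ => ?_) (fun a b ha hb => by
      rw [map_add, ha, hb, add_zero])
    rw [map_smul, hJ j hj]
  rw [TensorProduct.lift.tmul] at h0
  have h1 : c 1 • (Submodule.Quotient.mk m : Q) = (1 : R) • Submodule.Quotient.mk m :=
    huniq 1 1 (by simp) _
  rw [← Submodule.Quotient.mk_eq_zero, ← one_smul R (Submodule.Quotient.mk m : Q), ← h1]
  exact h0

/-- Modules in which every element is killed by some member of a decreasing family of congruence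
ideals are unchanged by base change. -/
theorem bijective_mk_of_killed (J : ℕ → Ideal R) (hJ : Antitone J) (h : ∀ n, Cong R' (J n))
    (hM : ∀ m : M, ∃ n, ∀ j ∈ J n, j • m = 0) : Function.Bijective (TensorProduct.mk R R' M 1) := by
  choose N hN using hM
  choose c hc using fun n => (h n).exists_sub
  have huniq : ∀ (m : M) (n : ℕ) (x : R') (r : R), (∀ j ∈ J n, j • m = 0) →
      x - algebraMap R R' r ∈ (J n).map (algebraMap R R') → c (N m) x • m = r • m := by
    intro m n x r hn hr
    rcases le_total (N m) n with hle | hle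
    · rw [← sub_eq_zero, ← sub_smul]
      refine hN m _ ((h _).mem _ ?_)
      rw [map_sub]
      simpa using sub_mem (Ideal.map_mono (hJ hle) hr) (hc (N m) x)
    · rw [← sub_eq_zero, ← sub_smul]
      refine hn _ ((h _).mem _ ?_)
      rw [map_sub]
      simpa using sub_mem hr (Ideal.map_mono (hJ hle) (hc (N m) x))
  let φ : R' →ₗ[R] M →ₗ[R] M :=
    { toFun := fun x =>
        { toFun := fun m => c (N m) x • m
          map_add' := fun m m' => by
            set n := max (N m) (N m') with hn
            have hm : ∀ j ∈ J n, j • m = 0 := fun j hj => hN m j (hJ (le_max_left _ _) hj)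
            have hm' : ∀ j ∈ J n, j • m' = 0 := fun j hj => hN m' j (hJ (le_max_right _ _) hj)
            rw [huniq (m + m') n x (c n x) (fun j hj => by rw [smul_add, hm j hj, hm' j hj, add_zero])
              (hc n x), huniq m n x (c n x) hm (hc n x), huniq m' n x (c n x) hm' (hc n x), smul_add]
          map_smul' := fun a m => by
            rw [huniq (a • m) (N m) x (c (N m) x)
              (fun j hj => by rw [smul_comm, hN m j hj, smul_zero]) (hc (N m) x), RingHom.id_apply,
              smul_comm] }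
      map_add' := fun x y => LinearMap.ext fun m => by
        show c (N m) (x + y) • m = c (N m) x • m + c (N m) y • m
        rw [← add_smul]
        refine huniq m (N m) _ _ (hN m) ?_
        rw [map_add, add_sub_add_comm]
        exact add_mem (hc _ x) (hc _ y)
      map_smul' := fun r x => LinearMap.ext fun m => by
        show c (N m) (r • x) • m = r • c (N m) x • m
        rw [smul_smul]
        refine huniq m (N m) _ _ (hN m) ?_
        rw [Algebra.smul_def, map_mul, ← mul_sub]
        exact Ideal.mul_mem_left _ _ (hc _ x) }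
  have hl : ∀ m, TensorProduct.lift φ ((1 : R') ⊗ₜ[R] m) = m := fun m => by
    rw [TensorProduct.lift.tmul]
    show c (N m) 1 • m = m
    rw [huniq m (N m) 1 1 (hN m) (by simp), one_smul]
  refine ⟨fun a b hab => by rw [← hl a, ← hl b]; exact congrArg _ hab, fun z => ?_⟩
  induction z using TensorProduct.induction_on with
  | zero => exact ⟨0, map_zero _⟩
  | tmul x m =>
    refine ⟨c (N m) x • m, ?_⟩
    have hr : x - algebraMap R R' (c (N m) x) ∈ (J (N m)) • (⊤ : Submodule R R') := by
      rw [Ideal.smul_top_eq_map]; exact hc _ x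
    have h0 : (x - algebraMap R R' (c (N m) x)) ⊗ₜ[R] m = 0 := by
      refine Submodule.smul_induction_on hr (fun j hj y _ => ?_) (fun a b ha hb => by
        rw [TensorProduct.add_tmul, ha, hb, add_zero])
      rw [TensorProduct.smul_tmul, hN m j hj, TensorProduct.tmul_zero]
    rw [TensorProduct.sub_tmul, sub_eq_zero] at h0
    rw [TensorProduct.mk_apply, h0, Algebra.algebraMap_eq_smul_one, TensorProduct.smul_tmul]
  | add a b ha hb =>
    obtain ⟨m, rfl⟩ := ha
    obtain ⟨n, rfl⟩ := hb
    exact ⟨m + n, map_add _ _ _⟩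

variable {f : R}

theorem bijective_mk_of_torsion (hq : EtGlue.QuotPowBijective R R' f)
    (hM : ∀ m : M, ∃ n : ℕ, f ^ n • m = 0) : Function.Bijective (TensorProduct.mk R R' M 1) := by
  refine bijective_mk_of_killed (fun n => Ideal.span {f ^ n})
    (fun a b hab => Ideal.span_singleton_le_span_singleton.mpr (pow_dvd_pow f hab))
    (cong_span_pow hq) fun m => ?_
  obtain ⟨n, hn⟩ := hM m
  refine ⟨n, fun j hj => ?_⟩
  obtain ⟨a, rfl⟩ := Ideal.mem_span_singleton'.mp hj
  rw [mul_smul, hn, smul_zero]

theorem eq_zero_of_torsion (hq : EtGlue.QuotPowBijective R R' f)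
    (hM : ∀ m : M, ∃ n : ℕ, f ^ n • m = 0) [Subsingleton (R' ⊗[R] M)] : Subsingleton M :=
  (bijective_mk_of_torsion hq hM).1.subsingleton

theorem exists_eq_one_tmul_add (hq : EtGlue.QuotPowBijective R R' f) (n : ℕ) (z : R' ⊗[R] M) :
    ∃ (m : M) (y : R' ⊗[R] M), z = (1 : R') ⊗ₜ[R] m + f ^ n • y := by
  obtain ⟨m, hm⟩ := exists_sub_mem_smul (cong_span_pow hq n) z
  rw [Submodule.ideal_span_singleton_smul, Submodule.mem_smul_pointwise_iff_exists] at hm
  obtain ⟨y, -, hy⟩ := hm
  exact ⟨m, y, by rw [hy, add_sub_cancel]⟩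

theorem exists_eq_pow_smul (hq : EtGlue.QuotPowBijective R R' f) {n : ℕ} {m : M} {y : R' ⊗[R] M}
    (h : (1 : R') ⊗ₜ[R] m = f ^ n • y) : ∃ m' : M, m = f ^ n • m' := by
  have h1 : (1 : R') ⊗ₜ[R] m ∈ Ideal.span {f ^ n} • (⊤ : Submodule R (R' ⊗[R] M)) :=
    h ▸ Submodule.smul_mem_smul (Ideal.mem_span_singleton_self _) Submodule.mem_top
  have h2 := mem_smul_of_one_tmul_mem (cong_span_pow hq n) h1
  rw [Submodule.ideal_span_singleton_smul, Submodule.mem_smul_pointwise_iff_exists] at h2
  obtain ⟨m', -, hm'⟩ := h2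
  exact ⟨m', hm'.symm⟩

/-- `m ↦ 1 ⊗ m` is injective on `f`-power torsion. -/
def TorInj (R' : Type u) [CommRing R'] [Algebra R R'] (f : R) (M : Type u) [AddCommGroup M]
    [Module R M] : Prop :=
  ∀ m : M, (∃ n : ℕ, f ^ n • m = 0) → (1 : R') ⊗ₜ[R] m = 0 → m = 0

/-- every `f`-power torsion element of `R' ⊗ M` comes from one of `M`. -/
def TorSurj (R' : Type u) [CommRing R'] [Algebra R R'] (f : R) (M : Type u) [AddCommGroup M]
    [Module R M] : Prop :=
  ∀ x : R' ⊗[R] M, (∃ n : ℕ, f ^ n • x = 0) →
    ∃ m : M, (∃ n : ℕ, f ^ n • m = 0) ∧ (1 : R') ⊗ₜ[R] m = x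

theorem mkLinearMap_eq_zero_iff (N : Type u) [AddCommGroup N] [Module R N] (x : N) :
    LocalizedModule.mkLinearMap (Submonoid.powers f) N x = 0 ↔ ∃ n : ℕ, f ^ n • x = 0 := by
  rw [IsLocalizedModule.eq_zero_iff (Submonoid.powers f)]
  exact ⟨fun ⟨⟨_, n, rfl⟩, h⟩ => ⟨n, h⟩, fun ⟨n, h⟩ => ⟨⟨_, n, rfl⟩, h⟩⟩

theorem isGlueable_iff (hq : EtGlue.QuotPowBijective R R' f) :
    EtGlue.IsGlueable R R' f M ↔ TorInj R' f M ∧ TorSurj R' f M := by
  constructor
  · rintro ⟨h1, h2⟩
    refine ⟨fun m hm h0 => h1 (Prod.ext ?_ ?_), fun x hx => ?_⟩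
    · show (1 : R') ⊗ₜ[R] m = (1 : R') ⊗ₜ[R] (0 : M)
      rw [h0, TensorProduct.tmul_zero]
    · show LocalizedModule.mkLinearMap (Submonoid.powers f) M m =
        LocalizedModule.mkLinearMap (Submonoid.powers f) M 0
      rw [map_zero, mkLinearMap_eq_zero_iff]
      exact hm
    · obtain ⟨m, hm1, hm2⟩ := h2 x 0 (by rw [map_zero, mkLinearMap_eq_zero_iff]; exact hx)
      exact ⟨m, (mkLinearMap_eq_zero_iff M m).mp hm2, hm1⟩
  · rintro ⟨hi, hs⟩
    constructor
    · intro a b hab
      simp only [Prod.mk.injEq] at hab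
      rw [← sub_eq_zero]
      refine hi _ ((mkLinearMap_eq_zero_iff M _).mp ?_) ?_
      · rw [map_sub, hab.2, sub_self]
      · rw [TensorProduct.tmul_sub, hab.1, sub_self]
    · intro x y hxy
      obtain ⟨⟨m, ⟨_, n, rfl⟩⟩, hm⟩ := IsLocalizedModule.surj (Submonoid.powers f)
        (LocalizedModule.mkLinearMap (Submonoid.powers f) M) y
      change f ^ n • y = _ at hm
      have h1 : LocalizedModule.mkLinearMap (Submonoid.powers f) (R' ⊗[R] M)
          (f ^ n • x - (1 : R') ⊗ₜ[R] m) = 0 := by
        rw [map_sub, map_smul]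
        change f ^ n • EtGlue.locOfTensor R R' f M x - _ = 0
        rw [hxy, ← map_smul, hm, sub_eq_zero]
        exact IsLocalizedModule.map_apply _ _ _ _ m
      obtain ⟨k, hk⟩ := (mkLinearMap_eq_zero_iff _ _).mp h1
      rw [smul_sub, smul_smul, ← pow_add, ← TensorProduct.tmul_smul, sub_eq_zero] at hk
      obtain ⟨m', hm'⟩ := exists_eq_pow_smul hq hk.symm
      obtain ⟨t, ⟨l, hl⟩, htx⟩ := hs (x - (1 : R') ⊗ₜ[R] m')
        ⟨k + n, by rw [smul_sub, hk, ← TensorProduct.tmul_smul, ← hm', sub_self]⟩
      refine ⟨m' + t, by rw [TensorProduct.tmul_add, htx, add_sub_cancel], ?_⟩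
      have hu : Function.Injective fun z : LocalizedModule (Submonoid.powers f) M => f ^ n • z :=
        ((Module.End.isUnit_iff _).mp (IsLocalizedModule.map_units
          (LocalizedModule.mkLinearMap (Submonoid.powers f) M)
          (⟨f ^ n, n, rfl⟩ : Submonoid.powers f))).1
      apply hu
      show f ^ n • _ = f ^ n • y
      rw [hm, map_add, (mkLinearMap_eq_zero_iff M t).mpr ⟨l, hl⟩, add_zero, ← map_smul,
        ← sub_eq_zero, ← map_sub, mkLinearMap_eq_zero_iff]
      exact ⟨k, by rw [smul_sub, smul_smul, ← pow_add, ← hm', sub_self]⟩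

/-- Elements of `Localization.Away` killed by the localization map. -/
theorem algebraMap_away_eq_zero_iff {S : Type u} [CommRing S] (g x : S) :
    algebraMap S (Localization.Away g) x = 0 ↔ ∃ n : ℕ, g ^ n * x = 0 := by
  rw [IsLocalization.map_eq_zero_iff (Submonoid.powers g)]
  exact ⟨fun ⟨⟨_, n, rfl⟩, h⟩ => ⟨n, h⟩, fun ⟨n, h⟩ => ⟨⟨_, n, rfl⟩, h⟩⟩

theorem awayMap_algebraMap (r : R) :
    Localization.awayMap (algebraMap R R') f (algebraMap R (Localization.Away f) r) =
      algebraMap R' (Localization.Away (algebraMap R R' f)) (algebraMap R R' r) :=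
  IsLocalization.map_eq _ _

section Incl

variable (R R' f)

/-- `R → R' × R_f`. -/
noncomputable def incl : R →ₗ[R] R' × Localization.Away f :=
  (Algebra.linearMap R R').prod (Algebra.linearMap R (Localization.Away f))

/-- The difference map `R' × R_f → R'_f`. -/
noncomputable def diff : R' × Localization.Away f →ₗ[R] Localization.Away (algebraMap R R' f) :=
  (IsScalarTower.toAlgHom R R' (Localization.Away (algebraMap R R' f))).toLinearMap ∘ₗ
      LinearMap.fst R R' (Localization.Away f) -
    ({ toFun := Localization.awayMap (algebraMap R R') f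
       map_add' := map_add _
       map_smul' := fun r x => by
        rw [RingHom.id_apply, Algebra.smul_def, map_mul, awayMap_algebraMap, Algebra.smul_def,
          ← IsScalarTower.algebraMap_apply] } :
      Localization.Away f →ₗ[R] Localization.Away (algebraMap R R' f)) ∘ₗ
      LinearMap.snd R R' (Localization.Away f)

theorem diff_apply (x : R') (y : Localization.Away f) :
    diff R R' f (x, y) = algebraMap R' _ x - Localization.awayMap (algebraMap R R') f y := rfl

variable {R R' f}

theorem props (h : EtGlue.IsGlueingPair R R' f) :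
    Function.Injective (incl R R' f) ∧ Function.Exact (incl R R' f) (diff R R' f) ∧
      Function.Surjective (diff R R' f) := by
  refine ⟨h.2.1, fun ⟨x, y⟩ => ⟨fun h0 => ?_, ?_⟩, fun z => ?_⟩
  · rw [diff_apply, sub_eq_zero] at h0
    obtain ⟨r, h1, h2⟩ := h.2.2.1 x y h0
    exact ⟨r, Prod.ext h1 h2⟩
  · rintro ⟨r, hr⟩
    rw [← hr]
    show algebraMap R' _ (algebraMap R R' r) - Localization.awayMap (algebraMap R R') f
      (algebraMap R _ r) = 0
    rw [awayMap_algebraMap, sub_self]
  · obtain ⟨x, y, hxy⟩ := h.2.2.2 z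
    exact ⟨(x, y), hxy⟩

end Incl

theorem exists_pow_smul_eq_zero_of_tmul (m : M) (h : (1 : Localization.Away f) ⊗ₜ[R] m = 0) :
    ∃ n : ℕ, f ^ n • m = 0 := by
  haveI : IsLocalizedModule (Submonoid.powers f) (TensorProduct.mk R (Localization.Away f) M 1) :=
    (isLocalizedModule_iff_isBaseChange (Submonoid.powers f) (Localization.Away f) _).mpr
      (TensorProduct.isBaseChange R M (Localization.Away f))
  obtain ⟨⟨_, n, rfl⟩, hn⟩ := (IsLocalizedModule.eq_zero_iff (Submonoid.powers f)
    (TensorProduct.mk R (Localization.Away f) M 1)).mp h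
  exact ⟨n, hn⟩

theorem tmul_eq_zero_of_pow_smul_eq_zero {n : ℕ} {m : M} (h : f ^ n • m = 0) :
    (1 : Localization.Away f) ⊗ₜ[R] m = 0 := by
  have hu : IsUnit (algebraMap R (Localization.Away f) (f ^ n)) := by
    rw [map_pow]; exact (IsLocalization.Away.algebraMap_isUnit f).pow n
  obtain ⟨v, hv⟩ := hu.exists_left_inv
  rw [← hv, ← Algebra.commutes, ← Algebra.smul_def, TensorProduct.smul_tmul, h,
    TensorProduct.tmul_zero]

/-- For a glueing pair every module is `TorSurj`. -/
theorem torSurj_of_isGlueingPair (h : EtGlue.IsGlueingPair R R' f) : TorSurj R' f M := by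
  rintro x ⟨n, hx⟩
  obtain ⟨-, h2, h3⟩ := props h
  let e := TensorProduct.prodLeft R R R' (Localization.Away f) M
  let z := (LinearMap.inl R R' (Localization.Away f)).rTensor M x
  have hz : (diff R R' f).rTensor M z = 0 := by
    have hu : IsUnit (algebraMap R (Localization.Away (algebraMap R R' f)) (f ^ n)) := by
      rw [map_pow, IsScalarTower.algebraMap_apply R R' (Localization.Away (algebraMap R R' f))]
      exact (IsLocalization.Away.algebraMap_isUnit (algebraMap R R' f)).pow n
    refine hu.smul_left_cancel.mp ?_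
    rw [smul_zero, algebraMap_smul, ← map_smul, ← map_smul, hx, map_zero, map_zero]
  obtain ⟨t, ht⟩ := (rTensor_exact M h2 h3 z).mp hz
  obtain ⟨m, rfl⟩ : ∃ m, (1 : R) ⊗ₜ[R] m = t :=
    ⟨TensorProduct.lid R M t, (TensorProduct.lid R M).symm_apply_apply t⟩
  have key : ∀ w : R' ⊗[R] M, e ((LinearMap.inl R R' (Localization.Away f)).rTensor M w) = (w, 0) := fun w => by
    induction w using TensorProduct.induction_on with
    | zero => simp only [map_zero]; rfl
    | tmul a b => simp [e, TensorProduct.prodLeft_tmul]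
    | add a b ha hb => simp only [map_add, ha, hb, Prod.mk_add_mk, add_zero]
  have := (congrArg e ht).trans (key x)
  simp [e, incl, TensorProduct.prodLeft_tmul] at this
  exact ⟨m, exists_pow_smul_eq_zero_of_tmul m this.2, this.1⟩

/-- A quotient killed by both base changes vanishes. -/
theorem eq_top_of_baseChange (hq : EtGlue.QuotPowBijective R R' f) (N : Submodule R M)
    (h' : ∀ z : R' ⊗[R] M, z ∈ LinearMap.range (N.subtype.lTensor R'))
    (hf : ∀ m : M, ∃ n : ℕ, f ^ n • m ∈ N) : N = ⊤ := by
  haveI : Subsingleton (R' ⊗[R] (M ⧸ N)) := subsingleton_of_forall_eq 0 fun z => by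
    obtain ⟨w, rfl⟩ := LinearMap.lTensor_surjective R' N.mkQ_surjective z
    obtain ⟨v, rfl⟩ := h' w
    rw [← LinearMap.lTensor_comp_apply, show N.mkQ ∘ₗ N.subtype = 0 from
      LinearMap.ext fun x => (Submodule.Quotient.mk_eq_zero N).mpr x.2]
    simp
  refine Submodule.Quotient.subsingleton_iff.mp (eq_zero_of_torsion hq fun q => ?_)
  obtain ⟨m, rfl⟩ := N.mkQ_surjective q
  obtain ⟨n, hn⟩ := hf m
  exact ⟨n, by rw [← map_smul]; exact (Submodule.Quotient.mk_eq_zero N).mpr hn⟩

end Groth.Agent.H9Hens.Glue
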