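import Mathlib.RingTheory.Henselian
import Mathlib.RingTheory.Nakayama
import Mathlib.RingTheory.AdjoinRoot
import Mathlib.RingTheory.Idempotents
import Mathlib.LinearAlgebra.FreeModule.Basic

/-!
Lifting idempotents along finite free algebras characterises henselian pairs.
-/

set_option autoImplicit false
universe u

open Polynomial

namespace Groth.Agent.H9Hens.IdemLiftFree

variable {B : Type u} [CommRing B] {J : Ideal B}

/-- A pair is henselian as soon as idempotents lift along finite free algebras. -/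
theorem henselianRing_of_idem_lift_free (hJ : J ≤ Ideal.jacobson ⊥)
    (h : ∀ (C : Type u) [CommRing C] [Algebra B C], Module.Finite B C → Module.Free B C → ∀ b : C,
      b * b - b ∈ J.map (algebraMap B C) → ∃ e : C, IsIdempotentElem e ∧ e - b ∈ J.map (algebraMap B C)) :
    HenselianRing B J := by
  classical
  refine ⟨hJ, fun f hf a₀ h₁ h₂ => ?_⟩
  haveI := hf.free_adjoinRoot
  haveI := hf.finite_adjoinRoot
  obtain ⟨q, hq⟩ := X_sub_C_dvd_sub_C_eval (a := a₀) (p := f)
  have hq' : f.derivative.eval a₀ = q.eval a₀ := by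
    have := congrArg (fun g => (derivative g).eval a₀) hq
    simp at this
    exact this
  rw [hq'] at h₂
  obtain ⟨t, ht⟩ := X_sub_C_dvd_sub_C_eval (a := a₀) (p := q)
  obtain ⟨w, hw⟩ := Ideal.Quotient.mk_surjective (↑h₂.unit⁻¹ : B ⧸ J)
  have hw' : q.eval a₀ * w - 1 ∈ J := by
    rw [← Ideal.Quotient.eq_zero_iff_mem, map_sub, map_mul, map_one, hw, IsUnit.mul_val_inv, sub_self]
  let X' : (AdjoinRoot f) := AdjoinRoot.root f - algebraMap B (AdjoinRoot f) a₀
  let e₀ : (AdjoinRoot f) := algebraMap B (AdjoinRoot f) w * AdjoinRoot.mk f q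
  have hmem : ∀ r ∈ J, algebraMap B (AdjoinRoot f) r ∈ J.map (algebraMap B (AdjoinRoot f)) := fun r => Ideal.mem_map_of_mem _
  have hXq : X' * AdjoinRoot.mk f q ∈ J.map (algebraMap B (AdjoinRoot f)) := by
    have e : X' * AdjoinRoot.mk f q = - algebraMap B (AdjoinRoot f) (f.eval a₀) := by
      have := congrArg (AdjoinRoot.mk f) hq
      simp only [map_sub, map_mul, AdjoinRoot.mk_self, AdjoinRoot.mk_C, AdjoinRoot.mk_X, zero_sub] at this
      exact this.symm
    rw [e]
    exact neg_mem (hmem _ h₁)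
  have hee : e₀ * e₀ - e₀ ∈ J.map (algebraMap B (AdjoinRoot f)) := by
    have e : e₀ * e₀ - e₀ = algebraMap B (AdjoinRoot f) (w * w) * AdjoinRoot.mk f t * (X' * AdjoinRoot.mk f q) +
        e₀ * algebraMap B (AdjoinRoot f) (q.eval a₀ * w - 1) := by
      have := congrArg (AdjoinRoot.mk f) ht
      simp only [map_sub, map_mul, AdjoinRoot.mk_C, AdjoinRoot.mk_X] at this
      simp only [e₀, X', map_sub, map_mul, map_one, AdjoinRoot.algebraMap_eq]
      linear_combination (AdjoinRoot.of f w * AdjoinRoot.of f w * AdjoinRoot.mk f q) * this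
    rw [e]
    exact add_mem (Ideal.mul_mem_left _ _ hXq) (Ideal.mul_mem_left _ _ (hmem _ hw'))
  obtain ⟨e, hidem, hee₀⟩ := h (AdjoinRoot f) inferInstance inferInstance e₀ hee
  have hroot : f.eval₂ (Ideal.Quotient.mk J) (Ideal.Quotient.mk J a₀) = 0 := by
    rw [eval₂_at_apply, Ideal.Quotient.eq_zero_iff_mem]
    exact h₁
  let φ : (AdjoinRoot f) →ₐ[B] B ⧸ J := AdjoinRoot.liftAlgHom f (Algebra.ofId B (B ⧸ J)) (Ideal.Quotient.mk J a₀) hroot
  have hφJ : ∀ c ∈ J.map (algebraMap B (AdjoinRoot f)), φ c = 0 := by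
    intro c hc
    refine Submodule.span_induction ?_ (map_zero φ) (fun x y _ _ hx hy => by rw [map_add, hx, hy, add_zero])
      (fun r x _ hx => by rw [smul_eq_mul, map_mul, hx, mul_zero]) hc
    rintro _ ⟨r, hr, rfl⟩
    rw [AlgHom.commutes, Ideal.Quotient.algebraMap_eq, Ideal.Quotient.eq_zero_iff_mem]
    exact hr
  have hφmk : ∀ g : B[X], φ (AdjoinRoot.mk f g) = Ideal.Quotient.mk J (g.eval a₀) := by
    intro g
    show g.eval₂ (Ideal.Quotient.mk J) (Ideal.Quotient.mk J a₀) = _
    rw [eval₂_at_apply]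
  have hφe : φ e = 1 := by
    have h3 := hφJ _ hee₀
    rw [map_sub, sub_eq_zero] at h3
    rw [h3, map_mul, AlgHom.commutes, hφmk, Ideal.Quotient.algebraMap_eq, ← map_mul, ← map_one (Ideal.Quotient.mk J),
      Ideal.Quotient.eq, mul_comm]
    exact hw'
  have hXe : X' * e ∈ J.map (algebraMap B (AdjoinRoot f)) := by
    have e' : X' * e = algebraMap B (AdjoinRoot f) w * (X' * AdjoinRoot.mk f q) + X' * (e - e₀) := by simp only [e₀]; ring
    rw [e']
    exact add_mem (Ideal.mul_mem_left _ _ hXq) (Ideal.mul_mem_left _ _ hee₀)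
  let P : Submodule B (AdjoinRoot f) := LinearMap.range (LinearMap.mulLeft B e)
  have hP : P ≤ Submodule.span B {e} := by
    refine Submodule.le_of_le_smul_of_le_jacobson_bot ?_ hJ ?_
    · show (LinearMap.range (LinearMap.mulLeft B e)).FG
      rw [LinearMap.range_eq_map]
      exact Module.Finite.fg_top.map _
    · rintro _ ⟨c, rfl⟩
      obtain ⟨g, rfl⟩ := AdjoinRoot.mk_surjective c
      obtain ⟨d, hd⟩ := X_sub_C_dvd_sub_C_eval (a := a₀) (p := g)
      have h4 : LinearMap.mulLeft B e (AdjoinRoot.mk f g) =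
          g.eval a₀ • e + LinearMap.mulLeft B e ((X' * e) * AdjoinRoot.mk f d) := by
        have := congrArg (AdjoinRoot.mk f) hd
        simp only [map_sub, map_mul, AdjoinRoot.mk_C, AdjoinRoot.mk_X] at this
        simp only [LinearMap.mulLeft_apply, X', Algebra.smul_def, AdjoinRoot.algebraMap_eq]
        linear_combination e * this - (AdjoinRoot.root f - AdjoinRoot.of f a₀) * AdjoinRoot.mk f d * hidem.eq
      rw [h4]
      refine Submodule.add_mem_sup (Submodule.smul_mem _ _ (Submodule.mem_span_singleton_self e)) ?_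
      have h5 : X' * e * AdjoinRoot.mk f d ∈ J • (⊤ : Submodule B (AdjoinRoot f)) := by
        rw [Ideal.smul_top_eq_map]
        exact Ideal.mul_mem_right _ _ hXe
      have h6 := Submodule.mem_map_of_mem (f := LinearMap.mulLeft B e) h5
      rw [Submodule.map_smul''] at h6
      exact Submodule.smul_mono le_rfl (by rw [Submodule.map_top]) h6
  obtain ⟨l, hl⟩ := Module.projective_lifting_property (Submodule.mkQ J : B →ₗ[B] B ⧸ J) φ.toLinearMap
    (Submodule.mkQ_surjective _)
  have hle : IsUnit (l e) := by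
    refine isUnit_of_isUnit_mk' ?_
    have h7 : Submodule.mkQ J (l e) = φ e := LinearMap.congr_fun hl e
    rw [hφe] at h7
    exact h7
  have hann : ∀ r : B, r • e = 0 → r = 0 := fun r hr => by
    have := congrArg l hr
    rw [map_smul, map_zero, smul_eq_mul] at this
    exact hle.mul_left_eq_zero.1 this
  obtain ⟨ρ, hρ⟩ := Submodule.mem_span_singleton.1 (hP ⟨AdjoinRoot.root f, rfl⟩)
  rw [LinearMap.mulLeft_apply] at hρ
  have hev : ∀ g : B[X], e * AdjoinRoot.mk f g = g.eval ρ • e := by
    intro g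
    induction g using Polynomial.induction_on with
    | C a => rw [eval_C, AdjoinRoot.mk_C, Algebra.smul_def, AdjoinRoot.algebraMap_eq, mul_comm]
    | add p q hp hq => rw [map_add, mul_add, hp, hq, eval_add, add_smul]
    | monomial n a ih =>
      have h9 : AdjoinRoot.mk f (C a * X ^ (n + 1)) = AdjoinRoot.mk f (C a * X ^ n) * AdjoinRoot.root f := by
        rw [← AdjoinRoot.mk_X, ← map_mul, pow_succ, mul_assoc]
      rw [h9, ← mul_assoc, ih, smul_mul_assoc, ← hρ, smul_smul]
      simp [pow_succ, mul_assoc]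
  refine ⟨ρ, hann _ ?_, ?_⟩
  · rw [← hev, AdjoinRoot.mk_self, mul_zero]
  · rw [← Ideal.Quotient.eq]
    have := congrArg φ hρ
    rw [map_smul, map_mul, hφe, one_mul, AdjoinRoot.liftAlgHom_root] at this
    simpa [Algebra.smul_def] using this
where
  isUnit_of_isUnit_mk' {x : B} (hx : Ideal.Quotient.mk J x = 1) : IsUnit x := by
    have h1 : x - 1 ∈ J := Ideal.Quotient.eq.1 (hx.trans (map_one _).symm)
    have h2 := Ideal.mem_jacobson_bot.1 (hJ h1) 1
    simpa using h2

end Groth.Agent.H9Hens.IdemLiftFree
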