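import Groth.Agent.H9Hens.ProperPairApps
import Groth.Agent.H9Hens.IdemLiftFree
import Groth.Agent.H8Props.Stein.Basic
import Groth.Agent.H13Inf.Affine
import Groth.Agent.S1297

/-!
A henselian couple proper over a Noetherian ring is proper over a henselian pair.
-/

set_option autoImplicit false
set_option linter.style.haveILetI false
universe u

open CategoryTheory CategoryTheory.Limits AlgebraicGeometry

namespace Groth.Agent.H9Hens.ProperPairConverse

variable {B : Type u} [CommRing B] {J : Ideal B} {X X₀ : Scheme.{u}} (p : X ⟶ Spec (CommRingCat.of B))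
  [IsProper p] [GeometricallyConnected p] [Surjective p] (i : X₀ ⟶ X)
  (hr : Set.range i = p ⁻¹' PrimeSpectrum.zeroLocus (J : Set B))
  (hX : ∀ (Y : Scheme.{u}) (g : Y ⟶ X), IsFinite g → ∀ V : Set ↥(pullback g i), IsClopen V →
      ∃! U : Set ↥Y, IsClopen U ∧ (pullback.fst g i).base ⁻¹' U = V)

include hr hX in
theorem clopen_lift_finite (C : Type u) [CommRing C] [Algebra B C] [Module.Finite B C]
    (V : Set ↥(PrimeSpectrum.zeroLocus ((J.map (algebraMap B C) : Ideal C) : Set C))) (hV : IsClopen V) :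
    ∃! U : Set (PrimeSpectrum C), IsClopen U ∧ Subtype.val ⁻¹' U = V := by
  let σ : Spec (CommRingCat.of C) ⟶ Spec (CommRingCat.of B) := Spec.map (CommRingCat.ofHom (algebraMap B C))
  haveI : IsFinite σ := (IsFinite.SpecMap_iff _).2 (RingHom.finite_algebraMap.2 ‹_›)
  let π : ↥(pullback p σ) → PrimeSpectrum C := fun y => pullback.snd p σ y
  have hπs : Function.Surjective π := (pullback.snd p σ).surjective
  let P := pullback (pullback.fst p σ) i
  let g₀ : ↥P → ↥(pullback p σ) := fun q => pullback.fst (pullback.fst p σ) i q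
  let Z : Set (PrimeSpectrum C) := PrimeSpectrum.zeroLocus ((J.map (algebraMap B C) : Ideal C) : Set C)
  have hrange : Set.range g₀ = π ⁻¹' Z := by
    show Set.range (pullback.fst (pullback.fst p σ) i) = _
    rw [Scheme.Pullback.range_fst, hr]
    ext y
    have e : p (pullback.fst p σ y) = σ (π y) := by
      show _ = σ (pullback.snd p σ y)
      rw [← Scheme.Hom.comp_apply, pullback.condition, Scheme.Hom.comp_apply]
    show p (pullback.fst p σ y) ∈ PrimeSpectrum.zeroLocus (J : Set B) ↔ π y ∈ Z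
    rw [e]
    exact (PrimeSpectrum.mem_zeroLocus _ _).trans
      (Ideal.map_le_iff_le_comap.symm.trans (PrimeSpectrum.mem_zeroLocus _ _).symm)
  let k : ↥P → ↥Z := fun q => ⟨π (g₀ q), hrange.le ⟨q, rfl⟩⟩
  have hk : Continuous k :=
    ((pullback.snd p σ).continuous.comp (pullback.fst (pullback.fst p σ) i).continuous).subtype_mk _
  have hks : Function.Surjective k := fun z => by
    obtain ⟨y, hy⟩ := hπs z.1
    obtain ⟨q, rfl⟩ := hrange.ge (show y ∈ π ⁻¹' Z by show π y ∈ Z; rw [hy]; exact z.2)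
    exact ⟨q, Subtype.ext hy⟩
  obtain ⟨U, ⟨hUc, hUV⟩, huniq⟩ := hX (pullback p σ) (pullback.fst p σ) inferInstance (k ⁻¹' V) (hV.preimage hk)
  obtain ⟨W, hW, rfl⟩ := ProperPair.exists_clopen_eq_preimage π (pullback.snd p σ).isClosedMap hπs
    (fun n => ((pullback.snd p σ).isConnected_preimage_singleton n).isPreconnected) U hUc
  refine ⟨W, ⟨hW, hks.preimage_injective hUV⟩, fun W' hW' => hπs.preimage_injective ?_⟩
  refine huniq _ ⟨hW'.1.preimage (pullback.snd p σ).continuous, ?_⟩
  rw [← hW'.2]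
  rfl

include hr hX in
theorem henselianRing : HenselianRing B J := by
  refine IdemLiftFree.henselianRing_of_idem_lift_free (le_sInf fun m hm => ?_) fun C _ _ _ _ b hb => ?_
  · by_contra hJm
    haveI : m.IsMaximal := hm.2
    have he : J.map (algebraMap B (B ⧸ m)) = ⊤ := by
      letI := Ideal.Quotient.field m
      refine (Ideal.eq_bot_or_top (J.map (algebraMap B (B ⧸ m)))).resolve_left fun h0 => hJm fun x hx => ?_
      have := Ideal.mem_map_of_mem (algebraMap B (B ⧸ m)) hx
      rwa [h0, Ideal.mem_bot, Ideal.Quotient.algebraMap_eq, Ideal.Quotient.eq_zero_iff_mem] at this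
    haveI : IsEmpty ↥(PrimeSpectrum.zeroLocus ((J.map (algebraMap B (B ⧸ m)) : Ideal (B ⧸ m)) : Set (B ⧸ m))) :=
      ⟨fun z => z.1.2.ne_top (top_le_iff.1 (he ▸ (PrimeSpectrum.mem_zeroLocus _ _).1 z.2))⟩
    obtain ⟨U, -, hu⟩ := clopen_lift_finite p i hr hX (B ⧸ m) ∅ isClopen_empty
    exact Set.empty_ne_univ ((hu _ ⟨isClopen_empty, Set.preimage_empty⟩).trans
      (hu _ ⟨isClopen_univ, Set.eq_empty_of_isEmpty _⟩).symm)
  · obtain ⟨e, he, -⟩ := (H9Hens.clopen_lift_iff (J.map (algebraMap B C)) _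
      (PrimeSpectrum.isClosed_zeroLocus _).isClosedEmbedding_subtypeVal Subtype.range_coe).1
      (clopen_lift_finite p i hr hX C) b hb
    exact ⟨e, he⟩

end Groth.Agent.H9Hens.ProperPairConverse
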