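import Groth.Agent.H28Pinch.FibreSquare
import Groth.Prelude.Def_EtMil
import Mathlib.LinearAlgebra.TensorProduct.Tower
import Mathlib.LinearAlgebra.TensorProduct.RightExactness
import Mathlib.RingTheory.TensorProduct.Quotient
import Mathlib.RingTheory.Finiteness.Basic
import Mathlib.RingTheory.Ideal.Operations

/-!
# Milnor squares: kernels, generation, glued modules
-/

set_option autoImplicit false

universe u

open TensorProduct

namespace Groth.Agent.H9Hens.Milnor

variable {B' B A' A : Type u} [CommRing B'] [CommRing B] [CommRing A'] [CommRing A]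
  [Algebra B' B] [Algebra B' A'] [Algebra B A] [Algebra A' A] [Algebra B' A]
  [IsScalarTower B' B A] [IsScalarTower B' A' A]

variable (B' B A' A) in
/-- A square in which the kernel of `A' → A` comes from the kernel of the surjection `B' → B`. -/
structure Weak : Prop where
  surjB : Function.Surjective (algebraMap B' B)
  surjA : Function.Surjective (algebraMap A' A)
  ker : ∀ i : A', algebraMap A' A i = 0 → ∃ j : B', algebraMap B' B j = 0 ∧ algebraMap B' A' j = i

theorem ext_of_isFibreSquare (hsq : EtMil.IsFibreSquare B' B A' A) {x y : B'}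
    (h1 : algebraMap B' B x = algebraMap B' B y) (h2 : algebraMap B' A' x = algebraMap B' A' y) :
    x = y := by
  obtain ⟨w, -, hu⟩ := hsq.2 (algebraMap B' B x) (algebraMap B' A' x)
    (by rw [← IsScalarTower.algebraMap_apply, ← IsScalarTower.algebraMap_apply])
  rw [hu x ⟨rfl, rfl⟩, hu y ⟨h1.symm, h2.symm⟩]

theorem weak_of_isFibreSquare (hsq : EtMil.IsFibreSquare B' B A' A) : Weak B' B A' A where
  surjB b := by
    obtain ⟨a', ha'⟩ := hsq.1 (algebraMap B A b)
    obtain ⟨b', ⟨hb', -⟩, -⟩ := hsq.2 b a' ha'.symm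
    exact ⟨b', hb'⟩
  surjA := hsq.1
  ker i hi := by
    obtain ⟨j, hj, -⟩ := hsq.2 0 i (by rw [map_zero, hi])
    exact ⟨j, hj⟩

theorem exists_one_tmul {R S : Type u} [CommRing R] [CommRing S] [Algebra R S]
    (h : Function.Surjective (algebraMap R S)) {M : Type u} [AddCommGroup M] [Module R M]
    (z : S ⊗[R] M) : ∃ m, (1 : S) ⊗ₜ[R] m = z :=
  TensorProduct.mk_surjective R M S h z

/-- The kernel of `m ↦ 1 ⊗ m` along a surjection. -/
theorem one_tmul_eq_zero_iff {R S : Type u} [CommRing R] [CommRing S] [Algebra R S]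
    (h : Function.Surjective (algebraMap R S)) {M : Type u} [AddCommGroup M] [Module R M] (m : M) :
    (1 : S) ⊗ₜ[R] m = 0 ↔ m ∈ RingHom.ker (algebraMap R S) • (⊤ : Submodule R M) := by
  constructor
  · intro hm
    let J := RingHom.ker (algebraMap R S)
    have hex : Function.Exact J.subtype (Algebra.linearMap R S) := fun x => by simp [J]
    obtain ⟨t, ht⟩ := (rTensor_exact M hex h (1 ⊗ₜ m)).mp (by simpa using hm)
    have hkey : ∀ t : J ⊗[R] M, TensorProduct.lid R M (J.subtype.rTensor M t) ∈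
        J • (⊤ : Submodule R M) := by
      intro t
      induction t using TensorProduct.induction_on with
      | zero => simp
      | tmul j x => simpa using Submodule.smul_mem_smul j.2 Submodule.mem_top
      | add a b ha hb => simp only [map_add]; exact add_mem ha hb
    simpa [ht] using hkey t
  · intro hm
    refine Submodule.smul_induction_on hm (fun j hj x _ => ?_) (fun a b ha hb => by
      rw [TensorProduct.tmul_add, ha, hb, add_zero])
    rw [← TensorProduct.smul_tmul, Algebra.smul_def, RingHom.mem_ker.mp hj, zero_mul,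
      TensorProduct.zero_tmul]

/-- The pairs with equal image in `A ⊗ L` come from `L`. -/
theorem exists_of_rTensor_eq (hsq : EtMil.IsFibreSquare B' B A' A)
    {L : Type u} [AddCommGroup L] [Module B' L] (x : B ⊗[B'] L) (y : A' ⊗[B'] L)
    (hxy : (IsScalarTower.toAlgHom B' B A).toLinearMap.rTensor L x =
      (IsScalarTower.toAlgHom B' A' A).toLinearMap.rTensor L y) :
    ∃ l : L, (1 : B) ⊗ₜ[B'] l = x ∧ (1 : A') ⊗ₜ[B'] l = y := by
  obtain ⟨-, h2, h3⟩ := H28Pinch.props (R := B') hsq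
  let e := TensorProduct.prodLeft B' B' B A' L
  have hd : ∀ w, LinearMap.rTensor L (H28Pinch.diff B' B A' A) w =
      LinearMap.rTensor L (IsScalarTower.toAlgHom B' B A).toLinearMap (e w).1 -
        LinearMap.rTensor L (IsScalarTower.toAlgHom B' A' A).toLinearMap (e w).2 := fun w => by
    induction w using TensorProduct.induction_on with
    | zero => simp
    | tmul a b =>
      obtain ⟨a₁, a₂⟩ := a
      simp [e, H28Pinch.diff, TensorProduct.sub_tmul, TensorProduct.prodLeft_tmul]
    | add a b ha hb => simp only [map_add, ha, hb, Prod.fst_add, Prod.snd_add]; abel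
  obtain ⟨z, hz⟩ := (rTensor_exact L h2 h3 (e.symm (x, y))).1
    (by rw [hd, e.apply_symm_apply, hxy, sub_self])
  obtain ⟨l, rfl⟩ := exists_one_tmul (R := B') (S := B') (fun b => ⟨b, rfl⟩) z
  have := congrArg e hz
  rw [e.apply_symm_apply] at this
  simp [e, H28Pinch.incl] at this
  exact ⟨l, this⟩

/-- An element of the kernel of `B' → B` kills whatever dies in `A' ⊗ L`. -/
theorem smul_eq_zero_of_one_tmul_eq_zero (hsq : EtMil.IsFibreSquare B' B A' A)
    {L : Type u} [AddCommGroup L] [Module B' L] {l : L} (hl : (1 : A') ⊗ₜ[B'] l = 0)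
    {j : B'} (hj : algebraMap B' B j = 0) : j • l = 0 := by
  have hjA : algebraMap A' A (algebraMap B' A' j) = 0 := by
    rw [← IsScalarTower.algebraMap_apply, IsScalarTower.algebraMap_apply B' B A, hj, map_zero]
  choose w hw using fun a' : A' => hsq.2 0 (a' * algebraMap B' A' j) (by simp [hjA])
  have hw1 : ∀ a', algebraMap B' B (w a') = 0 := fun a' => (hw a').1.1
  have hw2 : ∀ a', algebraMap B' A' (w a') = a' * algebraMap B' A' j := fun a' => (hw a').1.2
  let f : A' →ₗ[B'] B' :=
    { toFun := w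
      map_add' := fun a b => ext_of_isFibreSquare hsq (by simp [hw1]) (by simp [hw2, add_mul])
      map_smul' := fun c a => ext_of_isFibreSquare hsq (by simp [hw1])
        (by simp [hw2, Algebra.smul_def, mul_assoc]) }
  have hf : f 1 = j := ext_of_isFibreSquare hsq ((hw1 1).trans hj.symm) (by simp [f, hw2])
  have h := congrArg (fun t => TensorProduct.lid B' L (f.rTensor L t)) hl
  simpa [hf] using h

theorem mem_smul_top_of_one_tmul_eq_zero (hsq : EtMil.IsFibreSquare B' B A' A)
    {L : Type u} [AddCommGroup L] [Module B' L] {l : L} (hl : (1 : B) ⊗ₜ[B'] l = 0) :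
    l ∈ RingHom.ker (algebraMap B' B) • (⊤ : Submodule B' L) :=
  (one_tmul_eq_zero_iff (weak_of_isFibreSquare hsq).surjB l).mp hl

theorem subsingleton_of_baseChange (hsq : EtMil.IsFibreSquare B' B A' A)
    (L : Type u) [AddCommGroup L] [Module B' L]
    [Subsingleton (B ⊗[B'] L)] [Subsingleton (A' ⊗[B'] L)] : Subsingleton L := by
  refine subsingleton_of_forall_eq 0 fun l => ?_
  refine Submodule.smul_induction_on
    (mem_smul_top_of_one_tmul_eq_zero hsq (Subsingleton.elim ((1 : B) ⊗ₜ[B'] l) 0))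
    (fun j hj x _ => ?_) (fun a b ha hb => by rw [ha, hb, add_zero])
  exact smul_eq_zero_of_one_tmul_eq_zero hsq (Subsingleton.elim _ _) hj

/-- Generators of `S ⊗ L` can be taken from `L`. -/
theorem exists_finset_baseChange {R S : Type u} [CommRing R] [CommRing S] [Algebra R S]
    (L : Type u) [AddCommGroup L] [Module R L] [Module.Finite S (S ⊗[R] L)] :
    ∃ s : Finset L, Submodule.span S ((fun l => (1 : S) ⊗ₜ[R] l) '' (s : Set L)) = ⊤ := by
  classical
  obtain ⟨t, ht⟩ := Module.Finite.fg_top (R := S) (M := S ⊗[R] L)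
  choose k c using fun z : S ⊗[R] L => TensorProduct.exists_finset z
  refine ⟨t.biUnion fun z => (k z).image Prod.snd, ?_⟩
  rw [← top_le_iff, ← ht, Submodule.span_le]
  intro z hz
  rw [c z]
  refine Submodule.sum_mem _ fun p hp => ?_
  rw [show p.1 ⊗ₜ[R] p.2 = p.1 • ((1 : S) ⊗ₜ[R] p.2) by rw [TensorProduct.smul_tmul', smul_eq_mul, mul_one]]
  exact Submodule.smul_mem _ _ (Submodule.subset_span ⟨p.2, Finset.mem_coe.mpr
    (Finset.mem_biUnion.mpr ⟨z, hz, Finset.mem_image.mpr ⟨p, hp, rfl⟩⟩), rfl⟩)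

theorem finite_of_baseChange (hsq : EtMil.IsFibreSquare B' B A' A)
    (L : Type u) [AddCommGroup L] [Module B' L]
    [Module.Finite B (B ⊗[B'] L)] [Module.Finite A' (A' ⊗[B'] L)] : Module.Finite B' L := by
  classical
  obtain ⟨s, hs⟩ := exists_finset_baseChange (R := B') (S := B) L
  obtain ⟨t, ht⟩ := exists_finset_baseChange (R := B') (S := A') L
  let N := Submodule.span B' ((s ∪ t : Finset L) : Set L)
  have key : ∀ (S : Type u) [CommRing S] [Algebra B' S] (v : Finset L), v ⊆ s ∪ t →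
      Submodule.span S ((fun l => (1 : S) ⊗ₜ[B'] l) '' (v : Set L)) = ⊤ →
      Subsingleton (S ⊗[B'] (L ⧸ N)) := by
    intro S _ _ v hv hspan
    refine subsingleton_of_forall_eq 0 fun z => ?_
    obtain ⟨w, rfl⟩ : ∃ w, N.mkQ.baseChange S w = z :=
      LinearMap.lTensor_surjective S N.mkQ_surjective z
    have hw : w ∈ Submodule.span S ((fun l => (1 : S) ⊗ₜ[B'] l) '' (v : Set L)) :=
      hspan ▸ Submodule.mem_top
    refine LinearMap.mem_ker.mp (Submodule.span_le.mpr ?_ hw)
    rintro _ ⟨l, hl, rfl⟩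
    simp [(Submodule.Quotient.mk_eq_zero N).mpr (Submodule.subset_span (hv hl))]
  haveI := key B s Finset.subset_union_left hs
  haveI := key A' t Finset.subset_union_right ht
  haveI := subsingleton_of_baseChange hsq (L ⧸ N)
  exact ⟨⟨s ∪ t, Submodule.Quotient.subsingleton_iff.mp this⟩⟩

section Glue

variable {N M' : Type u} [AddCommGroup N] [Module B N] [Module B' N] [IsScalarTower B' B N]
  [AddCommGroup M'] [Module A' M'] [Module B' M'] [IsScalarTower B' A' M']
  (φ : A ⊗[B] N ≃ₗ[A] A ⊗[A'] M')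

theorem zero_mk_mem {m : M'} (hm : (1 : A) ⊗ₜ[A'] m = 0) : ((0, m) : N × M') ∈ EtMil.glue B' φ := by
  show φ ((1 : A) ⊗ₜ[B] (0 : N)) = (1 : A) ⊗ₜ[A'] m
  rw [TensorProduct.tmul_zero, map_zero, hm]

theorem fst_surjective (h : Weak B' B A' A) : Function.Surjective (EtMil.glueFst B' φ) := by
  intro n
  obtain ⟨m, hm⟩ := exists_one_tmul h.surjA (φ ((1 : A) ⊗ₜ[B] n))
  exact ⟨⟨(n, m), hm.symm⟩, rfl⟩

/-- `A ⊗ N` is exhausted by `a' • φ (1 ⊗ n)`, so second coordinates span `M'` up to `I M'`. -/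
theorem exists_mem_span_sub (h : Weak B' B A' A) (m : M') :
    ∃ y ∈ Submodule.span A' (Set.range (EtMil.glueSnd B' φ)), (1 : A) ⊗ₜ[A'] (m - y) = 0 := by
  obtain ⟨t, ht⟩ := φ.surjective ((1 : A) ⊗ₜ[A'] m)
  induction t using TensorProduct.induction_on generalizing m with
  | zero => exact ⟨0, Submodule.zero_mem _, by rw [sub_zero, ← ht, map_zero]⟩
  | tmul a n =>
    obtain ⟨a', rfl⟩ := h.surjA a
    obtain ⟨x, rfl⟩ := fst_surjective φ h n
    refine ⟨a' • EtMil.glueSnd B' φ x, Submodule.smul_mem _ _ (Submodule.subset_span ⟨x, rfl⟩), ?_⟩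
    have hx : φ ((1 : A) ⊗ₜ[B] x.1.1) = (1 : A) ⊗ₜ[A'] x.1.2 := x.2
    rw [TensorProduct.tmul_sub, ← ht, sub_eq_zero]
    show φ (algebraMap A' A a' ⊗ₜ[B] x.1.1) = (1 : A) ⊗ₜ[A'] (a' • x.1.2)
    rw [show algebraMap A' A a' ⊗ₜ[B] x.1.1 = algebraMap A' A a' • ((1 : A) ⊗ₜ[B] x.1.1) by
      rw [TensorProduct.smul_tmul', smul_eq_mul, mul_one], map_smul, hx, algebraMap_smul,
      ← TensorProduct.tmul_smul]
  | add t₁ t₂ h₁ h₂ =>
    obtain ⟨m₁, hm₁⟩ := exists_one_tmul h.surjA (φ t₁)
    obtain ⟨y₁, hy₁, e₁⟩ := h₁ m₁ hm₁.symm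
    obtain ⟨y₂, hy₂, e₂⟩ := h₂ (m - m₁) (by rw [TensorProduct.tmul_sub, ← ht, hm₁, map_add]; abel)
    exact ⟨y₁ + y₂, add_mem hy₁ hy₂, by
      rw [show m - (y₁ + y₂) = (m₁ - y₁) + (m - m₁ - y₂) by abel, TensorProduct.tmul_add, e₁, e₂,
        add_zero]⟩

theorem span_range_snd_eq_top (h : Weak B' B A' A) :
    Submodule.span A' (Set.range (EtMil.glueSnd B' φ)) = ⊤ := by
  refine eq_top_iff.mpr fun m _ => ?_
  obtain ⟨y, hy, e⟩ := exists_mem_span_sub φ h m
  exact (sub_add_cancel m y) ▸ add_mem (Submodule.subset_span ⟨⟨_, zero_mk_mem φ e⟩, rfl⟩) hy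

theorem mem_smul_of_fst_eq_zero (h : Weak B' B A' A) {S : Set ↥(EtMil.glue B' φ)}
    (hS : Submodule.span A' (EtMil.glueSnd B' φ '' S) = ⊤)
    (x : ↥(EtMil.glue B' φ)) (hx : x.1.1 = 0) :
    x ∈ RingHom.ker (algebraMap B' B) • Submodule.span B' S := by
  set P := RingHom.ker (algebraMap B' B) • Submodule.span B' S with hP
  have h0 : ∀ y ∈ P, y.1.1 = 0 := by
    intro y hy
    refine Submodule.smul_induction_on hy (fun j hj z _ => ?_) (fun a b ha hb => by
      show a.1.1 + b.1.1 = 0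
      rw [ha, hb, add_zero])
    show j • z.1.1 = 0
    rw [← algebraMap_smul B j z.1.1, RingHom.mem_ker.mp hj, zero_smul]
  suffices ∀ m : M', m ∈ RingHom.ker (algebraMap A' A) • (⊤ : Submodule A' M') →
      ∃ y ∈ P, y.1.2 = m by
    have hm : (1 : A) ⊗ₜ[A'] x.1.2 = 0 := by
      have hx2 : φ ((1 : A) ⊗ₜ[B] x.1.1) = (1 : A) ⊗ₜ[A'] x.1.2 := x.2
      rw [← hx2, hx, TensorProduct.tmul_zero, map_zero]
    obtain ⟨y, hy, e⟩ := this _ ((one_tmul_eq_zero_iff h.surjA _).mp hm)
    rwa [show x = y from Subtype.ext (Prod.ext (hx.trans (h0 y hy).symm) e.symm)]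
  intro m hm
  refine Submodule.smul_induction_on hm (fun i hi z hzt => ?_) (fun a b ha hb => ?_)
  · have hz : z ∈ Submodule.span A' (EtMil.glueSnd B' φ '' S) := hS ▸ Submodule.mem_top
    clear hm hzt
    induction hz using Submodule.span_induction generalizing i with
    | mem w hw =>
      obtain ⟨s, hs, rfl⟩ := hw
      obtain ⟨j, hj1, rfl⟩ := h.ker i (RingHom.mem_ker.mp hi)
      exact ⟨j • s, Submodule.smul_mem_smul hj1 (Submodule.subset_span hs),
        (algebraMap_smul A' j _).symm⟩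
    | zero => exact ⟨0, zero_mem _, (smul_zero i).symm⟩
    | add a b _ _ ha hb =>
      obtain ⟨y, hy, ey⟩ := ha i hi
      obtain ⟨w, hw, ew⟩ := hb i hi
      exact ⟨y + w, add_mem hy hw, by show y.1.2 + w.1.2 = _; rw [ey, ew, smul_add]⟩
    | smul c a _ ha =>
      obtain ⟨y, hy, ey⟩ := ha (i * c) (Ideal.mul_mem_right _ _ hi)
      exact ⟨y, hy, by rw [ey, mul_smul]⟩
  · obtain ⟨y, hy, ey⟩ := ha
    obtain ⟨w, hw, ew⟩ := hb
    exact ⟨y + w, add_mem hy hw, by show y.1.2 + w.1.2 = _; rw [ey, ew]⟩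

theorem bijective_liftBaseChange_fst (h : Weak B' B A' A) :
    Function.Bijective (LinearMap.liftBaseChange B (EtMil.glueFst B' φ)) := by
  refine ⟨(injective_iff_map_eq_zero _).mpr fun z hz => ?_, fun n => ?_⟩
  · obtain ⟨x, rfl⟩ := exists_one_tmul h.surjB z
    have hx : x.1.1 = 0 := by simpa [EtMil.glueFst] using hz
    refine (one_tmul_eq_zero_iff h.surjB x).mpr ?_
    exact Submodule.smul_mono le_rfl le_top
      (mem_smul_of_fst_eq_zero φ h (S := Set.univ) (by rw [Set.image_univ]; exact span_range_snd_eq_top φ h) x hx)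
  · obtain ⟨x, rfl⟩ := fst_surjective φ h n
    exact ⟨1 ⊗ₜ x, by simp⟩

theorem bijective_liftBaseChange_snd (h : Weak B' B A' A) :
    Function.Bijective (LinearMap.liftBaseChange A' (EtMil.glueSnd B' φ)) := by
  constructor
  · let G := ↥(EtMil.glue B' φ)
    let g := LinearMap.liftBaseChange A' (EtMil.glueSnd B' φ)
    let e₁ : B ⊗[B'] G ≃ₗ[B] N := LinearEquiv.ofBijective _ (bijective_liftBaseChange_fst φ h)
    let χ : A ⊗[B] N →ₗ[A] A ⊗[B'] G :=
      (AlgebraTensorModule.cancelBaseChange B' B A A G).toLinearMap ∘ₗ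
        (e₁.symm.toLinearMap.baseChange A)
    let θ : M' →ₗ[A'] A ⊗[B'] G :=
      ((χ ∘ₗ φ.symm.toLinearMap).restrictScalars A') ∘ₗ TensorProduct.mk A' A M' 1
    have key : ∀ z : A' ⊗[B'] G,
        (IsScalarTower.toAlgHom B' A' A).toLinearMap.rTensor G z = θ (g z) := by
      intro z
      induction z using TensorProduct.induction_on with
      | zero => simp
      | tmul a' x =>
        have hx : φ.symm ((1 : A) ⊗ₜ[A'] x.1.2) = (1 : A) ⊗ₜ[B] x.1.1 := by
          rw [LinearEquiv.symm_apply_eq]; exact x.2.symm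
        have he : e₁.symm x.1.1 = (1 : B) ⊗ₜ[B'] x := by
          rw [LinearEquiv.symm_apply_eq]; simp [e₁, EtMil.glueFst]
        have : θ (g (a' ⊗ₜ x)) = a' • θ x.1.2 := by
          rw [← map_smul]; simp [g, EtMil.glueSnd]
        rw [this]
        simp [θ, χ, hx, he, AlgebraTensorModule.cancelBaseChange_tmul, TensorProduct.smul_tmul',
          Algebra.smul_def]
      | add a b ha hb => simp only [map_add, ha, hb]
    refine (injective_iff_map_eq_zero _).mpr fun z hz => ?_
    have h0 : (IsScalarTower.toAlgHom B' A' A).toLinearMap.rTensor G z = 0 := by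
      rw [key, show g z = 0 from hz, map_zero]
    let q := (IsScalarTower.toAlgHom B' A' A).toLinearMap
    obtain ⟨t, rfl⟩ := (rTensor_exact G (LinearMap.exact_subtype_ker_map q) h.surjA z).mp h0
    have h1 : ∀ t : LinearMap.ker q ⊗[B'] G, ∃ x : G,
        (LinearMap.ker q).subtype.rTensor G t = (1 : A') ⊗ₜ[B'] x ∧ x.1.1 = 0 := by
      intro t
      induction t using TensorProduct.induction_on with
      | zero => exact ⟨0, by simp, rfl⟩
      | tmul i x =>
        obtain ⟨j, hj, hji⟩ := h.ker i.1 (LinearMap.mem_ker.mp i.2)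
        refine ⟨j • x, ?_, ?_⟩
        · rw [LinearMap.rTensor_tmul, Submodule.subtype_apply, ← hji, ← TensorProduct.smul_tmul,
            Algebra.smul_def, mul_one]
        · show j • x.1.1 = 0
          rw [← algebraMap_smul B j x.1.1, hj, zero_smul]
      | add a b ha hb =>
        obtain ⟨x, hx, hx0⟩ := ha
        obtain ⟨y, hy, hy0⟩ := hb
        refine ⟨x + y, ?_, ?_⟩
        · rw [map_add, hx, hy, TensorProduct.tmul_add]
        · show x.1.1 + y.1.1 = 0
          rw [hx0, hy0, add_zero]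
    obtain ⟨x, hx, hx0⟩ := h1 t
    rw [hx] at hz ⊢
    have hx2 : x.1.2 = 0 := by simpa [EtMil.glueSnd] using hz
    rw [show x = 0 from Subtype.ext (Prod.ext hx0 hx2), TensorProduct.tmul_zero]
  · rw [← LinearMap.range_eq_top, eq_top_iff, ← span_range_snd_eq_top φ h, Submodule.span_le]
    rintro _ ⟨x, rfl⟩
    exact ⟨1 ⊗ₜ x, by simp⟩

theorem finite_glue (h : Weak B' B A' A) [Module.Finite B N] [Module.Finite A' M'] :
    Module.Finite B' ↥(EtMil.glue B' φ) := by
  classical
  obtain ⟨sN, hsN⟩ := Module.Finite.fg_top (R := B) (M := N)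
  obtain ⟨sM, hsM⟩ := Module.Finite.fg_top (R := A') (M := M')
  choose l hl using fst_surjective φ h
  have hspan := span_range_snd_eq_top φ h
  have hM : ∀ m ∈ sM, ∃ T : Finset ↥(EtMil.glue B' φ),
      m ∈ Submodule.span A' (EtMil.glueSnd B' φ '' (T : Set ↥(EtMil.glue B' φ))) := by
    intro m hmS
    clear hmS
    have hm : m ∈ Submodule.span A' (Set.range (EtMil.glueSnd B' φ)) := hspan ▸ Submodule.mem_top
    induction hm using Submodule.span_induction with
    | mem w hw =>
      obtain ⟨x, rfl⟩ := hw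
      exact ⟨{x}, Submodule.subset_span ⟨x, by simp, rfl⟩⟩
    | zero => exact ⟨∅, zero_mem _⟩
    | add a b _ _ ha hb =>
      obtain ⟨S, hS⟩ := ha
      obtain ⟨T, hT⟩ := hb
      exact ⟨S ∪ T, add_mem
        (Submodule.span_mono (Set.image_mono (by simp)) hS)
        (Submodule.span_mono (Set.image_mono (by simp)) hT)⟩
    | smul c a _ ha =>
      obtain ⟨S, hS⟩ := ha
      exact ⟨S, Submodule.smul_mem _ _ hS⟩
  choose T hT using hM
  let S : Finset ↥(EtMil.glue B' φ) := sN.image l ∪ sM.attach.biUnion fun m => T m.1 m.2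
  have hS : Submodule.span A' (EtMil.glueSnd B' φ '' (S : Set ↥(EtMil.glue B' φ))) = ⊤ := by
    rw [eq_top_iff, ← hsM, Submodule.span_le]
    exact fun m hm => Submodule.span_mono (Set.image_mono fun x hx => Finset.mem_coe.mpr
      (Finset.mem_union_right _ (Finset.mem_biUnion.mpr ⟨⟨m, hm⟩, Finset.mem_attach _ _, hx⟩)))
      (hT m hm)
  refine ⟨⟨S, eq_top_iff.mpr fun x _ => ?_⟩⟩
  have hx : x.1.1 ∈ (Submodule.span B' (S : Set ↥(EtMil.glue B' φ))).map (EtMil.glueFst B' φ) := by
    have : x.1.1 ∈ Submodule.span B (sN : Set N) := hsN ▸ Submodule.mem_top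
    rw [← Submodule.restrictScalars_mem B', Submodule.restrictScalars_span B' B h.surjB] at this
    refine Submodule.span_le.mpr ?_ this
    exact fun n hn => ⟨l n, Submodule.subset_span (Finset.mem_coe.mpr
      (Finset.mem_union_left _ (Finset.mem_image_of_mem l hn))), hl n⟩
  obtain ⟨y, hy, e⟩ := hx
  have e0 : (x - y).1.1 = 0 := by
    show x.1.1 - y.1.1 = 0
    rw [show y.1.1 = x.1.1 from e, sub_self]
  exact (sub_add_cancel x y) ▸ add_mem
    (Submodule.smul_le_right (mem_smul_of_fst_eq_zero φ h hS (x - y) e0)) hy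

end Glue

end Groth.Agent.H9Hens.Milnor
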