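import Groth.Agent.H9Hens.PuncturedClopen
import Groth.Agent.H9Hens.BranchCompletion
import Groth.Agent.H9Hens.BranchFlat
import Mathlib.RingTheory.Ideal.GoingDown

/-!
# Punctured spectra and branches under flat maps of henselian rings with trivial residue extension
-/

set_option linter.style.haveILetI false

universe u

open IsLocalRing

namespace Groth.Agent.H9Hens

section

variable {H C : Type u} [CommRing H] [HenselianLocalRing H] [IsNoetherianRing H]
  [CommRing C] [IsLocalRing C] [IsNoetherianRing C] [Algebra H C] [Module.Flat H C]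

/-- Over the closed point lies only the closed point. -/
theorem comap_eq_closedPoint_iff (hm : (maximalIdeal H).map (algebraMap H C) = maximalIdeal C) (P : PrimeSpectrum C) :
    PrimeSpectrum.comap (algebraMap H C) P = closedPoint H ↔ P = closedPoint C := by
  have : IsLocalHom (algebraMap H C) := ((local_hom_TFAE _).out 2 0).mp hm.le
  refine ⟨fun h => PrimeSpectrum.ext ((maximalIdeal.isMaximal C).eq_of_le P.isPrime.ne_top ?_).symm,
    fun h => h ▸ IsLocalRing.comap_closedPoint _⟩
  rw [← hm]
  exact Ideal.map_le_iff_le_comap.mpr (congrArg PrimeSpectrum.asIdeal h).ge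

/-- The punctured spectrum upstairs is preconnected iff the one downstairs is. -/
theorem isPreconnected_punctured_iff (hm : (maximalIdeal H).map (algebraMap H C) = maximalIdeal C)
    (hres : ∀ x : C, ∃ a : H, x - algebraMap H C a ∈ maximalIdeal C) :
    IsPreconnected ({closedPoint C}ᶜ : Set (PrimeSpectrum C)) ↔
      IsPreconnected ({closedPoint H}ᶜ : Set (PrimeSpectrum H)) := by
  have : IsLocalHom (algebraMap H C) := ((local_hom_TFAE _).out 2 0).mp hm.le
  have : Module.FaithfullyFlat H C := Module.FaithfullyFlat.of_flat_of_isLocalHom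
  have hsurj := PrimeSpectrum.comap_surjective_of_faithfullyFlat (A := H) (B := C)
  have hpre : PrimeSpectrum.comap (algebraMap H C) ⁻¹' {closedPoint H}ᶜ = {closedPoint C}ᶜ := by
    ext P
    simp [comap_eq_closedPoint_iff hm]
  constructor
  · intro h
    have := h.image _ (PrimeSpectrum.continuous_comap (algebraMap H C)).continuousOn
    rwa [← hpre, Set.image_preimage_eq _ hsurj] at this
  · intro h
    rw [isPreconnected_iff_subset_of_disjoint] at h ⊢
    intro u v hu hv hsub hdis
    have hT : IsOpen ({closedPoint C}ᶜ : Set (PrimeSpectrum C)) :=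
      (isClosed_singleton_closedPoint C).isOpen_compl
    have hcov : {closedPoint C}ᶜ ∩ u ∪ {closedPoint C}ᶜ ∩ v = {closedPoint C}ᶜ := by
      rw [← Set.inter_union_distrib_left]; exact Set.inter_eq_left.mpr hsub
    have hdj : Disjoint ({closedPoint C}ᶜ ∩ u) ({closedPoint C}ᶜ ∩ v) := by
      rw [Set.disjoint_iff_inter_eq_empty, ← Set.inter_inter_distrib_left]
      exact hdis
    obtain ⟨W, hW, -, hWe⟩ := exists_isOpen_preimage_eq hm hres _ _ (hT.inter hu) (hT.inter hv) hdj hcov
    obtain ⟨W', hW', -, hWe'⟩ := exists_isOpen_preimage_eq hm hres _ _ (hT.inter hv) (hT.inter hu) hdj.symm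
      ((Set.union_comm _ _).trans hcov)
    have h1 : {closedPoint H}ᶜ ⊆ W ∪ W' := fun p hp => by
      obtain ⟨P, rfl⟩ := hsurj p
      have hP : P ∈ ({closedPoint C}ᶜ : Set (PrimeSpectrum C)) := hpre.le hp
      rw [← hcov, ← hWe, ← hWe', ← Set.preimage_union] at hP
      exact hP
    have h2 : {closedPoint H}ᶜ ∩ (W ∩ W') = ∅ := Set.eq_empty_of_forall_notMem fun p hp => by
      obtain ⟨P, rfl⟩ := hsurj p
      exact Set.disjoint_left.mp hdj (hWe.le hp.2.1) (hWe'.le hp.2.2)
    refine (h W W' hW hW' h1 h2).imp (fun h3 P hP => ?_) fun h3 P hP => ?_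
    · exact (hWe.le (h3 (hpre.ge hP))).2
    · exact (hWe'.le (h3 (hpre.ge hP))).2

/-- A minimal prime with one-dimensional quotient is alone over a minimal prime downstairs. -/
theorem eq_of_comap_eq_of_dim_one (hm : (maximalIdeal H).map (algebraMap H C) = maximalIdeal C)
    (hres : ∀ x : C, ∃ a : H, x - algebraMap H C a ∈ maximalIdeal C)
    {q : PrimeSpectrum C} (hq : q.asIdeal ∈ minimalPrimes C) (hqm : q ≠ closedPoint C)
    (hmax : ∀ P : PrimeSpectrum C, q.asIdeal < P.asIdeal → P = closedPoint C)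
    (P : PrimeSpectrum C) (hP : PrimeSpectrum.comap (algebraMap H C) P = PrimeSpectrum.comap (algebraMap H C) q) :
    P = q := by
  let F : Set (PrimeSpectrum C) := ⋃ p ∈ minimalPrimes C \ {q.asIdeal}, PrimeSpectrum.zeroLocus (p : Set C)
  have hF : IsClosed F := ((minimalPrimes.finite_of_isNoetherianRing C).sdiff).isClosed_biUnion
    fun p _ => PrimeSpectrum.isClosed_zeroLocus _
  have hT : IsOpen ({closedPoint C}ᶜ : Set (PrimeSpectrum C)) :=
    (isClosed_singleton_closedPoint C).isOpen_compl
  have hge : ∀ Q : PrimeSpectrum C, Q ≠ closedPoint C → q.asIdeal ≤ Q.asIdeal → Q = q := fun Q hQ hle =>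
    PrimeSpectrum.ext ((eq_or_lt_of_le hle).resolve_right fun h => hQ (hmax Q h)).symm
  have hV : ({q} : Set (PrimeSpectrum C)) = {closedPoint C}ᶜ \ F := by
    ext Q
    constructor
    · rintro rfl
      refine ⟨hqm, fun h => ?_⟩
      obtain ⟨p, ⟨hp, hne⟩, hle⟩ := Set.mem_iUnion₂.mp h
      exact hne (le_antisymm hle (hq.2 ⟨hp.1.1, bot_le⟩ hle))
    · rintro ⟨hQ, hQF⟩
      obtain ⟨p, hp, hle⟩ := Ideal.exists_minimalPrimes_le (I := ⊥) (J := Q.asIdeal) bot_le
      by_cases hpq : p = q.asIdeal
      · exact hge Q hQ (hpq ▸ hle)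
      · exact (hQF (Set.mem_iUnion₂.mpr ⟨p, ⟨hp, hpq⟩, hle⟩)).elim
  have hV' : IsOpen ({closedPoint C}ᶜ \ {q} : Set (PrimeSpectrum C)) := by
    have : ({closedPoint C}ᶜ \ {q} : Set (PrimeSpectrum C)) =
        {closedPoint C}ᶜ \ PrimeSpectrum.zeroLocus (q.asIdeal : Set C) := by
      ext Q
      exact ⟨fun h => ⟨h.1, fun h' => h.2 (hge Q h.1 h')⟩,
        fun h => ⟨h.1, fun h' => h.2 (by rw [Set.mem_singleton_iff.mp h']; exact le_rfl (a := q.asIdeal))⟩⟩
    rw [this]
    exact hT.sdiff (PrimeSpectrum.isClosed_zeroLocus _)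
  obtain ⟨W, -, -, hW⟩ := exists_isOpen_preimage_eq hm hres {q} ({closedPoint C}ᶜ \ {q})
    (hV ▸ hT.sdiff hF) hV' Set.disjoint_sdiff_right
    (Set.union_sdiff_cancel (Set.singleton_subset_iff.mpr hqm))
  have h1 : PrimeSpectrum.comap (algebraMap H C) q ∈ W := hW.ge rfl
  exact hW.le (show PrimeSpectrum.comap (algebraMap H C) P ∈ W from hP ▸ h1)

end

section

variable {H C : Type u} [CommRing H] [CommRing C] [Algebra H C] [Module.Flat H C]

/-- Flat maps send minimal primes to minimal primes. -/
theorem comap_mem_minimalPrimes_of_flat {q : Ideal C} (hq : q ∈ minimalPrimes C) :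
    q.comap (algebraMap H C) ∈ minimalPrimes H := by
  have := hq.1.1
  refine ⟨⟨inferInstance, bot_le⟩, fun p hp hle => ?_⟩
  have := hp.1
  obtain ⟨P, hPq, hP, hlo⟩ := Ideal.exists_ideal_le_liesOver_of_le (S := C) (p := p) (q := q.under H) q hle
  rw [hlo.over]
  exact Ideal.comap_mono (hq.2 ⟨hP, bot_le⟩ hPq)

/-- The minimal primes over the extension of a minimal prime are the minimal primes above it. -/
theorem mem_minimalPrimes_map_iff {p : Ideal H} (hp : p ∈ minimalPrimes H) {P : Ideal C} :
    P ∈ (p.map (algebraMap H C)).minimalPrimes ↔ P ∈ minimalPrimes C ∧ P.comap (algebraMap H C) = p := by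
  constructor
  · rintro ⟨⟨hP, hle⟩, hmin⟩
    have := hp.1.1
    have hle' : p ≤ P.comap (algebraMap H C) := Ideal.map_le_iff_le_comap.mp hle
    have : P.LiesOver (P.under H) := ⟨rfl⟩
    obtain ⟨P₀, hP₀P, hP₀, hlo⟩ := Ideal.exists_ideal_le_liesOver_of_le (S := C) (p := p) (q := P.under H) P hle'
    have h1 := le_antisymm (hmin ⟨hP₀, Ideal.map_le_iff_le_comap.mpr hlo.over.le⟩ hP₀P) hP₀P
    have hPp : P.comap (algebraMap H C) = p := by rw [h1]; exact hlo.over.symm
    refine ⟨⟨⟨hP, bot_le⟩, fun Q hQ hQP => hmin ⟨hQ.1, Ideal.map_le_iff_le_comap.mpr ?_⟩ hQP⟩, hPp⟩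
    have := hQ.1
    exact hp.2 ⟨inferInstance, bot_le⟩ ((Ideal.comap_mono hQP).trans hPp.le)
  · rintro ⟨hP, rfl⟩
    exact ⟨⟨hP.1.1, Ideal.map_comap_le⟩, fun Q hQ hQP => hP.2 ⟨hQ.1, bot_le⟩ hQP⟩

/-- The comparison map on minimal primes is surjective for faithfully flat maps. -/
theorem surjective_minimalPrimes_comap [Module.FaithfullyFlat H C] :
    Function.Surjective (fun q : minimalPrimes C =>
      (⟨q.1.comap (algebraMap H C), comap_mem_minimalPrimes_of_flat q.2⟩ : minimalPrimes H)) := by
  rintro ⟨p, hp⟩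
  have := hp.1.1
  obtain ⟨P, hP⟩ := PrimeSpectrum.comap_surjective_of_faithfullyFlat (A := H) (B := C) ⟨p, inferInstance⟩
  have hle : p.map (algebraMap H C) ≤ P.asIdeal :=
    Ideal.map_le_iff_le_comap.mpr (congrArg PrimeSpectrum.asIdeal hP).ge
  obtain ⟨Q, hQ, -⟩ := Ideal.exists_minimalPrimes_le hle
  exact ⟨⟨Q, ((mem_minimalPrimes_map_iff hp).mp hQ).1⟩, Subtype.ext ((mem_minimalPrimes_map_iff hp).mp hQ).2⟩

/-- A unique minimal prime above gives a prime radical of the extension. -/
theorem radical_map_eq {p : Ideal H} (hp : p ∈ minimalPrimes H) {q : Ideal C} (hq : q ∈ minimalPrimes C)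
    (hqp : q.comap (algebraMap H C) = p)
    (huniq : ∀ P ∈ minimalPrimes C, P.comap (algebraMap H C) = p → P = q) :
    (p.map (algebraMap H C)).radical = q := by
  have h : (p.map (algebraMap H C)).minimalPrimes = {q} := by
    ext P
    rw [mem_minimalPrimes_map_iff hp, Set.mem_singleton_iff]
    exact ⟨fun h => huniq P h.1 h.2, fun h => h ▸ ⟨hq, hqp⟩⟩
  rw [← Ideal.sInf_minimalPrimes, h, sInf_singleton]

/-- Prime radicals of all extensions mean injectivity of the comparison map on minimal primes. -/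
theorem radical_isPrime_iff_injective [Module.FaithfullyFlat H C] :
    (∀ p ∈ minimalPrimes H, (p.map (algebraMap H C)).radical.IsPrime) ↔
      Function.Injective (fun q : minimalPrimes C =>
        (⟨q.1.comap (algebraMap H C), comap_mem_minimalPrimes_of_flat q.2⟩ : minimalPrimes H)) := by
  constructor
  · intro h q q' hqq'
    have hqq : q.1.comap (algebraMap H C) = q'.1.comap (algebraMap H C) := congrArg Subtype.val hqq'
    have hp := comap_mem_minimalPrimes_of_flat (H := H) q.2
    have key : ∀ P ∈ minimalPrimes C, P.comap (algebraMap H C) = q.1.comap (algebraMap H C) →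
        P = ((q.1.comap (algebraMap H C)).map (algebraMap H C)).radical := fun P hP hPc => by
      have hmem := (mem_minimalPrimes_map_iff hp).mpr ⟨hP, hPc⟩
      have hle : ((q.1.comap (algebraMap H C)).map (algebraMap H C)).radical ≤ P :=
        (hmem.1.1.radical_le_iff).mpr hmem.1.2
      exact le_antisymm (hmem.2 ⟨h _ hp, Ideal.le_radical⟩ hle) hle
    exact Subtype.ext ((key _ q.2 rfl).trans (key _ q'.2 hqq.symm).symm)
  · intro h p hp
    obtain ⟨q, hq⟩ := surjective_minimalPrimes_comap (H := H) (C := C) ⟨p, hp⟩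
    rw [radical_map_eq hp q.2 (congrArg Subtype.val hq) fun P hP hPc =>
      congrArg Subtype.val (h (a₁ := ⟨P, hP⟩) (a₂ := q) (hq ▸ Subtype.ext hPc))]
    exact q.2.1.1

/-- Equal numbers of minimal primes mean injectivity of the comparison map. -/
theorem card_minimalPrimes_eq_iff_injective [IsNoetherianRing C] [Module.FaithfullyFlat H C] :
    ENat.card (minimalPrimes C) = ENat.card (minimalPrimes H) ↔
      Function.Injective (fun q : minimalPrimes C =>
        (⟨q.1.comap (algebraMap H C), comap_mem_minimalPrimes_of_flat q.2⟩ : minimalPrimes H)) := by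
  have := (minimalPrimes.finite_of_isNoetherianRing C).to_subtype
  have hs := surjective_minimalPrimes_comap (H := H) (C := C)
  have := Finite.of_surjective _ hs
  refine ⟨fun h => (hs.bijective_of_nat_card_le ?_).1, fun h => ENat.card_congr (Equiv.ofBijective _ ⟨h, hs⟩)⟩
  rw [ENat.card_eq_coe_natCard, ENat.card_eq_coe_natCard] at h
  exact (Nat.cast_inj.mp h).le

end

/-- The map from a henselization to the completion is flat, unramified and residually trivial. -/
theorem henselization_to_cpl_data (A S : Type u) [CommRing A] [IsLocalRing A] [IsNoetherianRing A] [CommRing S]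
    [IsLocalRing S] [Algebra A S] [IsLocalHom (algebraMap A S)] [Hensel.IsHenselization A S]
    (ψ : S →+* EGA4.Cpl A) (hψ : ψ.comp (algebraMap A S) = algebraMap A (EGA4.Cpl A)) :
    HenselianLocalRing S ∧ IsNoetherianRing S ∧ ψ.Flat ∧
      (maximalIdeal S).map ψ = maximalIdeal (EGA4.Cpl A) ∧
      ∀ x : EGA4.Cpl A, ∃ a : S, x - ψ a ∈ maximalIdeal (EGA4.Cpl A) := by
  haveI := H05EGA4.flat_cpl A
  obtain ⟨π, hπ⟩ := exists_isPtColim_of_isHenselization (R := A) S
  let : Algebra S (EGA4.Cpl A) := ψ.toAlgebra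
  have : IsScalarTower A S (EGA4.Cpl A) := IsScalarTower.of_algebraMap_eq fun a => (RingHom.congr_fun hψ a).symm
  refine ⟨Hensel.IsHenselization.henselian (R := A), hπ.isNoetherianRing ker_algebraMap_residueField,
    hπ.flat_of_restrictScalars (EGA4.Cpl A), ?_, fun x => ?_⟩
  · rw [← hπ.map_maximalIdeal ker_algebraMap_residueField, Ideal.map_map, hψ, AdicCompletion.maximalIdeal_eq_map]
  · obtain ⟨a, ha⟩ := residue_trivial_cpl A x
    exact ⟨algebraMap A S a, by rwa [← RingHom.comp_apply, hψ]⟩

/-- Above a prime with at most one-dimensional quotient there is only the closed point. -/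
theorem eq_closedPoint_of_lt {C : Type u} [CommRing C] [IsLocalRing C] (q : PrimeSpectrum C)
    (h : ringKrullDim (C ⧸ q.asIdeal) ≤ 1) (P : PrimeSpectrum C) (hP : q.asIdeal < P.asIdeal) :
    P = closedPoint C := by
  by_contra hne
  rw [ringKrullDim_quotient] at h
  have hlt : P < closedPoint C := lt_of_le_of_ne (le_maximalIdeal P.isPrime.ne_top) hne
  let a : PrimeSpectrum.zeroLocus (q.asIdeal : Set C) := ⟨q, le_rfl (a := q.asIdeal)⟩
  let b : PrimeSpectrum.zeroLocus (q.asIdeal : Set C) := ⟨P, hP.le⟩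
  let c : PrimeSpectrum.zeroLocus (q.asIdeal : Set C) :=
    ⟨closedPoint C, hP.le.trans (le_maximalIdeal P.isPrime.ne_top)⟩
  let l : LTSeries (PrimeSpectrum.zeroLocus (q.asIdeal : Set C)) :=
    ((RelSeries.singleton _ a).snoc b hP).snoc c (by rw [RelSeries.last_snoc]; exact hlt)
  have := (Order.LTSeries.length_le_krullDim l).trans h
  have h2 : l.length = 2 := rfl
  rw [h2] at this
  exact absurd (by exact_mod_cast this : (2 : ℕ) ≤ 1) (by decide)

theorem ne_closedPoint_of_dim_one {C : Type u} [CommRing C] [IsLocalRing C] (q : PrimeSpectrum C)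
    (h : ringKrullDim (C ⧸ q.asIdeal) = 1) : q ≠ closedPoint C := by
  rintro rfl
  letI := Ideal.Quotient.field (maximalIdeal C)
  exact zero_ne_one ((ringKrullDim_eq_zero_of_field (C ⧸ maximalIdeal C)).symm.trans h)

/-- In dimension one, flat unramified residually trivial maps of henselian rings preserve minimal primes. -/
theorem card_minimalPrimes_eq_of_dim_one {H C : Type u} [CommRing H] [HenselianLocalRing H] [IsNoetherianRing H]
    [CommRing C] [IsLocalRing C] [IsNoetherianRing C] [Algebra H C] [Module.Flat H C]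
    (hm : (maximalIdeal H).map (algebraMap H C) = maximalIdeal C)
    (hres : ∀ x : C, ∃ a : H, x - algebraMap H C a ∈ maximalIdeal C) (hdim : ringKrullDim C = 1) :
    ENat.card (minimalPrimes C) = ENat.card (minimalPrimes H) := by
  have : IsLocalHom (algebraMap H C) := ((local_hom_TFAE _).out 2 0).mp hm.le
  have : Module.FaithfullyFlat H C := Module.FaithfullyFlat.of_flat_of_isLocalHom
  refine card_minimalPrimes_eq_iff_injective.mpr fun q q' hqq' => Subtype.ext ?_
  let Q : PrimeSpectrum C := ⟨q.1, q.2.1.1⟩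
  have hne : Q ≠ closedPoint C := by
    intro h
    have hall : ∀ P : PrimeSpectrum C, P = closedPoint C := fun P => PrimeSpectrum.ext <| by
      have hle : P.asIdeal ≤ q.1 := (le_maximalIdeal P.isPrime.ne_top).trans (congrArg PrimeSpectrum.asIdeal h).ge
      exact (le_antisymm hle (q.2.2 ⟨P.isPrime, bot_le⟩ hle)).trans (congrArg PrimeSpectrum.asIdeal h)
    have : Subsingleton (PrimeSpectrum C) := ⟨fun a b => (hall a).trans (hall b).symm⟩
    have h0 : ringKrullDim C ≤ 0 := Order.krullDim_nonpos_of_subsingleton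
    rw [hdim] at h0
    exact absurd h0 (by norm_num)
  exact (congrArg PrimeSpectrum.asIdeal (eq_of_comap_eq_of_dim_one hm hres (q := Q) q.2 hne
    (eq_closedPoint_of_lt Q ((ringKrullDim_quotient_le _).trans hdim.le)) ⟨q'.1, q'.2.1.1⟩
    (PrimeSpectrum.ext (congrArg Subtype.val hqq').symm))).symm

end Groth.Agent.H9Hens
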