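import Groth.Agent.H9Hens.PairHens
import Groth.Agent.H9Hens.LocalHens
import Mathlib.RingTheory.TensorProduct.Basic
import Mathlib.RingTheory.Ideal.GoingUp

/-!
Henselization commutes with integral base change.
-/

namespace Groth.Agent.H9Hens

universe u

open TensorProduct IsLocalRing

/-- Henselization of pairs commutes with integral base change. -/
theorem isPairHenselization_baseChange_integral {A B Ah : Type u} [CommRing A] [CommRing B]
    [CommRing Ah] [Algebra A B] [Algebra A Ah] [Algebra.IsIntegral A B] {I : Ideal A} {J : Ideal B}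
    (hIJ : I.map (algebraMap A B) ≤ J) (hrad : J ≤ (I.map (algebraMap A B)).radical)
    (hA : Hens2.IsPairHenselization A I Ah) :
    Hens2.IsPairHenselization B J (B ⊗[A] Ah) := by
  have := hA.1
  let e := Algebra.TensorProduct.comm A Ah B
  have h1 : HenselianRing (Ah ⊗[A] B)
      ((I.map (algebraMap A Ah)).map (algebraMap Ah (Ah ⊗[A] B))) :=
    henselianRing_of_isIntegral (I := I.map (algebraMap A Ah)) _
  have h1' := henselianRing_radical (A := Ah ⊗[A] B)
    (I := (I.map (algebraMap A Ah)).map (algebraMap Ah (Ah ⊗[A] B)))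
  refine ⟨?_, fun C _ J' f hC hf => ?_⟩
  · let : Algebra (Ah ⊗[A] B) (B ⊗[A] Ah) := e.toAlgHom.toRingHom.toAlgebra
    have : Algebra.IsIntegral (Ah ⊗[A] B) (B ⊗[A] Ah) :=
      Algebra.IsIntegral.of_surjective (Algebra.ofId _ _) e.surjective
    have h2 := henselianRing_of_isIntegral (A := Ah ⊗[A] B)
      (I := ((I.map (algebraMap A Ah)).map (algebraMap Ah (Ah ⊗[A] B))).radical) (B ⊗[A] Ah)
    refine henselianRing_of_le (J := ((((I.map (algebraMap A Ah)).map
      (algebraMap Ah (Ah ⊗[A] B))).radical).map (algebraMap (Ah ⊗[A] B) (B ⊗[A] Ah))))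
      (Ideal.map_le_iff_le_comap.mpr fun b hb => ?_)
    obtain ⟨n, hn⟩ := hrad hb
    have hle : I.map (algebraMap A B) ≤
        (((I.map (algebraMap A Ah)).map (algebraMap Ah (Ah ⊗[A] B)))).comap
          (Algebra.TensorProduct.includeRight : B →ₐ[A] Ah ⊗[A] B).toRingHom := by
      rw [← Ideal.map_le_iff_le_comap, Ideal.map_map, Ideal.map_map, AlgHom.toRingHom_eq_coe,
        AlgHom.comp_algebraMap, ← IsScalarTower.algebraMap_eq]
    have h3 : (1 : Ah) ⊗ₜ[A] b ∈
        ((I.map (algebraMap A Ah)).map (algebraMap Ah (Ah ⊗[A] B))).radical := by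
      refine ⟨n, ?_⟩
      have := hle hn
      rwa [Ideal.mem_comap, map_pow] at this
    have h4 := Ideal.mem_map_of_mem (algebraMap (Ah ⊗[A] B) (B ⊗[A] Ah)) h3
    exact h4
  · have hfI : I.map (f.comp (algebraMap A B)) ≤ J' := by
      rw [← Ideal.map_map]; exact (Ideal.map_mono hIJ).trans hf
    obtain ⟨g, hg, hgu⟩ := hA.2 C J' (f.comp (algebraMap A B)) hC hfI
    let : Algebra A C := (f.comp (algebraMap A B)).toAlgebra
    let fA : B →ₐ[A] C := { f with commutes' := fun _ => rfl }
    let gA : Ah →ₐ[A] C := { g with commutes' := fun a => RingHom.congr_fun hg a }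
    let F := Algebra.TensorProduct.lift fA gA fun _ _ => Commute.all _ _
    refine ⟨F.toRingHom, RingHom.ext fun b => ?_, fun F' hF' => ?_⟩
    · show F (b ⊗ₜ[A] (1 : Ah)) = f b
      simp [F, fA]
    · have hc : ∀ a, F' (algebraMap A (B ⊗[A] Ah) a) = algebraMap A C a := fun a => by
        rw [IsScalarTower.algebraMap_apply A B (B ⊗[A] Ah)]
        exact RingHom.congr_fun hF' _
      let F'' : B ⊗[A] Ah →ₐ[A] C := { F' with commutes' := hc }
      have hr : (F''.comp Algebra.TensorProduct.includeRight).toRingHom = g := hgu _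
        (RingHom.ext fun a => AlgHom.commutes
          (F''.comp (Algebra.TensorProduct.includeRight : Ah →ₐ[A] B ⊗[A] Ah)) a)
      refine congrArg AlgHom.toRingHom (Algebra.TensorProduct.ext (R := A) (S := A) (f := F'') (g := F)
        ?_ ?_)
      · refine AlgHom.ext fun b => ?_
        show F' (b ⊗ₜ[A] (1 : Ah)) = F (b ⊗ₜ[A] (1 : Ah))
        simp only [F, fA, Algebra.TensorProduct.lift_tmul, map_one, mul_one]
        exact RingHom.congr_fun hF' b
      · refine AlgHom.ext fun a => ?_
        show F' ((1 : B) ⊗ₜ[A] a) = F ((1 : B) ⊗ₜ[A] a)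
        simp only [F, Algebra.TensorProduct.lift_tmul, map_one, one_mul]
        exact RingHom.congr_fun hr a

/-- Henselization of local rings commutes with local integral base change. -/
theorem exists_isHenselization_tensor (A B S : Type u) [CommRing A] [IsLocalRing A] [CommRing B]
    [IsLocalRing B] [Algebra A B] [IsLocalHom (algebraMap A B)] [Algebra.IsIntegral A B]
    [CommRing S] [IsLocalRing S] [Algebra A S] [IsLocalHom (algebraMap A S)]
    [Hensel.IsHenselization A S] :
    ∃ (_ : IsLocalRing (B ⊗[A] S)) (_ : IsLocalHom (algebraMap B (B ⊗[A] S))),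
      Hensel.IsHenselization B (B ⊗[A] S) := by
  have hrad : maximalIdeal B ≤ ((maximalIdeal A).map (algebraMap A B)).radical := by
    rw [Ideal.radical_eq_sInf]
    refine le_sInf fun J ⟨hJ, hJp⟩ => le_of_eq ?_
    have hc : J.comap (algebraMap A B) = maximalIdeal A :=
      ((maximalIdeal.isMaximal A).eq_of_le (Ideal.IsPrime.ne_top inferInstance)
        (Ideal.map_le_iff_le_comap.mp hJ)).symm
    have : (J.comap (algebraMap A B)).IsMaximal := hc ▸ maximalIdeal.isMaximal A
    exact (eq_maximalIdeal (Ideal.isMaximal_of_isIntegral_of_isMaximal_comap J this)).symm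
  have hT := isPairHenselization_baseChange_integral (B := B) (J := maximalIdeal B)
    (map_maximalIdeal_le _) hrad (isPairHenselization_of_isHenselization (R := A) S)
  obtain ⟨H, _, _, _, _, π, hπ, hH⟩ := exists_isHenselization_colim B
  obtain ⟨e⟩ := pairHenselization_algEquiv
    (isPairHenselization_of_isHenselization (R := B) H) hT
  have hπT := hπ.of_algEquiv e
  have := hπT.isLocalRing
  have := hπT.isLocalHom ker_algebraMap_residueField
  exact ⟨inferInstance, inferInstance, hπT.isHenselization⟩

end Groth.Agent.H9Hens
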