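import Groth.Prelude.Def_Hensel
import Groth.Agent.S0538
import Mathlib.RingTheory.Localization.AtPrime.Basic
import Mathlib.RingTheory.TensorProduct.Maps
import Mathlib.FieldTheory.IsSepClosed

/-!
# Henselizations of localizations of `Rʰ ⊗_R S`

If `Sʰ` is a (strict) henselization of `S_q`, compatibly with a (strict) henselization `Rʰ` of `R_p`,
then it is a (strict) henselization of `(Rʰ ⊗_R S)_Q`.
-/

universe u

open TensorProduct IsLocalRing

namespace Groth.Agent.H9Hens

theorem isUnit_of_comap_maximalIdeal {D T : Type u} [CommRing D] [CommRing T] [IsLocalRing T]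
    (φ : D →+* T) {Q : Ideal D} (hQ : Q = (maximalIdeal T).comap φ) {d : D} :
    IsUnit (φ d) ↔ d ∉ Q := by
  rw [hQ, Ideal.mem_comap, notMem_maximalIdeal]

/-- A map from a localization at a prime into a local ring is local if the prime is the preimage of
the maximal ideal. -/
theorem isLocalHom_of_atPrime {D T : Type u} [CommRing D] [CommRing T] [IsLocalRing T]
    (Q : Ideal D) [Q.IsPrime] (f : Localization.AtPrime Q →+* T)
    (hQ : ∀ d ∈ Q, f (algebraMap D _ d) ∈ maximalIdeal T) : IsLocalHom f := by
  refine ⟨fun z hz => ?_⟩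
  obtain ⟨d, s, rfl⟩ := IsLocalization.exists_mk'_eq Q.primeCompl z
  rw [IsLocalization.AtPrime.isUnit_mk'_iff _ Q]
  intro hd
  have h := congrArg f (IsLocalization.mk'_spec (Localization.AtPrime Q) d s)
  rw [map_mul] at h
  refine (mem_maximalIdeal _).mp (hQ d hd) ?_
  rw [← h]
  exact hz.mul ((IsLocalization.map_units _ s).map f)

variable {R S : Type u} [CommRing R] [CommRing S] [Algebra R S] {p : Ideal R} [p.IsPrime] {q : Ideal S}
  [q.IsPrime] [q.LiesOver p] {Rh : Type u} [CommRing Rh] [IsLocalRing Rh]
  [Algebra (Localization.AtPrime p) Rh] [IsLocalHom (algebraMap (Localization.AtPrime p) Rh)]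
  [Algebra R Rh] [IsScalarTower R (Localization.AtPrime p) Rh]
  {Sh : Type u} [CommRing Sh] [IsLocalRing Sh] [Algebra (Localization.AtPrime q) Sh]
  [IsLocalHom (algebraMap (Localization.AtPrime q) Sh)]
  [Algebra S Sh] [IsScalarTower S (Localization.AtPrime q) Sh]

omit [p.IsPrime] [q.LiesOver p] in
theorem mem_maximalIdeal_of_mem {s : S} :
    algebraMap S Sh s ∈ maximalIdeal Sh ↔ s ∈ q := by
  rw [IsScalarTower.algebraMap_apply S (Localization.AtPrime q) Sh,
    mem_maximalIdeal, mem_nonunits_iff, isUnit_map_iff,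
    IsLocalization.AtPrime.isUnit_to_map_iff _ q, Ideal.mem_primeCompl_iff, not_not]

variable [Algebra R Sh] [IsScalarTower R S Sh] [Algebra Rh Sh] [IsScalarTower R Rh Sh]
  (φ : Rh ⊗[R] S →+* Sh) (hφl : ∀ x, φ (x ⊗ₜ 1) = algebraMap Rh Sh x)
  (hφr : ∀ s, φ (1 ⊗ₜ s) = algebraMap S Sh s)
  (Q : Ideal (Rh ⊗[R] S)) [Q.IsPrime] (hQ : Q = (maximalIdeal Sh).comap φ)
  {E : Type u} [CommRing E] [IsLocalRing E] [Algebra (Localization.AtPrime Q) E]
  [IsLocalHom (algebraMap (Localization.AtPrime Q) E)]

/-- The composite `Rʰ ⊗ S → E`. -/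
abbrev toE : Rh ⊗[R] S →+* E :=
  (algebraMap (Localization.AtPrime Q) E).comp (algebraMap (Rh ⊗[R] S) (Localization.AtPrime Q))

/-- The maps `(Rʰ ⊗ S)_Q → Sʰ`, `S_q → E`, `R_p → E`, all local and compatible. -/
theorem exists_data (hφr : ∀ s, φ (1 ⊗ₜ s) = algebraMap S Sh s) (hQ : Q = (maximalIdeal Sh).comap φ) :
    (∃ φD : Localization.AtPrime Q →+* Sh, IsLocalHom φD ∧ ∀ d, φD (algebraMap _ _ d) = φ d) ∧
    (∃ fS : Localization.AtPrime q →+* E, IsLocalHom fS ∧
      ∀ s, fS (algebraMap _ _ s) = toE Q (1 ⊗ₜ s)) ∧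
    IsLocalHom (((toE Q : Rh ⊗[R] S →+* E).comp Algebra.TensorProduct.includeLeftRingHom).comp
      (algebraMap (Localization.AtPrime p) Rh)) := by
  have hunit : ∀ d, IsUnit (toE Q d : E) ↔ d ∉ Q := fun d => by
    rw [RingHom.comp_apply, isUnit_map_iff, IsLocalization.AtPrime.isUnit_to_map_iff _ Q,
      Ideal.mem_primeCompl_iff]
  have hmem : ∀ s : S, (1 ⊗ₜ s : Rh ⊗[R] S) ∈ Q ↔ s ∈ q := fun s => by
    rw [hQ, Ideal.mem_comap, hφr, mem_maximalIdeal_of_mem (q := q)]
  refine ⟨⟨IsLocalization.lift (M := Q.primeCompl) (g := φ)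
      fun y => (isUnit_of_comap_maximalIdeal φ hQ).mpr y.2,
    isLocalHom_of_atPrime Q _ fun d hd => ?_, fun d => IsLocalization.lift_eq _ d⟩, ?_, ?_⟩
  · rw [IsLocalization.lift_eq]
    exact Ideal.mem_comap.mp (hQ ▸ hd :)
  · refine ⟨IsLocalization.lift (M := q.primeCompl)
      (g := (toE Q : Rh ⊗[R] S →+* E).comp Algebra.TensorProduct.includeRight.toRingHom)
      fun y => (hunit _).mpr fun h => y.2 ((hmem _).mp h),
      isLocalHom_of_atPrime q _ fun s hs => ?_, fun s => IsLocalization.lift_eq _ s⟩
    rw [IsLocalization.lift_eq, mem_maximalIdeal, mem_nonunits_iff]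
    exact fun h => (hunit _).mp h ((hmem s).mpr hs)
  · refine isLocalHom_of_atPrime p _ fun r hr => ?_
    simp only [RingHom.comp_apply, ← IsScalarTower.algebraMap_apply R (Localization.AtPrime p) Rh,
      Algebra.TensorProduct.includeLeftRingHom_apply]
    rw [mem_maximalIdeal, mem_nonunits_iff,
      show (algebraMap R Rh r ⊗ₜ[R] (1 : S)) = 1 ⊗ₜ algebraMap R S r from
        (Algebra.TensorProduct.includeRight.commutes r).symm]
    exact fun h => (hunit _).mp h ((hmem _).mpr ((Ideal.LiesOver.over (P := q) (p := p)) ▸ hr :))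

omit [IsLocalRing Rh] [IsLocalRing E] [IsLocalHom (algebraMap (Localization.AtPrime Q) E)] [p.IsPrime]
  [q.LiesOver p] in
/-- Agreement on both factors gives agreement on the tensor product. -/
theorem eq_toE (h : Sh →+* E) (hl : ∀ x, h (algebraMap Rh Sh x) = toE Q (x ⊗ₜ 1))
    (hr : ∀ s, h (algebraMap S Sh s) = toE Q (1 ⊗ₜ s)) (hφl : ∀ x, φ (x ⊗ₜ 1) = algebraMap Rh Sh x)
    (hφr : ∀ s, φ (1 ⊗ₜ s) = algebraMap S Sh s) (d : Rh ⊗[R] S) : h (φ d) = toE Q d := by
  induction d using TensorProduct.induction_on with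
  | zero => simp
  | tmul x s =>
    have : (x ⊗ₜ[R] s : Rh ⊗[R] S) = (x ⊗ₜ 1) * (1 ⊗ₜ s) := by simp
    rw [this, map_mul, map_mul, map_mul, hφl, hφr, hl, hr]
  | add x y hx hy => simp only [map_add, hx, hy]

include hφl hφr hQ in
theorem exists_henselization_equiv [Hensel.IsHenselization (Localization.AtPrime p) Rh]
    [Hensel.IsHenselization (Localization.AtPrime q) Sh]
    [Hensel.IsHenselization (Localization.AtPrime Q) E] :
    ∃ e : E ≃+* Sh, ∀ d, e (toE Q d) = φ d := by
  have hSh : HenselianLocalRing Sh := Hensel.IsHenselization.henselian (R := Localization.AtPrime q)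
  have hE : HenselianLocalRing E := Hensel.IsHenselization.henselian (R := Localization.AtPrime Q)
  obtain ⟨⟨φD, hφDl, hφD⟩, ⟨fS, hfSl, hfS⟩, hfR⟩ := exists_data (p := p) (q := q) φ Q (E := E) hφr hQ
  obtain ⟨g, hg, -⟩ := Hensel.IsHenselization.universal (R := Localization.AtPrime Q) (S := E) Sh φD hφDl
  have hgι : ∀ d, g (toE Q d) = φ d := fun d =>
    (DFunLike.congr_fun hg (algebraMap _ _ d)).trans (hφD d)
  obtain ⟨h, hh, -⟩ := Hensel.IsHenselization.universal (R := Localization.AtPrime q) (S := Sh) E fS hfSl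
  have hhS : ∀ s : S, h (algebraMap S Sh s) = toE Q (1 ⊗ₜ s) := fun s => by
    rw [IsScalarTower.algebraMap_apply S (Localization.AtPrime q) Sh]
    exact (DFunLike.congr_fun hh _).trans (hfS s)
  have hgh : g.comp h = RingHom.id Sh := by
    obtain ⟨k, -, huniq⟩ := Hensel.IsHenselization.universal (R := Localization.AtPrime q) (S := Sh) Sh
      (algebraMap _ Sh) inferInstance
    refine (huniq _ (IsLocalization.ringHom_ext q.primeCompl (RingHom.ext fun s => ?_))).trans
      (huniq _ (RingHom.id_comp _)).symm
    simp only [RingHom.comp_apply, ← IsScalarTower.algebraMap_apply S (Localization.AtPrime q) Sh, hhS]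
    exact (hgι _).trans (hφr s)
  have hR : ∀ x : Rh, h (algebraMap Rh Sh x) = toE Q (x ⊗ₜ 1) := by
    let a : Rh →+* E := h.comp (algebraMap Rh Sh)
    let b : Rh →+* E := (toE Q : Rh ⊗[R] S →+* E).comp Algebra.TensorProduct.includeLeftRingHom
    obtain ⟨k, -, huniq⟩ := Hensel.IsHenselization.universal (R := Localization.AtPrime p) (S := Rh) E
      (b.comp (algebraMap (Localization.AtPrime p) Rh)) hfR
    have hc : a.comp (algebraMap (Localization.AtPrime p) Rh) = b.comp (algebraMap (Localization.AtPrime p) Rh) :=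
      IsLocalization.ringHom_ext p.primeCompl (RingHom.ext fun r => by
        simp only [a, b, RingHom.comp_apply, ← IsScalarTower.algebraMap_apply R (Localization.AtPrime p) Rh,
          ← IsScalarTower.algebraMap_apply R Rh Sh]
        rw [IsScalarTower.algebraMap_apply R S Sh, hhS]
        exact congrArg (toE Q) (Algebra.TensorProduct.includeRight.commutes r))
    exact fun x => DFunLike.congr_fun ((huniq a hc).trans (huniq b rfl).symm) x
  have hhg : h.comp g = RingHom.id E := by
    obtain ⟨k, -, huniq⟩ := Hensel.IsHenselization.universal (R := Localization.AtPrime Q) (S := E) E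
      (algebraMap _ E) inferInstance
    refine (huniq _ (IsLocalization.ringHom_ext Q.primeCompl (RingHom.ext fun d => ?_))).trans
      (huniq _ (RingHom.id_comp _)).symm
    show h (g (toE Q d)) = toE Q d
    rw [hgι, eq_toE φ Q h hR hhS hφl hφr]
  exact ⟨RingEquiv.ofRingHom g h hgh hhg, hgι⟩

include hφl hφr hQ in
theorem exists_strictHenselization_equiv [Hensel.IsStrictHenselization (Localization.AtPrime p) Rh]
    [Hensel.IsStrictHenselization (Localization.AtPrime q) Sh]
    [Hensel.IsStrictHenselization (Localization.AtPrime Q) E] :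
    ∃ e : E ≃+* Sh, ∀ d, e (toE Q d) = φ d := by
  have hSh : HenselianLocalRing Sh := Hensel.IsStrictHenselization.henselian (R := Localization.AtPrime q)
  have hE : HenselianLocalRing E := Hensel.IsStrictHenselization.henselian (R := Localization.AtPrime Q)
  obtain ⟨⟨φD, hφDl, hφD⟩, ⟨fS, hfSl, hfS⟩, hfR⟩ := exists_data (p := p) (q := q) φ Q (E := E) hφr hQ
  -- residue fields
  let k := ResidueField (Localization.AtPrime Q)
  have hsepE : IsSepClosure k (ResidueField E) := Hensel.IsStrictHenselization.isSepClosure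
  have hsepS : IsSepClosure (ResidueField (Localization.AtPrime q)) (ResidueField Sh) :=
    Hensel.IsStrictHenselization.isSepClosure
  letI : Algebra k (ResidueField Sh) := (ResidueField.map φD).toAlgebra
  have : IsSepClosed (ResidueField Sh) := hsepS.sep_closed
  have : IsSepClosed (ResidueField E) := hsepE.sep_closed
  have : Algebra.IsSeparable k (ResidueField E) := hsepE.separable
  let τ : ResidueField E →ₐ[k] ResidueField Sh := IsSepClosed.lift
  have hτD : ∀ d, τ (residue E (toE Q d)) = residue Sh (φ d) := fun d => by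
    have h1 : residue E (toE Q d) = algebraMap k (ResidueField E) (residue _ (algebraMap _ _ d)) := rfl
    rw [h1, τ.commutes, ← hφD d]
    rfl
  have hτ : Function.Bijective τ := by
    refine ⟨τ.toRingHom.injective, ?_⟩
    let σ : ResidueField (Localization.AtPrime q) →+* ResidueField E := ResidueField.map fS
    letI : Algebra (ResidueField (Localization.AtPrime q)) (ResidueField E) := σ.toAlgebra
    letI : Algebra (ResidueField E) (ResidueField Sh) := τ.toRingHom.toAlgebra
    have : IsScalarTower (ResidueField (Localization.AtPrime q)) (ResidueField E) (ResidueField Sh) := by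
      refine IsScalarTower.of_algebraMap_eq fun x => ?_
      obtain ⟨z, rfl⟩ := residue_surjective x
      have key : (algebraMap (ResidueField (Localization.AtPrime q)) (ResidueField Sh)).comp
          (residue (Localization.AtPrime q)) = (τ.toRingHom.comp σ).comp (residue _) := by
        refine IsLocalization.ringHom_ext q.primeCompl (RingHom.ext fun s => ?_)
        show residue Sh (algebraMap (Localization.AtPrime q) Sh (algebraMap S _ s)) =
          τ (residue E (fS (algebraMap S _ s)))
        rw [hfS, hτD, hφr, ← IsScalarTower.algebraMap_apply]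
      exact DFunLike.congr_fun key z
    have : Algebra.IsSeparable (ResidueField E) (ResidueField Sh) := by
      have := hsepS.separable
      exact Algebra.isSeparable_tower_top_of_isSeparable (ResidueField (Localization.AtPrime q)) _ _
    exact IsSepClosed.algebraMap_surjective (ResidueField E) (ResidueField Sh)
  let τe : ResidueField E ≃+* ResidueField Sh := RingEquiv.ofBijective τ hτ
  obtain ⟨g, ⟨hg, hgres⟩, -⟩ := Hensel.IsStrictHenselization.universal (R := Localization.AtPrime Q) (S := E) Sh
    φD (τe : ResidueField E →+* ResidueField Sh) (RingHom.ext fun x => τ.commutes x)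
  have hgι : ∀ d, g (toE Q d) = φ d := fun d =>
    (DFunLike.congr_fun hg (algebraMap _ _ d)).trans (hφD d)
  have hcompat : (τe.symm : ResidueField Sh →+* ResidueField E).comp
      (ResidueField.map (algebraMap (Localization.AtPrime q) Sh)) = ResidueField.map fS := by
    refine RingHom.ext fun x => τe.injective ?_
    obtain ⟨z, rfl⟩ := residue_surjective x
    rw [RingHom.comp_apply]
    show τe (τe.symm _) = _
    rw [RingEquiv.apply_symm_apply]
    have key : (residue Sh).comp (algebraMap (Localization.AtPrime q) Sh) =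
        (τ.toRingHom.comp (residue E)).comp fS := by
      refine IsLocalization.ringHom_ext q.primeCompl (RingHom.ext fun s => ?_)
      show residue Sh (algebraMap (Localization.AtPrime q) Sh (algebraMap S _ s)) =
        τ (residue E (fS (algebraMap S _ s)))
      rw [hfS, hτD, hφr, ← IsScalarTower.algebraMap_apply]
    exact DFunLike.congr_fun key z
  obtain ⟨h, ⟨hh, hhres⟩, -⟩ := Hensel.IsStrictHenselization.universal (R := Localization.AtPrime q) (S := Sh) E
    fS _ hcompat
  have hhS : ∀ s : S, h (algebraMap S Sh s) = toE Q (1 ⊗ₜ s) := fun s => by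
    rw [IsScalarTower.algebraMap_apply S (Localization.AtPrime q) Sh]
    exact (DFunLike.congr_fun hh _).trans (hfS s)
  have hgh : g.comp h = RingHom.id Sh := by
    obtain ⟨k, -, huniq⟩ := Hensel.IsStrictHenselization.universal (R := Localization.AtPrime q) (S := Sh) Sh
      (algebraMap _ Sh) (RingHom.id _) (RingHom.id_comp _)
    refine (huniq _ ⟨IsLocalization.ringHom_ext q.primeCompl (RingHom.ext fun s => ?_), fun x => ?_⟩).trans
      (huniq _ ⟨RingHom.id_comp _, fun x => rfl⟩).symm
    · simp only [RingHom.comp_apply, ← IsScalarTower.algebraMap_apply S (Localization.AtPrime q) Sh, hhS]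
      exact (hgι _).trans (hφr s)
    · rw [RingHom.comp_apply, hgres, hhres, RingHom.id_apply]
      exact RingEquiv.apply_symm_apply τe _
  have hR : ∀ x : Rh, h (algebraMap Rh Sh x) = toE Q (x ⊗ₜ 1) := by
    let a : Rh →+* E := h.comp (algebraMap Rh Sh)
    let b : Rh →+* E := (toE Q : Rh ⊗[R] S →+* E).comp Algebra.TensorProduct.includeLeftRingHom
    have hres : ∀ x, residue E (a x) = residue E (b x) := fun x => by
      refine τe.injective ?_
      show τe (residue E (h (algebraMap Rh Sh x))) = τ (residue E (toE Q (x ⊗ₜ 1)))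
      rw [hτD, hφl, hhres]
      exact RingEquiv.apply_symm_apply τe _
    have hc : a.comp (algebraMap (Localization.AtPrime p) Rh) = b.comp (algebraMap (Localization.AtPrime p) Rh) :=
      IsLocalization.ringHom_ext p.primeCompl (RingHom.ext fun r => by
        simp only [a, b, RingHom.comp_apply, ← IsScalarTower.algebraMap_apply R (Localization.AtPrime p) Rh,
          ← IsScalarTower.algebraMap_apply R Rh Sh]
        rw [IsScalarTower.algebraMap_apply R S Sh, hhS]
        exact congrArg (toE Q) (Algebra.TensorProduct.includeRight.commutes r))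
    -- `b` is local, as `Rh` has the maximal ideal generated by that of `R_p`
    have hb : ∀ x ∈ maximalIdeal Rh, b x ∈ maximalIdeal E := by
      rw [← S0538.result (Localization.AtPrime p) Rh]
      refine fun x hx => (Ideal.map_le_iff_le_comap (K := (maximalIdeal E).comap b)).mpr (fun r hr => ?_) hx
      exact (mem_maximalIdeal _).mpr fun h => (mem_maximalIdeal _).mp hr (hfR.map_nonunit r h)
    let τR : ResidueField Rh →+* ResidueField E :=
      Ideal.Quotient.lift _ ((residue E).comp b) fun x hx =>
        (residue_eq_zero_iff _).mpr (hb x hx)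
    obtain ⟨k, -, huniq⟩ := Hensel.IsStrictHenselization.universal (R := Localization.AtPrime p) (S := Rh) E
      (b.comp (algebraMap (Localization.AtPrime p) Rh)) τR
      (RingHom.ext fun x => by obtain ⟨z, rfl⟩ := residue_surjective x; rfl)
    exact fun x => DFunLike.congr_fun ((huniq a ⟨hc, fun y => (hres y).trans rfl⟩).trans
      (huniq b ⟨rfl, fun y => rfl⟩).symm) x
  have hhg : h.comp g = RingHom.id E := by
    obtain ⟨k, -, huniq⟩ := Hensel.IsStrictHenselization.universal (R := Localization.AtPrime Q) (S := E) E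
      (algebraMap _ E) (RingHom.id _) (RingHom.id_comp _)
    refine (huniq _ ⟨IsLocalization.ringHom_ext Q.primeCompl (RingHom.ext fun d => ?_), fun x => ?_⟩).trans
      (huniq _ ⟨RingHom.id_comp _, fun x => rfl⟩).symm
    · show h (g (toE Q d)) = toE Q d
      rw [hgι, eq_toE φ Q h hR hhS hφl hφr]
    · rw [RingHom.comp_apply, hhres, hgres, RingHom.id_apply]
      exact RingEquiv.symm_apply_apply τe _
  exact ⟨RingEquiv.ofRingHom g h hgh hhg, hgι⟩

end Groth.Agent.H9Hens
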