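import Groth.Agent.H9Hens.PtBase
import Groth.Agent.H9Hens.Local
import Mathlib.RingTheory.Smooth.IntegralClosure
import Mathlib.RingTheory.QuasiFinite.Basic
import Mathlib.RingTheory.Ideal.GoingDown
import Mathlib.RingTheory.Ideal.MinimalPrime.Localization
import Mathlib.RingTheory.Artinian.Ring
import Mathlib.RingTheory.HopkinsLevitzki

/-!
Minimal primes of a henselian colimit of pointed etale algebras and maximal ideals of an integral
closure of the base.
-/

namespace Groth.Agent.H9Hens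

universe u v

open TensorProduct IsLocalRing

/-- A domain integral over a henselian local ring is local. -/
theorem maximal_eq_of_prime_le_of_isIntegral {R : Type u} [CommRing R] [HenselianLocalRing R]
    {T : Type v} [CommRing T] [Algebra R T] [Algebra.IsIntegral R T] {P : Ideal T} [P.IsPrime]
    {M₁ M₂ : Ideal T} [M₁.IsMaximal] [M₂.IsMaximal] (h₁ : P ≤ M₁) (h₂ : P ≤ M₂) : M₁ = M₂ := by
  by_contra hne
  obtain ⟨y, hy₁, hy₂⟩ := Set.not_subset.mp (fun hle : (M₁ : Set T) ⊆ M₂ =>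
    hne ((‹M₁.IsMaximal›).eq_of_le (‹M₂.IsMaximal›).ne_top hle))
  let B := Algebra.adjoin R {Ideal.Quotient.mk P y}
  have : Module.Finite R B :=
    Module.Finite.of_fg (Algebra.IsIntegral.isIntegral (R := R) (Ideal.Quotient.mk P y)).fg_adjoin_singleton
  let N : Ideal T → Ideal B := fun M => (M.map (Ideal.Quotient.mk P)).comap B.val
  have hN : ∀ (M : Ideal T) [M.IsMaximal], P ≤ M → (N M).IsMaximal ∧
      ∀ t : T, ∀ ht : Ideal.Quotient.mk P t ∈ B, (⟨_, ht⟩ : B) ∈ N M ↔ t ∈ M := by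
    intro M _ hM
    have hmax : (M.map (Ideal.Quotient.mk P)).IsMaximal :=
      (Ideal.map_eq_top_or_isMaximal_of_surjective _ Ideal.Quotient.mk_surjective ‹_›).resolve_left
        fun h => ‹M.IsMaximal›.ne_top (by
          have h' := congrArg (Ideal.comap (Ideal.Quotient.mk P)) h
          simpa [Ideal.comap_map_of_surjective' _ Ideal.Quotient.mk_surjective, Ideal.mk_ker,
            hM] using h')
    refine ⟨Ideal.isMaximal_comap_of_isIntegral_of_isMaximal' (R := B) (S := T ⧸ P) B.val.toRingHom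
      (algebraMap_isIntegral_iff.mpr (Algebra.IsIntegral.tower_top (R := R))) _, fun t ht => ?_⟩
    show Ideal.Quotient.mk P t ∈ M.map (Ideal.Quotient.mk P) ↔ t ∈ M
    rw [Ideal.mem_quotient_iff_mem_sup, sup_eq_left.mpr hM]
  let n₁ : MaximalSpectrum B := ⟨N M₁, (hN M₁ h₁).1⟩
  let n₂ : MaximalSpectrum B := ⟨N M₂, (hN M₂ h₂).1⟩
  have hy : Ideal.Quotient.mk P y ∈ B := Algebra.subset_adjoin rfl
  have hnne : n₂ ≠ n₁ := fun h => hy₂ (((hN M₂ h₂).2 y hy).mp (by
    have := ((hN M₁ h₁).2 y hy).mpr hy₁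
    rwa [show N M₁ = N M₂ from (congrArg MaximalSpectrum.asIdeal h).symm] at this))
  obtain ⟨e, he, he₁, he₂⟩ := exists_idem_isolating (R := R)
    (fun b hb => exists_idem_lift (I := maximalIdeal R) b hb) n₁
  rcases IsIdempotentElem.iff_eq_zero_or_one.mp he with rfl | rfl
  · exact he₁ (zero_mem _)
  · exact n₂.isMaximal.ne_top ((Ideal.eq_top_iff_one _).mpr (he₂ n₂ hnne))

variable {A : Type u} [CommRing A] {k : Type u} [CommRing k] [Algebra A k]
variable {H : Type u} [CommRing H] [Algebra A H] {π : H →ₐ[A] k}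
variable {Q : Type u} [CommRing Q] [Algebra A Q]

/-- Elements of `H ⊗ Q` come from etale stages. -/
theorem IsPtColim.exists_rep_tensor (hH : IsPtColim π) (z : H ⊗[A] Q) :
    ∃ (S : Type u) (_ : CommRing S) (_ : Algebra A S) (_ : Algebra.Etale A S) (φ : S →ₐ[A] H)
      (w : S ⊗[A] Q), Algebra.TensorProduct.map φ (AlgHom.id A Q) w = z := by
  induction z with
  | zero => exact ⟨A, inferInstance, inferInstance, inferInstance, Algebra.ofId A H, 0, map_zero _⟩
  | tmul x c =>
    obtain ⟨S, i₁, i₂, i₃, φ, s, rfl⟩ := hH.exists_rep x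
    exact ⟨S, i₁, i₂, i₃, φ, s ⊗ₜ c, Algebra.TensorProduct.map_tmul _ _ _ _⟩
  | add x y hx hy =>
    obtain ⟨S₁, _, _, _, φ₁, w₁, rfl⟩ := hx
    obtain ⟨S₂, _, _, _, φ₂, w₂, rfl⟩ := hy
    let φ : S₁ ⊗[A] S₂ →ₐ[A] H := Algebra.TensorProduct.lift φ₁ φ₂ fun _ _ => Commute.all _ _
    let i₁ : S₁ →ₐ[A] S₁ ⊗[A] S₂ := Algebra.TensorProduct.includeLeft
    let i₂ : S₂ →ₐ[A] S₁ ⊗[A] S₂ := Algebra.TensorProduct.includeRight
    refine ⟨S₁ ⊗[A] S₂, inferInstance, inferInstance, Algebra.Etale.comp A S₁ (S₁ ⊗[A] S₂), φ,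
      Algebra.TensorProduct.map i₁ (AlgHom.id A Q) w₁ +
        Algebra.TensorProduct.map i₂ (AlgHom.id A Q) w₂, ?_⟩
    have e₁ : (Algebra.TensorProduct.map φ (AlgHom.id A Q)).comp
        (Algebra.TensorProduct.map i₁ (AlgHom.id A Q)) =
        Algebra.TensorProduct.map φ₁ (AlgHom.id A Q) := Algebra.TensorProduct.ext' fun a b => by
      simp [φ, i₁]
    have e₂ : (Algebra.TensorProduct.map φ (AlgHom.id A Q)).comp
        (Algebra.TensorProduct.map i₂ (AlgHom.id A Q)) =
        Algebra.TensorProduct.map φ₂ (AlgHom.id A Q) := Algebra.TensorProduct.ext' fun a b => by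
      simp [φ, i₂]
    rw [map_add]
    congr 1
    · exact DFunLike.congr_fun e₁ w₁
    · exact DFunLike.congr_fun e₂ w₂

/-- Primes of `H ⊗ Q` are separated by idempotents coming from `H ⊗ P`, `P` the integral closure
of `A` in `Q`. -/
theorem IsPtColim.exists_idem_separating [IsArtinianRing Q] (hH : IsPtColim π)
    {P₁ P₂ : Ideal (H ⊗[A] Q)} [P₁.IsPrime] [P₂.IsPrime] {x : H ⊗[A] Q} (h₁ : x ∈ P₁)
    (h₂ : x ∉ P₂) :
    ∃ t : H ⊗[A] integralClosure A Q,
      Algebra.TensorProduct.map (AlgHom.id H H) (integralClosure A Q).val t ∈ P₁ ∧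
      1 - Algebra.TensorProduct.map (AlgHom.id H H) (integralClosure A Q).val t ∈ P₂ := by
  obtain ⟨S, _, _, _, φ, w, rfl⟩ := hH.exists_rep_tensor x
  have : Module.Finite Q (Q ⊗[A] S) := Module.Finite.of_quasiFinite
  have : IsArtinianRing (Q ⊗[A] S) := isArtinian_of_tower Q inferInstance
  let c := (Algebra.TensorProduct.comm A S Q).toRingEquiv
  have : IsArtinianRing (S ⊗[A] Q) :=
    Function.Surjective.isArtinianRing (f := (c.symm : Q ⊗[A] S →+* S ⊗[A] Q)) c.symm.surjective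
  obtain ⟨n, m, hm⟩ := IsArtinian.exists_pow_succ_smul_dvd w (1 : S ⊗[A] Q)
  simp only [smul_eq_mul, mul_one] at hm
  have hj : ∀ j, w ^ n * (w * m) ^ j = w ^ n := fun j => by
    induction j with
    | zero => rw [pow_zero, mul_one]
    | succ j ih => rw [pow_succ', ← mul_assoc, ← mul_assoc, ← pow_succ, hm, ih]
  set e := (w * m) ^ n with he
  have hidem : e * e = e := by
    calc e * e = (w ^ n * (w * m) ^ n) * m ^ n := by rw [he]; ring
      _ = e := by rw [hj, he, mul_pow]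
  obtain ⟨z, hz⟩ := (TensorProduct.toIntegralClosure_bijective_of_smooth (R := A) (S := S) (B := Q)).2
    ⟨e, Polynomial.X ^ 2 - Polynomial.X,
      Polynomial.monic_X_pow_sub (lt_of_le_of_lt Polynomial.degree_X_le (by norm_num)),
      by simp [pow_two, hidem]⟩
  have hze : Algebra.TensorProduct.map (AlgHom.id S S) (integralClosure A Q).val z = e :=
    congrArg Subtype.val hz
  let Φ := Algebra.TensorProduct.map φ (AlgHom.id A Q)
  have hnat : Algebra.TensorProduct.map (AlgHom.id H H) (integralClosure A Q).val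
      (Algebra.TensorProduct.map φ (AlgHom.id A (integralClosure A Q)) z) = Φ e := by
    rw [← hze]
    clear hz hze
    induction z with
    | zero => simp
    | tmul a b => simp [Φ]
    | add a b ha hb => simp only [map_add, ha, hb]
  refine ⟨Algebra.TensorProduct.map φ (AlgHom.id A (integralClosure A Q)) z, ?_, ?_⟩
  · rw [hnat]
    rcases Nat.eq_zero_or_pos n with rfl | hn
    · refine absurd (P₁.eq_top_of_isUnit_mem h₁ ?_) (‹P₁.IsPrime›.ne_top)
      refine IsUnit.map Φ (IsUnit.of_mul_eq_one m ?_)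
      simpa using hm
    · rw [he, map_pow, map_mul]
      exact Ideal.pow_mem_of_mem _ (P₁.mul_mem_right _ h₁) n hn
  · rw [hnat]
    have h0 : Φ w ^ n * (1 - Φ e) = 0 := by
      rw [← map_pow, ← map_one Φ, ← map_sub, ← map_mul, mul_sub, mul_one, he, hj, sub_self,
        map_zero]
    exact ((‹P₂.IsPrime›.mem_or_mem (h0 ▸ P₂.zero_mem)).resolve_left
      fun h => h₂ (‹P₂.IsPrime›.mem_of_pow_mem n h))

variable (hloc : ∀ q : Q, ∃ a s : A, IsUnit (algebraMap A Q s) ∧
  algebraMap A Q s * q = algebraMap A Q a)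
include hloc

/-- Elements of `H ⊗ Q` are fractions of elements of `H` with denominators in `A`. -/
theorem exists_mul_eq_includeLeft (z : H ⊗[A] Q) :
    ∃ (s : A) (x : H), IsUnit (algebraMap A Q s) ∧
      algebraMap A (H ⊗[A] Q) s * z = x ⊗ₜ[A] 1 := by
  induction z with
  | zero => exact ⟨1, 0, by simp, by simp⟩
  | tmul h q =>
    obtain ⟨a, s, hs, hq⟩ := hloc q
    refine ⟨s, a • h, hs, ?_⟩
    rw [← Algebra.smul_def, ← TensorProduct.tmul_smul, Algebra.smul_def, hq,
      ← mul_one (algebraMap A Q a), ← Algebra.smul_def, TensorProduct.smul_tmul]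
  | add x y hx hy =>
    obtain ⟨s, a, hs, hx⟩ := hx
    obtain ⟨t, b, ht, hy⟩ := hy
    refine ⟨s * t, t • a + s • b, by rw [map_mul]; exact hs.mul ht, ?_⟩
    rw [TensorProduct.add_tmul, ← TensorProduct.smul_tmul', ← TensorProduct.smul_tmul', ← hx, ← hy,
      Algebra.smul_def, Algebra.smul_def, map_mul]
    ring

/-- Primes of `H ⊗ Q` are determined by their contraction to `H`. -/
theorem comap_includeLeft_injective :
    Function.Injective (PrimeSpectrum.comap
      (Algebra.TensorProduct.includeLeftRingHom : H →+* H ⊗[A] Q)) := by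
  intro P₁ P₂ h
  have key : ∀ P : PrimeSpectrum (H ⊗[A] Q), ∀ (z : H ⊗[A] Q) (s : A) (x : H),
      IsUnit (algebraMap A Q s) → algebraMap A (H ⊗[A] Q) s * z = x ⊗ₜ[A] 1 →
      (z ∈ P.asIdeal ↔ x ∈ (PrimeSpectrum.comap
        (Algebra.TensorProduct.includeLeftRingHom : H →+* H ⊗[A] Q) P).asIdeal) := by
    intro P z s x hs hz
    show _ ↔ x ⊗ₜ[A] (1 : Q) ∈ P.asIdeal
    rw [← hz]
    refine ((Ideal.unit_mul_mem_iff_mem _ ?_)).symm
    rw [← (Algebra.TensorProduct.includeRight : Q →ₐ[A] H ⊗[A] Q).commutes]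
    exact hs.map _
  refine PrimeSpectrum.ext (Ideal.ext fun z => ?_)
  obtain ⟨s, x, hs, hz⟩ := exists_mul_eq_includeLeft hloc (H := H) z
  rw [key P₁ z s x hs hz, key P₂ z s x hs hz, h]

variable (hmin : ∀ q : Ideal Q, q.IsPrime → q.comap (algebraMap A Q) ∈ minimalPrimes A)
include hmin

omit hloc in
/-- All primes of `H ⊗ Q` are maximal, and contract to minimal primes of `H`. -/
theorem IsPtColim.comap_mem_minimalPrimes (hH : IsPtColim π) (P : Ideal (H ⊗[A] Q)) [P.IsPrime] :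
    P.comap (Algebra.TensorProduct.includeLeftRingHom : H →+* H ⊗[A] Q) ∈ minimalPrimes H := by
  refine ⟨⟨inferInstance, bot_le⟩, fun P' hP' hle => ?_⟩
  have := hP'.1
  have hp : (P.comap (Algebra.TensorProduct.includeLeftRingHom : H →+* H ⊗[A] Q)).comap
      (algebraMap A H) =
      (P.comap (Algebra.TensorProduct.includeRight : Q →ₐ[A] H ⊗[A] Q).toRingHom).comap
        (algebraMap A Q) := by
    rw [Ideal.comap_comap, Ideal.comap_comap, AlgHom.toRingHom_eq_coe, AlgHom.comp_algebraMap]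
    rfl
  have hm := hmin _ (inferInstance : (P.comap
    (Algebra.TensorProduct.includeRight : Q →ₐ[A] H ⊗[A] Q).toRingHom).IsPrime)
  rw [← hp] at hm
  exact (hH.eq_of_le_of_comap_eq hle
    (le_antisymm (Ideal.comap_mono hle) (hm.2 ⟨inferInstance, bot_le⟩ (Ideal.comap_mono hle)))).ge

variable (hlift : ∀ (L : Type u) [Field L] (g : A →+* L), RingHom.ker g ∈ minimalPrimes A →
  ∃ g' : Q →+* L, g'.comp (algebraMap A Q) = g)

include hlift in
/-- Minimal primes of `H` are the primes of `H ⊗ Q`. -/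
theorem IsPtColim.nonempty_primeSpectrum_equiv_minimalPrimes (hH : IsPtColim π) :
    Nonempty (PrimeSpectrum (H ⊗[A] Q) ≃ minimalPrimes H) := by
  refine ⟨Equiv.ofBijective (fun P => ⟨_, hH.comap_mem_minimalPrimes hmin P.asIdeal⟩)
    ⟨fun P₁ P₂ h => comap_includeLeft_injective hloc (PrimeSpectrum.ext (congrArg Subtype.val h)),
      fun ⟨P, hP⟩ => ?_⟩⟩
  have := hP.1.1
  have := hH.flat
  have hp : P.comap (algebraMap A H) ∈ minimalPrimes A := by
    refine ⟨⟨inferInstance, bot_le⟩, fun p hp hle => ?_⟩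
    have := hp.1
    have : P.LiesOver (P.comap (algebraMap A H)) := ⟨rfl⟩
    obtain ⟨P', hP'le, hP', hlo⟩ :=
      Ideal.exists_ideal_le_liesOver_of_le (q := P.comap (algebraMap A H)) P hle
    have hPP : P = P' := le_antisymm (hP.2 ⟨hP', bot_le⟩ hP'le) hP'le
    exact le_of_eq ((congrArg (Ideal.comap (algebraMap A H)) hPP).trans hlo.over.symm)
  let L := FractionRing (H ⧸ P)
  let f : H →ₐ[A] L := (IsScalarTower.toAlgHom A (H ⧸ P) L).comp (Ideal.Quotient.mkₐ A P)
  have hf : RingHom.ker f.toRingHom = P := by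
    ext x
    show algebraMap (H ⧸ P) L (Ideal.Quotient.mk P x) = 0 ↔ x ∈ P
    rw [map_eq_zero_iff _ (IsFractionRing.injective (H ⧸ P) L), Ideal.Quotient.eq_zero_iff_mem]
  obtain ⟨g, hg⟩ := hlift L (algebraMap A L) (by
    rw [← f.comp_algebraMap, ← RingHom.comap_ker, ← AlgHom.toRingHom_eq_coe, hf]; exact hp)
  let g' : Q →ₐ[A] L := { g with commutes' := fun a => RingHom.congr_fun hg a }
  let F := Algebra.TensorProduct.lift f g' fun _ _ => Commute.all _ _
  refine ⟨⟨RingHom.ker F.toRingHom, RingHom.ker_isPrime _⟩, Subtype.ext ?_⟩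
  show (RingHom.ker F.toRingHom).comap _ = P
  rw [RingHom.comap_ker]
  refine Eq.trans ?_ hf
  congr 1
  ext x
  simp [F]

/-- The primes of `H ⊗ Q` are the maximal ideals of `H ⊗ P`, `P` the integral closure of `A`
in `Q`. -/
theorem IsPtColim.nonempty_primeSpectrum_equiv_maximalSpectrum [IsArtinianRing Q]
    [HenselianLocalRing H] (hH : IsPtColim π) :
    Nonempty (PrimeSpectrum (H ⊗[A] Q) ≃ MaximalSpectrum (H ⊗[A] integralClosure A Q)) := by
  let P₀ := integralClosure A Q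
  let ι : H ⊗[A] P₀ →ₐ[H] H ⊗[A] Q := Algebra.TensorProduct.map (AlgHom.id H H) P₀.val
  have := hH.flat
  have hι : Function.Injective ι :=
    Module.Flat.lTensor_preserves_injective_linearMap (M := H) P₀.val.toLinearMap
      Subtype.val_injective
  have : Algebra.IsIntegral H (H ⊗[A] P₀) := inferInstance
  have hex : ∀ P : PrimeSpectrum (H ⊗[A] Q), ∃ M : MaximalSpectrum (H ⊗[A] P₀),
      P.asIdeal.comap ι.toRingHom ≤ M.asIdeal := fun P => by
    obtain ⟨M, hM, hle⟩ := Ideal.exists_le_maximal (P.asIdeal.comap ι.toRingHom)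
      (Ideal.IsPrime.ne_top inferInstance)
    exact ⟨⟨M, hM⟩, hle⟩
  choose F hF using hex
  refine ⟨Equiv.ofBijective F ⟨fun P₁ P₂ h => ?_, fun M => ?_⟩⟩
  · by_contra hne
    have hmax : ∀ P : PrimeSpectrum (H ⊗[A] Q), ∀ P' : PrimeSpectrum (H ⊗[A] Q),
        P.asIdeal ≤ P'.asIdeal → P = P' := fun P P' hle => by
      refine comap_includeLeft_injective hloc (PrimeSpectrum.ext ?_)
      exact le_antisymm (Ideal.comap_mono hle) ((hH.comap_mem_minimalPrimes hmin P'.asIdeal).2
        ⟨inferInstance, bot_le⟩ (Ideal.comap_mono hle))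
    obtain ⟨x, hx₁, hx₂⟩ := Set.not_subset.mp
      fun hle : (P₁.asIdeal : Set (H ⊗[A] Q)) ⊆ P₂.asIdeal => hne (hmax P₁ P₂ hle)
    obtain ⟨t, ht₁, ht₂⟩ := hH.exists_idem_separating hx₁ hx₂
    have h1 : t ∈ (F P₁).asIdeal := hF P₁ ht₁
    have h2 : 1 - t ∈ (F P₂).asIdeal := hF P₂ (by
      rw [Ideal.mem_comap, map_sub, map_one]; exact ht₂)
    rw [← h] at h2
    exact (F P₁).isMaximal.ne_top ((Ideal.eq_top_iff_one _).mpr (by simpa using add_mem h1 h2))
  · obtain ⟨Q₀, hQ₀, hQM⟩ := Ideal.exists_minimalPrimes_le (I := ⊥) (J := M.asIdeal) bot_le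
    obtain ⟨P, hP, hPQ⟩ := Ideal.exists_comap_eq_of_mem_minimalPrimes_of_injective
      (f := ι.toRingHom) hι Q₀ hQ₀
    refine ⟨⟨P, hP⟩, MaximalSpectrum.ext ?_⟩
    have := hQ₀.1.1
    have hle := hF ⟨P, hP⟩
    rw [show (⟨P, hP⟩ : PrimeSpectrum _).asIdeal = P from rfl, hPQ] at hle
    have := (F ⟨P, hP⟩).isMaximal
    have := M.isMaximal
    exact maximal_eq_of_prime_le_of_isIntegral (R := H) hle hQM

end Groth.Agent.H9Hens
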