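import Groth.Agent.H9Hens.BranchScheme
import Groth.Agent.H9Hens.BranchSum
import Groth.Agent.H8Props.FibreStalk
import Groth.Agent.H8Props.NLCx.HenselLift
import Mathlib.AlgebraicGeometry.Morphisms.Flat

/-!
Branches of a fibre at a point, seen on etale neighbourhoods of the point.
-/

namespace Groth.Agent.H9Hens.BranchNbhd

universe u

open IsLocalRing

section Algebra

theorem under_mem_minimalPrimes_map {R T : Type*} [CommRing R] [CommRing T] [Algebra R T]
    [Algebra.HasGoingDown R T] {J : Ideal R} {q : Ideal T}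
    (hq : q ∈ (J.map (algebraMap R T)).minimalPrimes) : q.under R ∈ J.minimalPrimes := by
  have := hq.1.1
  refine ⟨⟨inferInstance, Ideal.map_le_iff_le_comap.mp hq.1.2⟩, fun r hr hle => ?_⟩
  have := hr.1
  obtain ⟨P, hP, hPp, hlo⟩ :=
    Ideal.exists_ideal_le_liesOver_of_le (S := T) (p := r) (q := q.under R) q hle
  rw [← le_antisymm hP (hq.2 ⟨hPp, Ideal.map_le_iff_le_comap.mpr (hr.2.trans hlo.over.le)⟩ hP)]
  exact hlo.over.ge

theorem encard_minimalPrimes_map_le {R T : Type*} [CommRing R] [CommRing T] [Algebra R T]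
    [Module.FaithfullyFlat R T] (J : Ideal R) :
    J.minimalPrimes.encard ≤ (J.map (algebraMap R T)).minimalPrimes.encard := by
  have h : J.minimalPrimes ⊆
      (fun q : Ideal T => q.under R) '' (J.map (algebraMap R T)).minimalPrimes := fun r hr => by
    have := hr.1.1
    obtain ⟨P, hP⟩ :=
      PrimeSpectrum.comap_surjective_of_faithfullyFlat (A := R) (B := T) ⟨r, inferInstance⟩
    have hPr : P.asIdeal.under R = r := congrArg PrimeSpectrum.asIdeal hP
    obtain ⟨q, hq, hqP⟩ := Ideal.exists_minimalPrimes_le (I := J.map (algebraMap R T))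
      (J := P.asIdeal) (Ideal.map_le_iff_le_comap.mpr (hr.1.2.trans hPr.ge))
    have := hq.1.1
    have hle : q.under R ≤ r := hPr ▸ Ideal.comap_mono hqP
    exact ⟨q, hq, le_antisymm hle
      (hr.2 ⟨inferInstance, Ideal.map_le_iff_le_comap.mp hq.1.2⟩ hle)⟩
  exact (Set.encard_le_encard h).trans (Set.encard_image_le _ _)

theorem encard_minimalPrimes_of_surjective {R T : Type*} [CommRing R] [CommRing T] (f : R →+* T)
    (hf : Function.Surjective f) :
    (RingHom.ker f).minimalPrimes.encard = (minimalPrimes T).encard := by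
  have h := Ideal.comap_minimalPrimes_eq_of_surjective hf (⊥ : Ideal T)
  rw [← RingHom.ker_eq_comap_bot] at h
  rw [h, Function.Injective.encard_image (Ideal.comap_injective_of_surjective f hf)]

variable {R : Type u} [CommRing R] (p : Ideal R) [p.IsPrime] {A : Type u} [CommRing A] [Algebra R A]
  [IsLocalization.AtPrime A p] {k : Type u} [Field k] [Algebra A k]
  {H : Type u} [CommRing H] [Algebra A H] [Algebra R H]
  [IsScalarTower R A H] {π : H →ₐ[A] k} (hπ : IsPtColim π)

include p hπ in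
/-- An incomparable finite set of primes is separated by a single etale `R`-algebra. -/
theorem exists_separating (Q : Finset (Ideal H)) (hQ : ∀ P ∈ Q, P.IsPrime)
    (hne : ∀ P ∈ Q, ∀ P' ∈ Q, P ≤ P' → P = P') :
    ∃ (S : Type u) (_ : CommRing S) (_ : Algebra R S) (_ : Algebra.Etale R S) (ψ : S →ₐ[R] H),
      ∀ P ∈ Q, ∀ P' ∈ Q, P ≠ P' → ∃ z, ψ z ∈ P ∧ ψ z ∉ P' := by
  classical
  have hsep : ∀ P ∈ Q, ∀ P' ∈ Q, P ≠ P' → ∃ r, r ∈ P ∧ r ∉ P' := by
    intro P hP P' hP' hne'
    by_contra hc
    push Not at hc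
    exact hne' (hne P hP P' hP' hc)
  choose! r hr₁ hr₂ using hsep
  obtain ⟨S₁, _, _, _, φ₁, y, hy⟩ := hπ.exists_rep_finset (Q ×ˢ Q) fun i => r i.1 i.2
  let e : Localization.AtPrime p ≃ₐ[R] A :=
    IsLocalization.algEquiv p.primeCompl (Localization.AtPrime p) A
  let : Algebra (Localization.AtPrime p) A := e.toRingEquiv.toRingHom.toAlgebra
  have : Algebra.Etale (Localization.AtPrime p) A :=
    RingHom.etale_algebraMap.mp (RingHom.Etale.of_bijective e.bijective)
  let : Algebra (Localization.AtPrime p) S₁ :=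
    ((algebraMap A S₁).comp (algebraMap (Localization.AtPrime p) A)).toAlgebra
  have : IsScalarTower (Localization.AtPrime p) A S₁ := IsScalarTower.of_algebraMap_eq fun _ => rfl
  let : Algebra R S₁ := ((algebraMap A S₁).comp (algebraMap R A)).toAlgebra
  have : IsScalarTower R A S₁ := IsScalarTower.of_algebraMap_eq fun _ => rfl
  have : IsScalarTower R (Localization.AtPrime p) S₁ := IsScalarTower.of_algebraMap_eq fun a => by
    show algebraMap A S₁ (algebraMap R A a) =
      algebraMap A S₁ (e (algebraMap R (Localization.AtPrime p) a))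
    rw [AlgEquiv.commutes]
  have : Algebra.Etale (Localization.AtPrime p) S₁ :=
    Algebra.Etale.comp (Localization.AtPrime p) A S₁
  obtain ⟨S, _, _, _, χ, hχ⟩ := Groth.Agent.H7Flat.EtaleNbhdHensel.exists_etale_away p S₁
  choose c hc z hz using hχ
  refine ⟨S, inferInstance, inferInstance, inferInstance, (φ₁.restrictScalars R).comp χ,
    fun P hP P' hP' hne' => ⟨z (y (P, P')), ?_⟩⟩
  have := hQ P hP
  have := hQ P' hP'
  have hw : ((φ₁.restrictScalars R).comp χ) (z (y (P, P'))) =
      algebraMap R H (c (y (P, P'))) * r P P' := by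
    show φ₁ (χ (z (y (P, P')))) = _
    rw [← hz, ← IsScalarTower.algebraMap_smul A (c (y (P, P'))) (y (P, P')), map_smul,
      hy (P, P') (Finset.mem_product.mpr ⟨hP, hP'⟩), Algebra.smul_def,
      ← IsScalarTower.algebraMap_apply R A H]
  have hcu : IsUnit (algebraMap R H (c (y (P, P')))) := by
    rw [IsScalarTower.algebraMap_apply R A H]
    exact (IsLocalization.map_units A (⟨c (y (P, P')), hc _⟩ : p.primeCompl)).map _
  rw [hw]
  refine ⟨Ideal.mul_mem_left _ _ (hr₁ P hP P' hP' hne'), fun h => ?_⟩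
  exact hr₂ P hP P' hP' hne' ((Ideal.unit_mul_mem_iff_mem _ hcu).mp h)

end Algebra

open AlgebraicGeometry CategoryTheory

section Morphisms

variable {H : Type u} [CommRing H] [IsLocalRing H] {U S : Scheme.{u}}

/-- The image in `H` of the maximal ideal at the image of the closed point. -/
noncomputable def closedIdeal (ρ : Spec (.of H) ⟶ S) : Ideal H :=
  (maximalIdeal (S.presheaf.stalk (ρ (closedPoint H)))).map (Scheme.stalkClosedPointTo ρ).hom

theorem closedIdeal_comp (τ : Spec (.of H) ⟶ U) (h : U ⟶ S) :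
    closedIdeal (τ ≫ h) =
      ((maximalIdeal (S.presheaf.stalk (h (τ (closedPoint H))))).map
        (h.stalkMap (τ (closedPoint H))).hom).map (Scheme.stalkClosedPointTo τ).hom := by
  rw [closedIdeal, Scheme.stalkClosedPointTo_comp, Ideal.map_map]
  rfl

theorem flat_stalkClosedPointTo (τ : Spec (.of H) ⟶ U) [Flat τ] :
    (Scheme.stalkClosedPointTo τ).hom.Flat :=
  RingHom.Flat.comp (Flat.stalkMap τ _) (RingHom.Flat.of_bijective
    (ConcreteCategory.bijective_of_isIso (stalkClosedPointIso (.of H)).hom))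

/-- The components of a fibre through a point correspond to minimal primes over `m_s` in its local
ring. -/
theorem encard_fibre_components (h : U ⟶ S) (u : U) (s : S) (hs : h u = s) :
    {Z : Set ↑(h.fiber s) | Z ∈ irreducibleComponents ↑(h.fiber s) ∧
        ∃ u' ∈ Z, h.fiberι s u' = u}.encard =
      ((maximalIdeal (S.presheaf.stalk (h u))).map (h.stalkMap u).hom).minimalPrimes.encard := by
  subst hs
  have he : {Z : Set ↑(h.fiber (h u)) | Z ∈ irreducibleComponents ↑(h.fiber (h u)) ∧
      ∃ u' ∈ Z, h.fiberι (h u) u' = u} =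
      {Z : Set ↑(h.fiber (h u)) | Z ∈ irreducibleComponents ↑(h.fiber (h u)) ∧ h.asFiber u ∈ Z} := by
    ext Z
    refine and_congr_right fun _ => ⟨?_, fun hZ => ⟨_, hZ, h.fiberι_asFiber u⟩⟩
    rintro ⟨u', hu', he⟩
    exact (h.fiberι (h u)).isEmbedding.injective (he.trans (h.fiberι_asFiber u).symm) ▸ hu'
  rw [he, encard_components, ← H8Props.FibreStalk.ker_toFibre h u _ (h.fiberι_asFiber u)]
  exact (encard_minimalPrimes_of_surjective _ (H8Props.FibreStalk.toFibre_surjective h u _ _ _)).symm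

theorem encard_minimalPrimes_le_closedIdeal (τ : Spec (.of H) ⟶ U) [Flat τ] (h : U ⟶ S) :
    ((maximalIdeal (S.presheaf.stalk (h (τ (closedPoint H))))).map
        (h.stalkMap (τ (closedPoint H))).hom).minimalPrimes.encard ≤
      (closedIdeal (τ ≫ h)).minimalPrimes.encard := by
  rw [closedIdeal_comp]
  let : Algebra (U.presheaf.stalk (τ (closedPoint H))) H :=
    (Scheme.stalkClosedPointTo τ).hom.toAlgebra
  have : Module.Flat (U.presheaf.stalk (τ (closedPoint H))) H := flat_stalkClosedPointTo τ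
  have : IsLocalHom (algebraMap (U.presheaf.stalk (τ (closedPoint H))) H) :=
    Scheme.isLocalHom_stalkClosedPointTo' τ
  have := Module.FaithfullyFlat.of_flat_of_isLocalHom
    (A := U.presheaf.stalk (τ (closedPoint H))) (B := H)
  exact encard_minimalPrimes_map_le _

theorem closedIdeal_comp_fromSpecStalk {X : Scheme.{u}} (f : X ⟶ S) (x : X)
    [Algebra (X.presheaf.stalk x) H] [IsLocalHom (algebraMap (X.presheaf.stalk x) H)] :
    closedIdeal
        ((Spec.map (CommRingCat.ofHom (algebraMap (X.presheaf.stalk x) H)) ≫ X.fromSpecStalk x) ≫ f) =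
      ((maximalIdeal (S.presheaf.stalk (f x))).map (f.stalkMap x).hom).map
        (algebraMap (X.presheaf.stalk x) H) := by
  let φ : X.presheaf.stalk x ⟶ CommRingCat.of H :=
    CommRingCat.ofHom (algebraMap (X.presheaf.stalk x) H)
  have : IsLocalHom φ.hom := inferInstanceAs (IsLocalHom (algebraMap (X.presheaf.stalk x) H))
  let ξ := Spec.map φ ≫ X.fromSpecStalk x
  have hx : ξ (closedPoint H) = x := by
    rw [Scheme.Hom.comp_apply, Spec_closedPoint]
    exact Scheme.fromSpecStalk_closedPoint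
  have hφ : Scheme.stalkClosedPointTo ξ = (X.presheaf.stalkCongr (.of_eq hx)).hom ≫ φ := by
    refine TopCat.Presheaf.stalk_hom_ext _ fun V hV => ?_
    rw [Scheme.germ_stalkClosedPointTo_Spec_fromSpecStalk φ V hV, TopCat.Presheaf.stalkCongr_hom,
      TopCat.Presheaf.germ_stalkSpecializes_assoc]
  have key : ∀ (y : X) (hy : y = x),
      ((maximalIdeal (S.presheaf.stalk (f y))).map (f.stalkMap y).hom).map
        (X.presheaf.stalkCongr (.of_eq hy)).hom.hom =
      (maximalIdeal (S.presheaf.stalk (f x))).map (f.stalkMap x).hom := by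
    rintro y rfl
    simp [TopCat.Presheaf.stalkCongr]
  show closedIdeal (ξ ≫ f) = _
  rw [closedIdeal_comp, hφ, CommRingCat.hom_comp, ← Ideal.map_map, key _ hx]
  rfl

end Morphisms

section Chart

variable {X : Scheme.{u}} (x : X) {k : Type u} [Field k] [Algebra (X.presheaf.stalk x) k]
  {H : Type u} [CommRing H] [IsLocalRing H] [Algebra (X.presheaf.stalk x) H]
  {π : H →ₐ[X.presheaf.stalk x] k} (hπ : IsPtColim π)

include hπ

/-- An etale neighbourhood with a point in `k` receives a flat map from the spectrum of the colimit. -/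
theorem exists_flat_lift {U : Scheme.{u}} (g : U ⟶ X) [Etale g] (u : U) (hgu : g u = x)
    (hpt : ∀ (V : U.Opens) (hV : IsAffineOpen V) (hu : u ∈ V) (W : X.Opens) (hW : IsAffineOpen W)
      (hx : x ∈ W) (e : V ≤ g ⁻¹ᵁ W),
      ∃ σ : Γ(U, V) →+* k, RingHom.ker σ = (hV.primeIdealOf ⟨u, hu⟩).asIdeal ∧
        σ.comp (g.appLE W V e).hom =
          (algebraMap (X.presheaf.stalk x) k).comp (X.presheaf.germ W x hx).hom) :
    ∃ τ : Spec (.of H) ⟶ U, Flat τ ∧ τ (closedPoint H) = u ∧
      τ ≫ g = Spec.map (CommRingCat.ofHom (algebraMap (X.presheaf.stalk x) H)) ≫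
        X.fromSpecStalk x := by
  obtain ⟨W, hW, hxW, -⟩ := exists_isAffineOpen_mem_and_subset (show x ∈ (⊤ : X.Opens) from trivial)
  obtain ⟨V, hV, huV, hVW⟩ :=
    exists_isAffineOpen_mem_and_subset (show u ∈ g ⁻¹ᵁ W by show g u ∈ W; rw [hgu]; exact hxW)
  have e : V ≤ g ⁻¹ᵁ W := hVW
  obtain ⟨σ, hσ, hσc⟩ := hpt V hV huV W hW hxW e
  let := TopCat.Presheaf.algebra_section_stalk X.presheaf (⟨x, hxW⟩ : W)
  have := hW.isLocalization_stalk ⟨x, hxW⟩
  let : Algebra Γ(X, W) Γ(U, V) := (g.appLE W V e).hom.toAlgebra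
  have : Algebra.Etale Γ(X, W) Γ(U, V) :=
    RingHom.etale_algebraMap.mp (HasRingHomProperty.appLE @Etale g ‹_› ⟨W, hW⟩ ⟨V, hV⟩ e)
  let : Algebra Γ(X, W) k :=
    ((algebraMap (X.presheaf.stalk x) k).comp (algebraMap Γ(X, W) _)).toAlgebra
  have : IsScalarTower Γ(X, W) (X.presheaf.stalk x) k := IsScalarTower.of_algebraMap_eq fun _ => rfl
  let : Algebra Γ(X, W) H :=
    ((algebraMap (X.presheaf.stalk x) H).comp (algebraMap Γ(X, W) _)).toAlgebra
  have : IsScalarTower Γ(X, W) (X.presheaf.stalk x) H := IsScalarTower.of_algebraMap_eq fun _ => rfl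
  let p := (hW.primeIdealOf ⟨x, hxW⟩).asIdeal
  obtain ⟨φ, hφ⟩ := exists_map p hπ Γ(U, V) { σ with commutes' := fun r => RingHom.congr_fun hσc r }
  refine ⟨Spec.map (CommRingCat.ofHom φ.toRingHom) ≫ hV.fromSpec, ?_, ?_, ?_⟩
  · have : Flat (Spec.map (CommRingCat.ofHom φ.toRingHom)) :=
      (HasRingHomProperty.Spec_iff (P := @Flat)).mpr (flat p hπ Γ(U, V) φ)
    infer_instance
  · rw [Scheme.Hom.comp_apply]
    refine Eq.trans (congrArg _ (PrimeSpectrum.ext ?_)) (hV.fromSpec_primeIdealOf ⟨u, huV⟩)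
    show (maximalIdeal H).comap φ.toRingHom = (hV.primeIdealOf ⟨u, huV⟩).asIdeal
    rw [← hσ, hπ.maximalIdeal_eq]
    ext s
    show π (φ s) = 0 ↔ σ s = 0
    rw [hφ]
    rfl
  · rw [← hW.fromSpecStalk_eq_fromSpecStalk hxW, IsAffineOpen.fromSpecStalk, Category.assoc,
      ← IsAffineOpen.SpecMap_appLE_fromSpec g hW hV e]
    show Spec.map _ ≫ Spec.map (g.appLE W V e) ≫ hW.fromSpec = Spec.map _ ≫ Spec.map _ ≫ hW.fromSpec
    rw [← Spec.map_comp_assoc, ← Spec.map_comp_assoc]
    congr 2
    exact CommRingCat.hom_ext (RingHom.ext fun r => φ.commutes r)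

/-- Finitely many branches of a fibre are separated on an etale neighbourhood. -/
theorem exists_card_le_fibre_components {S : Scheme.{u}} (f : X ⟶ S)
    [IsLocalHom (algebraMap (X.presheaf.stalk x) H)] (Q : Finset (Ideal H))
    (hQ : ∀ P ∈ Q, P ∈ (((maximalIdeal (S.presheaf.stalk (f x))).map (f.stalkMap x).hom).map
      (algebraMap (X.presheaf.stalk x) H)).minimalPrimes) :
    ∃ (U : Scheme.{u}) (g : U ⟶ X) (t : Spec (.of k) ⟶ U) (pt : Spec (.of k)), Etale g ∧
      t ≫ g = Spec.map (CommRingCat.ofHom (algebraMap (X.presheaf.stalk x) k)) ≫ X.fromSpecStalk x ∧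
      g (t pt) = x ∧
      (Q.card : ℕ∞) ≤ {Z : Set ↑((g ≫ f).fiber (f x)) | Z ∈ irreducibleComponents ↑((g ≫ f).fiber (f x)) ∧
        ∃ u' ∈ Z, (g ≫ f).fiberι (f x) u' = t pt}.encard := by
  obtain ⟨W, hW, hxW, -⟩ := exists_isAffineOpen_mem_and_subset (show x ∈ (⊤ : X.Opens) from trivial)
  let := TopCat.Presheaf.algebra_section_stalk X.presheaf (⟨x, hxW⟩ : W)
  have := hW.isLocalization_stalk ⟨x, hxW⟩
  let : Algebra Γ(X, W) H :=
    ((algebraMap (X.presheaf.stalk x) H).comp (algebraMap Γ(X, W) _)).toAlgebra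
  have : IsScalarTower Γ(X, W) (X.presheaf.stalk x) H := IsScalarTower.of_algebraMap_eq fun _ => rfl
  let : Algebra Γ(X, W) k :=
    ((algebraMap (X.presheaf.stalk x) k).comp (algebraMap Γ(X, W) _)).toAlgebra
  have : IsScalarTower Γ(X, W) (X.presheaf.stalk x) k := IsScalarTower.of_algebraMap_eq fun _ => rfl
  let p := (hW.primeIdealOf ⟨x, hxW⟩).asIdeal
  obtain ⟨T, _, _, _, ψ, hψ⟩ := exists_separating p hπ Q (fun P hP => (hQ P hP).1.1)
    (fun P hP P' hP' hle => le_antisymm hle ((hQ P' hP').2 (hQ P hP).1 hle))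
  let g : Spec (.of T) ⟶ X :=
    Spec.map (CommRingCat.ofHom (algebraMap Γ(X, W) T)) ≫ hW.fromSpec
  let τ : Spec (.of H) ⟶ Spec (.of T) := Spec.map (CommRingCat.ofHom ψ.toRingHom)
  let t : Spec (.of k) ⟶ Spec (.of T) := Spec.map (CommRingCat.ofHom π.toRingHom) ≫ τ
  let pt : Spec (.of k) := closedPoint k
  have : Flat τ := (HasRingHomProperty.Spec_iff (P := @Flat)).mpr (flat p hπ T ψ)
  have hgE : Etale g := by
    have : Etale (Spec.map (CommRingCat.ofHom (algebraMap Γ(X, W) T))) :=
      (HasRingHomProperty.Spec_iff (P := @Etale)).mpr (RingHom.etale_algebraMap.mpr inferInstance)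
    infer_instance
  have hτg : τ ≫ g =
      Spec.map (CommRingCat.ofHom (algebraMap (X.presheaf.stalk x) H)) ≫ X.fromSpecStalk x := by
    rw [← hW.fromSpecStalk_eq_fromSpecStalk hxW, IsAffineOpen.fromSpecStalk]
    show τ ≫ Spec.map _ ≫ hW.fromSpec = Spec.map _ ≫ Spec.map _ ≫ hW.fromSpec
    rw [← Spec.map_comp_assoc, ← Spec.map_comp_assoc]
    congr 2
    exact CommRingCat.hom_ext (RingHom.ext fun r => ψ.commutes r)
  have htg : t ≫ g =
      Spec.map (CommRingCat.ofHom (algebraMap (X.presheaf.stalk x) k)) ≫ X.fromSpecStalk x := by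
    rw [Category.assoc, hτg, ← Spec.map_comp_assoc, ← CommRingCat.ofHom_comp,
      AlgHom.toRingHom_eq_coe, AlgHom.comp_algebraMap]
  have htpt : t pt = τ (closedPoint H) := by
    rw [Scheme.Hom.comp_apply]
    congr 1
    refine PrimeSpectrum.ext ?_
    show (maximalIdeal k).comap π.toRingHom = maximalIdeal H
    rw [IsLocalRing.maximalIdeal_eq_bot, hπ.maximalIdeal_eq]
    rfl
  have hpt : g (t pt) = x := by
    rw [htpt, ← Scheme.Hom.comp_apply, hτg, Scheme.Hom.comp_apply,
      show Spec.map (CommRingCat.ofHom (algebraMap (X.presheaf.stalk x) H)) (closedPoint H) =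
        closedPoint (X.presheaf.stalk x) from IsLocalRing.comap_closedPoint _]
    exact Scheme.fromSpecStalk_closedPoint
  refine ⟨_, g, t, pt, hgE, htg, hpt, ?_⟩
  rw [encard_fibre_components (g ≫ f) (t pt) (f x) (by rw [Scheme.Hom.comp_apply, hpt]), htpt]
  set J := (maximalIdeal (S.presheaf.stalk ((g ≫ f) (τ (closedPoint H))))).map
    ((g ≫ f).stalkMap (τ (closedPoint H))).hom
  have hJ : J.map (Scheme.stalkClosedPointTo τ).hom =
      ((maximalIdeal (S.presheaf.stalk (f x))).map (f.stalkMap x).hom).map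
        (algebraMap (X.presheaf.stalk x) H) := by
    rw [← closedIdeal_comp, ← Category.assoc, hτg, closedIdeal_comp_fromSpecStalk]
  let : Algebra ((Spec (.of T)).presheaf.stalk (τ (closedPoint H))) H :=
    (Scheme.stalkClosedPointTo τ).hom.toAlgebra
  have : Module.Flat ((Spec (.of T)).presheaf.stalk (τ (closedPoint H))) H :=
    flat_stalkClosedPointTo τ
  have hmap : (fun P : Ideal H => P.under ((Spec (.of T)).presheaf.stalk (τ (closedPoint H)))) '' Q ⊆
      J.minimalPrimes := by
    rintro _ ⟨P, hP, rfl⟩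
    refine under_mem_minimalPrimes_map ?_
    show P ∈ (J.map (Scheme.stalkClosedPointTo τ).hom).minimalPrimes
    rw [hJ]
    exact hQ P hP
  have hinj : Set.InjOn
      (fun P : Ideal H => P.under ((Spec (.of T)).presheaf.stalk (τ (closedPoint H)))) Q := by
    intro P hP P' hP' h
    by_contra hne
    obtain ⟨z, hz₁, hz₂⟩ := hψ P hP P' hP' hne
    let w := (Spec (.of T)).presheaf.germ ⊤ (τ (closedPoint H)) trivial
      ((Scheme.ΓSpecIso (.of T)).inv z)
    have hw : Scheme.stalkClosedPointTo τ w = ψ z := by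
      refine (ConcreteCategory.congr_hom
        (Scheme.germ_stalkClosedPointTo_Spec (CommRingCat.ofHom ψ.toRingHom))
          ((Scheme.ΓSpecIso (.of T)).inv z)).trans ?_
      simp
    have h1 : w ∈ P.under ((Spec (.of T)).presheaf.stalk (τ (closedPoint H))) := by
      show Scheme.stalkClosedPointTo τ w ∈ P
      rw [hw]; exact hz₁
    change P.under _ = P'.under _ at h
    rw [h] at h1
    have h2 : Scheme.stalkClosedPointTo τ w ∈ P' := h1
    rw [hw] at h2
    exact hz₂ h2
  rw [← Set.encard_coe_eq_coe_finsetCard, ← hinj.encard_image]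
  exact Set.encard_le_encard hmap

end Chart

section Count

variable {X S : Scheme.{u}} (f : X ⟶ S) (x : X) {H : Type u} [CommRing H] [IsLocalRing H]
  [Algebra (X.presheaf.stalk x) H] [IsLocalHom (algebraMap (X.presheaf.stalk x) H)]

/-- The fibre ring of the colimit, as an algebra over the local ring of the fibre. -/
theorem exists_equiv_quotient :
    ∃ (_ : IsLocalRing (X.presheaf.stalk x ⧸
          (maximalIdeal (S.presheaf.stalk (f x))).map (f.stalkMap x).hom))
      (_ : IsLocalRing (H ⧸ ((maximalIdeal (S.presheaf.stalk (f x))).map (f.stalkMap x).hom).map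
          (algebraMap (X.presheaf.stalk x) H)))
      (_ : IsLocalHom (algebraMap (X.presheaf.stalk x ⧸
            (maximalIdeal (S.presheaf.stalk (f x))).map (f.stalkMap x).hom)
          (H ⧸ ((maximalIdeal (S.presheaf.stalk (f x))).map (f.stalkMap x).hom).map
            (algebraMap (X.presheaf.stalk x) H)))),
      (((maximalIdeal (S.presheaf.stalk (f x))).map (f.stalkMap x).hom).map
            (algebraMap (X.presheaf.stalk x) H)).minimalPrimes.encard =
        (minimalPrimes (H ⧸ ((maximalIdeal (S.presheaf.stalk (f x))).map (f.stalkMap x).hom).map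
          (algebraMap (X.presheaf.stalk x) H))).encard := by
  set I := (maximalIdeal (S.presheaf.stalk (f x))).map (f.stalkMap x).hom
  have hI : I ≠ ⊤ :=
    ne_top_of_le_ne_top (maximalIdeal.isMaximal _).ne_top (map_maximalIdeal_le (f.stalkMap x).hom)
  have h₁ : IsLocalRing (X.presheaf.stalk x ⧸ I) := isLocalRing_quotient hI
  have h₂ : IsLocalRing (H ⧸ I.map (algebraMap (X.presheaf.stalk x) H)) :=
    isLocalRing_quotient
      (ne_top_of_le_ne_top (maximalIdeal.isMaximal H).ne_top (map_le_maximalIdeal I hI))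
  refine ⟨h₁, h₂, isLocalHom_quotient I, ?_⟩
  rw [← encard_minimalPrimes_of_surjective _ Ideal.Quotient.mk_surjective, Ideal.mk_ker]

theorem numBranchesAt_fibre [Hensel.IsHenselization (X.presheaf.stalk x) H] :
    Brnch.numBranchesAt (f.fiber (f x)) (f.asFiber x) =
      (((maximalIdeal (S.presheaf.stalk (f x))).map (f.stalkMap x).hom).map
        (algebraMap (X.presheaf.stalk x) H)).minimalPrimes.encard := by
  obtain ⟨h₁, h₂, h₃, h⟩ := exists_equiv_quotient f x (H := H)
  rw [h]
  set I := (maximalIdeal (S.presheaf.stalk (f x))).map (f.stalkMap x).hom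
  set J := I.map (algebraMap (X.presheaf.stalk x) H)
  let e := (H8Props.FibreStalk.asFiberStalkEquiv f x).symm
  let : Algebra ((f.fiber (f x)).presheaf.stalk (f.asFiber x)) (H ⧸ J) :=
    ((algebraMap (X.presheaf.stalk x ⧸ I) (H ⧸ J)).comp e.toRingHom).toAlgebra
  have := H8Props.NLCx.isLocalHom_ringEquiv e
  have : IsLocalHom (algebraMap ((f.fiber (f x)).presheaf.stalk (f.asFiber x)) (H ⧸ J)) :=
    inferInstanceAs (IsLocalHom ((algebraMap (X.presheaf.stalk x ⧸ I) (H ⧸ J)).comp e.toRingHom))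
  have := S13598.result (S := H) I (map_maximalIdeal_le (f.stalkMap x).hom)
  have := H8Props.NLCx.isHenselization_of_equiv (S := H ⧸ J) e rfl
  exact (card_minimalPrimes_henselization ((f.fiber (f x)).presheaf.stalk (f.asFiber x)) (H ⧸ J)).symm

theorem numGeomBranchesAt_fibre [Hensel.IsStrictHenselization (X.presheaf.stalk x) H] :
    Brnch.numGeomBranchesAt (f.fiber (f x)) (f.asFiber x) =
      (((maximalIdeal (S.presheaf.stalk (f x))).map (f.stalkMap x).hom).map
        (algebraMap (X.presheaf.stalk x) H)).minimalPrimes.encard := by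
  obtain ⟨h₁, h₂, h₃, h⟩ := exists_equiv_quotient f x (H := H)
  rw [h]
  set I := (maximalIdeal (S.presheaf.stalk (f x))).map (f.stalkMap x).hom
  set J := I.map (algebraMap (X.presheaf.stalk x) H)
  let e := (H8Props.FibreStalk.asFiberStalkEquiv f x).symm
  let : Algebra ((f.fiber (f x)).presheaf.stalk (f.asFiber x)) (H ⧸ J) :=
    ((algebraMap (X.presheaf.stalk x ⧸ I) (H ⧸ J)).comp e.toRingHom).toAlgebra
  have := H8Props.NLCx.isLocalHom_ringEquiv e
  have : IsLocalHom (algebraMap ((f.fiber (f x)).presheaf.stalk (f.asFiber x)) (H ⧸ J)) :=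
    inferInstanceAs (IsLocalHom ((algebraMap (X.presheaf.stalk x ⧸ I) (H ⧸ J)).comp e.toRingHom))
  have := isStrictHenselization_quotient (S := H) I
  have := H8Props.NLCx.isStrictHenselization_of_equiv (S := H ⧸ J) e rfl
  exact (card_minimalPrimes_strictHenselization ((f.fiber (f x)).presheaf.stalk (f.asFiber x))
    (H ⧸ J)).symm

end Count

end Groth.Agent.H9Hens.BranchNbhd
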