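import Groth.Agent.H9Hens.PtField
import Groth.Agent.H9Hens.PtBase
import Groth.Agent.H7Flat.EtaleNbhdHensel
import Mathlib.RingTheory.Ideal.GoingDown
import Mathlib.RingTheory.RingHom.Etale
import Mathlib.FieldTheory.IsSepClosed
import Mathlib.Data.Set.Card

/-!
Minimal primes of a (strict) henselization of `R_p`, seen on etale neighbourhoods of `p` in `R`.
-/

namespace Groth.Agent.H9Hens.BranchNbhd

universe u

open IsLocalRing TensorProduct

section Flat

variable {R T : Type*} [CommRing R] [CommRing T] [Algebra R T]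

theorem under_minimal [Algebra.HasGoingDown R T] {q : Ideal T} (hq : q ∈ minimalPrimes T) :
    q.under R ∈ minimalPrimes R := by
  have := hq.1.1
  refine ⟨⟨inferInstance, bot_le⟩, fun r hr hle => ?_⟩
  have := hr.1
  obtain ⟨P, hP, hPp, hlo⟩ :=
    Ideal.exists_ideal_le_liesOver_of_le (S := T) (p := r) (q := q.under R) q hle
  rw [← le_antisymm hP (hq.2 ⟨hPp, bot_le⟩ hP)]
  exact hlo.over.ge

theorem encard_le_of_faithfullyFlat [Module.FaithfullyFlat R T] :
    (minimalPrimes R).encard ≤ (minimalPrimes T).encard := by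
  have h : minimalPrimes R ⊆ (fun q : Ideal T => q.under R) '' minimalPrimes T := fun r hr => by
    have := hr.1.1
    obtain ⟨P, hP⟩ :=
      PrimeSpectrum.comap_surjective_of_faithfullyFlat (A := R) (B := T) ⟨r, inferInstance⟩
    obtain ⟨q, hq, hqP⟩ := Ideal.exists_minimalPrimes_le (I := (⊥ : Ideal T)) (J := P.asIdeal) bot_le
    have := hq.1.1
    have hle : q.under R ≤ r := by
      rw [← show P.asIdeal.under R = r from congrArg PrimeSpectrum.asIdeal hP]
      exact Ideal.comap_mono hqP
    exact ⟨q, hq, le_antisymm hle (hr.2 ⟨inferInstance, bot_le⟩ hle)⟩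
  exact (Set.encard_le_encard h).trans (Set.encard_image_le _ _)

end Flat

/-- An etale algebra has a point with given kernel in a separably closed field. -/
theorem exists_point_isSepClosed {R S : Type u} [CommRing R] [CommRing S] [Algebra R S]
    [Algebra.Etale R S] {k : Type u} [Field k] [IsSepClosed k] [Algebra R k] (q : Ideal S)
    [q.IsPrime] (hq : RingHom.ker (algebraMap R k) = q.under R) :
    ∃ σ : S →ₐ[R] k, RingHom.ker σ = q := by
  let p := q.under R
  let := Localization.AtPrime.algebraOfLiesOver p q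
  have : Algebra.IsUnramifiedAt R q :=
    (inferInstance : Algebra.FormallyUnramified R (Localization.AtPrime q))
  let f : p.ResidueField →+* k := Ideal.ResidueField.lift p (algebraMap R k) hq.ge fun x hx =>
    (isUnit_iff_ne_zero.mpr fun h => hx (hq.le (RingHom.mem_ker.mpr h)) :
      IsUnit (algebraMap R k x))
  let : Algebra p.ResidueField k := f.toAlgebra
  have : IsScalarTower R p.ResidueField k := IsScalarTower.of_algebraMap_eq fun r =>
    (Ideal.ResidueField.lift_algebraMap _ _ _ _ r).symm
  let τ : q.ResidueField →ₐ[p.ResidueField] k := IsSepClosed.lift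
  refine ⟨(τ.restrictScalars R).comp (IsScalarTower.toAlgHom R S q.ResidueField), ?_⟩
  ext s
  show τ (algebraMap S q.ResidueField s) = 0 ↔ s ∈ q
  rw [map_eq_zero, Ideal.algebraMap_residueField_eq_zero]

variable {R : Type u} [CommRing R] (p : Ideal R) [p.IsPrime] {A : Type u} [CommRing A] [Algebra R A]
  [IsLocalization.AtPrime A p] {k : Type u} [Field k] [Algebra A k] [Algebra R k]
  [IsScalarTower R A k] {H : Type u} [CommRing H] [IsLocalRing H] [Algebra A H] [Algebra R H]
  [IsScalarTower R A H] {π : H →ₐ[A] k} (hπ : IsPtColim π)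

include p hπ

omit [IsLocalRing H] in
/-- Etale `R`-algebras with a point map to the colimit. -/
theorem exists_map (S : Type u) [CommRing S] [Algebra R S] [Algebra.Etale R S] (σ : S →ₐ[R] k) :
    ∃ φ : S →ₐ[R] H, ∀ s, π (φ s) = σ s := by
  obtain ⟨φ, hφ⟩ := hπ.exists_map (A ⊗[R] S)
    (Algebra.TensorProduct.lift (Algebra.ofId A k) σ fun _ _ => Commute.all _ _)
  refine ⟨(φ.restrictScalars R).comp Algebra.TensorProduct.includeRight, fun s => ?_⟩
  exact (DFunLike.congr_fun hφ (1 ⊗ₜ s)).trans (by simp)

omit [IsLocalRing H] in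
/-- The colimit is flat over etale `R`-algebras. -/
theorem flat (S : Type u) [CommRing S] [Algebra R S] [Algebra.Etale R S] (φ : S →ₐ[R] H) :
    letI := φ.toRingHom.toAlgebra
    Module.Flat S H := by
  let : Algebra S H := φ.toRingHom.toAlgebra
  let φ' : A ⊗[R] S →ₐ[A] H :=
    Algebra.TensorProduct.lift (Algebra.ofId A H) φ fun _ _ => Commute.all _ _
  let : Algebra (A ⊗[R] S) H := φ'.toRingHom.toAlgebra
  have : IsScalarTower A (A ⊗[R] S) H :=
    IsScalarTower.of_algebraMap_eq fun a => (φ'.commutes a).symm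
  have := hπ.flat_of_etale (A ⊗[R] S)
  let : Algebra S (A ⊗[R] S) := Algebra.TensorProduct.rightAlgebra
  have : IsScalarTower S (A ⊗[R] S) H := IsScalarTower.of_algebraMap_eq fun s => by
    show φ s = φ' (1 ⊗ₜ s)
    simp [φ']
  have : Module.Flat R A := IsLocalization.flat A p.primeCompl
  have : Algebra.IsPushout R S A (A ⊗[R] S) := Algebra.IsPushout.symm inferInstance
  have : Module.Flat S (A ⊗[R] S) := Module.Flat.isBaseChange R S A (A ⊗[R] S) Algebra.IsPushout.out
  exact Module.Flat.trans S (A ⊗[R] S) H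

/-- The local ring of an etale neighbourhood has at most as many minimal primes as the colimit. -/
theorem encard_le (S : Type u) [CommRing S] [Algebra R S] [Algebra.Etale R S] (σ : S →ₐ[R] k)
    (q : Ideal S) [q.IsPrime] (hq : q = RingHom.ker σ) (L : Type u) [CommRing L] [Algebra S L]
    [IsLocalization.AtPrime L q] : (minimalPrimes L).encard ≤ (minimalPrimes H).encard := by
  obtain ⟨φ, hφ⟩ := exists_map p hπ S σ
  let : Algebra S H := φ.toRingHom.toAlgebra
  have := flat p hπ S φ
  have hu : ∀ s : q.primeCompl, IsUnit (algebraMap S H s) := fun s => by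
    refine hπ.isUnit_iff_ne_zero.mpr fun h => s.2 ?_
    exact hq.ge (RingHom.mem_ker.mpr ((hφ _).symm.trans h))
  let : Algebra L H := (IsLocalization.lift hu).toAlgebra
  have : IsScalarTower S L H :=
    IsScalarTower.of_algebraMap_eq fun s => (IsLocalization.lift_eq hu s).symm
  have : Module.Flat L H := (Module.flat_iff_of_isLocalization L q.primeCompl H).mpr inferInstance
  have := IsLocalization.AtPrime.isLocalRing L q
  have : IsLocalHom (algebraMap L H) := ⟨fun z hz => by
    obtain ⟨a, s, rfl⟩ := IsLocalization.exists_mk'_eq q.primeCompl z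
    rw [IsLocalization.AtPrime.isUnit_mk'_iff]
    intro ha
    have ha' : σ a = 0 := by rw [hq] at ha; exact ha
    have h : IsUnit (algebraMap S H a) := by
      rw [IsScalarTower.algebraMap_apply S L H, ← IsLocalization.mk'_spec L a s, map_mul,
        ← IsScalarTower.algebraMap_apply S L H]
      exact hz.mul (hu s)
    exact hπ.isUnit_iff_ne_zero.mp h ((hφ a).trans ha')⟩
  have := Module.FaithfullyFlat.of_flat_of_isLocalHom (A := L) (B := H)
  exact encard_le_of_faithfullyFlat

/-- Finitely many minimal primes of the colimit are distinguished by an etale neighbourhood. -/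
theorem exists_card_le (Q : Finset (Ideal H)) (hQ : ∀ P ∈ Q, P ∈ minimalPrimes H) :
    ∃ (S : Type u) (_ : CommRing S) (_ : Algebra R S) (_ : Algebra.Etale R S) (σ : S →ₐ[R] k)
      (q : Ideal S) (_ : q.IsPrime), q = RingHom.ker σ ∧
      ∀ (L : Type u) [CommRing L] [Algebra S L] [IsLocalization.AtPrime L q],
        (Q.card : ℕ∞) ≤ (minimalPrimes L).encard := by
  classical
  have hsep : ∀ P ∈ Q, ∀ P' ∈ Q, P ≠ P' → ∃ r, r ∈ P ∧ r ∉ P' := by
    intro P hP P' hP' hne
    by_contra hc
    push Not at hc
    exact hne (le_antisymm (fun r hr => hc r hr)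
      ((hQ P' hP').2 ⟨(hQ P hP).1.1, bot_le⟩ (fun r hr => hc r hr)))
  choose! r hr₁ hr₂ using hsep
  obtain ⟨S₁, _, _, _, φ₁, y, hy⟩ := hπ.exists_rep_finset (Q ×ˢ Q) fun i => r i.1 i.2
  let e : Localization.AtPrime p ≃ₐ[R] A :=
    IsLocalization.algEquiv p.primeCompl (Localization.AtPrime p) A
  let : Algebra (Localization.AtPrime p) A := e.toRingEquiv.toRingHom.toAlgebra
  have : Algebra.Etale (Localization.AtPrime p) A :=
    RingHom.etale_algebraMap.mp (RingHom.Etale.of_bijective e.bijective)
  let : Algebra (Localization.AtPrime p) S₁ :=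
    ((algebraMap A S₁).comp (algebraMap (Localization.AtPrime p) A)).toAlgebra
  have : IsScalarTower (Localization.AtPrime p) A S₁ := IsScalarTower.of_algebraMap_eq fun _ => rfl
  let : Algebra R S₁ := ((algebraMap A S₁).comp (algebraMap R A)).toAlgebra
  have : IsScalarTower R A S₁ := IsScalarTower.of_algebraMap_eq fun _ => rfl
  have : IsScalarTower R (Localization.AtPrime p) S₁ := IsScalarTower.of_algebraMap_eq fun a => by
    show algebraMap A S₁ (algebraMap R A a) =
      algebraMap A S₁ (e (algebraMap R (Localization.AtPrime p) a))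
    rw [AlgEquiv.commutes]
  have : Algebra.Etale (Localization.AtPrime p) S₁ :=
    Algebra.Etale.comp (Localization.AtPrime p) A S₁
  obtain ⟨S, _, _, _, χ, hχ⟩ := Groth.Agent.H7Flat.EtaleNbhdHensel.exists_etale_away p S₁
  choose c hc z hz using hχ
  let ψ : S →ₐ[R] H := (φ₁.restrictScalars R).comp χ
  let σ : S →ₐ[R] k := (π.restrictScalars R).comp ψ
  have hq := RingHom.ker_isPrime σ.toRingHom
  refine ⟨S, inferInstance, inferInstance, inferInstance, σ, RingHom.ker σ.toRingHom, hq, rfl,
    fun L _ _ _ => ?_⟩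
  let : Algebra S H := ψ.toRingHom.toAlgebra
  have := flat p hπ S ψ
  have hu : ∀ s : (RingHom.ker σ.toRingHom).primeCompl, IsUnit (algebraMap S H s) := fun s =>
    hπ.isUnit_iff_ne_zero.mpr fun h => s.2 (RingHom.mem_ker.mpr h)
  let : Algebra L H := (IsLocalization.lift hu).toAlgebra
  have : IsScalarTower S L H :=
    IsScalarTower.of_algebraMap_eq fun s => (IsLocalization.lift_eq hu s).symm
  have : Module.Flat L H :=
    (Module.flat_iff_of_isLocalization L (RingHom.ker σ.toRingHom).primeCompl H).mpr inferInstance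
  have hmap : (fun P : Ideal H => P.under L) '' Q ⊆ minimalPrimes L := by
    rintro _ ⟨P, hP, rfl⟩
    exact under_minimal (hQ P hP)
  have hinj : Set.InjOn (fun P : Ideal H => P.under L) Q := by
    intro P hP P' hP' h
    by_contra hne
    have := (hQ P hP).1.1
    have := (hQ P' hP').1.1
    have hP0 := hy (P, P') (Finset.mem_product.mpr ⟨hP, hP'⟩)
    have hw : algebraMap L H (algebraMap S L (z (y (P, P')))) =
        algebraMap R H (c (y (P, P'))) * r P P' := by
      rw [← IsScalarTower.algebraMap_apply S L H]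
      show φ₁ (χ (z (y (P, P')))) = _
      rw [← hz, ← IsScalarTower.algebraMap_smul A (c (y (P, P'))) (y (P, P')), map_smul, hP0,
        Algebra.smul_def, ← IsScalarTower.algebraMap_apply R A H]
    have hcu : IsUnit (algebraMap R H (c (y (P, P')))) := by
      rw [IsScalarTower.algebraMap_apply R A H]
      exact (IsLocalization.map_units A (⟨c (y (P, P')), hc _⟩ : p.primeCompl)).map _
    have h1 : algebraMap S L (z (y (P, P'))) ∈ P.under L := by
      rw [Ideal.under, Ideal.mem_comap, hw]
      exact Ideal.mul_mem_left _ _ (hr₁ P hP P' hP' hne)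
    change P.under L = P'.under L at h
    rw [h, Ideal.under, Ideal.mem_comap, hw, Ideal.unit_mul_mem_iff_mem _ hcu] at h1
    exact hr₂ P hP P' hP' hne h1
  rw [← Set.encard_coe_eq_coe_finsetCard, ← hinj.encard_image]
  exact Set.encard_le_encard hmap

end Groth.Agent.H9Hens.BranchNbhd
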