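import Groth.Agent.H8Props.WeilRes.MorS
import Groth.Agent.H8Props.FormallyEtale
import Groth.Agent.H7Lim.LFPCriterion

/-!
The scheme of open-closed subsets of a finite locally free scheme: morphisms to two copies of the base,
relative to the given finite locally free scheme, are represented by an etale separated scheme.
-/

set_option autoImplicit false
set_option linter.style.haveILetI false
universe u

open CategoryTheory CategoryTheory.Limits AlgebraicGeometry Opposite

namespace Groth.Agent.H9Hens.ClopenScheme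

variable {S : Scheme.{u}}

/-- The fold map from two copies. -/
noncomputable abbrev fold (S : Scheme.{u}) : S ⨿ S ⟶ S := coprod.desc (𝟙 S) (𝟙 S)

theorem isClopen_preimage {T : Scheme.{u}} (m : T ⟶ S ⨿ S) :
    IsClopen (m ⁻¹' Set.range (coprod.inl : S ⟶ S ⨿ S)) := by
  refine IsClopen.preimage ⟨?_, (coprod.inl : S ⟶ S ⨿ S).isOpenEmbedding.isOpen_range⟩ m.continuous
  rw [← isOpen_compl_iff, (isCompl_range_inl_inr S S).compl_eq]
  exact (coprod.inr : S ⟶ S ⨿ S).isOpenEmbedding.isOpen_range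

theorem exists_hom_of_isClopen {T : Scheme.{u}} (h : T ⟶ S) (C : Set T) (hC : IsClopen C) :
    ∃ m : T ⟶ S ⨿ S, m ≫ fold S = h ∧ m ⁻¹' Set.range (coprod.inl : S ⟶ S ⨿ S) = C := by
  let O₁ : T.Opens := ⟨C, hC.2⟩
  let O₂ : T.Opens := ⟨Cᶜ, hC.compl.2⟩
  have hcompl : IsCompl O₁.ι.opensRange O₂.ι.opensRange := by
    rw [Scheme.Opens.opensRange_ι, Scheme.Opens.opensRange_ι, isCompl_iff, disjoint_iff, codisjoint_iff]
    exact ⟨TopologicalSpace.Opens.ext (Set.inter_compl_self C), TopologicalSpace.Opens.ext (Set.union_compl_self C)⟩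
  obtain ⟨hl⟩ := nonempty_isColimit_binaryCofanMk_of_isCompl O₁.ι O₂.ι hcompl
  obtain ⟨m, hm₁, hm₂⟩ : ∃ m : T ⟶ S ⨿ S, O₁.ι ≫ m = O₁.ι ≫ h ≫ coprod.inl ∧ O₂.ι ≫ m = O₂.ι ≫ h ≫ coprod.inr :=
    ⟨_, (BinaryCofan.IsColimit.desc' hl _ _).2⟩
  refine ⟨m, BinaryCofan.IsColimit.hom_ext hl ?_ ?_, ?_⟩
  · show O₁.ι ≫ m ≫ fold S = O₁.ι ≫ h
    rw [← Category.assoc, hm₁, Category.assoc, Category.assoc, coprod.inl_desc, Category.comp_id]
  · show O₂.ι ≫ m ≫ fold S = O₂.ι ≫ h
    rw [← Category.assoc, hm₂, Category.assoc, Category.assoc, coprod.inr_desc, Category.comp_id]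
  · ext x
    by_cases hx : x ∈ C
    · refine iff_of_true ?_ hx
      refine ⟨h x, ?_⟩
      have := congrArg (fun φ => φ.base ⟨x, hx⟩) hm₁
      exact this.symm
    · refine iff_of_false ?_ hx
      rintro ⟨y, hy⟩
      have := congrArg (fun φ => φ.base ⟨x, hx⟩) hm₂
      exact inl_ne_inr S S y (h x) (hy.trans this)

theorem hom_eq {T : Scheme.{u}} (m m' : T ⟶ S ⨿ S) (h : m ≫ fold S = m' ≫ fold S)
    (hC : m ⁻¹' Set.range (coprod.inl : S ⟶ S ⨿ S) = m' ⁻¹' Set.range (coprod.inl : S ⟶ S ⨿ S)) :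
    m = m' := by
  let C := m ⁻¹' Set.range (coprod.inl : S ⟶ S ⨿ S)
  have hCc : IsClopen C := isClopen_preimage m
  have key : ∀ (O : T.Opens) (k : S ⟶ S ⨿ S) [IsOpenImmersion k], k ≫ fold S = 𝟙 S →
      (∀ x ∈ O, m x ∈ Set.range k) → (∀ x ∈ O, m' x ∈ Set.range k) → O.ι ≫ m = O.ι ≫ m' := by
    intro O k _ hk h₁ h₂
    have H : ∀ n : T ⟶ S ⨿ S, (∀ x ∈ O, n x ∈ Set.range k) → O.ι ≫ n = (O.ι ≫ n ≫ fold S) ≫ k := by
      intro n hn
      have hr : Set.range (O.ι ≫ n) ⊆ Set.range k := by rintro _ ⟨x, rfl⟩; exact hn x.1 x.2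
      conv_rhs => rw [← Category.assoc O.ι, ← IsOpenImmersion.lift_fac k (O.ι ≫ n) hr,
        Category.assoc _ k, hk, Category.comp_id]
      rw [IsOpenImmersion.lift_fac]
    rw [H m h₁, H m' h₂, h]
  let O₁ : T.Opens := ⟨C, hCc.2⟩
  let O₂ : T.Opens := ⟨Cᶜ, hCc.compl.2⟩
  have hcompl : IsCompl O₁.ι.opensRange O₂.ι.opensRange := by
    rw [Scheme.Opens.opensRange_ι, Scheme.Opens.opensRange_ι, isCompl_iff, disjoint_iff, codisjoint_iff]
    exact ⟨TopologicalSpace.Opens.ext (Set.inter_compl_self C), TopologicalSpace.Opens.ext (Set.union_compl_self C)⟩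
  obtain ⟨hl⟩ := nonempty_isColimit_binaryCofanMk_of_isCompl O₁.ι O₂.ι hcompl
  have hr : ∀ n : T ⟶ S ⨿ S, ∀ x, n x ∉ Set.range (coprod.inl : S ⟶ S ⨿ S) →
      n x ∈ Set.range (coprod.inr : S ⟶ S ⨿ S) := fun n x hx => by
    rw [← (isCompl_range_inl_inr S S).compl_eq]
    exact hx
  exact BinaryCofan.IsColimit.hom_ext hl
    (key O₁ coprod.inl (coprod.inl_desc _ _) (fun x hx => hx) (fun x hx => hC.le hx))
    (key O₂ coprod.inr (coprod.inr_desc _ _) (fun x hx => hr m x hx) (fun x hx => hr m' x fun h' => hx (hC.ge h')))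

variable {Z : Scheme.{u}} (g : Z ⟶ S) {W : Over S} (E : (Flatn.morS g (fold S)).RepresentableBy W)

/-- The base change of a morphism over the base. -/
noncomputable abbrev bc {T T' : Over S} (k : T' ⟶ T) : pullback T'.hom g ⟶ pullback T.hom g :=
  ((Over.pullback g).map k).left

/-- The open-closed subset attached to a point of the representing scheme. -/
noncomputable def theta {T : Over S} (l : T ⟶ W) : Set ↥(pullback T.hom g) :=
  (E.homEquiv l : (Over.map g).obj ((Over.pullback g).obj T) ⟶ Over.mk (fold S)).left ⁻¹'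
    Set.range (coprod.inl : S ⟶ S ⨿ S)

theorem isClopen_theta {T : Over S} (l : T ⟶ W) : IsClopen (theta g E l) := isClopen_preimage _

theorem theta_comp {T T' : Over S} (k : T' ⟶ T) (l : T ⟶ W) :
    theta g E (k ≫ l) = bc g k ⁻¹' theta g E l := by
  unfold theta
  rw [E.homEquiv_comp]
  rfl

theorem theta_injective {T : Over S} : Function.Injective (theta g E (T := T)) := fun l l' h => by
  apply E.homEquiv.injective
  apply Over.OverMorphism.ext
  refine hom_eq _ _ ?_ h
  exact (Over.w (E.homEquiv l : _ ⟶ Over.mk (fold S))).trans (Over.w (E.homEquiv l' : _ ⟶ Over.mk (fold S))).symm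

theorem exists_theta {T : Over S} (C : Set ↥(pullback T.hom g)) (hC : IsClopen C) :
    ∃ l : T ⟶ W, theta g E l = C := by
  obtain ⟨m, hm, hmC⟩ := exists_hom_of_isClopen (pullback.snd T.hom g ≫ g) C hC
  refine ⟨E.homEquiv.symm (Over.homMk m hm : (Over.map g).obj ((Over.pullback g).obj T) ⟶ Over.mk (fold S)), ?_⟩
  unfold theta
  rw [Equiv.apply_symm_apply]
  exact hmC

include E in
theorem isFormallyEtaleHom : MoreMor.IsFormallyEtaleHom W.hom := by
  intro A _ I hI a b hab
  let q := Spec.map (CommRingCat.ofHom (Ideal.Quotient.mk I))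
  let T : Over S := Over.mk b
  let T₀ : Over S := Over.mk (q ≫ b)
  let k : T₀ ⟶ T := Over.homMk q rfl
  haveI : IsClosedImmersion q := IsClosedImmersion.spec_of_surjective _ Ideal.Quotient.mk_surjective
  haveI : Surjective q := ⟨fun p => by
    show p ∈ Set.range (PrimeSpectrum.comap (Ideal.Quotient.mk I))
    rw [range_comap_of_surjective _ _ Ideal.Quotient.mk_surjective, Ideal.mk_ker]
    intro x hx
    have := Ideal.pow_mem_pow hx 2
    rw [hI, Ideal.mem_bot] at this
    exact p.2.mem_of_pow_mem 2 (by simp [this])⟩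
  have hsq := (H8Props.WeilRes.isPullback_pullback_map g k).flip
  haveI : IsClosedImmersion (bc g k) := MorphismProperty.of_isPullback (P := @IsClosedImmersion) hsq
    (inferInstanceAs (IsClosedImmersion q))
  haveI : Surjective (bc g k) := MorphismProperty.of_isPullback (P := @Surjective) hsq
    (inferInstanceAs (Surjective q))
  let φ := ((bc g k).isClosedEmbedding.isEmbedding.toHomeomorphOfSurjective (bc g k).surjective)
  let la : T₀ ⟶ W := Over.homMk a hab.symm
  obtain ⟨C, hC⟩ : ∃ C, bc g k ⁻¹' C = theta g E la := ⟨φ.symm ⁻¹' theta g E la, by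
    ext x
    show φ.symm (φ x) ∈ theta g E la ↔ x ∈ theta g E la
    rw [φ.symm_apply_apply]⟩
  have hCc : IsClopen C := by
    have e : C = φ.symm ⁻¹' theta g E la := by
      rw [← hC]
      ext y
      show y ∈ C ↔ φ (φ.symm y) ∈ C
      rw [φ.apply_symm_apply]
    rw [e]
    exact (isClopen_theta g E la).preimage φ.symm.continuous
  obtain ⟨l, hl⟩ := exists_theta g E C hCc
  have hkl : k ≫ l = la := theta_injective g E (by rw [theta_comp, hl, hC])
  refine ⟨l.left, ⟨congrArg CommaMorphism.left hkl, Over.w l⟩, fun l' hl' => ?_⟩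
  let m : T ⟶ W := Over.homMk l' hl'.2
  have : m = l := theta_injective g E <| (bc g k).surjective.preimage_injective <| by
    rw [← theta_comp, ← theta_comp, hkl]
    exact congrArg (theta g E) (Over.OverMorphism.ext hl'.1)
  exact congrArg CommaMorphism.left this

include E in
theorem locallyOfFinitePresentation [IsFinite g] : LocallyOfFinitePresentation W.hom := by
  refine H7Lim.locallyOfFinitePresentation_of_surjOn fun U hU J _ _ _ D t c hc haff j₀ a ha => ?_
  haveI := haff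
  haveI : ∀ (i j : Jᵒᵖ) (f : i ⟶ j), IsAffineHom (D.map f) := fun i j f => isAffineHom_of_isAffine (D.map f)
  let T₀ : Over S := Over.mk (t.app j₀ ≫ U.ι)
  let Tinf : Over S := Over.mk (c.π.app j₀ ≫ t.app j₀ ≫ U.ι)
  let Tj : CategoryTheory.Over j₀ → Over S := fun j => Over.mk (D.map j.hom ≫ t.app j₀ ≫ U.ι)
  let k₀ : Tinf ⟶ T₀ := Over.homMk (c.π.app j₀) rfl
  let kd : ∀ j, Tj j ⟶ T₀ := fun j => Over.homMk (D.map j.hom) rfl
  let kj : ∀ j, Tinf ⟶ Tj j := fun j => Over.homMk (c.π.app j.left) (by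
    show _ ≫ D.map j.hom ≫ _ = _
    rw [← Category.assoc, c.w]
    rfl)
  let α := pullback.fst T₀.hom g
  let einf : pullback Tinf.hom g ≅ pullback α (c.π.app j₀) :=
    (H8Props.WeilRes.isPullback_pullback_map g k₀).isoPullback
  let ej : ∀ j, pullback (Tj j).hom g ≅ pullback α (D.map j.hom) :=
    fun j => (H8Props.WeilRes.isPullback_pullback_map g (kd j)).isoPullback
  let π' : ∀ j : CategoryTheory.Over j₀, pullback α (c.π.app j₀) ⟶ pullback α (D.map j.hom) :=
    fun j => pullback.map α (c.π.app j₀) α (D.map j.hom) (𝟙 _) (c.π.app j.left) (𝟙 _) (by simp)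
      (by rw [Category.comp_id]; exact (c.w j.hom).symm)
  have hπ' : ∀ j, (H7Lim.pbCone D c j₀ α).π.app j = π' j := fun j => rfl
  have hi1 : einf.hom ≫ pullback.fst α (c.π.app j₀) = bc g k₀ := IsPullback.isoPullback_hom_fst _
  have hi2 : einf.hom ≫ pullback.snd α (c.π.app j₀) = pullback.fst Tinf.hom g := IsPullback.isoPullback_hom_snd _
  have hj1 : ∀ j, (ej j).hom ≫ pullback.fst α (D.map j.hom) = bc g (kd j) := fun j => IsPullback.isoPullback_hom_fst _
  have hj2 : ∀ j, (ej j).hom ≫ pullback.snd α (D.map j.hom) = pullback.fst (Tj j).hom g := fun j => IsPullback.isoPullback_hom_snd _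
  have hcomp : ∀ j, einf.hom ≫ π' j = bc g (kj j) ≫ (ej j).hom := by
    intro j
    apply pullback.hom_ext
    · rw [Category.assoc, pullback.lift_fst, Category.comp_id, Category.assoc,
        hi1, hj1]
      show bc g k₀ = bc g (kj j) ≫ bc g (kd j)
      rw [show k₀ = kj j ≫ kd j from Over.OverMorphism.ext (c.w j.hom).symm]
      simp only [bc, Functor.map_comp, Over.comp_left]
    · rw [Category.assoc, pullback.lift_snd, ← Category.assoc,
        hi2, Category.assoc, hj2]
      exact ((H8Props.WeilRes.isPullback_pullback_map g (kj j)).w).symm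
  haveI : IsAffine (pullback T₀.hom g) := by
    haveI : IsAffine T₀.left := haff j₀
    exact isAffine_of_isAffineHom (pullback.fst T₀.hom g)
  haveI : CompactSpace ↥(pullback T₀.hom g) := inferInstance
  haveI : ∀ j, CompactSpace ↥((H7Lim.pbDiagram D j₀ α).obj j) :=
    fun j => H7Lim.compactSpace_pbDiagram_obj D j₀ α j
  have hc' := H7Lim.isLimitPbCone D j₀ α hc
  let C' : Set ↥(H7Lim.pbCone D c j₀ α).pt := einf.inv ⁻¹' theta g E (Over.homMk a ha : Tinf ⟶ W)
  have hC' : IsClopen C' := (isClopen_theta g E _).preimage einf.inv.continuous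
  haveI := H7Lim.compactSpace_pt_of_isAffineHom hc' (CategoryTheory.Over.mk (𝟙 j₀))
  obtain ⟨i₁, f₁, V₁, hV₁, hV₁c, e₁⟩ :=
    H7Lim.exists_isCompact_isOpen_preimage_eq hc' (CategoryTheory.Over.mk (𝟙 j₀)) hC'.2 hC'.1.isCompact
  obtain ⟨i₂, f₂, V₂, hV₂, hV₂c, e₂⟩ :=
    H7Lim.exists_isCompact_isOpen_preimage_eq hc' i₁ hC'.compl.2 hC'.compl.1.isCompact
  let D' := H7Lim.pbDiagram D j₀ α
  let c' := H7Lim.pbCone D c j₀ α
  let V₁' := D'.map f₂ ⁻¹' V₁
  have e₁' : c'.π.app i₂ ⁻¹' V₁' = C' := by rw [H7Lim.preimage_π_map]; exact e₁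
  have hV₁'o : IsOpen V₁' := hV₁.preimage (D'.map f₂).continuous
  have hV₁'c : IsCompact V₁' := QuasiCompact.isCompact_preimage _ hV₁ hV₁c
  have hq₁ : H7Lim.QCImage (V₁' ∩ V₂) := by
    have := (H7Lim.qcImage_of_isOpen_isCompact hV₁'o hV₁'c)
    exact H7Lim.qcImage_of_isOpen_isCompact (hV₁'o.inter hV₂)
      (hV₁'c.inter_of_isOpen hV₂c hV₁'o hV₂)
  have hq₂ : H7Lim.QCImage (V₁' ∪ V₂)ᶜ := by
    have := (H7Lim.qcImage_range (𝟙 (D'.obj i₂))).inter_isClosed (hV₁'o.union hV₂).isClosed_compl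
    rwa [show Set.range (𝟙 (D'.obj i₂) : _ ⟶ _) = Set.univ from Set.range_id, Set.univ_inter] at this
  obtain ⟨i₃, f₃, h₃⟩ := (hq₁.union hq₂).exists_preimage_eq_empty hc' (by
    rw [Set.preimage_union, Set.preimage_inter, Set.preimage_compl, Set.preimage_union, e₁', e₂]
    simp)
  let V : Set ↥(D'.obj i₃) := D'.map f₃ ⁻¹' V₁'
  have hV : IsClopen V := by
    refine ⟨?_, hV₁'o.preimage (D'.map f₃).continuous⟩
    rw [← isOpen_compl_iff]
    convert hV₂.preimage (D'.map f₃).continuous using 1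
    ext x
    have hx := Set.eq_empty_iff_forall_notMem.1 h₃ x
    simp only [Set.mem_preimage, Set.mem_union, Set.mem_inter_iff, Set.mem_compl_iff] at hx
    show ¬ D'.map f₃ x ∈ V₁' ↔ D'.map f₃ x ∈ V₂
    tauto
  obtain ⟨l, hl⟩ := exists_theta g E ((ej i₃).hom ⁻¹' V) (hV.preimage (ej i₃).hom.continuous)
  have hkl : kj i₃ ≫ l = (Over.homMk a ha : Tinf ⟶ W) := theta_injective g E (by
    rw [theta_comp, hl]
    have hp : ∀ x, (ej i₃).hom (bc g (kj i₃) x) = π' i₃ (einf.hom x) := fun x => by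
      rw [← Scheme.Hom.comp_apply, ← hcomp, Scheme.Hom.comp_apply]
    have hV' : π' i₃ ⁻¹' V = C' := (H7Lim.preimage_π_map (c := c') f₃ V₁').trans e₁'
    ext x
    show (ej i₃).hom (bc g (kj i₃) x) ∈ V ↔ x ∈ theta g E (Over.homMk a ha)
    rw [hp]
    refine (Set.ext_iff.1 hV' (einf.hom x)).trans ?_
    show einf.inv (einf.hom x) ∈ theta g E (Over.homMk a ha) ↔ _
    rw [← Scheme.Hom.comp_apply, Iso.hom_inv_id]
    rfl)
  refine ⟨i₃.left, l.left, ?_, congrArg CommaMorphism.left hkl⟩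
  refine (Over.w l).trans ?_
  show D.map i₃.hom ≫ t.app j₀ ≫ U.ι = _
  rw [← Category.assoc, t.naturality]
  simp

include E in
theorem etale [IsFinite g] : Etale W.hom := by
  haveI := locallyOfFinitePresentation g E
  rw [HasRingHomProperty.iff_appLE (P := @Etale)]
  intro U V e
  letI := (W.hom.appLE U.1 V.1 e).hom.toAlgebra
  have h1 := (H8Props.FormallyEtale.isFormallyEtaleHom_iff W.hom).1 (isFormallyEtaleHom g E) V.1 U.1 V.2 U.2 e
  have h2 : (W.hom.appLE U.1 V.1 e).hom.FinitePresentation := W.hom.finitePresentation_appLE U.2 V.2 e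
  exact { formallyEtale := h1, finitePresentation := h2 }

end Groth.Agent.H9Hens.ClopenScheme
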