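import Groth.Agent.H9Hens.FinitePart
import Mathlib.RingTheory.Unramified.LocalStructure
import Mathlib.RingTheory.Etale.StandardEtale
import Mathlib.RingTheory.Ideal.IdempotentFG

/-!
Lifting sections of etale algebras along an ideal in the Jacobson radical, given idempotent lifting.
-/

namespace Groth.Agent.H9Hens

open TensorProduct

universe u v w

variable {A : Type u} [CommRing A] {I : Ideal A}

/-- Two maps out of an unramified algebra agreeing modulo an ideal in the Jacobson radical are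
equal. -/
theorem algHom_eq_of_sub_mem {S : Type v} [CommRing S] [Algebra A S] [Algebra.EssFiniteType A S]
    [Algebra.FormallyUnramified A S] {T : Type w} [CommRing T] [Algebra A T] {L : Ideal T}
    (hL : L ≤ Ideal.jacobson ⊥) {τ₁ τ₂ : S →ₐ[A] T} (h : ∀ x, τ₁ x - τ₂ x ∈ L) : τ₁ = τ₂ := by
  obtain ⟨e, he, hsp⟩ : ∃ e, IsIdempotentElem e ∧ KaehlerDifferential.ideal A S = S ⊗[A] S ∙ e :=
    (Ideal.isIdempotentElem_iff_of_fg _ (KaehlerDifferential.ideal_fg A S)).mp <|
      (Ideal.cotangent_subsingleton_iff _).mp <| inferInstanceAs <| Subsingleton Ω[S⁄A]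
  let φ : S ⊗[A] S →ₐ[A] T := Algebra.TensorProduct.productMap τ₁ τ₂
  have hgen : ∀ x : S, (1 : S) ⊗ₜ[A] x - x ⊗ₜ[A] (1 : S) ∈ KaehlerDifferential.ideal A S :=
    fun x => KaehlerDifferential.one_smul_sub_smul_one_mem_ideal A x
  have heL : φ e ∈ L := by
    have : KaehlerDifferential.ideal A S ≤ L.comap φ.toRingHom := by
      rw [← KaehlerDifferential.span_range_eq_ideal, Ideal.span_le]
      rintro _ ⟨x, rfl⟩
      simp only [SetLike.mem_coe, Ideal.mem_comap, AlgHom.toRingHom_eq_coe, RingHom.coe_coe,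
        map_sub, φ, Algebra.TensorProduct.productMap_apply_tmul, map_one, one_mul, mul_one]
      rw [← neg_sub]
      exact neg_mem (h x)
    exact this (hsp ▸ Submodule.mem_span_singleton_self e)
  have he0 : φ e = 0 :=
    idem_eq_of_sub_mem hL (he.map φ) IsIdempotentElem.zero (by simpa using heL)
  refine AlgHom.ext fun x => ?_
  have hx := hgen x
  rw [hsp, Submodule.mem_span_singleton] at hx
  obtain ⟨c, hc⟩ := hx
  have := congrArg φ hc
  simp only [smul_eq_mul, map_mul, he0, mul_zero, map_sub, φ,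
    Algebra.TensorProduct.productMap_apply_tmul, map_one, one_mul, mul_one] at this
  exact (sub_eq_zero.mp this.symm).symm

/-- A section over `A/I` of an unramified algebra of finite type is cut out by an element which is
idempotent modulo `IS`. -/
theorem exists_section_idem {S : Type v} [CommRing S] [Algebra A S] [Algebra.FiniteType A S]
    [Algebra.FormallyUnramified A S] (σ : S →ₐ[A] A ⧸ I) :
    ∃ f : S, σ f = 1 ∧ ∀ y, σ y = 0 → f * y ∈ I.map (algebraMap A S) := by
  classical
  set IS := I.map (algebraMap A S) with hIS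
  set J := RingHom.ker σ with hJ
  have hISJ : IS ≤ J := by
    refine Ideal.map_le_iff_le_comap.mpr fun a ha => ?_
    simp [Ideal.mem_comap, J, RingHom.mem_ker, σ.commutes, Ideal.Quotient.eq_zero_iff_mem, ha]
  obtain ⟨g, hg⟩ := Algebra.FiniteType.out (R := A) (A := S)
  choose a ha using fun x : S => Ideal.Quotient.mk_surjective (σ x)
  set K₀ := IS ⊔ Ideal.span (↑(g.image fun x => x - algebraMap A S (a x)) : Set S) with hK₀
  have hK₀J : K₀ ≤ J := by
    refine sup_le hISJ (Ideal.span_le.mpr ?_)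
    intro z hz
    obtain ⟨x, -, rfl⟩ := Finset.mem_image.mp hz
    simp [J, RingHom.mem_ker, σ.commutes, ha]
  have hall : ∀ x : S, ∃ b : A, x - algebraMap A S b ∈ K₀ := by
    intro x
    have hx : x ∈ Algebra.adjoin A (g : Set S) := hg ▸ Algebra.mem_top
    induction hx using Algebra.adjoin_induction with
    | mem x hx =>
      exact ⟨a x, Ideal.mem_sup_right (Ideal.subset_span (Finset.mem_image_of_mem _ hx))⟩
    | algebraMap b => exact ⟨b, by simp⟩
    | add x y _ _ hx hy =>
      obtain ⟨b, hb⟩ := hx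
      obtain ⟨c, hc⟩ := hy
      exact ⟨b + c, by rw [map_add, add_sub_add_comm]; exact add_mem hb hc⟩
    | mul x y _ _ hx hy =>
      obtain ⟨b, hb⟩ := hx
      obtain ⟨c, hc⟩ := hy
      refine ⟨b * c, ?_⟩
      have : x * y - algebraMap A S (b * c) =
          y * (x - algebraMap A S b) + algebraMap A S b * (y - algebraMap A S c) := by
        rw [map_mul]; ring
      rw [this]
      exact add_mem (K₀.mul_mem_left _ hb) (K₀.mul_mem_left _ hc)
  have hJK : J = K₀ := by
    refine le_antisymm (fun x hx => ?_) hK₀J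
    obtain ⟨b, hb⟩ := hall x
    have hbI : b ∈ I := by
      have := hK₀J hb
      rw [RingHom.mem_ker, map_sub, RingHom.mem_ker.mp hx, σ.commutes, zero_sub, neg_eq_zero,
        Ideal.Quotient.algebraMap_eq, Ideal.Quotient.eq_zero_iff_mem] at this
      exact this
    simpa using add_mem hb (Ideal.mem_sup_left (Ideal.mem_map_of_mem (algebraMap A S) hbI))
  have hsq : J ≤ IS ⊔ J * J := by
    let L := IS ⊔ J * J
    let L' : Ideal (S ⧸ L) := J.map (Ideal.Quotient.mk L)
    have hL2 : L' ^ 2 = ⊥ := by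
      rw [pow_two, ← Ideal.map_mul, Ideal.map_eq_bot_iff_le_ker, Ideal.mk_ker]
      exact le_sup_right
    have hker : ∀ b ∈ I, (algebraMap A (S ⧸ L)) b = 0 := fun b hb => by
      rw [IsScalarTower.algebraMap_apply A S, Ideal.Quotient.algebraMap_eq,
        Ideal.Quotient.eq_zero_iff_mem]
      exact Ideal.mem_sup_left (Ideal.mem_map_of_mem _ hb)
    let ι : A ⧸ I →ₐ[A] S ⧸ L := Ideal.Quotient.liftₐ I (Algebra.ofId A (S ⧸ L)) hker
    have heq : (Ideal.Quotient.mkₐ A L' ).comp (Ideal.Quotient.mkₐ A L) =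
        (Ideal.Quotient.mkₐ A L').comp (ι.comp σ) := by
      refine AlgHom.ext fun x => ?_
      obtain ⟨b, hb⟩ := hall x
      have hbJ := hK₀J hb
      have h1 : σ x = Ideal.Quotient.mk I b := by
        rw [RingHom.mem_ker, map_sub, σ.commutes, sub_eq_zero] at hbJ
        exact hbJ
      show Ideal.Quotient.mk L' (Ideal.Quotient.mk L x) = Ideal.Quotient.mk L' (ι (σ x))
      rw [h1, show ι (Ideal.Quotient.mk I b) = Ideal.Quotient.mk L (algebraMap A S b) from rfl,
        Ideal.Quotient.eq, ← map_sub]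
      exact Ideal.mem_map_of_mem _ hbJ
    have := Algebra.FormallyUnramified.comp_injective (R := A) (A := S) L' hL2 heq
    intro x hx
    have hx' := AlgHom.congr_fun this x
    rw [AlgHom.comp_apply, RingHom.mem_ker.mp hx, map_zero] at hx'
    exact Ideal.Quotient.eq_zero_iff_mem.mp hx'
  set K := J.map (Ideal.Quotient.mk IS) with hK
  have hKfg : K.FG := by
    refine ⟨(g.image fun x => x - algebraMap A S (a x)).image (Ideal.Quotient.mk IS), ?_⟩
    rw [Finset.coe_image, hK, hJK, hK₀, Ideal.map_sup, Ideal.map_quotient_self, bot_sup_eq,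
      Ideal.map_span]
  have hKidem : IsIdempotentElem K := by
    refine le_antisymm Ideal.mul_le_right ?_
    rw [hK, ← Ideal.map_mul]
    refine (Ideal.map_mono hsq).trans ?_
    rw [Ideal.map_sup, Ideal.map_quotient_self, bot_sup_eq]
  obtain ⟨e, he, hKe⟩ := (Ideal.isIdempotentElem_iff_of_fg K hKfg).mp hKidem
  obtain ⟨e', rfl⟩ := Ideal.Quotient.mk_surjective e
  refine ⟨1 - e', ?_, fun y hy => ?_⟩
  · have : Ideal.Quotient.mk IS e' ∈ K := hKe ▸ Submodule.mem_span_singleton_self _
    obtain ⟨z, hz, hze⟩ := (Ideal.mem_map_iff_of_surjective _ Ideal.Quotient.mk_surjective).mp this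
    have : σ e' = 0 := by
      have h1 : e' - z ∈ J := hISJ (Ideal.Quotient.eq.mp hze.symm)
      simpa [J, RingHom.mem_ker, RingHom.mem_ker.mp hz] using h1
    simp [this]
  · have : Ideal.Quotient.mk IS y ∈ K := Ideal.mem_map_of_mem _ hy
    rw [hKe, Submodule.mem_span_singleton] at this
    obtain ⟨c, hc⟩ := this
    rw [← Ideal.Quotient.eq_zero_iff_mem, map_mul, map_sub, map_one, ← hc, smul_eq_mul]
    linear_combination (-c) * he.eq

/-- If idempotents cutting out cyclic pieces lift along finite subalgebras, sections over `A/I` of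
etale algebras lift. -/
theorem exists_algHom_lift_of_cyclic (hI : I ≤ Ideal.jacobson ⊥)
    {S : Type v} [CommRing S] [Algebra A S] [Algebra.Etale A S] (σ : S →ₐ[A] A ⧸ I)
    (hlift : ∀ (B : Subalgebra A S), B.toSubmodule.FG → ∀ b : B,
      b * b - b ∈ I.map (algebraMap A B) →
      (∀ y : B, ∃ a : A, b * y - a • b ∈ I.map (algebraMap A B)) →
      ∃ e : B, IsIdempotentElem e ∧ e - b ∈ I.map (algebraMap A B)) :
    ∃ τ : S →ₐ[A] A, (Ideal.Quotient.mkₐ A I).comp τ = σ := by
  obtain ⟨f, hf1, hfy⟩ := exists_section_idem σ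
  set IS := I.map (algebraMap A S) with hIS
  set J := IS ⊔ Ideal.span {1 - f} with hJdef
  have hISσ : ∀ y ∈ IS, σ y = 0 := fun y hy => by
    have : IS ≤ RingHom.ker σ := Ideal.map_le_iff_le_comap.mpr fun a ha => by
      simp [Ideal.mem_comap, RingHom.mem_ker, σ.commutes, Ideal.Quotient.eq_zero_iff_mem, ha]
    exact this hy
  have hJσ : ∀ y, σ y = 0 → y ∈ J := fun y hy => by
    have : y = f * y + y * (1 - f) := by ring
    rw [this]
    exact add_mem (Ideal.mem_sup_left (hfy y hy))
      (Ideal.mem_sup_right (Ideal.mul_mem_left _ _ (Ideal.subset_span rfl)))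
  have hsurjQ : ∀ x : S, ∃ a : A, x - algebraMap A S a ∈ J := fun x => by
    obtain ⟨a, ha⟩ := Ideal.Quotient.mk_surjective (σ x)
    exact ⟨a, hJσ _ (by rw [map_sub, σ.commutes, ← ha]; exact sub_self _)⟩
  have hff : f * f - f ∈ IS := by
    have := hfy (f - 1) (by simp [hf1])
    rwa [mul_sub, mul_one] at this
  have hfin : Module.Finite A (S ⧸ J) := by
    refine Module.Finite.of_surjective (Algebra.linearMap A (S ⧸ J)) fun x => ?_
    obtain ⟨x, rfl⟩ := Ideal.Quotient.mk_surjective x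
    obtain ⟨a, ha⟩ := hsurjQ x
    exact ⟨a, (Ideal.Quotient.eq.mpr ha).symm⟩
  obtain ⟨B, hB, u, hu, huy, huf, hfinal⟩ :=
    exists_finitePart_subalgebra hI f hff hfin (fun q _ _ => inferInstance)
  obtain ⟨e, he, heu⟩ := hlift B hB u hu fun y => by
    obtain ⟨a, ha⟩ := hsurjQ y
    refine ⟨a, ?_⟩
    rw [Algebra.smul_def, mul_comm _ u, ← mul_sub]
    exact huy _ ha
  obtain ⟨hef, hCfin⟩ := hfinal e he heu
  set P : Ideal S := Ideal.span {1 - (e : S)} with hP
  have heS : IsIdempotentElem (e : S) := he.map B.val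
  have hσe : σ (e : S) = 1 := by
    have := hISσ _ hef
    rwa [map_sub, hf1, sub_eq_zero] at this
  have : IsLocalization.Away (e : S) (S ⧸ P) :=
    IsLocalization.away_of_isIdempotentElem heS (Ideal.mk_ker) Ideal.Quotient.mk_surjective
  have : Algebra.Etale S (S ⧸ P) := Algebra.Etale.of_isLocalizationAway (e : S)
  have : Algebra.Etale A (S ⧸ P) := Algebra.Etale.comp A S (S ⧸ P)
  have hgen : (⊤ : Submodule A (S ⧸ P)) ≤
      LinearMap.range (Algebra.linearMap A (S ⧸ P)) ⊔ I • (⊤ : Submodule A (S ⧸ P)) := by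
    intro x _
    obtain ⟨x, rfl⟩ := Ideal.Quotient.mk_surjective x
    obtain ⟨a, ha⟩ := hsurjQ x
    have hfa : f * (x - algebraMap A S a) ∈ IS := by
      obtain ⟨i, hi, c, hc, heq⟩ := Submodule.mem_sup.mp ha
      obtain ⟨d, rfl⟩ := Ideal.mem_span_singleton'.mp hc
      have : f * (x - algebraMap A S a) = f * i + (-d) * (f * f - f) := by rw [← heq]; ring
      rw [this]
      exact add_mem (IS.mul_mem_left _ hi) (IS.mul_mem_left _ hff)
    have hea : (e : S) * (x - algebraMap A S a) ∈ IS := by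
      have : (e : S) * (x - algebraMap A S a) =
          ((e : S) - f) * (x - algebraMap A S a) + f * (x - algebraMap A S a) := by ring
      rw [this]
      exact add_mem (IS.mul_mem_right _ hef) hfa
    refine Submodule.mem_sup.mpr ⟨algebraMap A (S ⧸ P) a, ⟨a, rfl⟩,
      Ideal.Quotient.mk P ((e : S) * (x - algebraMap A S a)), ?_, ?_⟩
    · rw [Ideal.smul_top_eq_map, Submodule.restrictScalars_mem,
        IsScalarTower.algebraMap_eq A S (S ⧸ P), ← Ideal.map_map]
      exact Ideal.mem_map_of_mem _ hea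
    · rw [IsScalarTower.algebraMap_apply A S (S ⧸ P), Ideal.Quotient.algebraMap_eq, ← map_add,
        Ideal.Quotient.eq, hP, Ideal.mem_span_singleton']
      exact ⟨-(x - algebraMap A S a), by ring⟩
  have hsurj : Function.Surjective (algebraMap A (S ⧸ P)) := fun x =>
    LinearMap.mem_range.mp
      (Submodule.le_of_le_smul_of_le_jacobson_bot Module.Finite.fg_top hI hgen Submodule.mem_top :
        x ∈ LinearMap.range (Algebra.linearMap A (S ⧸ P)))
  let σ' : S ⧸ P →ₐ[A] A ⧸ I := Ideal.Quotient.liftₐ P σ fun y hy => by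
    obtain ⟨c, rfl⟩ := Ideal.mem_span_singleton'.mp hy
    simp [hσe]
  set K := RingHom.ker (algebraMap A (S ⧸ P)) with hK
  have hKI : K ≤ I := fun k hk => by
    rw [← Ideal.Quotient.eq_zero_iff_mem, ← Ideal.Quotient.algebraMap_eq, ← σ'.commutes,
      RingHom.mem_ker.mp hk, map_zero]
  have hKfg : K.FG :=
    Algebra.FinitePresentation.ker_fG_of_surjective (Algebra.ofId A (S ⧸ P)) hsurj
  let g : A ⧸ K ^ 2 →ₐ[A] S ⧸ P := Ideal.Quotient.liftₐ (K ^ 2) (Algebra.ofId A (S ⧸ P))
    fun k hk => RingHom.mem_ker.mp (Ideal.pow_le_self two_ne_zero hk)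
  have hgsurj : Function.Surjective g := fun x => by
    obtain ⟨a, ha⟩ := hsurj x
    exact ⟨Ideal.Quotient.mk _ a, ha⟩
  have hgker : IsNilpotent (RingHom.ker (g : A ⧸ K ^ 2 →+* S ⧸ P)) := by
    refine ⟨2, ?_⟩
    have hle : RingHom.ker (g : A ⧸ K ^ 2 →+* S ⧸ P) ≤ K.map (Ideal.Quotient.mk (K ^ 2)) := by
      intro y hy
      obtain ⟨a, rfl⟩ := Ideal.Quotient.mk_surjective y
      exact Ideal.mem_map_of_mem _ (RingHom.mem_ker.mp hy : algebraMap A (S ⧸ P) a = 0)
    refine le_bot_iff.mp ((Ideal.pow_right_mono hle 2).trans ?_)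
    rw [← Ideal.map_pow, Ideal.map_quotient_self]
  have hK0 : K = ⊥ := by
    refine Submodule.eq_bot_of_le_smul_of_le_jacobson_bot I K hKfg ?_ hI
    intro k hk
    have h := (Algebra.FormallySmooth.liftOfSurjective (AlgHom.id A (S ⧸ P)) g hgsurj hgker).commutes k
    rw [RingHom.mem_ker.mp hk, map_zero] at h
    have hk2 : k ∈ K * K := pow_two K ▸ Ideal.Quotient.eq_zero_iff_mem.mp h.symm
    exact Ideal.mul_mono_left hKI hk2
  have hinj : Function.Injective (algebraMap A (S ⧸ P)) :=
    (RingHom.injective_iff_ker_eq_bot _).mpr hK0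
  refine ⟨((AlgEquiv.ofBijective (Algebra.ofId A (S ⧸ P)) ⟨hinj, hsurj⟩).symm.toAlgHom).comp
    (Ideal.Quotient.mkₐ A P), AlgHom.ext fun x => ?_⟩
  obtain ⟨a, ha⟩ := hsurj (Ideal.Quotient.mk P x)
  have h1 : (AlgEquiv.ofBijective (Algebra.ofId A (S ⧸ P)) ⟨hinj, hsurj⟩).symm
      (Ideal.Quotient.mk P x) = a := by
    rw [AlgEquiv.symm_apply_eq]
    exact ha.symm
  show Ideal.Quotient.mk I ((AlgEquiv.ofBijective (Algebra.ofId A (S ⧸ P)) ⟨hinj, hsurj⟩).symm
    (Ideal.Quotient.mk P x)) = σ' (Ideal.Quotient.mk P x)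
  rw [h1, ← ha, σ'.commutes]
  rfl

end Groth.Agent.H9Hens
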