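import Groth.Agent.H06Unram.SmoothQF
import Groth.Agent.H17.NormalNormalization
import Groth.Agent.H18Et.EtaleNormalScheme
import Groth.Agent.H9Hens.BranchNormal
import Mathlib

/-!
# Separated étale schemes over an integral normal scheme with separably closed function field
-/

set_option linter.style.haveILetI false

universe u

open CategoryTheory CategoryTheory.Limits AlgebraicGeometry TopologicalSpace

namespace Groth.Agent.H9Hens.EtaleSepGeneric

variable {U X : Scheme.{u}} [IsIntegral X] [IsSepClosed X.functionField] (g : U ⟶ X) [Etale g]

include g in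
theorem eq_of_specializes {a b : U} (ha : g a = g b) (h : a ⤳ b) : a = b := by
  haveI : LocallyQuasiFinite g :=
    ((Groth.Agent.H06Unram.etale_iff_smooth_and_locallyQuasiFinite g).1 inferInstance).2
  haveI := (g.isDiscrete_preimage_singleton (g b)).to_subtype
  have hs : (⟨a, ha⟩ : g ⁻¹' {g b}) ⤳ ⟨b, rfl⟩ := (subtype_specializes_iff _ _).2 h
  exact congrArg Subtype.val (specializes_iff_eq.1 hs)

/-- Points over the generic point are the generic points. -/
theorem mem_genericPoints_iff (a : U) : a ∈ genericPoints U ↔ g a = genericPoint X := by
  constructor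
  · intro ha
    obtain ⟨b, hb, hgb⟩ := Flat.generalizingMap g (genericPoint_specializes (g a))
    rw [← H17.mem_genericPoints_iff.1 ha b hb]
    exact hgb
  · intro ha
    refine H17.mem_genericPoints_iff.2 fun b hb => eq_of_specializes g ?_ hb
    rw [ha]
    exact ((genericPoint_specializes (g b)).antisymm (ha ▸ hb.map g.continuous)).eq.symm

theorem isSepClosed_residueField : IsSepClosed (X.residueField (genericPoint X)) := by
  refine Groth.Agent.H9Hens.isSepClosed_of_ringEquiv (K := X.functionField)
    (RingEquiv.ofBijective (IsLocalRing.residue (X.presheaf.stalk (genericPoint X)))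
      ⟨?_, IsLocalRing.residue_surjective⟩)
  haveI : IsSimpleRing (X.presheaf.stalk (genericPoint X)) := inferInstanceAs (IsSimpleRing X.functionField)
  exact RingHom.injective (IsLocalRing.residue (X.presheaf.stalk (genericPoint X)))

theorem surjective_residueFieldMap (a : U) (ha : g a = genericPoint X) :
    Function.Surjective (g.residueFieldMap a).hom := by
  letI : Algebra (X.residueField (g a)) (U.residueField a) := (g.residueFieldMap a).hom.toAlgebra
  haveI : IsSepClosed (X.residueField (g a)) := ha.symm ▸ isSepClosed_residueField
  haveI : Algebra.IsSeparable (X.residueField (g a)) (U.residueField a) :=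
    inferInstanceAs (Algebra.IsSeparable (X.residueField (g.base a)) (U.residueField a))
  exact IsSepClosed.algebraMap_surjective _ _

/-- Two field valued points over the same point of the generic fibre agree. -/
theorem eq_of_comp_eq {K : Type u} [Field K] (a b : Spec (CommRingCat.of K) ⟶ U) (q : U)
    (hq : g q = genericPoint X) (haq : a (IsLocalRing.closedPoint K) = q)
    (hbq : b (IsLocalRing.closedPoint K) = q) (h : a ≫ g = b ≫ g) : a = b := by
  obtain ⟨φ, rfl⟩ : ∃ φ, Spec.map φ ≫ U.fromSpecResidueField q = a := by
    subst haq; exact ⟨_, Scheme.descResidueField_stalkClosedPointTo_fromSpecResidueField K U a⟩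
  obtain ⟨ψ, rfl⟩ : ∃ ψ, Spec.map ψ ≫ U.fromSpecResidueField q = b := by
    subst hbq; exact ⟨_, Scheme.descResidueField_stalkClosedPointTo_fromSpecResidueField K U b⟩
  rw [Category.assoc, Category.assoc, ← g.SpecMap_residueFieldMap_fromSpecResidueField, ← Category.assoc,
    ← Category.assoc, cancel_mono, ← Spec.map_comp, ← Spec.map_comp, Spec.map_inj] at h
  congr 2
  ext r
  obtain ⟨s, rfl⟩ := surjective_residueFieldMap g q hq r
  exact congrArg (fun f : _ ⟶ CommRingCat.of K => f.hom s) h

/-- An irreducible separated etale scheme over `X` maps by an open immersion. -/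
theorem isOpenImmersion_of_irreducible [IsSeparated g] [IrreducibleSpace U] : IsOpenImmersion g := by
  haveI : IsOpenImmersion (pullback.diagonal g) := inferInstance
  have hsurj : Surjective (pullback.diagonal g) := by
    refine ⟨fun y => ?_⟩
    by_contra hy
    let O : Set ↥(pullback g g) := (Set.range (pullback.diagonal g).base)ᶜ
    have hO : IsOpen O := (pullback.diagonal g).isClosedEmbedding.isClosed_range.isOpen_compl
    have himg : IsOpen ((pullback.fst g g).base '' O) := (pullback.fst g g).isOpenMap _ hO
    have hη : genericPoint U ∈ (pullback.fst g g).base '' O :=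
      ((genericPoint_spec U).mem_open_set_iff himg).mpr ⟨_, Set.mem_univ _, y, fun h => hy h, rfl⟩
    obtain ⟨z, hz, hz1⟩ := hη
    have hgen : g (genericPoint U) = genericPoint X :=
      (mem_genericPoints_iff g _).1 (H17.mem_genericPoints_iff.2 fun b hb =>
        (hb.antisymm (genericPoint_specializes b)).eq)
    have hz2 : (pullback.snd g g).base z = genericPoint U := by
      have h2 : g ((pullback.snd g g).base z) = genericPoint X := by
        rw [← hgen, ← hz1, ← Scheme.Hom.comp_apply, ← Scheme.Hom.comp_apply, pullback.condition]
      exact ((eq_of_specializes g (by rw [hgen, h2]) (genericPoint_specializes _))).symm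
    refine hz ?_
    let p : Spec (CommRingCat.of ((pullback g g).residueField z)) ⟶ pullback g g :=
      (pullback g g).fromSpecResidueField z
    have hp : p (IsLocalRing.closedPoint _) = z := Scheme.fromSpecResidueField_apply _ _
    have hab : p ≫ pullback.fst g g = p ≫ pullback.snd g g :=
      eq_of_comp_eq g _ _ (genericPoint U) hgen (by rw [Scheme.Hom.comp_apply, hp]; exact hz1)
        (by rw [Scheme.Hom.comp_apply, hp]; exact hz2) (by rw [Category.assoc, Category.assoc, pullback.condition])
    have : p = (p ≫ pullback.fst g g) ≫ pullback.diagonal g := by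
      refine pullback.hom_ext ?_ ?_
      · simp
      · simp [hab]
    exact ⟨(p ≫ pullback.fst g g) (IsLocalRing.closedPoint _), by rw [← Scheme.Hom.comp_apply, ← this, hp]⟩
  haveI : IsIso (pullback.diagonal g) := isIso_of_isOpenImmersion_of_opensRange_eq_top _
    (Opens.ext (by simpa using hsurj.surj.range_eq))
  haveI : Mono g := pullback.isIso_diagonal_iff g |>.mp inferInstance
  exact IsOpenImmersion.of_flat_of_mono g

end Groth.Agent.H9Hens.EtaleSepGeneric
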