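import Mathlib
import Groth.Agent.H9Hens.EtaleSplitNbhd

/-!
Etale neighbourhoods cutting out etale points by isomorphisms, and decompositions in the separated case.
-/

universe u

open CategoryTheory Limits AlgebraicGeometry TopologicalSpace

namespace Groth.Agent.H9Hens

variable {X S U : Scheme.{u}}

/-- Shrinking the base of an etale neighbourhood. -/
theorem exists_shrink (f : X ⟶ S) (g : U ⟶ S) (U' : U.Opens) :
    ∃ j : pullback f (U'.ι ≫ g) ⟶ pullback f g,
      IsPullback j (pullback.snd f (U'.ι ≫ g)) (pullback.snd f g) U'.ι ∧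
      j ≫ pullback.fst f g = pullback.fst f (U'.ι ≫ g) ∧ IsOpenImmersion j ∧
      ∀ (V : (pullback f g).Opens) (P : MorphismProperty Scheme.{u}) [P.IsStableUnderBaseChange],
        P (V.ι ≫ pullback.snd f g) → P ((j ⁻¹ᵁ V).ι ≫ pullback.snd f (U'.ι ≫ g)) := by
  let j : pullback f (U'.ι ≫ g) ⟶ pullback f g :=
    pullback.lift (pullback.fst _ _) (pullback.snd _ _ ≫ U'.ι)
      (by rw [Category.assoc, pullback.condition])
  have hj : IsPullback j (pullback.snd f (U'.ι ≫ g)) (pullback.snd f g) U'.ι := by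
    refine .of_right ?_ (pullback.lift_snd _ _ _) (IsPullback.of_hasPullback f g)
    rw [show j ≫ pullback.fst f g = pullback.fst _ _ from pullback.lift_fst _ _ _]
    exact IsPullback.of_hasPullback f (U'.ι ≫ g)
  refine ⟨j, hj, pullback.lift_fst _ _ _, MorphismProperty.of_isPullback hj.flip inferInstance,
    fun V P _ hV => ?_⟩
  exact MorphismProperty.of_isPullback ((isPullback_morphismRestrict j V).paste_vert hj) hV

/-- The etale points over `s` are cut out by isomorphisms over an etale neighbourhood. -/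
theorem exists_iso_charts (f : X ⟶ S) (s : S) {ι : Type} [Finite ι] (x : ι → X)
    (hs : ∀ i, f (x i) = s) (hx : ∀ i, ∃ W : X.Opens, x i ∈ W ∧ Etale (W.ι ≫ f)) :
    ∃ (U : Scheme.{u}) (g : U ⟶ S) (u : U), Etale g ∧ g u = s ∧
      {v : ↑(pullback f g) | pullback.snd f g v = u ∧ ∃ i, pullback.fst f g v = x i}.Finite ∧
      ∀ v : ↑(pullback f g), pullback.snd f g v = u → (∃ i, pullback.fst f g v = x i) →
        ∃ V : (pullback f g).Opens, v ∈ V ∧ IsIso (V.ι ≫ pullback.snd f g) := by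
  obtain ⟨U, g, u, hg, hu, hfin, hV⟩ := exists_charts f s x hs (fun i => by
    obtain ⟨W, hW, hEt⟩ := hx i
    exact ⟨W, hW, inferInstance, inferInstance⟩)
  choose W hxW hWet using hx
  let K := {v : ↑(pullback f g) // pullback.snd f g v = u ∧ ∃ i, pullback.fst f g v = x i}
  have : Finite K := hfin.to_subtype
  choose V hvV hVc using fun k : K => hV k.1 k.2.1 k.2.2
  choose idx hidx using fun k : K => k.2.2
  let E : K → (pullback f g).Opens := fun k => V k ⊓ pullback.fst f g ⁻¹ᵁ W (idx k)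
  have hkE : ∀ k : K, k.1 ∈ E k := fun k =>
    ⟨hvV k, (congrArg (· ∈ W (idx k)) (hidx k)).mpr (hxW _)⟩
  have hE : ∀ k, Etale ((E k).ι ≫ pullback.snd f g) := fun k => by
    have hsq := ((isPullback_morphismRestrict (pullback.fst f g) (W (idx k))).flip.paste_horiz
      (IsPullback.of_hasPullback f g).flip).flip
    have : Etale ((pullback.fst f g ⁻¹ᵁ W (idx k)).ι ≫ pullback.snd f g) :=
      MorphismProperty.of_isPullback hsq (hWet (idx k))
    rw [← (pullback f g).homOfLE_ι (inf_le_right : E k ≤ _), Category.assoc]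
    infer_instance
  let U' : U.Opens := ⟨⋂ k, Set.range ((E k).ι ≫ pullback.snd f g),
    isOpen_iInter_of_finite fun k =>
      have := hE k
      ((E k).ι ≫ pullback.snd f g).isOpenMap.isOpen_range⟩
  have huU' : u ∈ U' := Set.mem_iInter.mpr fun k => ⟨⟨k.1, hkE k⟩, k.2.1⟩
  obtain ⟨j, hj, hjfst, hjo, hjP⟩ := exists_shrink f g U'
  have hjsnd : ∀ w, pullback.snd f g (j w) = U'.ι (pullback.snd f (U'.ι ≫ g) w) := fun w => by
    rw [← Scheme.Hom.comp_apply, hj.w, Scheme.Hom.comp_apply]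
  have hinj : ∀ k, ∀ a ∈ V k, ∀ b ∈ V k, pullback.snd f g a = pullback.snd f g b → a = b :=
    fun k a ha b hb h => by
    have := hVc k
    exact congrArg Subtype.val (((V k).ι ≫ pullback.snd f g).isClosedEmbedding.injective
      (a₁ := ⟨a, ha⟩) (a₂ := ⟨b, hb⟩) h)
  have hVE : ∀ k, j ⁻¹ᵁ V k = j ⁻¹ᵁ E k := fun k => by
    refine le_antisymm (fun w hw => ?_) fun w hw => hw.1
    obtain ⟨⟨z, hz⟩, hzw⟩ := Set.mem_iInter.mp (pullback.snd f (U'.ι ≫ g) w).2 k
    have : j w = z := hinj k _ hw _ hz.1 ((hjsnd w).trans hzw.symm)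
    show j w ∈ E k
    rw [this]; exact hz
  have hiso : ∀ k, IsIso ((j ⁻¹ᵁ V k).ι ≫ pullback.snd f (U'.ι ≫ g)) := fun k => by
    have h1 := hjP (V k) @IsClosedImmersion (hVc k)
    have h2 : Etale ((j ⁻¹ᵁ V k).ι ≫ pullback.snd f (U'.ι ≫ g)) := by
      rw [hVE k]; exact hjP (E k) @Etale (hE k)
    have h3 : Surjective ((j ⁻¹ᵁ V k).ι ≫ pullback.snd f (U'.ι ≫ g)) := ⟨fun a => by
      obtain ⟨⟨z, hz⟩, hza⟩ := Set.mem_iInter.mp a.2 k
      obtain ⟨w, hw1, hw2⟩ := Scheme.exists_preimage_of_isPullback hj z a hza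
      exact ⟨⟨w, show j w ∈ V k by rw [hw1]; exact hz.1⟩, hw2⟩⟩
    exact Flat.isIso_of_surjective_of_mono _
  refine ⟨U', U'.ι ≫ g, ⟨u, huU'⟩, inferInstance, hu, ?_, fun w hw ⟨i, hi⟩ => ?_⟩
  · refine (hfin.preimage j.isOpenEmbedding.injective.injOn).subset ?_
    rintro w ⟨hw, i, hi⟩
    refine ⟨by rw [hjsnd, hw]; rfl, i, ?_⟩
    rw [← Scheme.Hom.comp_apply, hjfst, hi]
  · let k : K := ⟨j w, by rw [hjsnd, hw]; rfl, i, by rw [← Scheme.Hom.comp_apply, hjfst, hi]⟩
    exact ⟨j ⁻¹ᵁ V k, hvV k, hiso k⟩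

/-- In the separated case the charts can be made a decomposition. -/
theorem exists_decomposition (f : X ⟶ S) [IsSeparated f] (g : U ⟶ S) (u : U) {ι : Type} (x : ι → X)
    (hfin : {v : ↑(pullback f g) | pullback.snd f g v = u ∧ ∃ i, pullback.fst f g v = x i}.Finite)
    (P : MorphismProperty Scheme.{u}) [P.IsStableUnderBaseChange]
    (hP : ∀ {A B : Scheme.{u}} (a : A ⟶ B), P a → IsClosedImmersion a)
    (hV : ∀ v : ↑(pullback f g), pullback.snd f g v = u → (∃ i, pullback.fst f g v = x i) →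
        ∃ V : (pullback f g).Opens, v ∈ V ∧ P (V.ι ≫ pullback.snd f g)) :
    ∃ (U' : U.Opens) (hu : u ∈ U') (K : Type) (_ : Finite K) (W : (pullback f (U'.ι ≫ g)).Opens)
      (V : K → (pullback f (U'.ι ≫ g)).Opens),
        W ⊔ (⨆ k, V k) = ⊤ ∧ (∀ k, Disjoint W (V k)) ∧ (∀ k k', k ≠ k' → Disjoint (V k) (V k')) ∧
        (∀ k, P ((V k).ι ≫ pullback.snd f (U'.ι ≫ g)) ∧
          ∃ w : ↑(pullback f (U'.ι ≫ g)), w ∈ V k ∧ pullback.snd f (U'.ι ≫ g) w = ⟨u, hu⟩) ∧
        (∀ (w : ↑(pullback f (U'.ι ≫ g))) (i : ι), w ∈ W →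
          pullback.snd f (U'.ι ≫ g) w = ⟨u, hu⟩ → pullback.fst f (U'.ι ≫ g) w ≠ x i) := by
  classical
  have := hfin.to_subtype
  obtain ⟨n, ⟨e⟩⟩ := Finite.exists_equiv_fin
    {v : ↑(pullback f g) | pullback.snd f g v = u ∧ ∃ i, pullback.fst f g v = x i}
  let pt : Fin n → ↑(pullback f g) := fun k => (e.symm k).1
  have hptu : ∀ k, pullback.snd f g (pt k) = u := fun k => (e.symm k).2.1
  choose V hptV hVP using fun k => hV (pt k) (hptu k) (e.symm k).2.2
  have hVc : ∀ k, IsClosedImmersion ((V k).ι ≫ pullback.snd f g) := fun k => hP _ (hVP k)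
  have hVcl : ∀ k, IsClosed (V k : Set ↑(pullback f g)) := fun k => by
    have := hVc k
    have h : IsClosedImmersion (V k).ι := IsClosedImmersion.of_comp _ (pullback.snd f g)
    have h2 := (V k).ι.isClosedEmbedding.isClosed_range
    rwa [Scheme.Opens.range_ι] at h2
  let B : Set U := ⋃ k, ⋃ k', ⋃ (_ : k ≠ k'), pullback.snd f g '' ((V k : Set _) ∩ V k')
  have hB : IsClosed B := isClosed_iUnion_of_finite fun k => isClosed_iUnion_of_finite fun k' =>
    isClosed_iUnion_of_finite fun _ => by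
    have := hVc k
    rw [show pullback.snd f g '' ((V k : Set _) ∩ V k') =
      ((V k).ι ≫ pullback.snd f g) '' ((V k).ι ⁻¹' (V k' : Set _)) by
        rw [Scheme.Hom.comp_base, TopCat.coe_comp, Set.image_comp, Set.image_preimage_eq_range_inter,
          Scheme.Opens.range_ι]]
    exact ((V k).ι ≫ pullback.snd f g).isClosedMap _ ((hVcl k').preimage (V k).ι.continuous)
  have huB : u ∉ B := by
    simp only [B, Set.mem_iUnion, not_exists]
    rintro k k' hne ⟨z, ⟨hzk, hzk'⟩, hzu⟩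
    have := hVc k
    have := hVc k'
    have h1 : z = pt k := congrArg Subtype.val (((V k).ι ≫ pullback.snd f g).isClosedEmbedding.injective
      (a₁ := ⟨z, hzk⟩) (a₂ := ⟨pt k, hptV k⟩) (hzu.trans (hptu k).symm))
    have h2 : z = pt k' := congrArg Subtype.val (((V k').ι ≫ pullback.snd f g).isClosedEmbedding.injective
      (a₁ := ⟨z, hzk'⟩) (a₂ := ⟨pt k', hptV k'⟩) (hzu.trans (hptu k').symm))
    exact hne (e.symm.injective (Subtype.ext (h1.symm.trans h2)))
  let U' : U.Opens := ⟨Bᶜ, hB.isOpen_compl⟩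
  obtain ⟨j, hj, hjfst, hjo, hjP⟩ := exists_shrink f g U'
  have hjsnd : ∀ w, pullback.snd f g (j w) = U'.ι (pullback.snd f (U'.ι ≫ g) w) := fun w => by
    rw [← Scheme.Hom.comp_apply, hj.w, Scheme.Hom.comp_apply]
  let V' : Fin n → (pullback f (U'.ι ≫ g)).Opens := fun k => j ⁻¹ᵁ V k
  let W : (pullback f (U'.ι ≫ g)).Opens := ⟨(⋃ k, (V' k : Set _))ᶜ,
    (isClosed_iUnion_of_finite (s := fun k => (V' k : Set ↑(pullback f (U'.ι ≫ g))))
      fun k => (hVcl k).preimage j.continuous).isOpen_compl⟩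
  refine ⟨U', huB, Fin n, inferInstance, W, V', ?_, fun k => ?_, fun k k' hne => ?_, fun k => ⟨hjP _ P (hVP k), ?_⟩, ?_⟩
  · refine top_le_iff.mp fun w _ => ?_
    by_cases h : w ∈ W
    · exact (le_sup_left (b := ⨆ k, V' k)) h
    · obtain ⟨k, hk⟩ := Set.mem_iUnion.mp (not_not.mp h)
      exact (le_sup_right (a := W)) ((le_iSup V' k) hk)
  · rw [disjoint_iff]
    ext w
    simp only [Opens.coe_inf, Set.mem_inter_iff, Opens.coe_bot, Set.mem_empty_iff_false, iff_false,
      not_and]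
    intro hw hk
    exact hw (Set.mem_iUnion.mpr ⟨k, hk⟩)
  · rw [disjoint_iff]
    ext w
    simp only [Opens.coe_inf, Set.mem_inter_iff, Opens.coe_bot, Set.mem_empty_iff_false, iff_false,
      not_and]
    intro hk hk'
    refine (pullback.snd f (U'.ι ≫ g) w).2 ?_
    exact Set.mem_iUnion.mpr ⟨k, Set.mem_iUnion.mpr ⟨k', Set.mem_iUnion.mpr ⟨hne,
      j w, ⟨hk, hk'⟩, hjsnd w⟩⟩⟩
  · obtain ⟨w, hw1, hw2⟩ := Scheme.exists_preimage_of_isPullback hj (pt k) ⟨u, huB⟩ (hptu k)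
    exact ⟨w, show j w ∈ V k by rw [hw1]; exact hptV k, hw2⟩
  · intro w i hw hwu hwi
    refine hw (Set.mem_iUnion.mpr ⟨e ⟨j w, ?_, i, ?_⟩, ?_⟩)
    · rw [hjsnd, hwu]; rfl
    · rw [← Scheme.Hom.comp_apply, hjfst, hwi]
    · show j w ∈ V _
      refine (congrArg (· ∈ V _) ?_).mpr (hptV _)
      simp [pt]

end Groth.Agent.H9Hens
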