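import Groth.Agent.H9Hens.BranchCompletion
import Groth.Agent.H02CA.GeomIrred

/-!
# Formal fibres of henselian rings with geometrically normal formal fibres are geometrically integral
-/

set_option linter.style.haveILetI false

universe u

open IsLocalRing TensorProduct Groth.Agent Groth.Agent.H05EGA4

namespace Groth.Agent.H9Hens

/-- The base change of the completion to a finite extension of a residue field is a domain. -/
theorem isDomain_tensor_cpl {A : Type u} [CommRing A] [IsNoetherianRing A] [HenselianLocalRing A]
    (h : GRSHom 1 2 A (EGA4.Cpl A)) (p : Ideal A) [p.IsPrime] (L : Type u) [Field L] [Algebra A L]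
    [Algebra p.ResidueField L] [IsScalarTower A p.ResidueField L] [FiniteDimensional p.ResidueField L] :
    IsDomain (L ⊗[A] EGA4.Cpl A) := by
  haveI := isNoetherianRing_cpl A
  haveI := henselianLocalRing_cpl A
  haveI := isLocalHom_cpl A
  haveI := faithfullyFlat_cpl A
  let Q := A ⧸ p
  let K := FractionRing Q
  let eK : K ≃ₐ[Q] p.ResidueField := FractionRing.algEquiv Q p.ResidueField
  let : Algebra K L := ((algebraMap p.ResidueField L).comp eK.toRingHom).toAlgebra
  let : Algebra Q L := ((algebraMap K L).comp (algebraMap Q K)).toAlgebra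
  haveI : IsScalarTower Q K L := IsScalarTower.of_algebraMap_eq fun _ => rfl
  haveI : IsScalarTower A Q L := IsScalarTower.of_algebraMap_eq fun a => by
    show _ = algebraMap p.ResidueField L (eK (algebraMap Q K (Ideal.Quotient.mk p a)))
    rw [eK.commutes, IsScalarTower.algebraMap_apply A p.ResidueField L]
    rfl
  haveI : FiniteDimensional K L := by
    let : Algebra K p.ResidueField := eK.toRingHom.toAlgebra
    haveI : IsScalarTower K p.ResidueField L := IsScalarTower.of_algebraMap_eq fun _ => rfl
    haveI : Module.Finite K p.ResidueField :=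
      Module.Finite.of_surjective (Algebra.linearMap _ _) eK.surjective
    exact Module.Finite.trans p.ResidueField L
  haveI : IsLocalRing Q := IsLocalRing.of_surjective' _ Ideal.Quotient.mk_surjective
  have h' := (grsHom_zero_one_of_one_two h).cpl_quotient p
  let D := integralClosure Q L
  haveI : Module.Finite Q D := finite_integralClosure_of_geomReduced h' L
  haveI : Module.Finite A D := Module.Finite.trans Q D
  haveI : IsFractionRing D L := integralClosure.isFractionRing_of_finite_extension K L
  haveI : IsIntegrallyClosed D := integralClosure.isIntegrallyClosedOfFiniteExtension K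
  haveI : IsNoetherianRing D := IsNoetherianRing.of_finite A D
  have hD : RS 1 2 D := isNormalRing_iff_rs.mp fun q _ => ⟨inferInstance,
    isIntegrallyClosed_of_isLocalization _ q.primeCompl q.primeCompl_le_nonZeroDivisors⟩
  let C := EGA4.Cpl A
  haveI : IsNoetherianRing (D ⊗[A] C) := H02CA.isNoetherianRing_tensor_of_essFiniteType _ _ _
  let X := C ⊗[A] D
  let eX := (Algebra.TensorProduct.comm A D C).toRingEquiv
  haveI : IsNoetherianRing X := isNoetherianRing_of_ringEquiv (D ⊗[A] C) eX
  have hX : RS 1 2 X := ((h.baseChange (A' := D) (.inl inferInstance)).rs hD).of_ringEquiv eX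
  haveI : Algebra.IsIntegral A D := Algebra.IsIntegral.of_finite A D
  obtain ⟨eM⟩ := nonempty_maximalSpectrum_tensor_equiv (A := A) (H := C) D (residue_trivial_cpl A)
  haveI : Subsingleton (MaximalSpectrum D) := ⟨fun M N => MaximalSpectrum.ext
    (@maximal_eq_of_prime_le_of_isIntegral A _ _ D _ _ _ ⊥ Ideal.isPrime_bot _ _ M.isMaximal N.isMaximal
      bot_le bot_le)⟩
  haveI : Subsingleton (MaximalSpectrum X) := eM.subsingleton
  obtain ⟨M0, hM0⟩ := Ideal.exists_maximal D
  let M : MaximalSpectrum X := eM.symm ⟨M0, hM0⟩
  haveI : IsLocalRing X := IsLocalRing.of_unique_max_ideal ⟨M.asIdeal, M.isMaximal,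
    fun J hJ => congrArg MaximalSpectrum.asIdeal (Subsingleton.elim ⟨J, hJ⟩ M)⟩
  haveI : IsDomain X := by
    have := (isNormalRing_iff_rs.mpr hX (maximalIdeal X)).1
    exact (IsLocalization.atUnits X (maximalIdeal X).primeCompl
      (S := Localization.AtPrime (maximalIdeal X))
      fun z hz => notMem_maximalIdeal.mp hz).toMulEquiv.isDomain
  let : Algebra (C ⊗[A] D) (C ⊗[A] L) :=
    (Algebra.TensorProduct.map (AlgHom.id C C) (IsScalarTower.toAlgHom A D L)).toRingHom.toAlgebra
  haveI : IsScalarTower C (C ⊗[A] D) (C ⊗[A] L) := IsScalarTower.of_algebraMap_eq fun c =>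
    ((Algebra.TensorProduct.map (AlgHom.id C C) (IsScalarTower.toAlgHom A D L)).commutes c).symm
  haveI := IsLocalization.tensorProduct_tensorProduct_right A C (nonZeroDivisors D) L (by
    refine RingHom.ext fun w => ?_
    exact Algebra.TensorProduct.map_tmul _ _ _ _)
  have hle : (nonZeroDivisors D).map (Algebra.TensorProduct.includeRight (R := A) (A := C)) ≤
      nonZeroDivisors (C ⊗[A] D) := by
    rintro _ ⟨d, hd, rfl⟩
    refine mem_nonZeroDivisors_of_ne_zero fun h0 => nonZeroDivisors.ne_zero hd ?_
    exact (Module.FaithfullyFlat.tensorProduct_mk_injective (A := A) (B := C) D)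
      (h0.trans (map_zero (Algebra.TensorProduct.includeRight (R := A) (A := C) (B := D))).symm)
  haveI : IsDomain (C ⊗[A] L) := IsLocalization.isDomain_of_le_nonZeroDivisors _ hle
  exact (Algebra.TensorProduct.comm A L C).toMulEquiv.isDomain

/-- Geometric integrality of formal fibres. -/
theorem isDomain_tensor_formalFibre {A : Type u} [CommRing A] [IsNoetherianRing A] [HenselianLocalRing A]
    (h : GRSHom 1 2 A (EGA4.Cpl A)) (p : Ideal A) [p.IsPrime] (K : Type u) [Field K] [Algebra p.ResidueField K] :
    IsDomain (K ⊗[p.ResidueField] (p.Fiber (EGA4.Cpl A))) := by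
  let κ := p.ResidueField
  refine H02CA.GeomIrred.isDomain_of_algClosure (k := κ) (R := p.Fiber (EGA4.Cpl A)) ?_ K
  refine H02CA.GeomIrred.isDomain_of_finite_subextensions fun L hL => ?_
  let : Algebra A L := ((algebraMap κ L).comp (algebraMap A κ)).toAlgebra
  haveI : IsScalarTower A κ L := IsScalarTower.of_algebraMap_eq fun _ => rfl
  haveI := isDomain_tensor_cpl h p L
  exact (Algebra.TensorProduct.cancelBaseChange A κ L L (EGA4.Cpl A)).toMulEquiv.isDomain

end Groth.Agent.H9Hens
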