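import Groth.Prelude.Def_EGA4b
import Groth.Agent.H05EGA4.Completion
import Groth.Agent.H24Adic.HensQuotCompletion
import Groth.Agent.H9Hens.CatenaryColim
import Groth.Agent.H9Hens.PtReduced
import Groth.Agent.H9Hens.LocalHens
import Groth.Agent.S0510
import Groth.Agent.S0511

/-!
# Formally strictly catenary rings and henselization
-/

universe u

open IsLocalRing TensorProduct

namespace Groth.Agent.H9Hens

/-- Strict equidimensionality passes to quotients by annihilators. -/
theorem isStrictlyEquidim_of_colon {C E : Type u} [CommRing C] [IsNoetherianRing C] [CommRing E]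
    (hC : EGA4.IsStrictlyEquidim C) (g : C →+* E) (hg : Function.Surjective g) (x : C)
    (hx : ∀ c, g c = 0 ↔ c * x = 0) : EGA4.IsStrictlyEquidim E := by
  have : IsNoetherianRing E := isNoetherianRing_of_surjective C E g hg
  intro Q hQ
  obtain ⟨hQp, e, hQe⟩ := isAssociatedPrime_iff.mp hQ
  obtain ⟨c, rfl⟩ := hg e
  have hP : Q.comap g ∈ associatedPrimes C C := by
    refine isAssociatedPrime_iff.mpr ⟨Ideal.IsPrime.comap g, c * x, ?_⟩
    ext r
    rw [Ideal.mem_comap, hQe, Submodule.mem_colon_singleton, Submodule.mem_bot, Submodule.mem_colon_singleton,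
      Submodule.mem_bot, smul_eq_mul, smul_eq_mul, ← map_mul, hx, mul_assoc]
  refine le_antisymm (ringKrullDim_le_of_surjective _ Ideal.Quotient.mk_surjective) ?_
  refine (ringKrullDim_le_of_surjective g hg).trans ?_
  rw [← hC _ hP]
  exact le_of_eq (ringKrullDim_eq_of_ringEquiv ((Ideal.quotEquivOfEq (by
    rw [← RingHom.comap_ker, Ideal.mk_ker])).trans
    (RingHom.quotientKerEquivOfSurjective (f := (Ideal.Quotient.mk Q).comp g)
      (Ideal.Quotient.mk_surjective.comp hg))))

theorem isStrictlyEquidim_of_ringEquiv {C E : Type u} [CommRing C] [IsNoetherianRing C] [CommRing E]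
    (e : C ≃+* E) (hC : EGA4.IsStrictlyEquidim C) : EGA4.IsStrictlyEquidim E :=
  isStrictlyEquidim_of_colon hC e.toRingHom e.surjective 1 fun c => by simp

/-- Components of the henselization of a formally strictly equidimensional domain. -/
theorem isStrictlyEquidim_completion_component (R S : Type u) [CommRing R] [IsDomain R] [IsLocalRing R]
    [IsNoetherianRing R] [CommRing S] [IsLocalRing S] [Algebra R S] [IsLocalHom (algebraMap R S)]
    [Hensel.IsHenselization R S] (hR : EGA4.IsStrictlyEquidim (AdicCompletion (maximalIdeal R) R))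
    (T : Type u) [CommRing T] [IsLocalRing T] (f : S →+* T) (hf : Function.Surjective f)
    [(RingHom.ker f).IsPrime] (hq : (RingHom.ker f).comap (algebraMap R S) = ⊥) :
    EGA4.IsStrictlyEquidim (AdicCompletion (maximalIdeal T) T) := by
  have hSn : IsNoetherianRing S := (S0511.result R S).mp inferInstance
  obtain ⟨π, hπ⟩ := exists_isPtColim_of_isHenselization (R := R) S
  have hm : (maximalIdeal R).map (algebraMap R S) = maximalIdeal S :=
    hπ.map_maximalIdeal ker_algebraMap_residueField
  -- the completions agree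
  have hg : ∀ n, Function.Bijective (Ideal.quotientMapₐ _ (Algebra.ofId R S)
      (H24Adic.map_pow_le_comap (maximalIdeal R) (Algebra.ofId R S) n)) := fun n => by
    obtain ⟨hi, hs⟩ := S0510.result R S n
    refine ⟨(injective_iff_map_eq_zero _).mpr fun z hz => ?_, fun z => ?_⟩
    · obtain ⟨r, rfl⟩ := Ideal.Quotient.mk_surjective z
      rw [Ideal.quotient_map_mkₐ, Ideal.Quotient.mkₐ_eq_mk, Ideal.Quotient.eq_zero_iff_mem] at hz
      rw [← Ideal.map_pow] at hz
      rw [Ideal.Quotient.eq_zero_iff_mem, Algebra.algebraMap_self, Ideal.map_id]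
      refine Ideal.Quotient.eq_zero_iff_mem.mp ((injective_iff_map_eq_zero _).mp hi (Ideal.Quotient.mk _ r) ?_)
      rw [Ideal.quotientMap_mk, Ideal.Quotient.eq_zero_iff_mem]
      exact hz
    · obtain ⟨s, rfl⟩ := Ideal.Quotient.mk_surjective z
      obtain ⟨y, hy⟩ := hs (Ideal.Quotient.mk _ s)
      obtain ⟨r, rfl⟩ := Ideal.Quotient.mk_surjective y
      refine ⟨Ideal.Quotient.mk _ r, ?_⟩
      rw [Ideal.quotientMap_mk, Ideal.Quotient.eq] at hy
      rw [Ideal.quotient_map_mkₐ, Ideal.Quotient.mkₐ_eq_mk, Ideal.Quotient.eq, ← Ideal.map_pow]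
      exact hy
  obtain ⟨ec⟩ := H24Adic.nonempty_algEquiv_adicCompletion (maximalIdeal R) (Algebra.ofId R S) hg
  rw [Algebra.algebraMap_self, Ideal.map_id, hm] at ec
  let C := AdicCompletion (maximalIdeal S) S
  have : IsNoetherianRing C := H05EGA4.isNoetherianRing_adicCompletion S (maximalIdeal S)
  have : IsNoetherianRing (AdicCompletion (maximalIdeal R) R) :=
    H05EGA4.isNoetherianRing_adicCompletion R (maximalIdeal R)
  have hC : EGA4.IsStrictlyEquidim C := isStrictlyEquidim_of_ringEquiv ec.toRingEquiv hR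
  -- the prime is the annihilator of an element
  have hred : IsReduced S := by
    rw [← nilradical_eq_bot_iff, hπ.nilradical_eq, nilradical_eq_zero, Ideal.zero_eq_bot, Ideal.map_bot]
  have hmin : RingHom.ker f ∈ (Module.annihilator S S).minimalPrimes := by
    rw [show Module.annihilator S S = ⊥ by
      ext s; simp only [Module.mem_annihilator, Submodule.mem_bot, smul_eq_mul]
      exact ⟨fun h => by simpa using h 1, fun h m => by rw [h, zero_mul]⟩]
    refine ⟨⟨inferInstance, bot_le⟩, fun P hP hle => ?_⟩
    have := hP.1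
    refine (hπ.eq_of_le_of_comap_eq hle (le_antisymm (Ideal.comap_mono hle) ?_)).ge
    rw [hq]
    exact bot_le
  obtain ⟨-, x, hx⟩ := isAssociatedPrime_iff.mp
    (Module.associatedPrimes.minimalPrimes_annihilator_subset_associatedPrimes S S hmin)
  have hxs : ∀ s, s ∈ RingHom.ker f ↔ s * x = 0 := fun s => by
    rw [hx, Submodule.mem_colon_singleton, Submodule.mem_bot, smul_eq_mul]
  obtain ⟨e⟩ := H05EGA4.exists_completion_quotient_equiv (maximalIdeal S) T f hf (maximalIdeal T)
    (IsLocalRing.map_maximalIdeal_of_surjective f hf)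
  refine isStrictlyEquidim_of_colon hC (e.toRingHom.comp (Ideal.Quotient.mk _))
    (e.surjective.comp Ideal.Quotient.mk_surjective) (algebraMap S C x) fun c => ?_
  rw [RingHom.comp_apply]
  show e (Ideal.Quotient.mk _ c) = 0 ↔ _
  rw [map_eq_zero_iff e e.injective, Ideal.Quotient.eq_zero_iff_mem]
  constructor
  · intro hc
    refine Submodule.span_induction ?_ ?_ ?_ ?_ hc
    · rintro _ ⟨s, hs, rfl⟩
      rw [← map_mul, (hxs s).mp hs, map_zero]
    · exact zero_mul _
    · intro a b _ _ ha hb; rw [add_mul, ha, hb, add_zero]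
    · intro a b _ hb; rw [smul_eq_mul, mul_assoc, hb, mul_zero]
  · intro hc
    have : Module.Flat S C := inferInstance
    have hex : Function.Exact (Submodule.subtype (RingHom.ker f)) (LinearMap.mulRight S x) := fun s => by
      rw [LinearMap.mulRight_apply, ← hxs]
      exact ⟨fun h => ⟨⟨s, h⟩, rfl⟩, fun ⟨⟨_, h⟩, e⟩ => e ▸ h⟩
    obtain ⟨t, ht⟩ := ((Module.Flat.lTensor_exact C hex) (c ⊗ₜ 1)).mp (by
      rw [LinearMap.lTensor_tmul, LinearMap.mulRight_apply, one_mul]
      apply (TensorProduct.rid S C).injective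
      rw [map_zero, TensorProduct.rid_tmul, Algebra.smul_def, mul_comm]
      exact hc)
    have hc' : c = TensorProduct.rid S C ((Submodule.subtype (RingHom.ker f)).lTensor C t) := by rw [ht]; simp
    rw [hc']
    clear ht hc'
    induction t using TensorProduct.induction_on with
    | zero => simp
    | add a b ha hb => rw [map_add, map_add]; exact add_mem ha hb
    | tmul b a =>
      rw [LinearMap.lTensor_tmul, TensorProduct.rid_tmul, Algebra.smul_def]
      exact Ideal.mul_mem_right _ _ (Ideal.mem_map_of_mem _ a.2)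

end Groth.Agent.H9Hens
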