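import Groth.Agent.H9Hens.Glue
import Groth.Agent.H9Hens.Milnor
import Mathlib.RingTheory.Flat.Stability
import Mathlib.RingTheory.TensorProduct.Quotient

/-!
# Flat maps inducing isomorphisms modulo an ideal
-/

set_option autoImplicit false

universe u

open TensorProduct

namespace Groth.Agent.H9Hens.Glue

variable {R S : Type u} [CommRing R] [CommRing S] [Algebra R S]

theorem tmul_mk_one_eq_zero_of_mem {J : Ideal R} {s : S} (hs : s ∈ J.map (algebraMap R S)) :
    s ⊗ₜ[R] (1 : R ⧸ J) = 0 := by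
  have hs' : s ∈ J • (⊤ : Submodule R S) := by rwa [Ideal.smul_top_eq_map]
  refine Submodule.smul_induction_on hs' (fun j hj y _ => ?_) (fun a b ha hb => by
    rw [TensorProduct.add_tmul, ha, hb, add_zero])
  rw [TensorProduct.smul_tmul, Algebra.smul_def, Ideal.Quotient.algebraMap_eq,
    Ideal.Quotient.eq_zero_iff_mem.mpr hj, zero_mul, TensorProduct.tmul_zero]

theorem mem_map_of_tmul_mk_one_eq_zero {J : Ideal R} {s : S} (h : s ⊗ₜ[R] (1 : R ⧸ J) = 0) :
    s ∈ J.map (algebraMap R S) := by
  have h' : (1 : R ⧸ J) ⊗ₜ[R] s = 0 := by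
    rw [← TensorProduct.comm_tmul, h, map_zero]
  rw [Milnor.one_tmul_eq_zero_iff Ideal.Quotient.mk_surjective, show
    RingHom.ker (algebraMap R (R ⧸ J)) = J from Ideal.mk_ker, Ideal.smul_top_eq_map] at h'
  exact h'

variable [Module.Flat R S] {I : Ideal R}

theorem cong_pow (hq : Cong S I) : ∀ n, Cong S (I ^ n) := by
  intro n
  induction n with
  | zero => rw [pow_zero, Ideal.one_eq_top]; exact cong_top
  | succ n ih =>
    refine ⟨fun x => ?_, fun r hr => ?_⟩
    · obtain ⟨r, hr⟩ := ih.exists_sub x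
      have hr' : x - algebraMap R S r ∈ (I ^ n) • (⊤ : Submodule R S) := by rwa [Ideal.smul_top_eq_map]
      suffices ∀ z ∈ (I ^ n) • (⊤ : Submodule R S), ∃ a : R,
          z - algebraMap R S a ∈ (I ^ (n + 1)).map (algebraMap R S) by
        obtain ⟨a, ha⟩ := this _ hr'
        exact ⟨r + a, by rwa [map_add, ← sub_sub]⟩
      intro z hz
      refine Submodule.smul_induction_on hz (fun j hj y _ => ?_) (fun a b ha hb => ?_)
      · obtain ⟨c, hc⟩ := hq.exists_sub y
        refine ⟨j * c, ?_⟩
        rw [Algebra.smul_def, map_mul, ← mul_sub, pow_succ, Ideal.map_mul]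
        exact Ideal.mul_mem_mul (Ideal.mem_map_of_mem _ hj) hc
      · obtain ⟨p, hp⟩ := ha
        obtain ⟨q, hq'⟩ := hb
        exact ⟨p + q, by rw [map_add, add_sub_add_comm]; exact add_mem hp hq'⟩
    · have hrn : r ∈ I ^ n := ih.mem r (Ideal.map_mono (Ideal.pow_le_pow_right n.le_succ) hr)
      let W : Submodule R (R ⧸ I ^ (n + 1)) := (I ^ n) • ⊤
      have hxW : Ideal.Quotient.mk (I ^ (n + 1)) r ∈ W := by
        have := Submodule.smul_mem_smul (I := I ^ n) hrn (Submodule.mem_top (x := (1 : R ⧸ I ^ (n + 1))))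
        rwa [Algebra.smul_def, mul_one] at this
      have hI : ∀ w ∈ W, ∀ i ∈ I, i • w = 0 := fun w hw i hi => by
        refine Submodule.smul_induction_on hw (fun j hj y _ => ?_) (fun a b ha hb => by
          rw [smul_add, ha, hb, add_zero])
        rw [smul_smul, Algebra.smul_def, Ideal.Quotient.algebraMap_eq,
          Ideal.Quotient.eq_zero_iff_mem.mpr (by
            rw [pow_succ, mul_comm (I ^ n)]; exact Ideal.mul_mem_mul hi hj), zero_mul]
      have hbij : Function.Bijective (TensorProduct.mk R S W 1) :=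
        bijective_mk_of_killed (fun _ => I) antitone_const (fun _ => hq)
          fun w => ⟨0, fun i hi => Subtype.ext (hI w.1 w.2 i hi)⟩
      have h0 : (1 : S) ⊗ₜ[R] (⟨_, hxW⟩ : W) = 0 := by
        apply Module.Flat.lTensor_preserves_injective_linearMap (M := S) W.subtype Subtype.val_injective
        rw [LinearMap.lTensor_tmul, map_zero, Submodule.subtype_apply]
        show (1 : S) ⊗ₜ[R] Ideal.Quotient.mk (I ^ (n + 1)) r = 0
        rw [show Ideal.Quotient.mk (I ^ (n + 1)) r = r • (1 : R ⧸ I ^ (n + 1)) from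
          (Algebra.smul_def r (1 : R ⧸ I ^ (n + 1))).symm ▸ (mul_one _).symm,
          ← TensorProduct.smul_tmul, ← Algebra.algebraMap_eq_smul_one]
        exact tmul_mk_one_eq_zero_of_mem hr
      have := congrArg Subtype.val (hbij.1 (h0.trans (map_zero _).symm))
      exact Ideal.Quotient.eq_zero_iff_mem.mp this

theorem bijective_mk_of_powTorsion (hq : Cong S I) {M : Type u} [AddCommGroup M] [Module R M]
    (hM : ∀ m : M, ∃ n : ℕ, ∀ a ∈ I ^ n, a • m = 0) : Function.Bijective (TensorProduct.mk R S M 1) :=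
  bijective_mk_of_killed (fun n => I ^ n) (fun _ _ h => Ideal.pow_le_pow_right h) (cong_pow hq) hM

theorem bijective_quotientMap_of_cong (hq : Cong S I) :
    Function.Bijective (Ideal.quotientMap (I.map (algebraMap R S)) (algebraMap R S) Ideal.le_comap_map) := by
  refine ⟨(injective_iff_map_eq_zero _).mpr fun x hx => ?_, fun x => ?_⟩
  · obtain ⟨r, rfl⟩ := Ideal.Quotient.mk_surjective x
    rw [Ideal.quotientMap_mk, Ideal.Quotient.eq_zero_iff_mem] at hx
    exact Ideal.Quotient.eq_zero_iff_mem.mpr (hq.mem r hx)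
  · obtain ⟨s, rfl⟩ := Ideal.Quotient.mk_surjective x
    obtain ⟨r, hr⟩ := hq.exists_sub s
    exact ⟨Ideal.Quotient.mk _ r, by rw [Ideal.quotientMap_mk, eq_comm, Ideal.Quotient.eq]; exact hr⟩

end Groth.Agent.H9Hens.Glue
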