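import Groth.Agent.H9Hens.GlueFlat
import Groth.Agent.H3CAlg.TorBasic
import Groth.Agent.S2004
import Groth.Prelude.Def_DRing2
import Mathlib.LinearAlgebra.DirectSum.Finsupp

/-!
# `Tor₁` of a glueing pair against torsion modules
-/

set_option autoImplicit false

universe u

open TensorProduct CategoryTheory CategoryTheory.Limits

namespace Groth.Agent.H9Hens.Glue

open Milnor (T T_of_flat T_of_quot)

variable {R R' : Type u} [CommRing R] [CommRing R'] [Algebra R R'] {f : R}

theorem injective_rTensor_of_torsion (hq : EtGlue.QuotPowBijective R R' f) {W G : Type u}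
    [AddCommGroup W] [Module R W] [AddCommGroup G] [Module R G]
    (hW : ∀ w : W, ∃ n : ℕ, f ^ n • w = 0) (k : W →ₗ[R] G)
    (hk : ∀ w, (1 : R') ⊗ₜ[R] k w = 0 → w = 0) :
    Function.Injective (k.rTensor R') := by
  refine (injective_iff_map_eq_zero _).mpr fun z hz => ?_
  obtain ⟨w, hw⟩ := (bijective_mk_of_torsion hq hW).2 (TensorProduct.comm R W R' z)
  have hz' : z = w ⊗ₜ[R] (1 : R') := by
    apply (TensorProduct.comm R W R').injective
    rw [← hw]
    rfl
  subst hz'
  have h0 := congrArg (TensorProduct.comm R G R') hz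
  rw [LinearMap.rTensor_tmul, TensorProduct.comm_tmul, map_zero] at h0
  rw [hk w h0, TensorProduct.zero_tmul]

variable (h : EtGlue.IsGlueingPair R R' f)

include h in
theorem eq_zero_of_torsion_ring {r : R} (hr : ∃ n : ℕ, f ^ n * r = 0)
    (h0 : algebraMap R R' r = 0) : r = 0 :=
  ((S2004.result R R' f h.1).mp h).1 r hr h0

include h in
theorem exists_torsion_ring {x : R'} (hx : ∃ n : ℕ, algebraMap R R' f ^ n * x = 0) :
    ∃ t : R, (∃ n : ℕ, f ^ n * t = 0) ∧ algebraMap R R' t = x :=
  ((S2004.result R R' f h.1).mp h).2 x hx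

include h in
/-- Modulo a torsion ideal of `R`. -/
theorem T_quotient_of_torsion_ideal {N : Type u} [AddCommGroup N] [Module R N] (g : R →ₗ[R] N)
    (hg : Function.Surjective g) (hker : ∀ r, g r = 0 → ∃ n : ℕ, f ^ n * r = 0) :
    T (R := R) R' N := by
  refine T_of_quot (LinearMap.ker g).subtype g (LinearMap.exact_subtype_ker_map g) hg T_of_flat ?_
  refine injective_rTensor_of_torsion h.1 (fun w => ?_) _ fun w hw => ?_
  · obtain ⟨n, hn⟩ := hker w.1 w.2
    exact ⟨n, Subtype.ext hn⟩
  · refine Subtype.ext (eq_zero_of_torsion_ring h (hker w.1 w.2) ?_)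
    have := congrArg (TensorProduct.rid R R') hw
    simpa [Algebra.algebraMap_eq_smul_one] using this

include h in
theorem T_self_of_torsion {Q : Type u} [AddCommGroup Q] [Module R Q]
    (hQ : ∀ q : Q, ∃ n : ℕ, f ^ n • q = 0) : T (R := R) R' Q := by
  classical
  choose N hN using hQ
  obtain ⟨K, hK⟩ : ∃ K : Submodule R (Q →₀ R), ∀ v, v ∈ K ↔ ∀ q, v q ∈ Ideal.span {f ^ N q} :=
    ⟨⨅ q, Submodule.comap (Finsupp.lapply q) (Ideal.span {f ^ N q}), fun v => by
      simp [Submodule.mem_iInf]⟩
  have he : ∀ q, Finsupp.single q (f ^ N q) ∈ K := fun q => (hK _).mpr fun p => by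
    rcases eq_or_ne p q with rfl | hp
    · rw [Finsupp.single_eq_same]; exact Ideal.mem_span_singleton_self _
    · rw [Finsupp.single_eq_of_ne hp]; exact zero_mem _
  let e : Q → K := fun q => ⟨_, he q⟩
  have hdec : ∀ v : K, ∃ c : Q →₀ R, v = c.sum fun q r => r • e q := by
    intro v
    choose c hc using fun q => Ideal.mem_span_singleton'.mp ((hK v.1).mp v.2 q)
    refine ⟨Finsupp.onFinset v.1.support (fun q => if q ∈ v.1.support then c q else 0)
      (fun q hq => by by_contra hne; simp [hne] at hq), Subtype.ext (Finsupp.ext fun p => ?_)⟩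
    rw [Finsupp.onFinset_sum _ (fun q => zero_smul R (e q)), AddSubmonoidClass.coe_finsetSum,
      Finsupp.finsetSum_apply]
    by_cases hp : p ∈ v.1.support
    · rw [Finset.sum_eq_single_of_mem p hp fun q _ hq => by
        show ((_ : R) • Finsupp.single q (f ^ N q)) p = 0
        rw [Finsupp.smul_apply, Finsupp.single_eq_of_ne hq.symm, smul_zero]]
      simp only [hp, if_true, Submodule.coe_smul, e, Finsupp.smul_apply, Finsupp.single_eq_same,
        smul_eq_mul]
      exact (hc p).symm
    · rw [Finset.sum_eq_zero fun q hq => by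
        have : p ≠ q := fun hpq => hp (hpq ▸ hq)
        show ((_ : R) • Finsupp.single q (f ^ N q)) p = 0
        rw [Finsupp.smul_apply, Finsupp.single_eq_of_ne this, smul_zero]]
      exact Finsupp.notMem_support_iff.mp hp
  -- generators of `K ⊗ R'`
  let Φ : (Q →₀ R') →ₗ[R] K ⊗[R] R' := Finsupp.lsum R fun q => TensorProduct.mk R K R' (e q)
  have hΦ : Function.Surjective Φ := by
    intro z
    induction z using TensorProduct.induction_on with
    | zero => exact ⟨0, map_zero _⟩
    | tmul v x =>
      obtain ⟨c, rfl⟩ := hdec v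
      refine ⟨c.sum fun q r => Finsupp.single q (r • x), ?_⟩
      rw [map_finsuppSum, Finsupp.sum, Finsupp.sum, TensorProduct.sum_tmul]
      refine Finset.sum_congr rfl fun q _ => ?_
      simp [Φ, TensorProduct.smul_tmul]
    | add a b ha hb =>
      obtain ⟨a, rfl⟩ := ha
      obtain ⟨b, rfl⟩ := hb
      exact ⟨a + b, map_add _ _ _⟩
  have hinj : Function.Injective (K.subtype.rTensor R') := by
    intro a b hab
    obtain ⟨ca, rfl⟩ := hΦ a
    obtain ⟨cb, rfl⟩ := hΦ b
    have key : ∀ (c : Q →₀ R') p, TensorProduct.finsuppScalarLeft R R' Q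
        (K.subtype.rTensor R' (Φ c)) p = f ^ N p • c p := by
      intro c p
      induction c using Finsupp.induction_linear with
      | zero => simp
      | add a b ha hb => simp only [map_add, Finsupp.add_apply, ha, hb, smul_add]
      | single q x =>
        simp only [Φ, Finsupp.lsum_single, TensorProduct.mk_apply, LinearMap.rTensor_tmul,
          TensorProduct.finsuppScalarLeft_apply_tmul_apply, Submodule.subtype_apply, e]
        rcases eq_or_ne p q with rfl | hp
        · simp
        · simp [Finsupp.single_eq_of_ne hp]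
    obtain ⟨c, hcdef⟩ : ∃ c, c = ca - cb := ⟨_, rfl⟩
    have hc : ∀ p, f ^ N p • c p = 0 := fun p => by
      rw [hcdef, Finsupp.sub_apply, smul_sub, ← key, ← key, hab, sub_self]
    suffices h0 : Φ c = 0 by
      rw [show ca = cb + c by rw [hcdef, add_sub_cancel], map_add, h0, add_zero]
    rw [show Φ c = c.sum fun q x => e q ⊗ₜ[R] x from rfl]
    refine Finset.sum_eq_zero fun q _ => ?_
    obtain ⟨t, ⟨m, hm⟩, ht⟩ := exists_torsion_ring h (x := c q) ⟨N q, by
      rw [← map_pow, ← Algebra.smul_def]; exact hc q⟩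
    have h0 : f ^ N q * t = 0 := eq_zero_of_torsion_ring h
      ⟨m, by rw [mul_left_comm, hm, mul_zero]⟩
      (by rw [map_mul, ← Algebra.smul_def, ht]; exact hc q)
    show e q ⊗ₜ[R] c q = 0
    rw [← ht, Algebra.algebraMap_eq_smul_one, ← TensorProduct.smul_tmul,
      show t • e q = 0 from Subtype.ext (by simp [e, mul_comm t, h0]), TensorProduct.zero_tmul]
  have hG : T (R := R) R' ((Q →₀ R) ⧸ K) :=
    T_of_quot (K := ↥K) (G := Q →₀ R) K.subtype K.mkQ (LinearMap.exact_subtype_mkQ K) K.mkQ_surjective T_of_flat hinj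
  have htor : ∀ x : (Q →₀ R) ⧸ K, ∃ n : ℕ, f ^ n • x = 0 := by
    intro x
    obtain ⟨v, rfl⟩ := K.mkQ_surjective x
    induction v using Finsupp.induction_linear with
    | zero => exact ⟨0, by simp⟩
    | add a b ha hb =>
      obtain ⟨m, hm⟩ := ha
      obtain ⟨n, hn⟩ := hb
      exact ⟨m + n, by rw [map_add, smul_add, pow_add, mul_smul, mul_smul, hn, smul_zero,
        smul_comm, hm, smul_zero, add_zero]⟩
    | single q r =>
      refine ⟨N q, ?_⟩
      rw [← map_smul]
      refine (Submodule.Quotient.mk_eq_zero K).mpr ((hK _).mpr fun p => ?_)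
      rcases eq_or_ne p q with rfl | hp
      · rw [Finsupp.smul_apply, Finsupp.single_eq_same]
        exact Ideal.mul_mem_right _ _ (Ideal.mem_span_singleton_self _)
      · simp [Finsupp.single_eq_of_ne hp]
  have hKle : K ≤ LinearMap.ker (Finsupp.linearCombination R (id : Q → Q)) := fun v hv => by
    rw [LinearMap.mem_ker, Finsupp.linearCombination_apply]
    refine Finset.sum_eq_zero fun q _ => ?_
    obtain ⟨r, hr⟩ := Ideal.mem_span_singleton'.mp ((hK v).mp hv q)
    show v q • q = 0
    rw [← hr, mul_smul, hN, smul_zero]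
  let g : (Q →₀ R) ⧸ K →ₗ[R] Q := K.liftQ (Finsupp.linearCombination R id) hKle
  have hg : Function.Surjective g := fun q =>
    ⟨K.mkQ (Finsupp.single q 1), by simp [g]⟩
  refine T_of_quot (LinearMap.ker g).subtype g (LinearMap.exact_subtype_ker_map g) hg hG ?_
  refine injective_rTensor_of_torsion h.1 (fun w => ?_) _ fun w hw => ?_
  · obtain ⟨n, hn⟩ := htor w.1
    exact ⟨n, Subtype.ext hn⟩
  · exact Subtype.ext ((bijective_mk_of_torsion h.1 htor).1 (hw.trans (map_zero _).symm))

/-- From `T` to the vanishing of `DRing.Tor`. -/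
theorem subsingleton_tor_of_T {L N : Type u} [AddCommGroup L] [Module R L] [AddCommGroup N]
    [Module R N] (hT : T (R := R) L N) : Subsingleton (DRing.Tor R 1 L N) := by
  let g : (N →₀ R) →ₗ[R] N := Finsupp.linearCombination R id
  have hg : Function.Surjective g := Finsupp.linearCombination_surjective _ Function.surjective_id
  let S : ShortComplex (ModuleCat.{u} R) :=
    ShortComplex.mk (X₁ := ModuleCat.of R ↥(LinearMap.ker g)) (X₂ := ModuleCat.of R (N →₀ R))
      (ModuleCat.ofHom (LinearMap.ker g).subtype) (ModuleCat.ofHom g)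
      (ModuleCat.hom_ext (LinearMap.ext fun w => w.2))
  haveI : Projective S.X₂ := (inferInstance : Projective (ModuleCat.of R (N →₀ R)))
  have hS : S.ShortExact :=
    { exact := (ShortComplex.ShortExact.moduleCat_exact_iff_function_exact _).mpr
        (LinearMap.exact_subtype_ker_map g)
      mono_f := (ModuleCat.mono_iff_injective _).mpr Subtype.val_injective
      epi_g := (ModuleCat.epi_iff_surjective _).mpr hg }
  refine ModuleCat.subsingleton_of_isZero ((H3CAlg.Tor.isZero_one_iff_injective (ModuleCat.of R L) S hS).mpr ?_)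
  have hi := hT (LinearMap.ker g) (N →₀ R) (LinearMap.ker g).subtype g Subtype.val_injective
    (LinearMap.exact_subtype_ker_map g) hg
  intro a b hab
  apply (TensorProduct.comm R L (LinearMap.ker g)).injective
  apply hi
  have key : ∀ z, (LinearMap.ker g).subtype.rTensor L (TensorProduct.comm R L _ z) =
      TensorProduct.comm R L (N →₀ R) ((LinearMap.ker g).subtype.lTensor L z) := fun z => by
    induction z using TensorProduct.induction_on with
    | zero => simp
    | tmul x y => simp
    | add a b ha hb => simp only [map_add, ha, hb]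
  rw [key, key]
  exact congrArg _ hab

end Groth.Agent.H9Hens.Glue
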