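import Groth.Agent.H9Hens.PairHens
import Groth.Agent.H9Hens.PairNoetherian
import Groth.Agent.H9Hens.PairOps
import Groth.Agent.H9Hens.Local
import Mathlib.RingTheory.FinitePresentation
import Mathlib.RingTheory.TensorProduct.Quotient

/-!
Henselian finitely presented maps: calculus of henselizations of pairs relative to a base pair.
-/

set_option linter.style.haveILetI false

universe u

namespace Groth.Agent.H9Hens

variable {A : Type u} [CommRing A] {I : Ideal A}

section Hom

variable {R B : Type u} [CommRing R] [Algebra A R] [CommRing B] [Algebra R B] [Algebra A B]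
  [IsScalarTower A R B]

theorem map_map_tower (R B : Type u) [CommRing R] [Algebra A R] [CommRing B] [Algebra R B]
    [Algebra A B] [IsScalarTower A R B] :
    (I.map (algebraMap A R)).map (algebraMap R B) = I.map (algebraMap A B) := by
  rw [Ideal.map_map, ← IsScalarTower.algebraMap_eq]

/-- The pair `(B, IB)` of a henselization is henselian. -/
theorem relHens_henselian (hB : Hens2.IsPairHenselization R (I.map (algebraMap A R)) B) :
    HenselianRing B (I.map (algebraMap A B)) :=
  map_map_tower (I := I) R B ▸ hB.1

/-- Maps from the base extend uniquely to the henselization. -/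
theorem relHens_existsUnique (hB : Hens2.IsPairHenselization R (I.map (algebraMap A R)) B) {C : Type u}
    [CommRing C] [Algebra A C] [hC : HenselianRing C (I.map (algebraMap A C))] (φ : R →ₐ[A] C) :
    ∃! g : B →ₐ[A] C, g.comp (IsScalarTower.toAlgHom A R B) = φ := by
  obtain ⟨g, hg, hu⟩ := hB.2 C _ φ.toRingHom hC (by
    rw [Ideal.map_map, AlgHom.toRingHom_eq_coe, AlgHom.comp_algebraMap])
  refine ⟨{ g with commutes' := fun a => ?_ }, AlgHom.ext fun r => RingHom.congr_fun hg r, fun g' hg' => ?_⟩
  · show g (algebraMap A B a) = _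
    rw [IsScalarTower.algebraMap_apply A R B]
    exact (RingHom.congr_fun hg _).trans (φ.commutes a)
  · exact AlgHom.coe_ringHom_injective (hu g'.toRingHom (RingHom.ext fun r => DFunLike.congr_fun hg' r))

theorem relHens_ext (hB : Hens2.IsPairHenselization R (I.map (algebraMap A R)) B) {C : Type u}
    [CommRing C] [Algebra A C] [HenselianRing C (I.map (algebraMap A C))] {g g' : B →ₐ[A] C}
    (h : ∀ r, g (algebraMap R B r) = g' (algebraMap R B r)) : g = g' :=
  (relHens_existsUnique hB (g'.comp (IsScalarTower.toAlgHom A R B))).unique (AlgHom.ext h) rfl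

theorem relHens_exists (hB : Hens2.IsPairHenselization R (I.map (algebraMap A R)) B) {C : Type u}
    [CommRing C] [Algebra A C] [HenselianRing C (I.map (algebraMap A C))] (φ : R →ₐ[A] C) :
    ∃ g : B →ₐ[A] C, ∀ r, g (algebraMap R B r) = φ r := by
  obtain ⟨g, hg, -⟩ := relHens_existsUnique hB φ
  exact ⟨g, fun r => DFunLike.congr_fun hg r⟩

/-- A criterion for being the henselization of a pair coming from a base. -/
theorem relHens_mk (hh : HenselianRing B (I.map (algebraMap A B)))
    (h : ∀ (C : Type u) [CommRing C] [Algebra A C] [HenselianRing C (I.map (algebraMap A C))]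
      (φ : R →ₐ[A] C), ∃ g : B →ₐ[A] C, ∀ r, g (algebraMap R B r) = φ r)
    (hu : ∀ (C : Type u) [CommRing C] [Algebra A C] [HenselianRing C (I.map (algebraMap A C))]
      (g g' : B →ₐ[A] C), (∀ r, g (algebraMap R B r) = g' (algebraMap R B r)) → g = g') :
    Hens2.IsPairHenselization R (I.map (algebraMap A R)) B := by
  refine ⟨(map_map_tower (I := I) R B).symm ▸ hh, fun C _ J f hC hf => ?_⟩
  letI : Algebra A C := (f.comp (algebraMap A R)).toAlgebra
  rw [Ideal.map_map] at hf
  haveI : HenselianRing C (I.map (algebraMap A C)) := henselianRing_of_le (J := J) hf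
  let φ : R →ₐ[A] C := { f with commutes' := fun _ => rfl }
  obtain ⟨g, hg⟩ := h C φ
  refine ⟨g.toRingHom, RingHom.ext fun r => hg r, fun g' hg' => ?_⟩
  let g'' : B →ₐ[A] C :=
    { g' with
      commutes' := fun a => by
        show g' (algebraMap A B a) = _
        rw [IsScalarTower.algebraMap_apply A R B]
        exact RingHom.congr_fun hg' _ }
  exact congrArg AlgHom.toRingHom (hu C g'' g fun r => (RingHom.congr_fun hg' r).trans (hg r).symm)

/-- Henselization commutes with quotients. -/
theorem relHens_quotient (hB : Hens2.IsPairHenselization R (I.map (algebraMap A R)) B)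
    {R' B' : Type u} [CommRing R'] [Algebra A R'] [CommRing B'] [Algebra A B'] [Algebra R' B']
    [IsScalarTower A R' B'] (q : R →ₐ[A] R') (hq : Function.Surjective q) (β : B →ₐ[A] B')
    (hβ : Function.Surjective β) (hsq : ∀ r, β (algebraMap R B r) = algebraMap R' B' (q r))
    (hker : RingHom.ker β ≤ (RingHom.ker q).map (algebraMap R B)) :
    Hens2.IsPairHenselization R' (I.map (algebraMap A R')) B' := by
  have hhB := relHens_henselian hB
  have hh : HenselianRing B' (I.map (algebraMap A B')) := by
    letI : Algebra B B' := β.toRingHom.toAlgebra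
    haveI : Algebra.IsIntegral B B' := Algebra.IsIntegral.of_surjective (Algebra.ofId B B') hβ
    have := henselianRing_of_isIntegral (I := I.map (algebraMap A B)) B'
    rwa [show algebraMap B B' = β.toRingHom from rfl, Ideal.map_map, AlgHom.toRingHom_eq_coe,
      AlgHom.comp_algebraMap] at this
  refine relHens_mk hh (fun C _ _ _ φ => ?_) fun C _ _ _ g g' h => ?_
  · obtain ⟨g, hg⟩ := relHens_exists hB (φ.comp q)
    have hle : RingHom.ker β ≤ RingHom.ker g := hker.trans (Ideal.map_le_iff_le_comap.mpr fun r hr => by
      show g (algebraMap R B r) = 0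
      rw [hg, AlgHom.comp_apply, RingHom.mem_ker.mp hr, map_zero])
    refine ⟨AlgHom.liftOfSurjective β hβ g hle, fun r' => ?_⟩
    obtain ⟨r, rfl⟩ := hq r'
    rw [← hsq]
    exact (AlgHom.liftOfSurjective_apply β hβ g hle _).trans (hg r)
  · refine AlgHom.ext fun b' => ?_
    obtain ⟨b, rfl⟩ := hβ b'
    exact DFunLike.congr_fun (relHens_ext hB (g := g.comp β) (g' := g'.comp β) fun r => by
      rw [AlgHom.comp_apply, AlgHom.comp_apply, hsq]; exact h _) b

/-- Finitely many elements of a henselization come from an etale neighbourhood with the same henselization. -/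
theorem relHens_exists_nbhd (hB : Hens2.IsPairHenselization R (I.map (algebraMap A R)) B) {ι : Type*}
    [Finite ι] (y : ι → B) :
    ∃ (R' : Type u) (_ : CommRing R') (_ : Algebra A R') (_ : Algebra R R') (_ : Algebra R' B)
      (_ : IsScalarTower A R R') (_ : IsScalarTower R R' B) (_ : IsScalarTower A R' B),
      Algebra.Etale R R' ∧ Hens2.IsPairHenselization R' (I.map (algebraMap A R')) B ∧
      ∀ i, ∃ r', algebraMap R' B r' = y i := by
  classical
  obtain ⟨π, hπ⟩ := exists_isPtColim_of_isPairHenselization hB
  haveI := Fintype.ofFinite ι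
  obtain ⟨S, _, _, _, φ, z, hz⟩ := hπ.exists_rep_finset Finset.univ y
  obtain ⟨T, _, _, hT, ψ, σT, hb, hσ, -⟩ := exists_etale_nbhd (I := I.map (algebraMap A R)) S (π.comp φ) 1
    (by rw [map_one]; exact isUnit_one)
  obtain ⟨φT, hφT⟩ := hπ.exists_map T σT
  have hfac : φT.comp ψ = φ := hπ.hom_ext (by rw [← AlgHom.comp_assoc, hφT, hσ])
  letI : Algebra T B := φT.toRingHom.toAlgebra
  haveI : IsScalarTower R T B := IsScalarTower.of_algebraMap_eq fun a => (φT.commutes a).symm
  letI : Algebra A T := ((algebraMap R T).comp (algebraMap A R)).toAlgebra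
  haveI : IsScalarTower A R T := IsScalarTower.of_algebraMap_eq fun _ => rfl
  haveI : IsScalarTower A T B := IsScalarTower.of_algebraMap_eq fun a => by
    rw [IsScalarTower.algebraMap_apply A R T, ← IsScalarTower.algebraMap_apply R T B,
      ← IsScalarTower.algebraMap_apply]
  refine ⟨T, inferInstance, inferInstance, inferInstance, inferInstance, inferInstance, inferInstance,
    inferInstance, hT, ?_, fun i => ⟨ψ (z i), (DFunLike.congr_fun hfac (z i)).trans (hz i (Finset.mem_univ i))⟩⟩
  have := isPairHenselization_of_nbhd hB T hb.2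
  rwa [Ideal.map_map, ← IsScalarTower.algebraMap_eq] at this

/-- An integral algebra over a henselian pair is its own henselization. -/
theorem relHens_self [HenselianRing A I] (R : Type u) [CommRing R] [Algebra A R] [Algebra.IsIntegral A R] :
    Hens2.IsPairHenselization R (I.map (algebraMap A R)) R :=
  relHens_mk (henselianRing_of_isIntegral R) (fun _ _ _ _ φ => ⟨φ, fun _ => rfl⟩)
    fun _ _ _ _ _ _ h => AlgHom.ext h

/-- Henselizations are unique, compatibly with the base. -/
theorem relHens_equiv (hB : Hens2.IsPairHenselization R (I.map (algebraMap A R)) B) {B' : Type u}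
    [CommRing B'] [Algebra R B'] [Algebra A B'] [IsScalarTower A R B']
    (hB' : Hens2.IsPairHenselization R (I.map (algebraMap A R)) B') :
    ∃ e : B ≃ₐ[A] B', ∀ r, e (algebraMap R B r) = algebraMap R B' r := by
  obtain ⟨e⟩ := pairHenselization_algEquiv hB hB'
  exact ⟨e.restrictScalars A, e.commutes⟩

end Hom

end Groth.Agent.H9Hens
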