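import Groth.Agent.H9Hens.HfpCoverBasic

/-!
# Henselian finite presentation is local on a cover by basic opens
-/

set_option autoImplicit false
set_option linter.style.haveILetI false

universe u

namespace Groth.Agent.H9Hens.HfpCover

open HfpDescend

variable {A : Type u} [CommRing A] {I : Ideal A}

theorem comm_away {T T' : Type u} [CommRing T] [Algebra A T] [CommRing T'] [Algebra A T'] {g : T} {g' : T'}
    (r : T →ₐ[A] T') (h : r g = g') {C C' : Type u} [CommRing C] [Algebra (Localization.Away g) C] [Algebra A C]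
    [IsScalarTower A (Localization.Away g) C] [CommRing C'] [Algebra (Localization.Away g') C'] [Algebra A C']
    [IsScalarTower A (Localization.Away g') C'] (θ : C →ₐ[A] C')
    (hθ : ∀ t, θ (ofA (A := A) g C t) = ofA (A := A) g' C' (r t)) (d : Localization.Away g) :
    θ (algebraMap _ C d) = algebraMap _ C' (mapAway r h d) :=
  RingHom.congr_fun (IsLocalization.ringHom_ext (Submonoid.powers g)
    (j := θ.toRingHom.comp (algebraMap (Localization.Away g) C))
    (k := (algebraMap (Localization.Away g') C').comp (mapAway r h).toRingHom)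
    (RingHom.ext fun t => (hθ t).trans (congrArg (algebraMap _ C') (mapAway_algebraMap r h t).symm))) d

variable {B : Type u} [CommRing B] [Algebra A B] [HenselianRing B (I.map (algebraMap A B))]

/-- A finitely generated subalgebra whose henselization maps onto the algebra. -/
theorem exists_subalgebra {ι : Type u} (f c : ι → B) [Fintype ι] (hspan : ∑ i, c i * f i = 1)
    (H : ι → Type u) [∀ i, CommRing (H i)] [∀ i, Algebra (Localization.Away (f i)) (H i)]
    [∀ i, Algebra A (H i)] [∀ i, IsScalarTower A (Localization.Away (f i)) (H i)]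
    (hH : ∀ i, Hens2.IsPairHenselization (Localization.Away (f i))
      (I.map (algebraMap A (Localization.Away (f i)))) (H i))
    (R : ι → Type u) [∀ i, CommRing (R i)] [∀ i, Algebra A (R i)]
    [∀ i, Algebra.FinitePresentation A (R i)] [∀ i, Algebra (R i) (H i)]
    [∀ i, IsScalarTower A (R i) (H i)]
    (hR : ∀ i, Hens2.IsPairHenselization (R i) (I.map (algebraMap A (R i))) (H i)) :
    ∃ (T : Subalgebra A B) (hf : ∀ i, f i ∈ T), T.FG ∧ (∀ i, c i ∈ T) ∧
      (∃ p : Hen I T →ₐ[A] B, (∀ t : T, p (algebraMap T (Hen I T) t) = (t : B)) ∧ Function.Surjective p) ∧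
      ∀ i, ∃ p : Hen I (Localization.Away (⟨f i, hf i⟩ : T)) →ₐ[A] H i,
        (∀ t : T, p (ofA (A := A) ⟨f i, hf i⟩ _ t) = ofA (A := A) (f i) (H i) (t : B)) ∧ Function.Surjective p := by
  classical
  haveI : ∀ i, HenselianRing (H i) (I.map (algebraMap A (H i))) := fun i => relHens_henselian (hH i)
  have hG : ∀ i, ∃ G : Finset (R i), Algebra.adjoin A (G : Set (R i)) = ⊤ := fun i =>
    (Algebra.FiniteType.out (R := A) (A := R i))
  choose G hG using hG
  choose W hW using fun i (r : R i) => exists_finset_mem_range (hH i) (algebraMap (R i) (H i) r)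
  choose N hN using fun i => exists_numerators (A := A) (f i) ((G i).biUnion (W i))
  let N₁ : Finset B := Finset.univ.image f ∪ Finset.univ.image c ∪ Finset.univ.biUnion N
  let T₁ : Subalgebra A B := Algebra.adjoin A N₁
  have hT₁ : ∀ b ∈ N₁, b ∈ T₁ := fun b hb => Algebra.subset_adjoin hb
  have hf₁ : ∀ i, f i ∈ T₁ := fun i =>
    hT₁ _ (Finset.mem_union_left _ (Finset.mem_union_left _ (Finset.mem_image_of_mem _ (Finset.mem_univ i))))
  haveI : Algebra.FiniteType A T₁ := (Subalgebra.fg_iff_finiteType T₁).1 (Subalgebra.fg_adjoin_finset N₁)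
  let g₁ : ι → T₁ := fun i => ⟨f i, hf₁ i⟩
  have hu : ∀ (i : ι), IsUnit (((ofA (A := A) (f i) (H i)).comp T₁.val) (g₁ i)) := fun i =>
    isUnit_ofA (A := A) (g := f i) (C := H i)
  choose p₁ hp₁ using fun i => exists_away (hens I (Localization.Away (g₁ i))) _ (hu i)
  have hp₁surj : ∀ i, Function.Surjective (p₁ i) := fun i => by
    have hle : (IsScalarTower.toAlgHom A (R i) (H i)).range ≤ (p₁ i).range := by
      rw [← Algebra.map_top, ← hG i, AlgHom.map_adjoin, Algebra.adjoin_le_iff]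
      rintro _ ⟨r, hr, rfl⟩
      refine hW i r (Localization.Away (g₁ i)) (mapAway (g' := f i) T₁.val rfl) (mapAway_injective Subtype.val_injective rfl)
        (fun e he => hN i T₁ T₁.val (g₁ i) rfl (fun b hb => ⟨⟨b, hT₁ b ?_⟩, rfl⟩) ?_)
        _ (hens I _) (p₁ i) (comm_away (g' := f i) T₁.val rfl (p₁ i) (hp₁ i))
      · exact Finset.mem_union_right _ (Finset.mem_biUnion.2 ⟨i, Finset.mem_univ i, hb⟩)
      · exact Finset.mem_coe.2 (Finset.mem_biUnion.2 ⟨r, hr, he⟩)
    intro x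
    exact range_le (hR i) (p₁ i) (AlgHom.id A (H i)) (fun r => hle ⟨r, rfl⟩) ⟨x, rfl⟩
  choose Kg hKg using fun i => fg_ker (hens I (Localization.Away (g₁ i))) (hR i) (p₁ i) (hp₁surj i)
  have hKg0 : ∀ i, ∀ x ∈ Kg i, p₁ i x = 0 := fun i x hx => (hKg i ▸ Ideal.subset_span hx : x ∈ RingHom.ker (p₁ i))
  choose W' hW' using fun i x (hx : x ∈ Kg i) => exists_finset_eq_zero (hH i) (mapAway T₁.val (show T₁.val (g₁ i) = f i from rfl))
    (mapAway_injective Subtype.val_injective _) (hens I _) (p₁ i) (comm_away T₁.val _ (p₁ i) (hp₁ i)) x (hKg0 i x hx)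
  choose N' hN' using fun i => exists_numerators (A := A) (f i) ((Kg i).attach.biUnion fun x => W' i x.1 x.2)
  let N₂ : Finset B := N₁ ∪ Finset.univ.biUnion N'
  let T₂ : Subalgebra A B := Algebra.adjoin A N₂
  have h12 : T₁ ≤ T₂ := Algebra.adjoin_mono (Finset.coe_subset.2 Finset.subset_union_left)
  have hf₂ : ∀ i, f i ∈ T₂ := fun i => h12 (hf₁ i)
  let g₂ : ι → T₂ := fun i => ⟨f i, hf₂ i⟩
  let inc : T₁ →ₐ[A] T₂ := Subalgebra.inclusion h12
  have hinc : ∀ i, inc (g₁ i) = g₂ i := fun i => rfl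
  have hθu : ∀ i, IsUnit (((ofA (A := A) (g₂ i) (Hen I (Localization.Away (g₂ i)))).comp inc) (g₁ i)) := fun i =>
    isUnit_ofA (A := A) (g := g₂ i)
  choose θ hθ using fun i => exists_away (hens I (Localization.Away (g₁ i))) _ (hθu i)
  have hu₂ : ∀ (i : ι), IsUnit (((ofA (A := A) (f i) (H i)).comp T₂.val) (g₂ i)) := fun i =>
    isUnit_ofA (A := A) (g := f i) (C := H i)
  choose p₂ hp₂ using fun i => exists_away (hens I (Localization.Away (g₂ i))) _ (hu₂ i)
  have hp21 : ∀ i, (p₂ i).comp (θ i) = p₁ i := fun i => ext_away (hens I _) fun t => by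
    rw [AlgHom.comp_apply, hθ, hp₁]
    exact hp₂ i (inc t)
  have hp₂surj : ∀ i, Function.Surjective (p₂ i) := fun i x => by
    obtain ⟨z, rfl⟩ := hp₁surj i x
    exact ⟨θ i z, DFunLike.congr_fun (hp21 i) z⟩
  have hkill : ∀ i, RingHom.ker (p₁ i) ≤ RingHom.ker (θ i) := fun i => by
    rw [← hKg i]
    refine Ideal.span_le.2 fun x hx => ?_
    refine hW' i x hx (Localization.Away (g₂ i)) (mapAway inc (hinc i)) (mapAway (g' := f i) T₂.val rfl)
      (mapAway_injective Subtype.val_injective rfl) ?_ (fun e he => hN' i T₂ T₂.val (g₂ i) rfl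
        (fun b hb => ⟨⟨b, Algebra.subset_adjoin ?_⟩, rfl⟩) ?_) _ (hens I _) (θ i)
      (comm_away inc _ (θ i) (hθ i))
    · refine AlgHom.coe_ringHom_injective (IsLocalization.ringHom_ext (Submonoid.powers (g₁ i)) (RingHom.ext fun t => ?_))
      show mapAway (g' := f i) T₂.val rfl (mapAway inc (hinc i) (algebraMap T₁ _ t)) =
        mapAway (g' := f i) T₁.val rfl (algebraMap T₁ _ t)
      rw [mapAway_algebraMap, mapAway_algebraMap, mapAway_algebraMap]
      rfl
    · exact Finset.mem_coe.2 (Finset.mem_union_right _ (Finset.mem_biUnion.2 ⟨i, Finset.mem_univ i, hb⟩))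
    · exact Finset.mem_coe.2 (Finset.mem_biUnion.2 ⟨⟨x, hx⟩, Finset.mem_attach _ _, he⟩)
  let u : ∀ i, H i →ₐ[A] Hen I (Localization.Away (g₂ i)) := fun i =>
    AlgHom.liftOfSurjective (p₁ i) (hp₁surj i) (θ i) (hkill i)
  have hup : ∀ i x, u i (p₁ i x) = θ i x := fun i x => AlgHom.liftOfSurjective_apply _ _ _ _ x
  have hp2u : ∀ i x, p₂ i (u i x) = x := fun i x => by
    obtain ⟨z, rfl⟩ := hp₁surj i x
    rw [hup]
    exact DFunLike.congr_fun (hp21 i) z
  -- the overlaps
  let C₂ : ι → ι → Type u := fun i j => Hen I (Localization.Away (g₂ i * g₂ j))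
  have hunit₂ : ∀ i j, IsUnit (ofA (A := A) (g₂ i * g₂ j) (C₂ i j) (g₂ i)) ∧
      IsUnit (ofA (A := A) (g₂ i * g₂ j) (C₂ i j) (g₂ j)) := fun i j => by
    have := isUnit_ofA (A := A) (g := g₂ i * g₂ j) (C := C₂ i j)
    rw [map_mul] at this
    exact IsUnit.mul_iff.1 this
  choose σ hσ using fun i j => exists_away (hens I (Localization.Away (g₂ i)))
    (ofA (A := A) (g₂ i * g₂ j) (C₂ i j)) (hunit₂ i j).1
  choose τ hτ using fun i j => exists_away (hens I (Localization.Away (g₂ j)))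
    (ofA (A := A) (g₂ i * g₂ j) (C₂ i j)) (hunit₂ i j).2
  have hmem : ∀ i j, g₂ i * g₂ j = inc (g₁ i * g₁ j) := fun i j => by rw [map_mul, hinc, hinc]
  have hcompat : ∀ i j (b : B), σ i j (u i (ofA (A := A) (f i) (H i) b)) = τ i j (u j (ofA (A := A) (f j) (H j) b)) := by
    intro i j b
    let g₁₁ : T₁ := g₁ i * g₁ j
    let H₂ := Hen I (Localization.Away (f i * f j))
    let ψ : B →ₐ[A] C₂ i j := (σ i j).comp ((u i).comp (ofA (A := A) (f i) (H i)))
    let ψ' : B →ₐ[A] C₂ i j := (τ i j).comp ((u j).comp (ofA (A := A) (f j) (H j)))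
    have hψ : ∀ t : T₁, ψ t = ofA (A := A) (g₂ i * g₂ j) (C₂ i j) (inc t) := fun t => by
      show σ i j (u i (ofA (A := A) (f i) (H i) (t : B))) = _
      rw [show ofA (A := A) (f i) (H i) (t : B) = p₁ i (ofA (A := A) (g₁ i) _ t) from (hp₁ i t).symm, hup, hθ]
      exact hσ i j _
    have hψ' : ∀ t : T₁, ψ' t = ofA (A := A) (g₂ i * g₂ j) (C₂ i j) (inc t) := fun t => by
      show τ i j (u j (ofA (A := A) (f j) (H j) (t : B))) = _
      rw [show ofA (A := A) (f j) (H j) (t : B) = p₁ j (ofA (A := A) (g₁ j) _ t) from (hp₁ j t).symm, hup, hθ]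
      exact hτ i j _
    have hψu : IsUnit (ψ (f i * f j)) := by
      rw [show f i * f j = ((g₁₁ : T₁) : B) from rfl, hψ, ← hmem]
      exact isUnit_ofA (A := A)
    have hψ'u : IsUnit (ψ' (f i * f j)) := by
      rw [show f i * f j = ((g₁₁ : T₁) : B) from rfl, hψ', ← hmem]
      exact isUnit_ofA (A := A)
    obtain ⟨U, hU⟩ := exists_away (hens I (Localization.Away (f i * f j))) ψ hψu
    obtain ⟨U', hU'⟩ := exists_away (hens I (Localization.Away (f i * f j))) ψ' hψ'u
    have hu₁₁ : IsUnit (((ofA (A := A) (f i * f j) H₂).comp T₁.val) g₁₁) := isUnit_ofA (A := A) (g := f i * f j)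
    obtain ⟨pij, hpij⟩ := exists_away (hens I (Localization.Away g₁₁)) _ hu₁₁
    have hUp : U.comp pij = U'.comp pij := ext_away (hens I _) fun t => by
      rw [AlgHom.comp_apply, AlgHom.comp_apply, hpij]
      exact (hU _).trans ((hψ t).trans ((hψ' t).symm.trans (hU' _).symm))
    have hu1 : IsUnit (ofA (A := A) (f i * f j) H₂ (f i)) := by
      have := isUnit_ofA (A := A) (g := f i * f j) (C := H₂)
      rw [map_mul] at this
      exact (IsUnit.mul_iff.1 this).1
    obtain ⟨σH, hσH⟩ := exists_away (hH i) (ofA (A := A) (f i * f j) H₂) hu1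
    have hg11 : IsUnit (ofA (A := A) g₁₁ (Hen I (Localization.Away g₁₁)) (g₁ i)) := by
      have := isUnit_ofA (A := A) (g := g₁₁) (C := Hen I (Localization.Away g₁₁))
      rw [map_mul] at this
      exact (IsUnit.mul_iff.1 this).1
    obtain ⟨σ₁, hσ₁⟩ := exists_away (hens I (Localization.Away (g₁ i)))
      (ofA (A := A) g₁₁ (Hen I (Localization.Away g₁₁))) hg11
    have hsq : σH.comp (p₁ i) = pij.comp σ₁ := ext_away (hens I _) fun t => by
      rw [AlgHom.comp_apply, AlgHom.comp_apply, hp₁, hσ₁, hpij]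
      exact hσH _
    have hbase : ∀ b', ofA (A := A) (f i * f j) H₂ b' ∈ pij.range := fun b' => by
      obtain ⟨z, hz⟩ := hp₁surj i (ofA (A := A) (f i) (H i) b')
      refine ⟨σ₁ z, ?_⟩
      show pij (σ₁ z) = _
      rw [← AlgHom.comp_apply, ← hsq, AlgHom.comp_apply, hz, hσH]
    obtain ⟨v, hv⟩ := (isUnit_ofA (A := A) (g := g₁₁) (C := Hen I (Localization.Away g₁₁))).exists_right_inv
    have hsurj : (AlgHom.id A H₂).range ≤ pij.range := range_le (hens I (Localization.Away (f i * f j))) pij _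
      (mem_range_away (g := f i * f j) (AlgHom.id A H₂) pij.range hbase ⟨pij v, ⟨v, rfl⟩, by
        rw [AlgHom.id_apply, show ofA (A := A) (f i * f j) H₂ (f i * f j) = pij (ofA (A := A) g₁₁ _ g₁₁) from
          (hpij g₁₁).symm, ← map_mul, hv, map_one]⟩)
    obtain ⟨z, hz⟩ := hsurj ⟨ofA (A := A) (f i * f j) H₂ b, rfl⟩
    show ψ b = ψ' b
    rw [← hU, ← hU', ← show pij z = ofA (A := A) (f i * f j) H₂ b from hz]
    exact DFunLike.congr_fun hUp z
  -- gluing
  let C := Hen I T₂
  obtain ⟨p, hp⟩ := relHens_exists (hens I T₂) T₂.val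
  have huC : ∀ i, ∃ ρ : C →ₐ[A] Hen I (Localization.Away (g₂ i)),
      ∀ t, ρ (algebraMap T₂ C t) = ofA (A := A) (g₂ i) _ t := fun i => relHens_exists (hens I T₂) _
  choose ρ hρ using huC
  have hc₂ : ∀ i, c i ∈ T₂ := fun i => h12 (hT₁ _ (Finset.mem_union_left _ (Finset.mem_union_right _
    (Finset.mem_image_of_mem _ (Finset.mem_univ i)))))
  refine ⟨T₂, hf₂, Subalgebra.fg_adjoin_finset N₂, hc₂, ⟨p, fun t => hp t, fun b => ?_⟩, fun i =>
    ⟨p₂ i, hp₂ i, hp₂surj i⟩⟩
  have hself : Hens2.IsPairHenselization B (I.map (algebraMap A B)) B :=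
    relHens_mk inferInstance (fun _ _ _ _ φ => ⟨φ, fun _ => rfl⟩) fun _ _ _ _ _ _ h => AlgHom.ext h
  have hne : Ideal.span (Set.range g₂) = ⊤ := Ideal.eq_top_iff_one _ |>.2
    (Ideal.mem_span_range_iff_exists_fun.2 ⟨fun i => ⟨c i, hc₂ i⟩, Subtype.ext (by simpa [g₂] using hspan)⟩)
  have hne' : Ideal.span (Set.range f) = ⊤ := Ideal.eq_top_iff_one _ |>.2
    (Ideal.mem_span_range_iff_exists_fun.2 ⟨c, hspan⟩)
  obtain ⟨x, hx⟩ := (sheaf g₂ hne (hens I T₂) (fun i => Hen I (Localization.Away (g₂ i)))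
    (fun i => hens I _) ρ hρ).2 σ τ hσ hτ (fun i => u i (ofA (A := A) (f i) (H i) b)) fun i j => hcompat i j b
  refine ⟨x, (sheaf f hne' hself H hH (fun i => ofA (A := A) (f i) (H i)) fun _ _ => rfl).1 _ _ fun i => ?_⟩
  have e : (ofA (A := A) (f i) (H i)).comp p = (p₂ i).comp (ρ i) := relHens_ext (hens I T₂) fun t => by
    rw [AlgHom.comp_apply, AlgHom.comp_apply, hp, hρ, hp₂]
    rfl
  rw [← AlgHom.comp_apply, e, AlgHom.comp_apply, hx, hp2u]

end Groth.Agent.H9Hens.HfpCover
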