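import Groth.Agent.H9Hens.PairHens
import Groth.Agent.H9Hens.BranchFlat
import Groth.Agent.H18PBC.AbCompare
import Groth.Agent.H18PBC.ProperPairCP
import Groth.Prelude.Def_EtGm

/-!
# Henselizations of a pair along a cover of `V(I)` by basic opens satisfy the sheaf condition
-/

set_option autoImplicit false
set_option linter.style.haveILetI false
set_option linter.unusedSectionVars false
set_option backward.isDefEq.respectTransparency false
set_option backward.isDefEq.respectTransparency.types false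

universe u

open CategoryTheory CategoryTheory.Limits AlgebraicGeometry Opposite TopologicalSpace
open scoped TensorProduct Groth.Agent.H18Et

namespace Groth.Agent.H9Hens.PairSheaf

open Groth.Agent.H15Site.SetDescent Groth.Agent.H18Et Groth.Agent.H18PBC

section Alg

variable {A : Type u} [CommRing A] {I : Ideal A}

theorem exists_stage {g : A} {Hg : Type u} [CommRing Hg] [Algebra (Localization.Away g) Hg] [Algebra A Hg]
    [IsScalarTower A (Localization.Away g) Hg]
    (hHg : Hens2.IsPairHenselization (Localization.Away g) (I.map (algebraMap A (Localization.Away g))) Hg)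
    (x : Hg) :
    ∃ (B : Type u) (_ : CommRing B) (_ : Algebra A B) (_ : Algebra.Etale A B) (φ : B →ₐ[A] Hg) (b : B),
      φ b = x := by
  obtain ⟨π, hπ⟩ := exists_isPtColim_of_isPairHenselization hHg
  obtain ⟨S, _, _, _, φ, s, hs⟩ := hπ.exists_rep x
  let Ag := Localization.Away g
  letI : Algebra A S := ((algebraMap Ag S).comp (algebraMap A Ag)).toAlgebra
  haveI : IsScalarTower A Ag S := IsScalarTower.of_algebraMap_eq fun _ => rfl
  haveI : Algebra.Etale A Ag := Algebra.Etale.of_isLocalizationAway g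
  haveI : Algebra.Etale A S := Algebra.Etale.comp A Ag S
  exact ⟨S, inferInstance, inferInstance, inferInstance, φ.restrictScalars A, s, hs⟩

theorem exists_stage_eq_zero {g : A} {Hg : Type u} [CommRing Hg] [Algebra (Localization.Away g) Hg]
    [Algebra A Hg] [IsScalarTower A (Localization.Away g) Hg]
    (hHg : Hens2.IsPairHenselization (Localization.Away g) (I.map (algebraMap A (Localization.Away g))) Hg)
    {S : Type u} [CommRing S] [Algebra A S] [Algebra.Etale A S] (φ : S →ₐ[A] Hg) (d : S) (hd : φ d = 0) :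
    ∃ (T : Type u) (_ : CommRing T) (_ : Algebra A T) (_ : Algebra.Etale A T) (θ : S →ₐ[A] T)
      (φT : T →ₐ[A] Hg), φT.comp θ = φ ∧ θ d = 0 := by
  obtain ⟨π, hπ⟩ := exists_isPtColim_of_isPairHenselization hHg
  let Ag := Localization.Away g
  haveI : Algebra.Etale A Ag := Algebra.Etale.of_isLocalizationAway g
  let L : Ag ⊗[A] S →ₐ[Ag] Hg :=
    Algebra.TensorProduct.lift (Algebra.ofId Ag Hg) φ fun _ _ => Commute.all _ _
  obtain ⟨T, _, _, _, ψ, φT, h1, h2⟩ := hπ.exists_eq_zero (Ag ⊗[A] S) L (1 ⊗ₜ d) (by simp [L, hd])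
  letI : Algebra A T := ((algebraMap Ag T).comp (algebraMap A Ag)).toAlgebra
  haveI : IsScalarTower A Ag T := IsScalarTower.of_algebraMap_eq fun _ => rfl
  haveI : Algebra.Etale A T := Algebra.Etale.comp A Ag T
  refine ⟨T, inferInstance, inferInstance, inferInstance,
    (ψ.restrictScalars A).comp Algebra.TensorProduct.includeRight, φT.restrictScalars A, ?_, h2⟩
  refine AlgHom.ext fun s => ?_
  have := DFunLike.congr_fun h1 (1 ⊗ₜ s)
  simpa [L] using this

/-- Two elements from stages that agree in the henselization agree at a common stage. -/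
theorem exists_stage_eq {g : A} {Hg : Type u} [CommRing Hg] [Algebra (Localization.Away g) Hg] [Algebra A Hg]
    [IsScalarTower A (Localization.Away g) Hg]
    (hHg : Hens2.IsPairHenselization (Localization.Away g) (I.map (algebraMap A (Localization.Away g))) Hg)
    {B C : Type u} [CommRing B] [Algebra A B] [Algebra.Etale A B] [CommRing C] [Algebra A C] [Algebra.Etale A C]
    (φ : B →ₐ[A] Hg) (ψ : C →ₐ[A] Hg) (b : B) (c : C) (h : φ b = ψ c) :
    ∃ (T : Type u) (_ : CommRing T) (_ : Algebra A T) (_ : Algebra.Etale A T) (θ : B →ₐ[A] T)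
      (η : C →ₐ[A] T) (φT : T →ₐ[A] Hg), φT.comp θ = φ ∧ φT.comp η = ψ ∧ θ b = η c := by
  haveI : Algebra.Etale A (B ⊗[A] C) := Algebra.Etale.comp A B (B ⊗[A] C)
  obtain ⟨T, _, _, _, θ, φT, h1, h2⟩ := exists_stage_eq_zero hHg
    (Algebra.TensorProduct.lift φ ψ fun _ _ => Commute.all _ _) (b ⊗ₜ 1 - 1 ⊗ₜ c) (by simp [h])
  refine ⟨T, inferInstance, inferInstance, inferInstance, θ.comp Algebra.TensorProduct.includeLeft,
    θ.comp Algebra.TensorProduct.includeRight, φT, AlgHom.ext fun x => ?_, AlgHom.ext fun x => ?_, ?_⟩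
  · simpa using DFunLike.congr_fun h1 (x ⊗ₜ 1)
  · simpa using DFunLike.congr_fun h1 (1 ⊗ₜ x)
  · rwa [map_sub, sub_eq_zero] at h2

/-- Reductions modulo `I` of a localization form a localization. -/
theorem isLocalization_away_quot {H Hg : Type u} [CommRing H] [Algebra A H] [CommRing Hg] [Algebra A Hg]
    (g : A) [Algebra (Localization.Away g) Hg] [IsScalarTower A (Localization.Away g) Hg]
    (hH : Hens2.IsPairHenselization A I H)
    (hHg : Hens2.IsPairHenselization (Localization.Away g) (I.map (algebraMap A (Localization.Away g))) Hg)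
    [Algebra (H ⧸ I.map (algebraMap A H)) (Hg ⧸ I.map (algebraMap A Hg))]
    (hj : ∀ a : A, algebraMap (H ⧸ I.map (algebraMap A H)) (Hg ⧸ I.map (algebraMap A Hg))
      (Ideal.Quotient.mk _ (algebraMap A H a)) = Ideal.Quotient.mk _ (algebraMap A Hg a)) :
    IsLocalization.Away (Ideal.Quotient.mk (I.map (algebraMap A H)) (algebraMap A H g))
      (Hg ⧸ I.map (algebraMap A Hg)) := by
  let Ag := Localization.Away g
  let J := I.map (algebraMap A Ag)
  have hJ : J.map (algebraMap Ag Hg) = I.map (algebraMap A Hg) := by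
    rw [Ideal.map_map, ← IsScalarTower.algebraMap_eq]
  have hb := pairHenselization_quotient_pow_bijective hH 1
  have hc := pairHenselization_quotient_pow_bijective hHg 1
  have hsur : ∀ y : H, ∃ a : A, y - algebraMap A H a ∈ I.map (algebraMap A H) := fun y => by
    obtain ⟨z, hz⟩ := hb.2 (Ideal.Quotient.mk _ y)
    obtain ⟨a, rfl⟩ := Ideal.Quotient.mk_surjective z
    rw [Ideal.quotientMap_mk, Ideal.Quotient.eq, pow_one] at hz
    exact ⟨a, by simpa using neg_mem hz⟩
  have hgu : IsUnit (algebraMap A Hg g) := by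
    rw [IsScalarTower.algebraMap_apply A Ag Hg]
    exact (IsLocalization.Away.algebraMap_isUnit (S := Ag) g).map _
  refine IsLocalization.Away.mk _ ?_ (fun y => ?_) fun y z hyz => ?_
  · rw [hj]; exact hgu.map _
  · obtain ⟨w, rfl⟩ := Ideal.Quotient.mk_surjective y
    obtain ⟨z, hz⟩ := hc.2 (Ideal.Quotient.mk _ w)
    obtain ⟨r, rfl⟩ := Ideal.Quotient.mk_surjective z
    rw [Ideal.quotientMap_mk, Ideal.Quotient.eq, pow_one, hJ] at hz
    obtain ⟨n, a, ha⟩ := IsLocalization.Away.surj g r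
    refine ⟨n, Ideal.Quotient.mk _ (algebraMap A H a), ?_⟩
    rw [hj, hj, ← map_pow, ← map_mul, Ideal.Quotient.eq, IsScalarTower.algebraMap_apply A Ag Hg a, ← ha,
      map_mul, map_pow, ← IsScalarTower.algebraMap_apply, ← sub_mul]
    exact Ideal.mul_mem_right _ _ (by simpa using neg_mem hz)
  · obtain ⟨y, rfl⟩ := Ideal.Quotient.mk_surjective y
    obtain ⟨z, rfl⟩ := Ideal.Quotient.mk_surjective z
    obtain ⟨a, ha⟩ := hsur (y - z)
    have e : Ideal.Quotient.mk (I.map (algebraMap A H)) (y - z) = Ideal.Quotient.mk _ (algebraMap A H a) :=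
      Ideal.Quotient.eq.2 ha
    have h0 : Ideal.Quotient.mk (I.map (algebraMap A Hg)) (algebraMap A Hg a) = 0 := by
      rw [← hj, ← e, map_sub, map_sub, hyz, sub_self]
    rw [Ideal.Quotient.eq_zero_iff_mem, IsScalarTower.algebraMap_apply A Ag Hg, ← hJ] at h0
    have h1 : Ideal.quotientMap ((J ^ 1).map (algebraMap Ag Hg)) (algebraMap Ag Hg) Ideal.le_comap_map
        (Ideal.Quotient.mk _ (algebraMap A Ag a)) = 0 := by
      rw [Ideal.quotientMap_mk, Ideal.Quotient.eq_zero_iff_mem, pow_one]; exact h0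
    rw [map_eq_zero_iff _ hc.1, Ideal.Quotient.eq_zero_iff_mem, pow_one,
      IsLocalization.algebraMap_mem_map_algebraMap_iff (Submonoid.powers g)] at h1
    obtain ⟨-, ⟨n, rfl⟩, hn⟩ := h1
    refine ⟨n, ?_⟩
    rw [← sub_eq_zero, ← mul_sub, ← map_sub, e, ← map_pow, ← map_pow, ← map_mul, ← map_mul,
      Ideal.Quotient.eq_zero_iff_mem]
    exact Ideal.mem_map_of_mem _ hn

theorem eq_zero_of_forall_exists_mul {R : Type u} [CommRing R] {J : Ideal R} (hJ : J ≤ Ideal.jacobson ⊥)
    {y : R} (h : ∀ Q : Ideal R, Q.IsPrime → J ≤ Q → ∃ u ∉ Q, u * y = 0) : y = 0 := by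
  by_contra hy
  have hne : ((⊥ : Ideal R).colon {y}) ≠ ⊤ := fun e => hy (by
    have h1 : (1 : R) ∈ (⊥ : Ideal R).colon {y} := e ▸ Submodule.mem_top
    simpa [Submodule.mem_colon_singleton] using h1)
  obtain ⟨M, hM, hle⟩ := Ideal.exists_le_maximal _ hne
  have hJM : J ≤ M := hJ.trans (sInf_le ⟨bot_le, hM⟩)
  obtain ⟨u, hu, huy⟩ := h M hM.isPrime hJM
  exact hu (hle (by simpa [Submodule.mem_colon_singleton] using huy))

end Alg

section Sect

variable {Z X : Scheme.{u}}

/-- A global function as a section of the underlying sheaf of sets of the additive group. -/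
noncomputable def gaSect (U : X.Etale) (d : Γ(U.left, ⊤)) : (und (EtCoh.Ga X)).obj.obj (op U) := ULift.up d

theorem map_gaSect {U V : X.Etale} (g : V ⟶ U) (d : Γ(U.left, ⊤)) :
    (und (EtCoh.Ga X)).obj.map g.op (gaSect U d) = gaSect V (g.left.appTop d) := rfl

theorem gaSect_injective {U : X.Etale} {d e : Γ(U.left, ⊤)} (h : gaSect U d = gaSect U e) : d = e :=
  congrArg ULift.down h

theorem exists_eq_gaSect {U : X.Etale} (t : (und (EtCoh.Ga X)).obj.obj (op U)) : ∃ d, gaSect U d = t :=
  ⟨t.down, rfl⟩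

theorem germ_eq_of_mem_agree {U : X.Etale} {d e : Γ(U.left, ⊤)} {w : U.left}
    (h : w ∈ agree (und (EtCoh.Ga X)) (gaSect U d) (gaSect U e)) :
    U.left.presheaf.germ ⊤ w trivial d = U.left.presheaf.germ ⊤ w trivial e := by
  obtain ⟨V, g, v, rfl, hg⟩ := h
  rw [map_gaSect, map_gaSect] at hg
  haveI := etale_left g
  have hinj : Function.Injective (g.left.stalkMap v) := by
    letI := (g.left.stalkMap v).hom.toAlgebra
    haveI : Module.Flat (U.left.presheaf.stalk (g.left v)) (V.left.presheaf.stalk v) := Flat.stalkMap g.left v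
    haveI : IsLocalHom (algebraMap (U.left.presheaf.stalk (g.left v)) (V.left.presheaf.stalk v)) :=
      g.left.toLRSHom.prop v
    haveI : Module.FaithfullyFlat (U.left.presheaf.stalk (g.left v)) (V.left.presheaf.stalk v) :=
      Module.FaithfullyFlat.of_flat_of_isLocalHom
    exact FaithfulSMul.algebraMap_injective (U.left.presheaf.stalk (g.left v)) (V.left.presheaf.stalk v)
  refine hinj ?_
  rw [Scheme.Hom.germ_stalkMap_apply, Scheme.Hom.germ_stalkMap_apply]
  exact congrArg _ (gaSect_injective hg)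

theorem repSec_comp (G : EtDesc.Sh X) (p : Z ⟶ X) {O : Z.Opens} {W W' : X.Etale}
    (k : (O : Scheme.{u}) ⟶ W'.left) (hk : k ≫ W'.hom = O.ι ≫ p) (g : W' ⟶ W)
    (k₂ : (O : Scheme.{u}) ⟶ W.left) (hk₂ : k₂ ≫ W.hom = O.ι ≫ p) (e : k ≫ g.left = k₂)
    (t : G.obj.obj (op W)) : repSec G p k hk (G.obj.map g.op t) = repSec G p k₂ hk₂ t := by
  unfold repSec
  rw [pullSect_map, ← Functor.map_comp_apply, ← op_comp]
  exact congrArg (fun q : openEt O ⟶ (EtCoh.bc p).obj W => ((EtDesc.pullSh p).obj G).obj.map q.op (pullSect p G t))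
    (bcl_map p (U := openEt O) k hk g k₂ hk₂ e)

end Sect

section Main

variable {A : Type u} [CommRing A] {I : Ideal A} {H : Type u} [CommRing H] [Algebra A H]

/-- The affine étale scheme of an étale algebra. -/
noncomputable def stageEt (B : Type u) [CommRing B] [Algebra A B] [Algebra.Etale A B] :
    (Spec (CommRingCat.of H)).Etale :=
  haveI : Etale (Spec.map (CommRingCat.ofHom (algebraMap H (H ⊗[A] B)))) :=
    (HasRingHomProperty.Spec_iff (P := @Etale)).2 (RingHom.etale_algebraMap.2 inferInstance)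
  Scheme.Etale.mk (Spec.map (CommRingCat.ofHom (algebraMap H (H ⊗[A] B))))

/-- The morphism of affine étale schemes of a map of étale algebras. -/
noncomputable def stageHom {B C : Type u} [CommRing B] [Algebra A B] [Algebra.Etale A B] [CommRing C]
    [Algebra A C] [Algebra.Etale A C] (θ : B →ₐ[A] C) : stageEt (A := A) (H := H) C ⟶ stageEt (A := A) (H := H) B :=
  MorphismProperty.Over.homMk
    (Spec.map (CommRingCat.ofHom (Algebra.TensorProduct.map (AlgHom.id H H) θ).toRingHom))
    (by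
      show Spec.map _ ≫ Spec.map _ = Spec.map _
      rw [← Spec.map_comp, ← CommRingCat.ofHom_comp, AlgHom.toRingHom_eq_coe, AlgHom.comp_algebraMap])
    trivial

/-- The section given by an element. -/
noncomputable def stageSect (B : Type u) [CommRing B] [Algebra A B] [Algebra.Etale A B] (z : H ⊗[A] B) :
    (und (EtCoh.Ga (Spec (CommRingCat.of H)))).obj.obj (op (stageEt (A := A) (H := H) B)) :=
  gaSect _ ((Scheme.ΓSpecIso (CommRingCat.of (H ⊗[A] B))).inv z)

theorem map_stageSect {B C : Type u} [CommRing B] [Algebra A B] [Algebra.Etale A B] [CommRing C]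
    [Algebra A C] [Algebra.Etale A C] (θ : B →ₐ[A] C) (z : H ⊗[A] B) :
    (und (EtCoh.Ga (Spec (CommRingCat.of H)))).obj.map (stageHom (H := H) θ).op (stageSect B z) =
      stageSect C (Algebra.TensorProduct.map (AlgHom.id H H) θ z) := by
  rw [stageSect, map_gaSect]
  exact congrArg (gaSect _) (congrArg (fun q => q z)
    (Scheme.ΓSpecIso_inv_naturality
      (CommRingCat.ofHom (Algebra.TensorProduct.map (AlgHom.id H H) θ).toRingHom)).symm)

theorem exists_mul_of_mem_agree {B : Type u} [CommRing B] [Algebra A B] [Algebra.Etale A B] {z z' : H ⊗[A] B}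
    {w : PrimeSpectrum (H ⊗[A] B)}
    (h : w ∈ agree (und (EtCoh.Ga (Spec (CommRingCat.of H)))) (stageSect B z) (stageSect B z')) :
    ∃ u ∉ w.asIdeal, u * (z - z') = 0 := by
  have hg := germ_eq_of_mem_agree h
  let R := H ⊗[A] B
  have h1 : StructureSheaf.toStalk R w z = StructureSheaf.toStalk R w z' := hg
  obtain ⟨⟨c, hc⟩, he⟩ :=
    (IsLocalization.eq_iff_exists w.asIdeal.primeCompl ((Spec.structureSheaf R).presheaf.stalk w)).1 h1
  exact ⟨c, hc, by rw [mul_sub, sub_eq_zero]; exact he⟩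

variable (ι : Type u) (g : ι → A) (hcov : I ⊔ Ideal.span (Set.range g) = ⊤)
  (hH : Hens2.IsPairHenselization A I H)
  (Hi : ι → Type u) [∀ i, CommRing (Hi i)] [∀ i, Algebra (Localization.Away (g i)) (Hi i)]
  [∀ i, Algebra A (Hi i)] [∀ i, IsScalarTower A (Localization.Away (g i)) (Hi i)]
  (hHi : ∀ i, Hens2.IsPairHenselization (Localization.Away (g i))
    (I.map (algebraMap A (Localization.Away (g i)))) (Hi i))
  (ρ : ∀ i, H →ₐ[A] Hi i)

include hcov hH hHi in
theorem injective (x y : H) (h : ∀ i, ρ i x = ρ i y) : x = y := by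
  rw [← sub_eq_zero]
  refine eq_zero_of_forall_exists_mul (J := I.map (algebraMap A H)) hH.1.jac fun Q hQ hIQ => ?_
  obtain ⟨i, hi⟩ : ∃ i, algebraMap A H (g i) ∉ Q := by
    by_contra hc
    push Not at hc
    refine hQ.ne_top ((Ideal.eq_top_iff_one _).2 ?_)
    have : (⊤ : Ideal A) ≤ Q.comap (algebraMap A H) := by
      rw [← hcov, sup_le_iff, ← Ideal.map_le_iff_le_comap, Ideal.span_le]
      exact ⟨hIQ, fun _ ⟨i, hi⟩ => hi ▸ hc i⟩
    simpa [Ideal.mem_comap, Ideal.eq_top_iff_one] using this (Submodule.mem_top (x := 1))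
  let Ag := Localization.Away (g i)
  letI : Algebra H (Hi i) := (ρ i).toRingHom.toAlgebra
  haveI : IsScalarTower A H (Hi i) := IsScalarTower.of_algebraMap_eq fun a => ((ρ i).commutes a).symm
  obtain ⟨π, hπ⟩ := exists_isPtColim_of_isPairHenselization (hHi i)
  haveI : Module.Flat Ag (Hi i) := hπ.flat
  haveI : Module.Flat A Ag := IsLocalization.flat Ag (Submonoid.powers (g i))
  haveI : Module.Flat A (Hi i) := Module.Flat.trans A Ag (Hi i)
  obtain ⟨π₀, hπ₀⟩ := exists_isPtColim_of_isPairHenselization hH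
  haveI : Module.Flat H (Hi i) := hπ₀.flat_of_restrictScalars (Hi i)
  obtain ⟨κ, c, z, hc, hca⟩ := Module.Flat.iff_forall_isTrivialRelation.mp ‹Module.Flat H (Hi i)›
    (f := fun _ : Fin 1 => x - y) (x := fun _ => (1 : Hi i)) (by
      rw [Fin.sum_univ_one, Algebra.smul_def, mul_one]
      show ρ i (x - y) = 0
      rw [map_sub, h i, sub_self])
  by_contra hne
  push Not at hne
  have hcQ : ∀ j, c 0 j ∈ Q := fun j => by
    by_contra hj
    refine hne _ hj ?_
    have := hca j
    rw [Fin.sum_univ_one, mul_comm] at this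
    exact this
  letI : Algebra (H ⧸ I.map (algebraMap A H)) (Hi i ⧸ I.map (algebraMap A (Hi i))) :=
    (Ideal.quotientMap _ (ρ i).toRingHom (Ideal.map_le_iff_le_comap.1 (by
      rw [Ideal.map_map, AlgHom.toRingHom_eq_coe, AlgHom.comp_algebraMap]))).toAlgebra
  haveI := isLocalization_away_quot (g i) hH (hHi i) fun a => congrArg _ ((ρ i).commutes a)
  haveI : (Q.map (Ideal.Quotient.mk (I.map (algebraMap A H)))).IsPrime :=
    Ideal.map_isPrime_of_surjective Ideal.Quotient.mk_surjective (by rwa [Ideal.mk_ker])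
  obtain ⟨q, hq⟩ : (⟨_, ‹(Q.map (Ideal.Quotient.mk (I.map (algebraMap A H)))).IsPrime›⟩ :
      PrimeSpectrum (H ⧸ I.map (algebraMap A H))) ∈ Set.range (PrimeSpectrum.comap
        (algebraMap (H ⧸ I.map (algebraMap A H)) (Hi i ⧸ I.map (algebraMap A (Hi i))))) := by
    rw [PrimeSpectrum.localization_away_comap_range _ (Ideal.Quotient.mk _ (algebraMap A H (g i)))]
    show Ideal.Quotient.mk _ (algebraMap A H (g i)) ∉ Q.map (Ideal.Quotient.mk _)
    rw [← Ideal.mem_comap, Ideal.comap_map_of_surjective' _ Ideal.Quotient.mk_surjective, Ideal.mk_ker,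
      sup_eq_left.2 hIQ]
    exact hi
  have hq' : ∀ a ∈ Q, Ideal.Quotient.mk _ (ρ i a) ∈ q.asIdeal := fun a ha => by
    have := (SetLike.ext_iff.1 (congrArg PrimeSpectrum.asIdeal hq) (Ideal.Quotient.mk _ a)).2
      (Ideal.mem_map_of_mem _ ha)
    exact this
  refine q.isPrime.ne_top ((Ideal.eq_top_iff_one _).2 ?_)
  have h1 := congrArg (Ideal.Quotient.mk (I.map (algebraMap A (Hi i)))) (hc 0)
  rw [map_one, map_sum] at h1
  rw [h1]
  refine Ideal.sum_mem _ fun j _ => ?_
  rw [Algebra.smul_def, map_mul]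
  exact Ideal.mul_mem_right _ _ (hq' _ (hcQ j))

variable (Hij : ι → ι → Type u) [∀ i j, CommRing (Hij i j)]
  [∀ i j, Algebra (Localization.Away (g i * g j)) (Hij i j)]
  [∀ i j, Algebra A (Hij i j)] [∀ i j, IsScalarTower A (Localization.Away (g i * g j)) (Hij i j)]
  (hHij : ∀ i j, Hens2.IsPairHenselization (Localization.Away (g i * g j))
    (I.map (algebraMap A (Localization.Away (g i * g j)))) (Hij i j))
  (σ : ∀ i j, Hi i →ₐ[A] Hij i j) (τ : ∀ i j, Hi j →ₐ[A] Hij i j)

include hcov hH hHi hHij in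
theorem surjective (s : ∀ i, Hi i) (hs : ∀ i j, σ i j (s i) = τ i j (s j)) : ∃ x : H, ∀ i, ρ i x = s i := by
  let IH := I.map (algebraMap A H)
  let X := Spec (CommRingCat.of H)
  let Z := Spec (CommRingCat.of (H ⧸ IH))
  let i₀ : Z ⟶ X := Spec.map (CommRingCat.ofHom (Ideal.Quotient.mk IH))
  haveI := hH.1
  haveI : IsClosedImmersion i₀ := IsClosedImmersion.spec_of_surjective _ Ideal.Quotient.mk_surjective
  have hCP : CP i₀ := cp_spec IH
  let G := und (EtCoh.Ga X)
  -- reductions of algebras over `H`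
  let red : ∀ {R : Type u} [CommRing R] [Algebra A R], (H →ₐ[A] R) → (H ⧸ IH →+* R ⧸ I.map (algebraMap A R)) :=
    fun {R} _ _ r => Ideal.quotientMap _ r.toRingHom (Ideal.map_le_iff_le_comap.1 (by
      rw [Ideal.map_map, AlgHom.toRingHom_eq_coe, AlgHom.comp_algebraMap]))
  let rhoij : ∀ a c, H →ₐ[A] Hij a c := fun a c => (σ a c).comp (ρ a)
  have hρij : ∀ a c, (τ a c).comp (ρ c) = rhoij a c := fun a c => by
    haveI := (hHij a c).1
    have hle : I.map (algebraMap A (Hij a c)) ≤
        (I.map (algebraMap A (Localization.Away (g a * g c)))).map (algebraMap _ (Hij a c)) := by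
      rw [Ideal.map_map, ← IsScalarTower.algebraMap_eq]
    exact AlgHom.coe_ringHom_injective ((hH.2 (Hij a c) _ (algebraMap A (Hij a c)) (hHij a c).1 hle).unique
      (AlgHom.comp_algebraMap _) (AlgHom.comp_algebraMap _))
  have hopen : ∀ (f : A) (R : Type u) [CommRing R] [Algebra A R] [Algebra (Localization.Away f) R]
      [IsScalarTower A (Localization.Away f) R],
      Hens2.IsPairHenselization (Localization.Away f) (I.map (algebraMap A (Localization.Away f))) R →
      ∀ r : H →ₐ[A] R, IsOpenImmersion (Spec.map (CommRingCat.ofHom (red r))) ∧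
        Set.range (Spec.map (CommRingCat.ofHom (red r))) =
          {z : PrimeSpectrum (H ⧸ IH) | Ideal.Quotient.mk IH (algebraMap A H f) ∉ z.asIdeal} := by
    intro f R _ _ _ _ hR r
    letI : Algebra (H ⧸ IH) (R ⧸ I.map (algebraMap A R)) := (red r).toAlgebra
    haveI := isLocalization_away_quot f hH hR fun a => congrArg _ (r.commutes a)
    exact ⟨IsOpenImmersion.of_isLocalization (Ideal.Quotient.mk IH (algebraMap A H f)),
      PrimeSpectrum.localization_away_comap_range (R ⧸ I.map (algebraMap A R))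
        (Ideal.Quotient.mk IH (algebraMap A H f))⟩
  haveI hoi : ∀ a, IsOpenImmersion (Spec.map (CommRingCat.ofHom (red (ρ a)))) := fun a =>
    (hopen (g a) (Hi a) (hHi a) (ρ a)).1
  haveI hoij : ∀ a c, IsOpenImmersion (Spec.map (CommRingCat.ofHom (red (rhoij a c)))) := fun a c =>
    (hopen (g a * g c) (Hij a c) (hHij a c) (rhoij a c)).1
  let O : ι → Z.Opens := fun a => (Spec.map (CommRingCat.ofHom (red (ρ a)))).opensRange
  have hcovZ : ∀ z : Z, ∃ a, z ∈ O a := fun z => by
    by_contra hc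
    push Not at hc
    refine z.isPrime.ne_top ((Ideal.eq_top_iff_one _).2 ?_)
    have hmem : ∀ a, Ideal.Quotient.mk IH (algebraMap A H (g a)) ∈ z.asIdeal := fun a => by
      by_contra h
      exact hc a (show z ∈ Set.range _ from ((hopen (g a) (Hi a) (hHi a) (ρ a)).2).symm ▸ h)
    have : (⊤ : Ideal A) ≤ z.asIdeal.comap ((Ideal.Quotient.mk IH).comp (algebraMap A H)) := by
      rw [← hcov, sup_le_iff, Ideal.span_le]
      refine ⟨fun w hw => ?_, fun _ ⟨a, ha⟩ => ha ▸ hmem a⟩
      rw [Ideal.mem_comap, RingHom.comp_apply, Ideal.Quotient.eq_zero_iff_mem.2 (Ideal.mem_map_of_mem _ hw)]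
      exact zero_mem _
    simpa [Ideal.mem_comap, Ideal.eq_top_iff_one] using this (Submodule.mem_top (x := 1))
  -- stages
  choose B iB₁ iB₂ iB₃ φ b hb using fun a => exists_stage (hHi a) (s a)
  let q : ∀ a, H ⊗[A] B a →ₐ[A] Hi a := fun a =>
    Algebra.TensorProduct.lift (ρ a) (φ a) fun _ _ => Commute.all _ _
  let qb : ∀ a, H ⊗[A] B a →+* Hi a ⧸ I.map (algebraMap A (Hi a)) := fun a =>
    (Ideal.Quotient.mk _).comp (q a).toRingHom
  let W : ι → X.Etale := fun a => stageEt (A := A) (H := H) (B a)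
  let k : ∀ a, (O a : Scheme.{u}) ⟶ (W a).left := fun a =>
    (Spec.map (CommRingCat.ofHom (red (ρ a)))).isoOpensRange.inv ≫ Spec.map (CommRingCat.ofHom (qb a))
  have hk : ∀ a, k a ≫ (W a).hom = (O a).ι ≫ i₀ := fun a => by
    show (_ ≫ Spec.map _) ≫ Spec.map _ = _
    rw [Category.assoc, ← Spec.map_comp, ← CommRingCat.ofHom_comp,
      show (qb a).comp (algebraMap H (H ⊗[A] B a)) = (red (ρ a)).comp (Ideal.Quotient.mk IH) from
        RingHom.ext fun x => by simp [qb, q, red],
      CommRingCat.ofHom_comp, Spec.map_comp, Scheme.Hom.isoOpensRange_inv_comp_assoc]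
  let t : ∀ a, G.obj.obj (op (W a)) := fun a => stageSect (B a) (1 ⊗ₜ b a)
  haveI : IsIso ((EtCoh.bc i₀).obj (EtCoh.top X)).hom := inferInstanceAs (IsIso (pullback.snd (𝟙 X) i₀))
  obtain ⟨S, hS⟩ := exists_glue (G := (EtDesc.pullSh i₀).obj G) (EtCore.bcTopIsTerminal i₀) O hcovZ
    (fun a => repSec G i₀ (k a) (hk a) (t a)) (fun a c z hza hzc => by
    obtain ⟨T, _, _, _, θ, η, φT, hθ, hη, he⟩ := exists_stage_eq (hHij a c) ((σ a c).comp (φ a))
      ((τ a c).comp (φ c)) (b a) (b c) (by
        rw [AlgHom.comp_apply, AlgHom.comp_apply, hb, hb]; exact hs a c)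
    let j := Spec.map (CommRingCat.ofHom (red (rhoij a c)))
    let O' : Z.Opens := j.opensRange
    let qT : H ⊗[A] T →ₐ[A] Hij a c := Algebra.TensorProduct.lift (rhoij a c) φT fun _ _ => Commute.all _ _
    let k' : (O' : Scheme.{u}) ⟶ (stageEt (A := A) (H := H) T).left :=
      j.isoOpensRange.inv ≫ Spec.map (CommRingCat.ofHom ((Ideal.Quotient.mk _).comp qT.toRingHom))
    have hk' : k' ≫ (stageEt (A := A) (H := H) T).hom = O'.ι ≫ i₀ := by
      show (_ ≫ Spec.map _) ≫ Spec.map _ = _
      rw [Category.assoc, ← Spec.map_comp, ← CommRingCat.ofHom_comp,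
        show ((Ideal.Quotient.mk _).comp qT.toRingHom).comp (algebraMap H (H ⊗[A] T)) =
            (red (rhoij a c)).comp (Ideal.Quotient.mk IH) from RingHom.ext fun x => by simp [qT, red],
        CommRingCat.ofHom_comp, Spec.map_comp, Scheme.Hom.isoOpensRange_inv_comp_assoc]
    have side : ∀ (d : ι) (r : Hi d →ₐ[A] Hij a c) (ζ : B d →ₐ[A] T), r.comp (ρ d) = rhoij a c →
        φT.comp ζ = r.comp (φ d) → ∀ le : O' ≤ O d,
        k' ≫ (stageHom (H := H) ζ).left = Z.homOfLE le ≫ k d := by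
      intro d r ζ hr hζ le
      let rb : Hi d ⧸ I.map (algebraMap A (Hi d)) →+* Hij a c ⧸ I.map (algebraMap A (Hij a c)) :=
        Ideal.quotientMap _ r.toRingHom (Ideal.map_le_iff_le_comap.1 (by
          rw [Ideal.map_map, AlgHom.toRingHom_eq_coe, AlgHom.comp_algebraMap]))
      have e0 : Z.homOfLE le ≫ (Spec.map (CommRingCat.ofHom (red (ρ d)))).isoOpensRange.inv =
          j.isoOpensRange.inv ≫ Spec.map (CommRingCat.ofHom rb) := by
        rw [← cancel_mono (Spec.map (CommRingCat.ofHom (red (ρ d)))), Category.assoc,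
          Scheme.Hom.isoOpensRange_inv_comp, Scheme.homOfLE_ι, Category.assoc, ← Spec.map_comp,
          ← CommRingCat.ofHom_comp, show rb.comp (red (ρ d)) = red (rhoij a c) from
            Ideal.Quotient.ringHom_ext (RingHom.ext fun x =>
              congrArg (Ideal.Quotient.mk _) (DFunLike.congr_fun hr x)),
          Scheme.Hom.isoOpensRange_inv_comp]
      have e1 : rb.comp (qb d) = ((Ideal.Quotient.mk _).comp qT.toRingHom).comp
          (Algebra.TensorProduct.map (AlgHom.id H H) ζ).toRingHom := by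
        refine RingHom.ext fun w => congrArg (Ideal.Quotient.mk (I.map (algebraMap A (Hij a c)))) ?_
        have : r.comp (q d) = qT.comp ((Algebra.TensorProduct.map (AlgHom.id H H) ζ).restrictScalars A) := by
          refine Algebra.TensorProduct.ext' fun x y => ?_
          simp [q, qT, ← hr, ← AlgHom.comp_apply φT ζ, hζ]
        exact DFunLike.congr_fun this w
      show (_ ≫ Spec.map _) ≫ Spec.map _ = Z.homOfLE le ≫ _ ≫ Spec.map _
      rw [reassoc_of% e0, Category.assoc, ← Spec.map_comp, ← Spec.map_comp, ← CommRingCat.ofHom_comp,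
        ← CommRingCat.ofHom_comp, e1]
    have hrange : ∀ w : PrimeSpectrum (H ⧸ IH), w ∈ O' ↔
        (Ideal.Quotient.mk IH (algebraMap A H (g a)) ∉ w.asIdeal ∧
          Ideal.Quotient.mk IH (algebraMap A H (g c)) ∉ w.asIdeal) := fun w => by
      show w ∈ Set.range (Spec.map (CommRingCat.ofHom (red (rhoij a c)))) ↔ _
      rw [(hopen (g a * g c) (Hij a c) (hHij a c) (rhoij a c)).2]
      show Ideal.Quotient.mk IH (algebraMap A H (g a * g c)) ∉ w.asIdeal ↔ _
      rw [map_mul, map_mul, w.isPrime.mul_mem_iff_mem_or_mem, not_or]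
    have hmemO : ∀ (d : ι) (w : PrimeSpectrum (H ⧸ IH)), w ∈ O d ↔
        Ideal.Quotient.mk IH (algebraMap A H (g d)) ∉ w.asIdeal := fun d w => by
      show w ∈ Set.range (Spec.map (CommRingCat.ofHom (red (ρ d)))) ↔ _
      rw [(hopen (g d) (Hi d) (hHi d) (ρ d)).2]
      rfl
    have la : O' ≤ O a := fun w hw => (hmemO a w).2 ((hrange w).1 hw).1
    have lc : O' ≤ O c := fun w hw => (hmemO c w).2 ((hrange w).1 hw).2
    have hz' : z ∈ O' := (hrange z).2 ⟨(hmemO a z).1 hza, (hmemO c z).1 hzc⟩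
    refine ⟨openEt O', openLE la, openLE lc, ⟨z, hz'⟩, rfl, ?_⟩
    rw [map_openLE_repSec G i₀ la (k a) (hk a) (t a) (homOfLE_comp la i₀ (k a) (hk a)),
      map_openLE_repSec G i₀ lc (k c) (hk c) (t c) (homOfLE_comp lc i₀ (k c) (hk c)),
      ← repSec_comp G i₀ k' hk' (stageHom θ) _ _ (side a (σ a c) θ rfl hθ la) (t a),
      ← repSec_comp G i₀ k' hk' (stageHom η) _ _ (side c (τ a c) η (hρij a c) hη lc) (t c)]
    refine congrArg _ ?_
    refine (map_stageSect θ _).trans (Eq.trans ?_ (map_stageSect η _).symm)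
    rw [Algebra.TensorProduct.map_tmul, Algebra.TensorProduct.map_tmul, he])
  obtain ⟨x', hx'⟩ := (bijective_pullSect hCP G).2 S
  obtain ⟨d, rfl⟩ := exists_eq_gaSect x'
  let x : H := (Scheme.ΓSpecIso (CommRingCat.of H)).hom d
  have hd : d = (Scheme.ΓSpecIso (CommRingCat.of H)).inv x :=
    (Iso.hom_inv_id_apply (Scheme.ΓSpecIso (CommRingCat.of H)) d).symm
  refine ⟨x, fun a => ?_⟩
  rw [← sub_eq_zero]
  refine eq_zero_of_forall_exists_mul (J := I.map (algebraMap A (Hi a))) ?_ fun Q hQ hIQ => ?_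
  · have := (hHi a).1.jac
    rwa [Ideal.map_map, ← IsScalarTower.algebraMap_eq] at this
  haveI := hQ
  let Q' : PrimeSpectrum (Hi a ⧸ I.map (algebraMap A (Hi a))) :=
    ⟨Q.map (Ideal.Quotient.mk _), Ideal.map_isPrime_of_surjective Ideal.Quotient.mk_surjective
      (by rwa [Ideal.mk_ker])⟩
  let v : (O a : Scheme.{u}) := (Spec.map (CommRingCat.ofHom (red (ρ a)))).isoOpensRange.hom Q'
  have hkv : k a v = PrimeSpectrum.comap (qb a) Q' := by
    show ((Spec.map (CommRingCat.ofHom (red (ρ a)))).isoOpensRange.inv ≫ Spec.map (CommRingCat.ofHom (qb a))) v = _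
    rw [Scheme.Hom.comp_apply]
    refine congrArg (Spec.map (CommRingCat.ofHom (qb a))) ?_
    exact congrArg (fun f : Spec (CommRingCat.of (Hi a ⧸ I.map (algebraMap A (Hi a)))) ⟶
        Spec (CommRingCat.of (Hi a ⧸ I.map (algebraMap A (Hi a)))) => f Q')
      (Spec.map (CommRingCat.ofHom (red (ρ a)))).isoOpensRange.hom_inv_id
  have hag : k a v ∈ agree G (G.obj.map (toTop (W a)).op (gaSect _ d)) (t a) := by
    have h1 : (bcl i₀ (U := openEt (O a)) (k a) (hk a)).left.base v ∈
        agree _ (pullSect i₀ G (G.obj.map (toTop (W a)).op (gaSect _ d))) (pullSect i₀ G (t a)) := by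
      rw [← mem_agree_map, pullSect_map, hx', ← Functor.map_comp_apply, ← op_comp,
        (EtCore.bcTopIsTerminal i₀).hom_ext (_ ≫ _) ((EtCore.bcTopIsTerminal i₀).from (openEt (O a))), hS]
      exact ⟨_, 𝟙 _, _, rfl, rfl⟩
    exact Eq.mp (congrArg (fun q : (W a).left => q ∈ agree G (G.obj.map (toTop (W a)).op (gaSect _ d)) (t a))
      (congrArg (fun q : (O a : Scheme.{u}) ⟶ (W a).left => q v) (bcl_fst i₀ (U := openEt (O a)) (k a) (hk a))))
      ((mem_agree_pullSect i₀ G _ _ _).1 h1)
  have hmap : G.obj.map (toTop (W a)).op (gaSect _ d) = stageSect (B a) (x ⊗ₜ 1) := by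
    rw [map_gaSect, hd, toTop_left]
    exact congrArg (gaSect _) (congrArg (fun q => q x)
      (Scheme.ΓSpecIso_inv_naturality (CommRingCat.ofHom (algebraMap H (H ⊗[A] B a)))).symm)
  rw [hmap, hkv] at hag
  obtain ⟨u, hu, hu0⟩ := exists_mul_of_mem_agree hag
  refine ⟨q a u, fun hm => hu (Ideal.mem_map_of_mem _ hm), ?_⟩
  have := congrArg (q a) hu0
  simpa [q, hb] using this

end Main

end Groth.Agent.H9Hens.PairSheaf
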