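import Groth.Agent.H9Hens.HfpDescend
import Groth.Agent.H9Hens.PairSheaf

/-!
# Toolkit for henselian finite presentation on a cover: chosen henselizations and maps out of
henselizations of basic opens
-/

set_option autoImplicit false
set_option linter.style.haveILetI false

universe u

namespace Groth.Agent.H9Hens.HfpCover

variable {A : Type u} [CommRing A] (I : Ideal A)

/-- A henselization of `(D, ID)` with its structures over `A` and `D`. -/
structure HensData (D : Type u) [CommRing D] [Algebra A D] : Type (u + 1) where
  C : Type u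
  ring : CommRing C
  algD : Algebra D C
  algA : Algebra A C
  tower : IsScalarTower A D C
  hens : Hens2.IsPairHenselization D (I.map (algebraMap A D)) C

theorem nonempty_hensData (D : Type u) [CommRing D] [Algebra A D] : Nonempty (HensData I D) := by
  obtain ⟨C, i₁, i₂, π, -, hC⟩ := exists_isPairHenselization D (I.map (algebraMap A D))
  letI : Algebra A C := ((algebraMap D C).comp (algebraMap A D)).toAlgebra
  exact ⟨⟨C, i₁, i₂, inferInstance, IsScalarTower.of_algebraMap_eq fun _ => rfl, hC⟩⟩

/-- A chosen henselization. -/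
noncomputable def hensData (D : Type u) [CommRing D] [Algebra A D] : HensData I D :=
  Classical.choice (nonempty_hensData I D)

/-- The ring of the chosen henselization. -/
abbrev Hen (D : Type u) [CommRing D] [Algebra A D] : Type u := (hensData I D).C

noncomputable instance (D : Type u) [CommRing D] [Algebra A D] : CommRing (Hen I D) := (hensData I D).ring
noncomputable instance instAlgD (D : Type u) [CommRing D] [Algebra A D] : Algebra D (Hen I D) :=
  (hensData I D).algD
noncomputable instance instAlgA (D : Type u) [CommRing D] [Algebra A D] : Algebra A (Hen I D) :=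
  (hensData I D).algA
instance (D : Type u) [CommRing D] [Algebra A D] : IsScalarTower A D (Hen I D) := (hensData I D).tower

theorem hens (D : Type u) [CommRing D] [Algebra A D] :
    Hens2.IsPairHenselization D (I.map (algebraMap A D)) (Hen I D) := (hensData I D).hens

instance henselian_hen (D : Type u) [CommRing D] [Algebra A D] :
    HenselianRing (Hen I D) (I.map (algebraMap A (Hen I D))) := relHens_henselian (hens I D)

variable {I}

section Away

variable {T : Type u} [CommRing T] [Algebra A T] {g : T} {C : Type u} [CommRing C]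
  [Algebra (Localization.Away g) C] [Algebra A C] [IsScalarTower A (Localization.Away g) C]

/-- The image of an element in a henselization of a basic open. -/
noncomputable def ofA (g : T) (C : Type u) [CommRing C] [Algebra (Localization.Away g) C] [Algebra A C]
    [IsScalarTower A (Localization.Away g) C] : T →ₐ[A] C :=
  (IsScalarTower.toAlgHom A (Localization.Away g) C).comp (IsScalarTower.toAlgHom A T (Localization.Away g))

theorem isUnit_ofA : IsUnit (ofA (A := A) g C g) :=
  (IsLocalization.Away.algebraMap_isUnit (S := Localization.Away g) g).map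
    (IsScalarTower.toAlgHom A (Localization.Away g) C)

variable (hC : Hens2.IsPairHenselization (Localization.Away g) (I.map (algebraMap A (Localization.Away g))) C)
  {C' : Type u} [CommRing C'] [Algebra A C'] [HenselianRing C' (I.map (algebraMap A C'))]

include hC

theorem ext_away {G G' : C →ₐ[A] C'} (h : ∀ t, G (ofA (A := A) g C t) = G' (ofA (A := A) g C t)) : G = G' := by
  refine relHens_ext hC fun x => ?_
  exact RingHom.congr_fun (IsLocalization.ringHom_ext (Submonoid.powers g)
    (j := G.toRingHom.comp (algebraMap (Localization.Away g) C))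
    (k := G'.toRingHom.comp (algebraMap (Localization.Away g) C)) (RingHom.ext h)) x

theorem exists_away (r : T →ₐ[A] C') (hr : IsUnit (r g)) : ∃ G : C →ₐ[A] C', ∀ t, G (ofA (A := A) g C t) = r t := by
  obtain ⟨G, hG⟩ := relHens_exists hC (IsLocalization.Away.liftAlgHom (S := Localization.Away g) g (f := r) hr)
  refine ⟨G, fun t => (hG _).trans ?_⟩
  exact IsLocalization.Away.lift_eq g hr t

end Away

/-- The image of a henselization lies in any henselian image containing the image of its base. -/
theorem range_le {C H H' R : Type u} [CommRing C] [Algebra A C] [HenselianRing C (I.map (algebraMap A C))]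
    [CommRing H] [Algebra A H] [HenselianRing H (I.map (algebraMap A H))] [CommRing R] [Algebra A R]
    [CommRing H'] [Algebra R H'] [Algebra A H'] [IsScalarTower A R H']
    (hR : Hens2.IsPairHenselization R (I.map (algebraMap A R)) H') (p : C →ₐ[A] H) (r : H' →ₐ[A] H)
    (h : ∀ x, r (algebraMap R H' x) ∈ p.range) : r.range ≤ p.range := by
  haveI : HenselianRing (C ⧸ RingHom.ker p) (I.map (algebraMap A (C ⧸ RingHom.ker p))) := by
    have := henselianRing_quotient (J := I.map (algebraMap A C)) (RingHom.ker p)
    rwa [Ideal.map_map] at this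
  let k := Ideal.kerLiftAlg p
  have hk : Function.Injective k := Ideal.kerLiftAlg_injective p
  let φ : R →ₐ[A] C ⧸ RingHom.ker p := (AlgEquiv.ofInjective k hk).symm.toAlgHom.comp
    ((r.comp (IsScalarTower.toAlgHom A R H')).codRestrict k.range fun x => by
      obtain ⟨c, hc⟩ := h x
      exact ⟨Ideal.Quotient.mk _ c, hc⟩)
  obtain ⟨v, hv⟩ := relHens_exists hR φ
  have e : k.comp v = r := relHens_ext hR fun x => by
    rw [AlgHom.comp_apply, hv]
    exact congrArg Subtype.val ((AlgEquiv.ofInjective k hk).apply_symm_apply _)
  rintro _ ⟨x, rfl⟩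
  obtain ⟨c, hc⟩ := Ideal.Quotient.mk_surjective (v x)
  exact ⟨c, by rw [← e]; show p c = k (v x); rw [← hc]; rfl⟩

/-- A map of henselizations of basic opens of two algebras has all elements of the source base in a range
as soon as it has the algebra and the inverse. -/
theorem mem_range_away {T : Type u} [CommRing T] [Algebra A T] {g : T} {C : Type u} [CommRing C]
    [Algebra (Localization.Away g) C] [Algebra A C] [IsScalarTower A (Localization.Away g) C]
    {H : Type u} [CommRing H] [Algebra A H] (r : C →ₐ[A] H) (S : Subalgebra A H)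
    (hT : ∀ t, r (ofA (A := A) g C t) ∈ S) (hg : ∃ v ∈ S, r (ofA (A := A) g C g) * v = 1) (x : Localization.Away g) :
    r (algebraMap _ C x) ∈ S := by
  obtain ⟨v, hvS, hv⟩ := hg
  obtain ⟨k, t, hx⟩ := IsLocalization.Away.surj g x
  have e : r (algebraMap _ C x) = r (ofA (A := A) g C t) * v ^ k := by
    have := congrArg (fun y => r (algebraMap _ C y) * v ^ k) hx
    simp only [map_mul, map_pow, mul_assoc] at this
    rw [show r (algebraMap (Localization.Away g) C (algebraMap T (Localization.Away g) g)) = r (ofA (A := A) g C g) from rfl,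
      ← mul_pow, hv, one_pow, mul_one] at this
    exact this
  rw [e]
  exact mul_mem (hT t) (pow_mem hvS k)

/-- A surjection from a henselization of a basic open of a finite type algebra onto a henselization of a
finitely presented algebra has finitely generated kernel. -/
theorem fg_ker {T : Type u} [CommRing T] [Algebra A T] [Algebra.FiniteType A T] {g : T} {C : Type u} [CommRing C]
    [Algebra (Localization.Away g) C] [Algebra A C] [IsScalarTower A (Localization.Away g) C]
    (hC : Hens2.IsPairHenselization (Localization.Away g) (I.map (algebraMap A (Localization.Away g))) C)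
    {R H : Type u} [CommRing R] [Algebra A R] [Algebra.FinitePresentation A R] [CommRing H] [Algebra R H]
    [Algebra A H] [IsScalarTower A R H] (hR : Hens2.IsPairHenselization R (I.map (algebraMap A R)) H)
    (p : C →ₐ[A] H) (hp : Function.Surjective p) : (RingHom.ker p).FG := by
  classical
  haveI := relHens_henselian hC
  haveI := relHens_henselian hR
  obtain ⟨m, P, hP, ⟨F, hF⟩⟩ := Algebra.FinitePresentation.out (R := A) (A := R)
  choose z hz using fun j => hp (algebraMap R H (P (MvPolynomial.X j)))
  let ψ₀ : MvPolynomial (Fin m) A →ₐ[A] C := MvPolynomial.aeval z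
  have hψ₀ : ∀ w, p (ψ₀ w) = algebraMap R H (P w) := fun w => DFunLike.congr_fun
    (show p.comp ψ₀ = (IsScalarTower.toAlgHom A R H).comp P from
      MvPolynomial.algHom_ext fun j => by simp [ψ₀, hz]) w
  obtain ⟨G, hG⟩ := Algebra.FiniteType.out (R := A) (A := T)
  let K₁ : Ideal C := Ideal.span (ψ₀ '' F)
  haveI : HenselianRing (C ⧸ K₁) (I.map (algebraMap A (C ⧸ K₁))) := by
    have := henselianRing_quotient (J := I.map (algebraMap A C)) K₁
    rwa [Ideal.map_map] at this
  have hK₁ : RingHom.ker P.toRingHom ≤ RingHom.ker ((Ideal.Quotient.mkₐ A K₁).comp ψ₀).toRingHom := by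
    rw [← hF]
    change Ideal.span _ ≤ _
    rw [Ideal.span_le]
    exact fun w hw => Ideal.Quotient.eq_zero_iff_mem.2 (Ideal.subset_span ⟨w, hw, rfl⟩)
  obtain ⟨s₁, hs₁⟩ := relHens_exists hR (AlgHom.liftOfSurjective P hP ((Ideal.Quotient.mkₐ A K₁).comp ψ₀) hK₁)
  choose w hw using fun t => Ideal.Quotient.mk_surjective (s₁ (p (ofA (A := A) g C t)))
  let K₂ : Ideal C := Ideal.span (ψ₀ '' F ∪ (fun t => w t - ofA (A := A) g C t) '' G)
  refine ⟨F.image ψ₀ ∪ G.image (fun t => w t - ofA (A := A) g C t), ?_⟩
  rw [Finset.coe_union, Finset.coe_image, Finset.coe_image]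
  have hK₁p : K₁ ≤ RingHom.ker p := Ideal.span_le.2 (by
    rintro _ ⟨v, hv, rfl⟩
    show p (ψ₀ v) = 0
    rw [hψ₀, show P v = 0 from (hF ▸ Ideal.subset_span hv : v ∈ RingHom.ker P.toRingHom), map_zero])
  have hsec : (Ideal.Quotient.liftₐ K₁ p fun v hv => hK₁p hv).comp s₁ = AlgHom.id A H := relHens_ext hR fun x => by
    obtain ⟨v, rfl⟩ := hP x
    rw [AlgHom.comp_apply, hs₁, AlgHom.liftOfSurjective_apply]
    exact hψ₀ v
  apply le_antisymm
  · change Ideal.span _ ≤ _
    rw [Ideal.span_le]
    rintro _ (⟨v, hv, rfl⟩ | ⟨t, -, rfl⟩)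
    · exact hK₁p (Ideal.subset_span ⟨v, hv, rfl⟩)
    · show p (w t - ofA (A := A) g C t) = 0
      have := DFunLike.congr_fun hsec (p (ofA (A := A) g C t))
      rw [AlgHom.comp_apply, ← hw t] at this
      rw [map_sub, show p (w t) = p (ofA (A := A) g C t) from this, sub_self]
  · intro x hx
    change x ∈ K₂
    have hle : K₁ ≤ K₂ := Ideal.span_mono Set.subset_union_left
    haveI : HenselianRing (C ⧸ K₂) (I.map (algebraMap A (C ⧸ K₂))) := by
      have := henselianRing_quotient (J := I.map (algebraMap A C)) K₂
      rwa [Ideal.map_map] at this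
    let q : C ⧸ K₁ →ₐ[A] C ⧸ K₂ := Ideal.Quotient.factorₐ A hle
    have e : ((q.comp s₁).comp p).comp (ofA (A := A) g C) = (Ideal.Quotient.mkₐ A K₂).comp (ofA (A := A) g C) := by
      refine AlgHom.ext_of_adjoin_eq_top hG fun t ht => ?_
      simp only [AlgHom.comp_apply, ← hw t]
      exact Ideal.Quotient.eq.2 (Ideal.subset_span (Or.inr ⟨t, ht, rfl⟩))
    have e' := DFunLike.congr_fun (ext_away hC (G := (q.comp s₁).comp p) (G' := Ideal.Quotient.mkₐ A K₂)
      fun t => DFunLike.congr_fun e t) x
    rw [AlgHom.comp_apply, show p x = 0 from hx, map_zero] at e'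
    exact Ideal.Quotient.eq_zero_iff_mem.1 e'.symm

/-- Henselizations on a cover by basic opens satisfy the sheaf condition, in the form used here. -/
theorem sheaf {T : Type u} [CommRing T] [Algebra A T] {ι : Type u} (g : ι → T)
    (hg : Ideal.span (Set.range g) = ⊤) {C : Type u} [CommRing C] [Algebra T C] [Algebra A C]
    [IsScalarTower A T C] (hC : Hens2.IsPairHenselization T (I.map (algebraMap A T)) C)
    (Ci : ι → Type u) [∀ i, CommRing (Ci i)] [∀ i, Algebra (Localization.Away (g i)) (Ci i)]
    [∀ i, Algebra A (Ci i)] [∀ i, IsScalarTower A (Localization.Away (g i)) (Ci i)]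
    (hCi : ∀ i, Hens2.IsPairHenselization (Localization.Away (g i))
      (I.map (algebraMap A (Localization.Away (g i)))) (Ci i))
    (ρ : ∀ i, C →ₐ[A] Ci i) (hρ : ∀ i t, ρ i (algebraMap T C t) = ofA (A := A) (g i) (Ci i) t) :
    (∀ x y, (∀ i, ρ i x = ρ i y) → x = y) ∧
    ∀ (σ : ∀ i j, Ci i →ₐ[A] Hen I (Localization.Away (g i * g j)))
      (τ : ∀ i j, Ci j →ₐ[A] Hen I (Localization.Away (g i * g j))),
      (∀ i j t, σ i j (ofA (A := A) (g i) (Ci i) t) = ofA (A := A) (g i * g j) _ t) →
      (∀ i j t, τ i j (ofA (A := A) (g j) (Ci j) t) = ofA (A := A) (g i * g j) _ t) →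
      ∀ s : ∀ i, Ci i, (∀ i j, σ i j (s i) = τ i j (s j)) → ∃ x, ∀ i, ρ i x = s i := by
  letI : ∀ i, Algebra T (Ci i) := fun i => (ofA (A := A) (g i) (Ci i)).toRingHom.toAlgebra
  haveI : ∀ i, IsScalarTower T (Localization.Away (g i)) (Ci i) := fun i => IsScalarTower.of_algebraMap_eq fun _ => rfl
  letI : ∀ i j, Algebra T (Hen I (Localization.Away (g i * g j))) := fun i j =>
    (ofA (A := A) (g i * g j) (Hen I (Localization.Away (g i * g j)))).toRingHom.toAlgebra
  haveI : ∀ i j, IsScalarTower T (Localization.Away (g i * g j)) (Hen I (Localization.Away (g i * g j))) :=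
    fun i j => IsScalarTower.of_algebraMap_eq fun _ => rfl
  let J := I.map (algebraMap A T)
  have hJ : ∀ f : T, J.map (algebraMap T (Localization.Away f)) = I.map (algebraMap A (Localization.Away f)) :=
    fun f => by rw [Ideal.map_map, ← IsScalarTower.algebraMap_eq]
  have hCi' : ∀ i, Hens2.IsPairHenselization (Localization.Away (g i))
      (J.map (algebraMap T (Localization.Away (g i)))) (Ci i) := fun i => (hJ (g i)).symm ▸ hCi i
  have hCij : ∀ i j, Hens2.IsPairHenselization (Localization.Away (g i * g j))
      (J.map (algebraMap T (Localization.Away (g i * g j)))) (Hen I (Localization.Away (g i * g j))) :=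
    fun i j => (hJ (g i * g j)).symm ▸ hens I _
  have hcov : J ⊔ Ideal.span (Set.range g) = ⊤ := by rw [hg, sup_top_eq]
  let ρ' : ∀ i, C →ₐ[T] Ci i := fun i => { (ρ i).toRingHom with commutes' := hρ i }
  refine ⟨fun x y h => PairSheaf.injective ι g hcov hC Ci hCi' ρ' x y h, fun σ τ hσ hτ s hs => ?_⟩
  exact PairSheaf.surjective ι g hcov hC Ci hCi' ρ' (fun i j => Hen I (Localization.Away (g i * g j))) hCij
    (fun i j => { (σ i j).toRingHom with commutes' := hσ i j })
    (fun i j => { (τ i j).toRingHom with commutes' := hτ i j }) s hs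

section MapAway

variable {T T' : Type u} [CommRing T] [Algebra A T] [CommRing T'] [Algebra A T']

/-- The map of localizations. -/
noncomputable def mapAway (r : T →ₐ[A] T') {g : T} {g' : T'} (h : r g = g') :
    Localization.Away g →ₐ[A] Localization.Away g' :=
  IsLocalization.Away.liftAlgHom g (f := (IsScalarTower.toAlgHom A T' (Localization.Away g')).comp r)
    (by
      rw [AlgHom.comp_apply, h]
      exact IsLocalization.Away.algebraMap_isUnit (S := Localization.Away g') g')

theorem mapAway_algebraMap (r : T →ₐ[A] T') {g : T} {g' : T'} (h : r g = g') (t : T) :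
    mapAway r h (algebraMap T _ t) = algebraMap T' _ (r t) :=
  IsLocalization.Away.lift_eq (S := Localization.Away g)
    (g := ((IsScalarTower.toAlgHom A T' (Localization.Away g')).comp r).toRingHom) g
    (by
      show IsUnit (algebraMap T' (Localization.Away g') (r g))
      rw [h]
      exact IsLocalization.Away.algebraMap_isUnit (S := Localization.Away g') g') t

theorem mapAway_injective {r : T →ₐ[A] T'} (hr : Function.Injective r) {g : T} {g' : T'} (h : r g = g') :
    Function.Injective (mapAway r h) := by
  refine (injective_iff_map_eq_zero _).2 fun x hx => ?_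
  obtain ⟨k, t, ht⟩ := IsLocalization.Away.surj g x
  have h1 : algebraMap T' (Localization.Away g') (r t) = 0 := by
    rw [← mapAway_algebraMap r h, ← ht, map_mul, hx, zero_mul]
  obtain ⟨⟨-, l, rfl⟩, hl⟩ := (IsLocalization.map_eq_zero_iff (Submonoid.powers g') _ _).1 h1
  have h2 : g ^ l * t = 0 := hr (by rw [map_mul, map_pow, h, map_zero]; exact hl)
  have h3 : algebraMap T (Localization.Away g) t = 0 :=
    (IsLocalization.map_eq_zero_iff (Submonoid.powers g) _ _).2 ⟨⟨_, l, rfl⟩, h2⟩
  have hu := (IsLocalization.Away.algebraMap_isUnit (S := Localization.Away g) g).pow k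
  exact hu.mul_left_eq_zero.1 (ht.trans h3)

/-- Finitely many fractions need finitely many numerators. -/
theorem exists_numerators (f : T') (ss : Finset (Localization.Away f)) :
    ∃ N : Finset T', ∀ (T : Type u) [CommRing T] [Algebra A T] (r : T →ₐ[A] T') (g : T) (h : r g = f),
      (N : Set T') ⊆ Set.range r → (ss : Set (Localization.Away f)) ⊆ Set.range (mapAway r h) := by
  classical
  choose k b hb using fun e : Localization.Away f => IsLocalization.Away.surj f e
  refine ⟨ss.image b, fun T _ _ r g h hN e he => ?_⟩
  obtain ⟨t, ht⟩ := hN (show b e ∈ (ss.image b : Set T') from Finset.mem_coe.2 (Finset.mem_image_of_mem b he))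
  obtain ⟨v, hv⟩ := (IsLocalization.Away.algebraMap_isUnit (S := Localization.Away g) g).exists_left_inv
  refine ⟨algebraMap T _ t * v ^ k e, ?_⟩
  have h1 : mapAway r h v * algebraMap T' _ f = 1 := by
    have := congrArg (mapAway r h) hv
    rwa [map_mul, map_one, mapAway_algebraMap, h] at this
  rw [map_mul, map_pow, mapAway_algebraMap, ht, ← hb e, mul_assoc, ← mul_pow, mul_comm _ (mapAway r h v), h1,
    one_pow, mul_one]

end MapAway

end Groth.Agent.H9Hens.HfpCover
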