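import Groth.Agent.H9Hens.HfpCover

/-!
# A henselian algebra which is henselian finitely presented on a cover is so globally
-/

set_option autoImplicit false
set_option linter.style.haveILetI false

universe u

namespace Groth.Agent.H9Hens.HfpCover

open HfpDescend

variable {A : Type u} [CommRing A] {I : Ideal A}
variable {B : Type u} [CommRing B] [Algebra A B] [HenselianRing B (I.map (algebraMap A B))]

/-- An element of an extended ideal lies in the extension of a finitely generated subideal. -/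
theorem exists_finset_span {C D : Type u} [CommRing C] [CommRing D] (φ : C →+* D) (K : Ideal C) {x : D}
    (hx : x ∈ K.map φ) : ∃ S : Finset C, (S : Set C) ⊆ K ∧ x ∈ (Ideal.span (S : Set C)).map φ := by
  classical
  rw [Ideal.map, Ideal.span] at hx
  obtain ⟨T, hT, hxT⟩ := Submodule.mem_span_finite_of_mem_span hx
  have hsub : (T : Set D) ⊆ φ '' (K : Set C) := hT
  obtain ⟨S, hS, rfl⟩ := Finset.subset_set_image_iff.1 hsub
  refine ⟨S, hS, ?_⟩
  rw [Ideal.map_span, ← Finset.coe_image]
  exact hxT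

theorem exists_finitePresentation {ι : Type u} (f : ι → B) [Finite ι] (hf : Ideal.span (Set.range f) = ⊤)
    (H : ι → Type u) [∀ i, CommRing (H i)] [∀ i, Algebra (Localization.Away (f i)) (H i)]
    [∀ i, Algebra A (H i)] [∀ i, IsScalarTower A (Localization.Away (f i)) (H i)]
    (hH : ∀ i, Hens2.IsPairHenselization (Localization.Away (f i))
      (I.map (algebraMap A (Localization.Away (f i)))) (H i))
    (R : ι → Type u) [∀ i, CommRing (R i)] [∀ i, Algebra A (R i)]
    [∀ i, Algebra.FinitePresentation A (R i)] [∀ i, Algebra (R i) (H i)]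
    [∀ i, IsScalarTower A (R i) (H i)]
    (hR : ∀ i, Hens2.IsPairHenselization (R i) (I.map (algebraMap A (R i))) (H i)) :
    ∃ (T : Type u) (_ : CommRing T) (_ : Algebra A T) (_ : Algebra T B) (_ : IsScalarTower A T B),
      Algebra.FinitePresentation A T ∧ Hens2.IsPairHenselization T (I.map (algebraMap A T)) B := by
  classical
  cases nonempty_fintype ι
  obtain ⟨c, hc⟩ := Ideal.mem_span_range_iff_exists_fun.1 (show (1 : B) ∈ Ideal.span (Set.range f) from hf ▸ Submodule.mem_top)
  obtain ⟨T, hfT, hTfg, hcT, ⟨p, hp, hpsurj⟩, hloc⟩ := exists_subalgebra f c hc H hH R hR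
  haveI : ∀ i, HenselianRing (H i) (I.map (algebraMap A (H i))) := fun i => relHens_henselian (hH i)
  -- a finitely presented algebra over the subalgebra
  haveI : Algebra.FiniteType A T := (Subalgebra.fg_iff_finiteType T).1 hTfg
  obtain ⟨m, q₀, hq₀⟩ := Algebra.FiniteType.iff_quotient_mvPolynomial''.1 ‹Algebra.FiniteType A T›
  choose gl hgl using fun i => hq₀ ⟨f i, hfT i⟩
  choose cl hcl using fun i => hq₀ ⟨c i, hcT i⟩
  let J₀ : Ideal (MvPolynomial (Fin m) A) := Ideal.span {∑ i, cl i * gl i - 1}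
  let P := MvPolynomial (Fin m) A ⧸ J₀
  haveI : Algebra.FinitePresentation A P :=
    Algebra.FinitePresentation.quotient ⟨{∑ i, cl i * gl i - 1}, by simp [J₀]⟩
  have hJ₀ : J₀ ≤ RingHom.ker (T.val.comp q₀) := by
    rw [Ideal.span_le, Set.singleton_subset_iff]
    show T.val (q₀ (∑ i, cl i * gl i - 1)) = 0
    rw [map_sub, map_sum, map_one, map_sub, map_sum, map_one, sub_eq_zero, ← hc]
    exact Finset.sum_congr rfl fun i _ => by rw [map_mul, hcl, hgl]; rfl
  let q : P →ₐ[A] B := Ideal.Quotient.liftₐ J₀ (T.val.comp q₀) hJ₀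
  let gP : ι → P := fun i => Ideal.Quotient.mk J₀ (gl i)
  have hqg : ∀ i, q (gP i) = f i := fun i => by
    show T.val (q₀ (gl i)) = f i
    rw [hgl]; rfl
  have hcovP : Ideal.span (Set.range gP) = ⊤ := Ideal.eq_top_iff_one _ |>.2
    (Ideal.mem_span_range_iff_exists_fun.2 ⟨fun i => Ideal.Quotient.mk J₀ (cl i), by
      have : Ideal.Quotient.mk J₀ (∑ i, cl i * gl i - 1) = 0 :=
        Ideal.Quotient.eq_zero_iff_mem.2 (Ideal.subset_span rfl)
      rw [map_sub, map_sum, map_one, sub_eq_zero] at this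
      rw [← this]
      simp [gP]⟩)
  have hTq : ∀ t : T, ∃ w, q w = (t : B) := fun t => by
    obtain ⟨w, rfl⟩ := hq₀ t
    exact ⟨Ideal.Quotient.mk _ w, rfl⟩
  let CP := Hen I P
  obtain ⟨pP, hpP⟩ := relHens_exists (hens I P) q
  have hpPsurj : Function.Surjective pP := fun b => by
    obtain ⟨z, rfl⟩ := hpsurj b
    exact range_le (hens I T) pP p (fun t => by
      obtain ⟨w, hw⟩ := hTq t
      exact ⟨algebraMap P CP w, (hpP w).trans (hw.trans (hp t).symm)⟩) ⟨z, rfl⟩
  let Ci : ι → Type u := fun i => Hen I (Localization.Away (gP i))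
  have huP : ∀ i, ∃ ρ : CP →ₐ[A] Ci i, ∀ w, ρ (algebraMap P CP w) = ofA (A := A) (gP i) (Ci i) w :=
    fun i => relHens_exists (hens I P) _
  choose ρ hρ using huP
  have huH : ∀ i, IsUnit (((ofA (A := A) (f i) (H i)).comp q) (gP i)) := fun i => by
    rw [AlgHom.comp_apply, hqg]; exact isUnit_ofA (A := A)
  choose pi hpi using fun i => exists_away (hens I (Localization.Away (gP i))) _ (huH i)
  have hpisurj : ∀ i, Function.Surjective (pi i) := fun i x => by
    obtain ⟨pT, hpT, hpTs⟩ := hloc i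
    obtain ⟨z, rfl⟩ := hpTs x
    obtain ⟨v, hv⟩ := (isUnit_ofA (A := A) (g := gP i) (C := Ci i)).exists_right_inv
    refine range_le (hens I (Localization.Away (⟨f i, hfT i⟩ : T))) (pi i) pT (mem_range_away pT (pi i).range
      (fun t => ?_) ⟨pi i v, ⟨v, rfl⟩, ?_⟩) ⟨z, rfl⟩
    · obtain ⟨w, hw⟩ := hTq t
      refine ⟨ofA (A := A) (gP i) (Ci i) w, (hpi i w).trans ?_⟩
      rw [AlgHom.comp_apply, hw]
      exact (hpT t).symm
    · rw [hpT, show ofA (A := A) (f i) (H i) ((⟨f i, hfT i⟩ : T) : B) = pi i (ofA (A := A) (gP i) (Ci i) (gP i)) by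
        rw [hpi, AlgHom.comp_apply, hqg], ← map_mul, hv, map_one]
  -- the kernel
  let K₀ : Ideal CP := RingHom.ker pP
  have hker : ∀ i, RingHom.ker (pi i) ≤ K₀.map (ρ i) := fun i => by
    let J := K₀.map (ρ i)
    haveI : HenselianRing (Ci i ⧸ J) (I.map (algebraMap A (Ci i ⧸ J))) := by
      have := henselianRing_quotient (J := I.map (algebraMap A (Ci i))) J
      rwa [Ideal.map_map] at this
    let φ : B →ₐ[A] Ci i ⧸ J := AlgHom.liftOfSurjective pP hpPsurj ((Ideal.Quotient.mkₐ A J).comp (ρ i))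
      fun x hx => Ideal.Quotient.eq_zero_iff_mem.2 (Ideal.mem_map_of_mem _ hx)
    have hφ : ∀ w, φ (q w) = Ideal.Quotient.mk J (ofA (A := A) (gP i) (Ci i) w) := fun w => by
      rw [← hpP]
      exact (AlgHom.liftOfSurjective_apply pP hpPsurj _ _ _).trans (congrArg (Ideal.Quotient.mk J) (hρ i w))
    have hφu : IsUnit (φ (f i)) := by
      rw [← hqg, hφ]; exact (isUnit_ofA (A := A)).map _
    obtain ⟨G, hG⟩ := exists_away (hH i) φ hφu
    have e : G.comp (pi i) = Ideal.Quotient.mkₐ A J := ext_away (hens I _) fun w => by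
      rw [AlgHom.comp_apply, hpi, AlgHom.comp_apply, hG, hφ]
      rfl
    intro x hx
    have := DFunLike.congr_fun e x
    rw [AlgHom.comp_apply, show pi i x = 0 from hx, map_zero] at this
    exact Ideal.Quotient.eq_zero_iff_mem.1 this.symm
  have hkerfg : ∀ i, ∃ G : Finset (Ci i), Ideal.span (G : Set (Ci i)) = RingHom.ker (pi i) := fun i =>
    fg_ker (hens I (Localization.Away (gP i))) (hR i) (pi i) (hpisurj i)
  choose G hG using hkerfg
  choose S hS hSmem using fun i x (hx : x ∈ G i) =>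
    exists_finset_span (ρ i).toRingHom K₀ (hker i (hG i ▸ Ideal.subset_span hx))
  let Ks : Finset CP := Finset.univ.biUnion fun i => (G i).attach.biUnion fun x => S i x.1 x.2
  let K : Ideal CP := Ideal.span (Ks : Set CP)
  have hKK₀ : K ≤ K₀ := Ideal.span_le.2 fun x hx => by
    simp only [Ks, Finset.mem_coe, Finset.mem_biUnion] at hx
    obtain ⟨i, -, ⟨y, hy⟩, -, hx⟩ := hx
    exact hS i y hy hx
  have hkerK : ∀ i, RingHom.ker (pi i) ≤ K.map (ρ i) := fun i => by
    rw [← hG i]
    refine Ideal.span_le.2 fun x hx => ?_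
    refine Ideal.map_mono (Ideal.span_mono ?_) (hSmem i x hx)
    exact fun y hy => Finset.mem_coe.2
      (Finset.mem_biUnion.2 ⟨i, Finset.mem_univ i, Finset.mem_biUnion.2 ⟨⟨x, hx⟩, Finset.mem_attach _ _, hy⟩⟩)
  -- an etale neighbourhood carrying the relations
  obtain ⟨R', _, _, _, _, _, _, _, hR'et, hR', hpre⟩ :=
    relHens_exists_nbhd (hens I P) (fun k : Ks => (k : CP))
  choose k' hk' using hpre
  haveI : Algebra.FinitePresentation A R' := Algebra.FinitePresentation.trans A P R'
  let K' : Ideal R' := Ideal.span (Set.range k')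
  let T' := R' ⧸ K'
  haveI : Algebra.FinitePresentation A T' :=
    Algebra.FinitePresentation.quotient ⟨Finset.univ.image k', by simp [K']⟩
  have hK' : K'.map (algebraMap R' CP) = K := by
    rw [Ideal.map_span, ← Set.range_comp]
    congr 1
    ext x
    exact ⟨by rintro ⟨k, rfl⟩; rw [Function.comp_apply, hk']; exact k.2, fun hx => ⟨⟨x, hx⟩, hk' ⟨x, hx⟩⟩⟩
  let B' := CP ⧸ K
  letI : Algebra T' B' := (Ideal.quotientMap K (algebraMap R' CP) (Ideal.map_le_iff_le_comap.1 hK'.le)).toAlgebra
  haveI : IsScalarTower A T' B' := IsScalarTower.of_algebraMap_eq fun a => by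
    show _ = Ideal.quotientMap K _ _ (Ideal.Quotient.mk K' (algebraMap A R' a))
    rw [Ideal.quotientMap_mk, ← IsScalarTower.algebraMap_apply]
    rfl
  have hB' : Hens2.IsPairHenselization T' (I.map (algebraMap A T')) B' :=
    relHens_quotient hR' (Ideal.Quotient.mkₐ A K') Ideal.Quotient.mk_surjective (Ideal.Quotient.mkₐ A K)
      Ideal.Quotient.mk_surjective (fun r => rfl) (by
        intro x hx
        rw [show RingHom.ker (Ideal.Quotient.mkₐ A K') = K' from Ideal.mk_ker, hK']
        exact Ideal.Quotient.eq_zero_iff_mem.1 hx)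
  haveI : HenselianRing B' (I.map (algebraMap A B')) := relHens_henselian hB'
  let e₀ : B' →ₐ[A] B := Ideal.Quotient.liftₐ K pP fun x hx => hKK₀ hx
  have he₀s : Function.Surjective e₀ := fun b => by
    obtain ⟨x, rfl⟩ := hpPsurj b
    exact ⟨Ideal.Quotient.mk K x, rfl⟩
  let gT : ι → T' := fun i => Ideal.Quotient.mk K' (algebraMap P R' (gP i))
  have hgT : Ideal.span (Set.range gT) = ⊤ := by
    have h1 : Ideal.span (Set.range gT) =
        (Ideal.span (Set.range gP)).map ((Ideal.Quotient.mk K').comp (algebraMap P R')) := by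
      rw [Ideal.map_span, ← Set.range_comp]
      rfl
    rw [h1, hcovP, Ideal.map_top]
  let C' : ι → Type u := fun i => Hen I (Localization.Away (gT i))
  have huB' : ∀ i, ∃ r : B' →ₐ[A] C' i, ∀ t, r (algebraMap T' B' t) = ofA (A := A) (gT i) (C' i) t :=
    fun i => relHens_exists hB' _
  choose ρ' hρ' using huB'
  have he₀i : Function.Injective e₀ := (injective_iff_map_eq_zero _).2 fun y hy => by
    obtain ⟨x, rfl⟩ := Ideal.Quotient.mk_surjective y
    refine (sheaf gT hgT hB' C' (fun i => hens I _) ρ' hρ').1 _ _ fun i => ?_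
    rw [map_zero]
    let r₀ : P →ₐ[A] T' := (Ideal.Quotient.mkₐ A K').comp (IsScalarTower.toAlgHom A P R')
    obtain ⟨M, hM⟩ := exists_away (hens I (Localization.Away (gP i))) ((ofA (A := A) (gT i) (C' i)).comp r₀)
      (isUnit_ofA (A := A) (g := gT i))
    have eM : (ρ' i).comp (Ideal.Quotient.mkₐ A K) = M.comp (ρ i) := relHens_ext (hens I P) fun w => by
      rw [AlgHom.comp_apply, AlgHom.comp_apply, hρ, hM, IsScalarTower.algebraMap_apply P R' CP]
      exact hρ' i (Ideal.Quotient.mk K' (algebraMap P R' w))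
    have hK0 : (K.map (ρ i)) ≤ RingHom.ker M := Ideal.map_le_iff_le_comap.2 fun z hz => by
      show M (ρ i z) = 0
      rw [← AlgHom.comp_apply, ← eM, AlgHom.comp_apply]
      exact (congrArg (ρ' i) (Ideal.Quotient.eq_zero_iff_mem.2 hz)).trans (map_zero _)
    have eH : (pi i).comp (ρ i) = (ofA (A := A) (f i) (H i)).comp pP := relHens_ext (hens I P) fun w => by
      rw [AlgHom.comp_apply, AlgHom.comp_apply, hρ, hpi, hpP, AlgHom.comp_apply]
    have hx' : pi i (ρ i x) = 0 := by
      rw [← AlgHom.comp_apply, eH, AlgHom.comp_apply, show pP x = 0 from hy, map_zero]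
    exact (DFunLike.congr_fun eM x).trans (hK0 (hkerK i hx'))
  let e : B' ≃ₐ[A] B := AlgEquiv.ofBijective e₀ ⟨he₀i, he₀s⟩
  letI : Algebra T' B := (e.toAlgHom.toRingHom.comp (algebraMap T' B')).toAlgebra
  haveI : IsScalarTower A T' B := IsScalarTower.of_algebraMap_eq fun a => by
    show _ = e (algebraMap T' B' (algebraMap A T' a))
    rw [← IsScalarTower.algebraMap_apply, AlgEquiv.commutes]
  refine ⟨T', inferInstance, inferInstance, inferInstance, inferInstance, inferInstance,
    relHens_mk inferInstance (fun C _ _ _ φ => ?_) fun C _ _ _ u u' huu => ?_⟩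
  · obtain ⟨v, hv⟩ := relHens_exists hB' φ
    refine ⟨v.comp e.symm.toAlgHom, fun r => ?_⟩
    show v (e.symm (e (algebraMap T' B' r))) = _
    rw [AlgEquiv.symm_apply_apply, hv]
  · have := relHens_ext hB' (g := u.comp e.toAlgHom) (g' := u'.comp e.toAlgHom) fun r => huu r
    refine AlgHom.ext fun b => ?_
    have h := DFunLike.congr_fun this (e.symm b)
    simpa using h

end Groth.Agent.H9Hens.HfpCover
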