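import Groth.Agent.H9Hens.PairHens
import Groth.Agent.H9Hens.PairOps
import Groth.Agent.H9Hens.Hfp
import Mathlib.RingTheory.Smooth.NoetherianDescent

/-!
# Elements and relations of pair henselizations descend along injective ring maps
-/

set_option autoImplicit false
set_option linter.style.haveILetI false

universe u

open scoped TensorProduct

namespace Groth.Agent.H9Hens.HfpDescend

variable {A : Type u} [CommRing A] {I : Ideal A}
variable {E H : Type u} [CommRing E] [Algebra A E] [CommRing H] [Algebra E H] [Algebra A H] [IsScalarTower A E H]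

theorem exists_sub_mem (hH : Hens2.IsPairHenselization E (I.map (algebraMap A E)) H) (x : H) :
    ∃ e : E, x - algebraMap E H e ∈ I.map (algebraMap A H) := by
  obtain ⟨z, hz⟩ := (pairHenselization_quotient_pow_bijective hH 1).2 (Ideal.Quotient.mk _ x)
  obtain ⟨e, rfl⟩ := Ideal.Quotient.mk_surjective z
  rw [Ideal.quotientMap_mk, Ideal.Quotient.eq, pow_one, map_map_tower] at hz
  exact ⟨e, by simpa using neg_mem hz⟩

theorem mem_of_map_mem (hH : Hens2.IsPairHenselization E (I.map (algebraMap A E)) H) {e : E}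
    (he : algebraMap E H e ∈ I.map (algebraMap A H)) : e ∈ I.map (algebraMap A E) := by
  have h := (pairHenselization_quotient_pow_bijective hH 1).1 (a₁ := Ideal.Quotient.mk _ e) (a₂ := 0)
    (by rw [Ideal.quotientMap_mk, map_zero, Ideal.Quotient.eq_zero_iff_mem, pow_one, map_map_tower]; exact he)
  rwa [Ideal.Quotient.eq_zero_iff_mem, pow_one] at h

/-- A set of witnesses for membership in an extended ideal. -/
theorem exists_witness {e : E} (he : e ∈ I.map (algebraMap A E)) :
    ∃ ss : Finset E, ∀ (D : Type u) [CommRing D] [Algebra A D] (ψ : D →ₐ[A] E), Function.Injective ψ →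
      (ss : Set E) ⊆ Set.range ψ → ∀ d : D, ψ d = e → d ∈ I.map (algebraMap A D) := by
  classical
  rw [Ideal.map, Ideal.span, Submodule.mem_span_set'] at he
  obtain ⟨n, c, g, he⟩ := he
  have hg : ∀ k, ∃ a ∈ I, algebraMap A E a = (g k : E) := fun k => (g k).2
  choose a ha hga using hg
  refine ⟨Finset.univ.image c, fun D _ _ ψ hψ hr d hd => ?_⟩
  have hc : ∀ k, ∃ w, ψ w = c k := fun k => hr (by simp)
  choose w hw using hc
  have : d = ∑ k, w k * algebraMap A D (a k) := hψ (by
    rw [hd, ← he, map_sum]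
    exact Finset.sum_congr rfl fun k _ => by rw [map_mul, hw, AlgHom.commutes, hga, smul_eq_mul])
  rw [this]
  exact Ideal.sum_mem _ fun k _ => Ideal.mul_mem_left _ _ (Ideal.mem_map_of_mem _ (ha k))

/-- An element of a henselization comes from the henselization of any large enough subring. -/
theorem exists_finset_mem_range (hH : Hens2.IsPairHenselization E (I.map (algebraMap A E)) H) (y : H) :
    ∃ ss : Finset E, ∀ (D : Type u) [CommRing D] [Algebra A D] (ψ : D →ₐ[A] E), Function.Injective ψ →
      (ss : Set E) ⊆ Set.range ψ → ∀ (C : Type u) [CommRing C] [Algebra D C] [Algebra A C]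
      [IsScalarTower A D C], Hens2.IsPairHenselization D (I.map (algebraMap A D)) C → ∀ p : C →ₐ[A] H,
      (∀ d, p (algebraMap D C d) = algebraMap E H (ψ d)) → y ∈ p.range := by
  classical
  obtain ⟨π, hπ⟩ := exists_isPtColim_of_isPairHenselization hH
  obtain ⟨S, _, _, _, φ, z, hz⟩ := hπ.exists_rep y
  letI : Algebra A S := ((algebraMap E S).comp (algebraMap A E)).toAlgebra
  haveI : IsScalarTower A E S := IsScalarTower.of_algebraMap_eq fun _ => rfl
  obtain ⟨A₀, S₀, _, _, hA₀, hS₀, ⟨eS⟩⟩ := Algebra.Etale.exists_subalgebra_fg A E S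
  obtain ⟨G₀, hG₀⟩ := hA₀
  obtain ⟨K, hK⟩ := TensorProduct.exists_finset (eS z)
  -- a presentation of the descended algebra
  obtain ⟨n, P, hP, ⟨R, hR⟩⟩ := Algebra.FinitePresentation.out (R := A₀) (A := S₀)
  let φ₀ : S₀ →+* H := φ.toRingHom.comp (eS.symm.toRingHom.comp
    Algebra.TensorProduct.includeRight.toRingHom)
  have hφ₀ : ∀ a : A₀, φ₀ (algebraMap A₀ S₀ a) = algebraMap E H (a : E) := fun a => by
    show φ (eS.symm (1 ⊗ₜ[A₀] algebraMap A₀ S₀ a)) = _
    rw [← Algebra.TensorProduct.tmul_one_eq_one_tmul]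
    exact (congrArg φ (eS.symm.commutes _)).trans (φ.commutes _)
  choose x hx using fun i : Fin n => exists_sub_mem hH (φ₀ (P (MvPolynomial.X i)))
  have hrel : ∀ r ∈ R, MvPolynomial.eval₂ A₀.val.toRingHom x r ∈ I.map (algebraMap A E) := fun r hr => by
    refine mem_of_map_mem hH ?_
    rw [← Ideal.Quotient.eq_zero_iff_mem]
    have e1 : ((Ideal.Quotient.mk (I.map (algebraMap A H))).comp (algebraMap E H)).comp
        (MvPolynomial.eval₂Hom A₀.val.toRingHom x) =
        ((Ideal.Quotient.mk (I.map (algebraMap A H))).comp φ₀).comp P.toRingHom := by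
      refine MvPolynomial.ringHom_ext (fun a => ?_) fun i => ?_
      · simp only [RingHom.comp_apply, MvPolynomial.eval₂Hom_C]
        refine congrArg _ ?_
        exact (hφ₀ a).symm.trans (congrArg φ₀ (P.commutes a).symm)
      · simp only [RingHom.comp_apply, MvPolynomial.eval₂Hom_X']
        exact (Ideal.Quotient.eq.2 (hx i)).symm
    have := RingHom.congr_fun e1 r
    simp only [RingHom.comp_apply, MvPolynomial.coe_eval₂Hom] at this
    rw [this]
    have h0 : P r = 0 := by
      have : r ∈ RingHom.ker P.toRingHom := hR ▸ Ideal.subset_span hr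
      exact this
    show Ideal.Quotient.mk _ (φ₀ (P r)) = 0
    rw [h0, map_zero, map_zero]
  choose! W hW using fun r hr => exists_witness (hrel r hr)
  refine ⟨G₀ ∪ K.image Prod.fst ∪ Finset.univ.image x ∪ R.biUnion W,
    fun D _ _ ψ hψ hr C _ _ _ _ hC p hp => ?_⟩
  have hsub : ∀ e ∈ G₀ ∪ K.image Prod.fst ∪ Finset.univ.image x ∪ R.biUnion W, e ∈ ψ.range := fun e he => hr he
  simp only [Finset.mem_union, Finset.mem_image, Finset.mem_biUnion, Finset.mem_univ, true_and] at hsub
  have hA₀D : A₀ ≤ ψ.range := by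
    rw [← hG₀, Algebra.adjoin_le_iff]
    exact fun e he => hsub e (Or.inl (Or.inl (Or.inl he)))
  let ι₀ : A₀ →ₐ[A] D := (AlgEquiv.ofInjective ψ hψ).symm.toAlgHom.comp (Subalgebra.inclusion hA₀D)
  have hι₀ : ∀ a : A₀, ψ (ι₀ a) = (a : E) := fun a =>
    congrArg Subtype.val ((AlgEquiv.ofInjective ψ hψ).apply_symm_apply (Subalgebra.inclusion hA₀D a))
  letI : Algebra A₀ C := ((algebraMap D C).comp ι₀.toRingHom).toAlgebra
  choose xd hxd using fun i => hsub (x i) (Or.inl (Or.inr ⟨i, rfl⟩))
  -- the section on the descended algebra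
  let L : MvPolynomial (Fin n) A₀ →ₐ[A₀] C ⧸ I.map (algebraMap A C) :=
    MvPolynomial.aeval fun i => Ideal.Quotient.mk _ (algebraMap D C (xd i))
  have hker : RingHom.ker P.toRingHom ≤ RingHom.ker L.toRingHom := by
    rw [← hR]
    change Ideal.span _ ≤ _
    rw [Ideal.span_le]
    intro r hrR
    have hd : MvPolynomial.eval₂ ι₀.toRingHom xd r ∈ I.map (algebraMap A D) := by
      refine hW r hrR D ψ hψ (fun e he => hr (by simp only [Finset.mem_coe, Finset.mem_union, Finset.mem_biUnion]; exact Or.inr ⟨r, hrR, he⟩)) _ ?_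
      have : ψ.toRingHom.comp (MvPolynomial.eval₂Hom ι₀.toRingHom xd) =
          MvPolynomial.eval₂Hom A₀.val.toRingHom x := by
        refine MvPolynomial.ringHom_ext (fun a => ?_) fun i => ?_
        · simp only [RingHom.comp_apply, MvPolynomial.eval₂Hom_C]; exact hι₀ a
        · simp only [RingHom.comp_apply, MvPolynomial.eval₂Hom_X']; exact hxd i
      exact RingHom.congr_fun this r
    have e2 : ((Ideal.Quotient.mk (I.map (algebraMap A C))).comp (algebraMap D C)).comp
        (MvPolynomial.eval₂Hom ι₀.toRingHom xd) = L.toRingHom := by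
      refine MvPolynomial.ringHom_ext (fun a => ?_) fun i => ?_
      · simp only [RingHom.comp_apply, MvPolynomial.eval₂Hom_C, L, AlgHom.toRingHom_eq_coe, RingHom.coe_coe,
          MvPolynomial.aeval_C]
        rfl
      · simp [L]
    show L r = 0
    refine (RingHom.congr_fun e2 r).symm.trans (Ideal.Quotient.eq_zero_iff_mem.2 ?_)
    rw [← map_map_tower (I := I) D C]
    exact Ideal.mem_map_of_mem _ hd
  haveI := relHens_henselian hC
  obtain ⟨φD, hφD, -⟩ := existsUnique_algHom_lift_rel (A := C) (I := I.map (algebraMap A C)) (R := A₀)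
    (AlgHom.liftOfSurjective P hP L hker)
  letI : Algebra A₀ H := ((algebraMap E H).comp A₀.val.toRingHom).toAlgebra
  let τ₁ : S₀ →ₐ[A₀] H := { p.toRingHom.comp φD.toRingHom with
    commutes' := fun a => by
      show p (φD (algebraMap A₀ S₀ a)) = _
      rw [φD.commutes]
      show p (algebraMap D C (ι₀ a)) = algebraMap E H (a : E)
      rw [hp, hι₀] }
  let τ₂ : S₀ →ₐ[A₀] H := { φ₀ with commutes' := fun a => hφ₀ a }
  have hτ : τ₁ = τ₂ := by
    refine algHom_eq_of_sub_mem (L := I.map (algebraMap A H)) (relHens_henselian hH).jac fun s => ?_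
    obtain ⟨w, rfl⟩ := hP s
    rw [← Ideal.Quotient.eq]
    suffices h : ((Ideal.Quotient.mk (I.map (algebraMap A H))).comp τ₁.toRingHom).comp P.toRingHom =
        ((Ideal.Quotient.mk (I.map (algebraMap A H))).comp τ₂.toRingHom).comp P.toRingHom from
      RingHom.congr_fun h w
    refine MvPolynomial.ringHom_ext (fun a => ?_) fun i => ?_
    · have : P.toRingHom (MvPolynomial.C a) = algebraMap A₀ S₀ a := P.commutes a
      simp only [RingHom.comp_apply, this]
      exact congrArg _ ((τ₁.commutes a).trans (τ₂.commutes a).symm)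
    · simp only [RingHom.comp_apply]
      rw [Ideal.Quotient.eq]
      show p (φD (P (MvPolynomial.X i))) - φ₀ (P (MvPolynomial.X i)) ∈ _
      have h1 : φD (P (MvPolynomial.X i)) - algebraMap D C (xd i) ∈ I.map (algebraMap A C) := by
        rw [← Ideal.Quotient.eq]
        exact (AlgHom.congr_fun hφD (P (MvPolynomial.X i))).trans
          ((AlgHom.liftOfSurjective_apply P hP L hker _).trans (MvPolynomial.aeval_X _ i))
      have h2 := Ideal.mem_map_of_mem p.toRingHom h1
      rw [Ideal.map_map, AlgHom.toRingHom_eq_coe, AlgHom.comp_algebraMap, RingHom.coe_coe, map_sub, hp, show ψ (xd i) = x i from hxd i] at h2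
      simpa using sub_mem h2 (hx i)
  choose ed hed using fun k (hk : k ∈ K) => hsub k.1 (Or.inl (Or.inl (Or.inr ⟨k, hk, rfl⟩)))
  have hy : y = ∑ k ∈ K, algebraMap E H k.1 * φ₀ k.2 := by
    rw [← hz, ← eS.symm_apply_apply z, hK, map_sum, map_sum]
    refine Finset.sum_congr rfl fun k _ => ?_
    rw [show k.1 ⊗ₜ[A₀] k.2 = algebraMap E (E ⊗[A₀] S₀) k.1 * (1 : E) ⊗ₜ[A₀] k.2 by
      rw [Algebra.TensorProduct.algebraMap_apply, Algebra.algebraMap_self, RingHom.id_apply,
        Algebra.TensorProduct.tmul_mul_tmul, mul_one, one_mul], map_mul, map_mul, AlgEquiv.commutes,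
      AlgHom.commutes]
    rfl
  rw [hy]
  refine Subalgebra.sum_mem _ fun k hk => Subalgebra.mul_mem _ ⟨algebraMap D C (ed k hk), ?_⟩ ⟨φD k.2, ?_⟩
  · exact (hp _).trans (congrArg _ (hed k hk))
  · exact AlgHom.congr_fun hτ k.2

/-- An element of the henselization of a subring which dies in the henselization dies in that of a
large enough subring. -/
theorem exists_finset_eq_zero (hH : Hens2.IsPairHenselization E (I.map (algebraMap A E)) H)
    {D : Type u} [CommRing D] [Algebra A D] (ψ : D →ₐ[A] E) (hψ : Function.Injective ψ)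
    {C : Type u} [CommRing C] [Algebra D C] [Algebra A C] [IsScalarTower A D C]
    (hC : Hens2.IsPairHenselization D (I.map (algebraMap A D)) C) (p : C →ₐ[A] H)
    (hp : ∀ d, p (algebraMap D C d) = algebraMap E H (ψ d)) (x : C) (hx : p x = 0) :
    ∃ ss : Finset E, ∀ (D' : Type u) [CommRing D'] [Algebra A D'] (ι : D →ₐ[A] D') (ψ' : D' →ₐ[A] E),
      Function.Injective ψ' → ψ'.comp ι = ψ → (ss : Set E) ⊆ Set.range ψ' →
      ∀ (C' : Type u) [CommRing C'] [Algebra D' C'] [Algebra A C'] [IsScalarTower A D' C'],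
      Hens2.IsPairHenselization D' (I.map (algebraMap A D')) C' → ∀ θ : C →ₐ[A] C',
      (∀ d, θ (algebraMap D C d) = algebraMap D' C' (ι d)) → θ x = 0 := by
  classical
  letI : Algebra D E := ψ.toRingHom.toAlgebra
  letI : Algebra D H := ((algebraMap E H).comp ψ.toRingHom).toAlgebra
  haveI : IsScalarTower D E H := IsScalarTower.of_algebraMap_eq fun _ => rfl
  obtain ⟨π, hπ⟩ := exists_isPtColim_of_isPairHenselization hC
  obtain ⟨S, _, _, _, φ, z, rfl⟩ := hπ.exists_rep x
  let φH : S →ₐ[D] H := { p.toRingHom.comp φ.toRingHom with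
    commutes' := fun d => by
      show p (φ (algebraMap D S d)) = _
      rw [φ.commutes, hp]; rfl }
  let L : E ⊗[D] S →ₐ[E] H := Algebra.TensorProduct.lift (Algebra.ofId E H) φH fun _ _ => Commute.all _ _
  letI : Algebra (E ⊗[D] S) H := L.toRingHom.toAlgebra
  haveI : IsScalarTower E (E ⊗[D] S) H := IsScalarTower.of_algebraMap_eq fun e => (L.commutes e).symm
  obtain ⟨π', hπ'⟩ := exists_isPtColim_of_isPairHenselization hH
  haveI : Module.Flat E H := hπ'.flat
  haveI : Module.Flat (E ⊗[D] S) H := Algebra.FormallyUnramified.flat_of_restrictScalars E (E ⊗[D] S) H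
  have hLz : (1 ⊗ₜ[D] z : E ⊗[D] S) • (1 : H) = 0 := by
    rw [Algebra.smul_def, mul_one]
    show L (1 ⊗ₜ z) = 0
    rw [Algebra.TensorProduct.lift_tmul, map_one, one_mul]
    exact hx
  obtain ⟨κ, c, w, hc, hca⟩ := Module.Flat.iff_forall_isTrivialRelation.mp
    (inferInstance : Module.Flat (E ⊗[D] S) H) (f := fun _ : Fin 1 => (1 ⊗ₜ[D] z : E ⊗[D] S))
    (x := fun _ => (1 : H)) (by rw [Fin.sum_univ_one]; exact hLz)
  choose ew hew using fun j => exists_sub_mem hH (w j)
  let u : E ⊗[D] S := ∑ j, c 0 j * algebraMap E (E ⊗[D] S) (ew j)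
  have huz : u * (1 ⊗ₜ z) = 0 := by
    rw [Finset.sum_mul]
    refine Finset.sum_eq_zero fun j _ => ?_
    have := hca j
    rw [Fin.sum_univ_one] at this
    linear_combination (algebraMap E (E ⊗[D] S) (ew j)) * this
  have hu1 : L u - 1 ∈ I.map (algebraMap A H) := by
    rw [show (L u - 1 : H) = L u - ∑ j, c 0 j • w j from congrArg (L u - ·) (hc 0), map_sum,
      ← Finset.sum_sub_distrib]
    refine Ideal.sum_mem _ fun j _ => ?_
    rw [map_mul, AlgHom.commutes, Algebra.smul_def, show algebraMap (E ⊗[D] S) H (c 0 j) = L (c 0 j) from rfl,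
      ← mul_sub]
    exact Ideal.mul_mem_left _ _ (by simpa using neg_mem (hew j))
  obtain ⟨K, hK⟩ := TensorProduct.exists_finset u
  choose ds hds using fun s => exists_sub_mem hC (φ s)
  let v : E := ∑ k ∈ K, k.1 * ψ (ds k.2) - 1
  have hv : v ∈ I.map (algebraMap A E) := by
    refine mem_of_map_mem hH ?_
    have h2 : L u - algebraMap E H (∑ k ∈ K, k.1 * ψ (ds k.2)) ∈ I.map (algebraMap A H) := by
      rw [hK, map_sum, map_sum, ← Finset.sum_sub_distrib]
      refine Ideal.sum_mem _ fun k _ => ?_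
      rw [Algebra.TensorProduct.lift_tmul, map_mul, Algebra.ofId_apply, ← mul_sub]
      refine Ideal.mul_mem_left _ _ ?_
      show p (φ k.2) - _ ∈ _
      rw [← hp, ← map_sub]
      have := Ideal.mem_map_of_mem p.toRingHom (hds k.2)
      rwa [Ideal.map_map, AlgHom.toRingHom_eq_coe, AlgHom.comp_algebraMap] at this
    have := sub_mem hu1 h2
    rw [sub_sub_sub_cancel_left] at this
    rw [show algebraMap E H v = algebraMap E H (∑ k ∈ K, k.1 * ψ (ds k.2)) - 1 by simp [v]]
    exact this
  obtain ⟨W, hW⟩ := exists_witness hv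
  refine ⟨W ∪ K.image Prod.fst, fun D' _ _ ι ψ' hψ' hι hr C' _ _ _ _ hC' θ hθ => ?_⟩
  letI : Algebra D D' := ι.toRingHom.toAlgebra
  letI : Algebra D C' := ((algebraMap D' C').comp ι.toRingHom).toAlgebra
  haveI : IsScalarTower D D' C' := IsScalarTower.of_algebraMap_eq fun _ => rfl
  let ψD : D' →ₐ[D] E := { ψ'.toRingHom with commutes' := fun d => AlgHom.congr_fun hι d }
  let φ' : S →ₐ[D] C' := { θ.toRingHom.comp φ.toRingHom with
    commutes' := fun d => by
      show θ (φ (algebraMap D S d)) = _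
      rw [φ.commutes, hθ]; rfl }
  have hk : ∀ k ∈ K, ∃ e', ψ' e' = k.1 := fun k hk => hr (Finset.mem_union_right _ (Finset.mem_image_of_mem _ hk))
  choose! e' he' using hk
  let u' : D' ⊗[D] S := ∑ k ∈ K, e' k ⊗ₜ k.2
  haveI : Module.Flat D S := inferInstance
  have hinj : Function.Injective (Algebra.TensorProduct.map ψD (AlgHom.id D S)) :=
    Module.Flat.rTensor_preserves_injective_linearMap (M := S) ψD.toLinearMap hψ'
  have hu' : u' * (1 ⊗ₜ z) = 0 := hinj (by
    rw [map_mul, map_zero, Algebra.TensorProduct.map_tmul, map_one,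
      show Algebra.TensorProduct.map ψD (AlgHom.id D S) u' = u from by
        rw [hK, map_sum]
        exact Finset.sum_congr rfl fun k hk => by
          rw [Algebra.TensorProduct.map_tmul]; exact congrArg (· ⊗ₜ[D] k.2) (he' k hk)]
    exact huz)
  let L' : D' ⊗[D] S →ₐ[D'] C' := Algebra.TensorProduct.lift (Algebra.ofId D' C') φ' fun _ _ => Commute.all _ _
  have hunit : IsUnit (L' u') := by
    have h3 : ∑ k ∈ K, e' k * ι (ds k.2) - 1 ∈ I.map (algebraMap A D') := by
      refine hW D' ψ' hψ' (fun e he => hr (Finset.mem_union_left _ he)) _ ?_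
      rw [map_sub, map_one, map_sum]
      refine congrArg (· - 1) (Finset.sum_congr rfl fun k hk => ?_)
      rw [map_mul, he' k hk, ← AlgHom.comp_apply, hι]
    have h4 : L' u' - 1 ∈ I.map (algebraMap A C') := by
      have h5 := Ideal.mem_map_of_mem (algebraMap D' C') h3
      rw [map_map_tower, map_sub, map_one, map_sum] at h5
      have h6 : L' u' - ∑ k ∈ K, algebraMap D' C' (e' k * ι (ds k.2)) ∈ I.map (algebraMap A C') := by
        rw [map_sum, ← Finset.sum_sub_distrib]
        refine Ideal.sum_mem _ fun k _ => ?_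
        rw [Algebra.TensorProduct.lift_tmul, map_mul, Algebra.ofId_apply, ← mul_sub]
        refine Ideal.mul_mem_left _ _ ?_
        show θ (φ k.2) - _ ∈ _
        rw [← hθ, ← map_sub]
        have := Ideal.mem_map_of_mem θ.toRingHom (hds k.2)
        rwa [Ideal.map_map, AlgHom.toRingHom_eq_coe, AlgHom.comp_algebraMap] at this
      have := add_mem h6 h5
      rwa [sub_add_sub_cancel] at this
    have := Ideal.mem_jacobson_bot.1 ((relHens_henselian hC').jac h4) 1
    simpa using this
  have := congrArg L' hu'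
  rw [map_mul, map_zero, Algebra.TensorProduct.lift_tmul, map_one, one_mul] at this
  exact hunit.mul_right_eq_zero.1 this

end Groth.Agent.H9Hens.HfpDescend
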