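import Groth.Agent.H9Hens.Hfp
import Groth.Agent.H9Hens.Newton
import Groth.Agent.H9Hens.Milnor
import Groth.Agent.H9Hens.EtaleQuotLift
import Groth.Agent.H9Smooth.Lift
import Groth.Agent.S17597
import Groth.Agent.S17609
import Mathlib.RingTheory.Flat.EquationalCriterion
import Mathlib.RingTheory.Smooth.Basic
import Mathlib.RingTheory.Nakayama

/-!
Henselian finitely presented algebras with smooth reductions are covered by henselizations of smooth
algebras.
-/

set_option linter.style.haveILetI false

universe u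

open scoped TensorProduct

namespace Groth.Agent.H9Hens

variable {A : Type u} [CommRing A] {I : Ideal A}

/-- Extended ideals map to extended ideals. -/
theorem map_map_algHom {H B : Type*} [CommRing H] [CommRing B] [Algebra A H] [Algebra A B] (χ : H →ₐ[A] B)
    (J : Ideal A) : (J.map (algebraMap A H)).map χ = J.map (algebraMap A B) :=
  (Ideal.map_map (algebraMap A H) χ.toRingHom).trans (by rw [AlgHom.toRingHom_eq_coe, AlgHom.comp_algebraMap])

/-- In a finite sum presentation of a relation `∑ iₖ hₖ ↦ 0` into a flat quotient, the kernel meets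
`IH` in `I` times itself. -/
theorem ker_inf_map_le_smul {H B : Type u} [CommRing H] [CommRing B] [Algebra A H] [Algebra A B]
    [Module.Flat A B] (χ : H →ₐ[A] B) (hχ : Function.Surjective χ) {x : H} (hx : χ x = 0)
    (hxI : x ∈ I.map (algebraMap A H)) : x ∈ I.map (algebraMap A H) * RingHom.ker χ := by
  classical
  obtain ⟨l, h, i, hsum⟩ := Submodule.mem_span_set'.mp hxI
  choose a ha hai using fun k => (i k).2
  have h0 : ∑ k, a k • χ (h k) = 0 := by
    rw [← hx, ← hsum, map_sum]
    refine Finset.sum_congr rfl fun k _ => ?_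
    rw [smul_eq_mul, map_mul, ← hai k, χ.commutes, Algebra.smul_def, mul_comm]
  obtain ⟨m, c, y, hy, hc⟩ := Module.Flat.iff_forall_isTrivialRelation.mp ‹Module.Flat A B› h0
  choose z hz using fun j => hχ (y j)
  have key : x = ∑ k, algebraMap A H (a k) * (h k - ∑ j, c k j • z j) := by
    simp only [mul_sub, Finset.sum_sub_distrib, Finset.mul_sum]
    rw [Finset.sum_comm, show ∑ j, ∑ k, algebraMap A H (a k) * (c k j • z j) = 0 from
      Finset.sum_eq_zero fun j _ => by
        simp only [Algebra.smul_def, ← mul_assoc, ← map_mul, ← Finset.sum_mul, ← map_sum]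
        rw [hc j, map_zero, zero_mul], sub_zero, ← hsum]
    exact Finset.sum_congr rfl fun k _ => by rw [hai, smul_eq_mul, mul_comm]
  rw [key]
  refine sum_mem fun k _ => Ideal.mul_mem_mul (Ideal.mem_map_of_mem _ (ha k)) ?_
  rw [RingHom.mem_ker, map_sub, map_sum, sub_eq_zero]
  refine (hy k).trans ?_
  exact Finset.sum_congr rfl fun j _ => by rw [map_smul, hz]

/-- The cover of a henselian finitely presented algebra by the henselization of a lift of its closed
fibre. -/
theorem exists_cover_of_lift [HenselianRing A I] (R₀ : Type u) [CommRing R₀] [Algebra A R₀]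
    [Algebra.FinitePresentation A R₀] (B : Type u) [CommRing B] [Algebra R₀ B] [Algebra A B]
    [IsScalarTower A R₀ B] (hB : Hens2.IsPairHenselization R₀ (I.map (algebraMap A R₀)) B)
    (hsm : ∀ r : ℕ, 1 ≤ r → Algebra.FormallySmooth (A ⧸ I ^ r) (B ⧸ (I ^ r).map (algebraMap A B)))
    (R : Type u) [CommRing R] [Algebra A R] [Algebra.Smooth A R]
    (ρ : R →ₐ[A] B ⧸ (I ^ 1).map (algebraMap A B)) (hρ : Function.Surjective ρ)
    (hρk : ∀ x, ρ x = 0 → x ∈ (I ^ 1).map (algebraMap A R)) :
    ∃ (H : Type u) (_ : CommRing H) (_ : Algebra R H) (_ : Algebra A H) (_ : IsScalarTower A R H),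
      Hens2.IsPairHenselization R (I.map (algebraMap A R)) H ∧
      ∃ φ : H →ₐ[A] B, Function.Surjective φ ∧ (RingHom.ker φ).FG ∧
        ∀ n : ℕ, RingHom.ker φ ≤ (I ^ n).map (algebraMap A H) := by
  classical
  obtain ⟨H, _, iRH, π, -, hH⟩ := exists_isPairHenselization R (I.map (algebraMap A R))
  letI : Algebra A H := ((algebraMap R H).comp (algebraMap A R)).toAlgebra
  haveI : IsScalarTower A R H := IsScalarTower.of_algebraMap_eq fun _ => rfl
  haveI hhH : HenselianRing H (I.map (algebraMap A H)) := relHens_henselian hH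
  haveI hhB : HenselianRing B ((I ^ 1).map (algebraMap A B)) := by rw [pow_one]; exact relHens_henselian hB
  haveI : HenselianRing B (I.map (algebraMap A B)) := relHens_henselian hB
  obtain ⟨τ, hτ⟩ := exists_algHom_lift_smooth_rel (A := B) (I := (I ^ 1).map (algebraMap A B)) ρ
  obtain ⟨χ, hχ⟩ := relHens_exists hH τ
  have hτρ : ∀ r, Ideal.Quotient.mk ((I ^ 1).map (algebraMap A B)) (τ r) = ρ r := fun r => DFunLike.congr_fun hτ r
  have hbij := pairHenselization_quotient_pow_bijective hH 1
  rw [pow_one] at hbij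
  have hrep : ∀ x : H, ∃ r, x - algebraMap R H r ∈ I.map (algebraMap A H) := fun x => by
    obtain ⟨r, hr⟩ := hbij.2 (Ideal.Quotient.mk _ x)
    obtain ⟨r, rfl⟩ := Ideal.Quotient.mk_surjective r
    rw [Ideal.quotientMap_mk, Ideal.Quotient.eq, map_map_tower] at hr
    exact ⟨r, by rw [← neg_sub]; exact neg_mem hr⟩
  have hχI : (I.map (algebraMap A H)).map χ = I.map (algebraMap A B) := map_map_algHom χ I
  have hker1 : ∀ x, χ x ∈ I.map (algebraMap A B) → x ∈ I.map (algebraMap A H) := fun x hx => by
    obtain ⟨r, hr⟩ := hrep x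
    have h1 : τ r ∈ I.map (algebraMap A B) := by
      rw [← hχ, show χ (algebraMap R H r) = χ x - χ (x - algebraMap R H r) by rw [map_sub, sub_sub_cancel]]
      exact sub_mem hx (hχI.le (Ideal.mem_map_of_mem χ hr))
    have h2 : r ∈ I.map (algebraMap A R) := by
      have := hρk r (by rw [← hτρ, Ideal.Quotient.eq_zero_iff_mem, pow_one]; exact h1)
      rwa [pow_one] at this
    have h3 := Ideal.mem_map_of_mem (algebraMap R H) h2
    rw [map_map_tower] at h3
    simpa using add_mem hr h3
  letI : Algebra H B := χ.toRingHom.toAlgebra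
  haveI : IsScalarTower A H B := IsScalarTower.of_algebraMap_eq fun a => (χ.commutes a).symm
  obtain ⟨T, _, _, _, _, hT, hTB⟩ := S17609.result A I R H hH R₀ B hB
  have hmapB : (I.map (algebraMap A H)).map (algebraMap H B) = I.map (algebraMap A B) := map_map_tower H B
  have hqs : Function.Surjective (Ideal.quotientMap ((I.map (algebraMap A H)).map (algebraMap H B))
      (algebraMap H B) Ideal.le_comap_map) := by
    intro y
    obtain ⟨b, rfl⟩ := Ideal.Quotient.mk_surjective y
    obtain ⟨r, hr⟩ := hρ (Ideal.Quotient.mk _ b)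
    refine ⟨Ideal.Quotient.mk _ (algebraMap R H r), ?_⟩
    rw [Ideal.quotientMap_mk, Ideal.Quotient.eq, hmapB]
    show χ (algebraMap R H r) - b ∈ _
    rw [← hτρ, Ideal.Quotient.eq, pow_one] at hr
    rwa [hχ]
  have hsurj : Function.Surjective χ := S17597.result H (I.map (algebraMap A H)) T B hTB hqs
  haveI : Algebra.FinitePresentation H B :=
    (S17596.result H (I.map (algebraMap A H)) T B hTB (RingHom.Finite.of_surjective _ hqs)).2
  have hfg : (RingHom.ker χ).FG :=
    Algebra.FinitePresentation.ker_fG_of_surjective (Algebra.ofId H B) hsurj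
  refine ⟨H, inferInstance, iRH, inferInstance, inferInstance, hH, χ, hsurj, hfg, fun n => ?_⟩
  rcases Nat.eq_zero_or_pos n with rfl | hn
  · rw [pow_zero, Ideal.one_eq_top, Ideal.map_top]; exact le_top
  let ν := Ideal.Quotient.mkₐ A ((I ^ n).map (algebraMap A H))
  let g₀ : (H ⧸ (I ^ n).map (algebraMap A H)) →ₐ[A] B ⧸ (I ^ n).map (algebraMap A B) :=
    Ideal.quotientMapₐ _ χ (Ideal.map_le_iff_le_comap.mp (map_map_algHom χ (I ^ n)).le)
  haveI := hsm n hn
  let g := g₀.extendScalarsOfSurjective (S := A ⧸ I ^ n) Ideal.Quotient.mk_surjective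
  have hg : Function.Surjective g := fun y => by
    obtain ⟨y, rfl⟩ := Ideal.Quotient.mk_surjective y
    obtain ⟨x, rfl⟩ := hsurj y
    exact ⟨ν x, rfl⟩
  let N : Ideal (H ⧸ (I ^ n).map (algebraMap A H)) := I.map (algebraMap A _)
  have hNpow : N ^ n = ⊥ := by
    rw [← Ideal.map_pow]
    exact (Ideal.map_eq_bot_iff_le_ker _).mpr fun a ha =>
      Ideal.Quotient.eq_zero_iff_mem.mpr (Ideal.mem_map_of_mem (algebraMap A H) ha)
  have hgN : RingHom.ker g ≤ N := fun y hy => by
    obtain ⟨x, rfl⟩ := Ideal.Quotient.mk_surjective y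
    have h1 : Ideal.Quotient.mk _ (χ x) = (0 : B ⧸ (I ^ n).map (algebraMap A B)) := hy
    rw [Ideal.Quotient.eq_zero_iff_mem] at h1
    have h2 := hker1 x (Ideal.map_mono (Ideal.pow_le_self (by omega)) h1)
    have h3 := Ideal.mem_map_of_mem ν h2
    rwa [show (I.map (algebraMap A H)).map ν = N from map_map_algHom ν I] at h3
  have hnil : IsNilpotent (RingHom.ker g) :=
    ⟨n, le_antisymm ((Ideal.pow_right_mono hgN n).trans hNpow.le) bot_le⟩
  let s := Algebra.FormallySmooth.liftOfSurjective (AlgHom.id (A ⧸ I ^ n) _) g hg hnil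
  have hgs : ∀ y, g (s y) = y := fun y =>
    Algebra.FormallySmooth.liftOfSurjective_apply (AlgHom.id (A ⧸ I ^ n) _) g hg hnil y
  have hKN : ∀ y ∈ RingHom.ker g, y ∈ N * RingHom.ker g := fun y hy => by
    obtain ⟨l, h, i, hsum⟩ := Submodule.mem_span_set'.mp (hgN hy)
    choose a ha hai using fun k => (i k).2
    have h1 : y = ∑ k, algebraMap A _ (a k) * (h k - s (g (h k))) := by
      calc y = y - s (g y) := by rw [RingHom.mem_ker.mp hy, map_zero, sub_zero]
        _ = _ := by
          rw [← hsum, map_sum, map_sum, ← Finset.sum_sub_distrib]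
          refine Finset.sum_congr rfl fun k _ => ?_
          rw [smul_eq_mul, ← hai k, IsScalarTower.algebraMap_apply A (A ⧸ I ^ n), map_mul, map_mul,
            AlgHom.commutes, AlgHom.commutes]
          ring
    rw [h1]
    refine sum_mem fun k _ => Ideal.mul_mem_mul (Ideal.mem_map_of_mem _ (ha k)) ?_
    rw [RingHom.mem_ker, map_sub, hgs, sub_self]
  have hzero : ∀ m, RingHom.ker g ≤ N ^ m * RingHom.ker g := fun m => by
    induction m with
    | zero => rw [pow_zero, one_mul]
    | succ m ih =>
      refine ih.trans ?_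
      rw [pow_succ, mul_assoc]
      exact Ideal.mul_mono_right hKN
  intro x hx
  rw [← Ideal.Quotient.eq_zero_iff_mem]
  have h1 : ν x ∈ RingHom.ker g := by
    show Ideal.Quotient.mk _ (χ x) = 0
    rw [RingHom.mem_ker.mp hx, map_zero]
  have h2 := hzero n h1
  rw [hNpow, Ideal.bot_mul] at h2
  exact h2

/-- In the flat case the cover is an isomorphism. -/
theorem exists_algebra_of_flat [HenselianRing A I] {R H B : Type u} [CommRing R] [Algebra A R] [CommRing H]
    [Algebra R H] [Algebra A H] [IsScalarTower A R H] [CommRing B] [Algebra A B] [Module.Flat A B]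
    (hH : Hens2.IsPairHenselization R (I.map (algebraMap A R)) H) (φ : H →ₐ[A] B)
    (hφ : Function.Surjective φ) (hfg : (RingHom.ker φ).FG)
    (hle : RingHom.ker φ ≤ (I ^ 1).map (algebraMap A H)) :
    ∃ (_ : Algebra R B) (_ : IsScalarTower A R B), Hens2.IsPairHenselization R (I.map (algebraMap A R)) B := by
  have hhH : HenselianRing H (I.map (algebraMap A H)) := relHens_henselian hH
  have hK : RingHom.ker φ = ⊥ := by
    refine Submodule.eq_bot_of_le_smul_of_le_jacobson_bot (I.map (algebraMap A H)) _ hfg ?_ hhH.jac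
    intro x hx
    rw [pow_one] at hle
    exact ker_inf_map_le_smul φ hφ hx (hle hx)
  letI : Algebra R B := (φ.toRingHom.comp (algebraMap R H)).toAlgebra
  haveI : IsScalarTower A R B := IsScalarTower.of_algebraMap_eq fun a => by
    show algebraMap A B a = φ (algebraMap R H (algebraMap A R a))
    rw [← IsScalarTower.algebraMap_apply, AlgHom.commutes]
  exact ⟨inferInstance, inferInstance, relHens_quotient hH (AlgHom.id A R) Function.surjective_id φ hφ
    (fun r => rfl) (hK.le.trans bot_le)⟩

/-- A lift of the closed fibre by an etale algebra. -/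
theorem exists_etale_lift_surjective (I : Ideal A) (C : Type u) [CommRing C] [Algebra A C] [Algebra (A ⧸ I) C]
    [IsScalarTower A (A ⧸ I) C] [Algebra.Etale (A ⧸ I) C] :
    ∃ (R : Type u) (_ : CommRing R) (_ : Algebra A R), Algebra.Etale A R ∧ ∃ ρ : R →ₐ[A] C,
      Function.Surjective ρ ∧ ∀ x, ρ x = 0 → x ∈ I.map (algebraMap A R) := by
  obtain ⟨R, _, _, hR, ⟨e⟩⟩ := exists_etale_lift_quotient A I C
  refine ⟨R, inferInstance, inferInstance, hR,
    (e.restrictScalars A).toAlgHom.comp Algebra.TensorProduct.includeRight, fun y => ?_, fun x hx => ?_⟩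
  · obtain ⟨z, rfl⟩ := e.surjective y
    obtain ⟨x, hx⟩ : ∃ x : R, z = (1 : A ⧸ I) ⊗ₜ[A] x := by
      induction z with
      | zero => exact ⟨0, by simp⟩
      | tmul a x =>
        obtain ⟨a, rfl⟩ := Ideal.Quotient.mk_surjective a
        exact ⟨a • x, by rw [TensorProduct.tmul_smul, TensorProduct.smul_tmul', Algebra.smul_def, mul_one]; rfl⟩
      | add y z hy hz =>
        obtain ⟨y, rfl⟩ := hy
        obtain ⟨z, rfl⟩ := hz
        exact ⟨y + z, (TensorProduct.tmul_add _ _ _).symm⟩
    exact ⟨x, by rw [hx]; rfl⟩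
  · have h1 : (1 : A ⧸ I) ⊗ₜ[A] x = 0 := e.injective (hx.trans (map_zero e).symm)
    rw [Milnor.one_tmul_eq_zero_iff Ideal.Quotient.mk_surjective,
      show RingHom.ker (algebraMap A (A ⧸ I)) = I from Ideal.mk_ker, Ideal.smul_top_eq_map] at h1
    exact h1

end Groth.Agent.H9Hens
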