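import Groth.Agent.H9Hens.MilnorFlat
import Mathlib.RingTheory.Smooth.Fiber
import Mathlib.RingTheory.Smooth.Flat
import Mathlib.RingTheory.Kaehler.TensorProduct
import Mathlib.RingTheory.IsTensorProduct
import Mathlib.RingTheory.LocalRing.ResidueField.Fiber
import Mathlib.RingTheory.TensorProduct.MvPolynomial

/-!
# Finiteness and smoothness of algebras descend along Milnor squares
-/

set_option autoImplicit false

universe u

open TensorProduct

namespace Groth.Agent.H9Hens.Milnor

section Kernel

variable {R P D : Type u} [CommRing R] [CommRing P] [Algebra R P] [CommRing D] [Algebra R D]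

/-- Finitely many relations of `P → D` generate all relations after base change to `S`. -/
theorem exists_finset_relations (π : P →ₐ[R] D) (hπ : Function.Surjective π) (S : Type u) [CommRing S]
    [Algebra R S] [Module.Flat R D] [Algebra.FinitePresentation R P] [Algebra.FinitePresentation S (S ⊗[R] D)] :
    ∃ s : Finset P, (∀ k ∈ s, π k = 0) ∧ ∀ J : Submodule P ↥(RingHom.ker π),
      (∀ x : ↥(RingHom.ker π), x.1 ∈ s → x ∈ J) →
        Subsingleton (S ⊗[R] (↥(RingHom.ker π) ⧸ J)) := by
  classical
  let K := RingHom.ker π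
  let incl : ↥K →ₗ[R] P := K.subtype.restrictScalars R
  let πS : S ⊗[R] P →ₐ[S] S ⊗[R] D := Algebra.TensorProduct.map (AlgHom.id S S) π
  have hπlin : ∀ z, πS z = π.toLinearMap.lTensor S z := fun z => by
    induction z using TensorProduct.induction_on with
    | zero => simp
    | tmul a b => simp [πS]
    | add a b ha hb => simp only [map_add, ha, hb]
  have hπS : Function.Surjective πS := fun y => by
    obtain ⟨x, rfl⟩ := LinearMap.lTensor_surjective (g := π.toLinearMap) S hπ y
    exact ⟨x, hπlin x⟩
  have hexact : Function.Exact incl π.toLinearMap := fun x => by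
    simp [incl, K, RingHom.mem_ker]
  have hfg : (RingHom.ker πS).FG := Algebra.FinitePresentation.ker_fG_of_surjective πS hπS
  obtain ⟨t, ht⟩ := hfg
  have hpre : ∀ y ∈ t, ∃ z : S ⊗[R] ↥K, incl.lTensor S z = y := fun y hy => by
    refine (lTensor_exact S hexact hπ y).mp ?_
    rw [← hπlin]
    exact RingHom.mem_ker.mp (ht ▸ Ideal.subset_span hy)
  choose z hz using hpre
  choose w hw using fun z : S ⊗[R] ↥K => TensorProduct.exists_finset z
  let s : Finset P := t.attach.biUnion fun y => (w (z y.1 y.2)).image fun p => (p.2 : P)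
  refine ⟨s, fun k hk => ?_, fun J hJ => ?_⟩
  · obtain ⟨y, -, hy⟩ := Finset.mem_biUnion.mp hk
    obtain ⟨p, -, rfl⟩ := Finset.mem_image.mp hy
    exact p.2.2
  let JR : Submodule R ↥K := J.restrictScalars R
  -- the image of `S ⊗ J` is an ideal of `S ⊗ P`
  let j : ↥JR →ₗ[R] P := incl ∘ₗ JR.subtype
  let I : Ideal (S ⊗[R] P) :=
    { carrier := Set.range (j.lTensor S)
      add_mem' := by rintro _ _ ⟨a, rfl⟩ ⟨b, rfl⟩; exact ⟨a + b, map_add _ _ _⟩
      zero_mem' := ⟨0, map_zero _⟩
      smul_mem' := by
        rintro c _ ⟨a, rfl⟩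
        induction c using TensorProduct.induction_on generalizing a with
        | zero => exact ⟨0, by simp⟩
        | tmul s₀ p =>
          induction a using TensorProduct.induction_on with
          | zero => exact ⟨0, by simp⟩
          | tmul s' x =>
            refine ⟨(s₀ * s') ⊗ₜ (⟨p • x.1, J.smul_mem p x.2⟩ : JR), ?_⟩
            simp [j, incl, Algebra.TensorProduct.tmul_mul_tmul]
          | add a b ha hb =>
            obtain ⟨a', ha'⟩ := ha
            obtain ⟨b', hb'⟩ := hb
            exact ⟨a' + b', by rw [map_add, map_add, smul_add, ha', hb']⟩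
        | add c d hc hd =>
          obtain ⟨a', ha'⟩ := hc a
          obtain ⟨b', hb'⟩ := hd a
          exact ⟨a' + b', by rw [map_add, add_smul, ha', hb']⟩ }
  have hle : RingHom.ker πS ≤ I := by
    rw [← ht, Ideal.span_le]
    intro y hy
    rw [SetLike.mem_coe, ← hz y hy, hw (z y hy), map_sum]
    refine I.sum_mem fun p hp => ⟨p.1 ⊗ₜ (⟨p.2, hJ p.2 ?_⟩ : JR), rfl⟩
    exact Finset.mem_biUnion.mpr ⟨⟨y, hy⟩, Finset.mem_attach _ _, Finset.mem_image.mpr ⟨p, hp, rfl⟩⟩
  have hinj : Function.Injective (incl.lTensor S) :=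
    LinearMap.lTensor_injective_of_exact_of_flat π.toLinearMap hπ incl Subtype.val_injective hexact S
  refine subsingleton_of_forall_eq 0 fun q => ?_
  obtain ⟨x, rfl⟩ := LinearMap.lTensor_surjective (g := (J.mkQ.restrictScalars R)) S J.mkQ_surjective q
  obtain ⟨a, ha⟩ : incl.lTensor S x ∈ I := hle (by
    rw [RingHom.mem_ker, hπlin]
    exact (lTensor_exact S hexact hπ).apply_apply_eq_zero x)
  have hx : x = JR.subtype.lTensor S a := hinj (by rw [← ha, ← LinearMap.lTensor_comp_apply])
  rw [hx, ← LinearMap.lTensor_comp_apply,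
    show J.mkQ.restrictScalars R ∘ₗ JR.subtype = 0 from LinearMap.ext fun v =>
      (Submodule.Quotient.mk_eq_zero J).mpr v.2]
  simp

end Kernel

variable {B' B A' A : Type u} [CommRing B'] [CommRing B] [CommRing A'] [CommRing A]
  [Algebra B' B] [Algebra B' A'] [Algebra B A] [Algebra A' A] [Algebra B' A]
  [IsScalarTower B' B A] [IsScalarTower B' A' A]
  {D' : Type u} [CommRing D'] [Algebra B' D']

theorem finiteType_of_baseChange (hsq : EtMil.IsFibreSquare B' B A' A)
    [Algebra.FiniteType B (B ⊗[B'] D')] [Algebra.FiniteType A' (A' ⊗[B'] D')] :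
    Algebra.FiniteType B' D' := by
  classical
  have hgen : ∀ (S : Type u) [CommRing S] [Algebra B' S] [Algebra.FiniteType S (S ⊗[B'] D')],
      ∃ s : Finset D', ∀ t : Set D', (s : Set D') ⊆ t →
        Algebra.adjoin S ((fun d => (1 : S) ⊗ₜ[B'] d) '' t) = ⊤ := by
    intro S _ _ _
    obtain ⟨v, hv⟩ := Algebra.FiniteType.out (R := S) (A := S ⊗[B'] D')
    choose k hk using fun z : S ⊗[B'] D' => TensorProduct.exists_finset z
    refine ⟨v.biUnion fun z => (k z).image Prod.snd, fun t ht => ?_⟩
    rw [← top_le_iff, ← hv, Algebra.adjoin_le_iff]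
    intro y hy
    rw [SetLike.mem_coe, hk y]
    refine Subalgebra.sum_mem _ fun p hp => ?_
    rw [show p.1 ⊗ₜ[B'] p.2 = p.1 • ((1 : S) ⊗ₜ[B'] p.2) by rw [TensorProduct.smul_tmul', smul_eq_mul, mul_one]]
    refine Subalgebra.smul_mem _ (Algebra.subset_adjoin ?_) _
    exact ⟨p.2, ht (Finset.mem_coe.mpr
      (Finset.mem_biUnion.mpr ⟨y, hy, Finset.mem_image.mpr ⟨p, hp, rfl⟩⟩)), rfl⟩
  obtain ⟨s, hs⟩ := hgen B
  obtain ⟨t, ht⟩ := hgen A'
  let T := Algebra.adjoin B' ((s ∪ t : Finset D') : Set D')
  let Q := D' ⧸ T.toSubmodule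
  have key : ∀ (S : Type u) [CommRing S] [Algebra B' S],
      Algebra.adjoin S ((fun d => (1 : S) ⊗ₜ[B'] d) '' ((s ∪ t : Finset D') : Set D')) = ⊤ →
      Subsingleton (S ⊗[B'] Q) := by
    intro S _ _ h
    refine subsingleton_of_forall_eq 0 fun q => ?_
    obtain ⟨x, rfl⟩ := LinearMap.lTensor_surjective (g := T.toSubmodule.mkQ) S T.toSubmodule.mkQ_surjective q
    have hx : x ∈ (Algebra.TensorProduct.map (AlgHom.id S S) T.val).range := by
      refine (h ▸ Algebra.adjoin_le ?_) (Algebra.mem_top (x := x))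
      rintro _ ⟨d, hd, rfl⟩
      exact ⟨(1 : S) ⊗ₜ (⟨d, Algebra.subset_adjoin hd⟩ : T), by simp⟩
    obtain ⟨a, rfl⟩ := hx
    induction a using TensorProduct.induction_on with
    | zero => simp
    | tmul a b => simp [(Submodule.Quotient.mk_eq_zero T.toSubmodule).mpr b.2]
    | add a b ha hb =>
      simp only [AlgHom.toRingHom_eq_coe, RingHom.coe_coe, map_add] at ha hb ⊢
      rw [ha, hb, add_zero]
  haveI := key B (hs _ (by simp))
  haveI := key A' (ht _ (by simp))
  haveI := subsingleton_of_baseChange hsq Q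
  refine ⟨⟨s ∪ t, top_le_iff.mp fun d _ => ?_⟩⟩
  exact (Submodule.Quotient.mk_eq_zero T.toSubmodule).mp (Subsingleton.elim (Submodule.Quotient.mk d) 0)

theorem finitePresentation_of_baseChange_algebra (hsq : EtMil.IsFibreSquare B' B A' A)
    [Module.Flat B (B ⊗[B'] D')] [Module.Flat A' (A' ⊗[B'] D')]
    [Algebra.FinitePresentation B (B ⊗[B'] D')] [Algebra.FinitePresentation A' (A' ⊗[B'] D')] :
    Algebra.FinitePresentation B' D' := by
  classical
  haveI := flat_of_flat_baseChange (L := D') hsq
  haveI := finiteType_of_baseChange (D' := D') hsq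
  obtain ⟨n, π, hπ⟩ := Algebra.FiniteType.iff_quotient_mvPolynomial''.mp ‹Algebra.FiniteType B' D'›
  obtain ⟨s, hs, hsJ⟩ := exists_finset_relations π hπ B
  obtain ⟨t, ht, htJ⟩ := exists_finset_relations π hπ A'
  let P := MvPolynomial (Fin n) B'
  let J : Submodule P ↥(RingHom.ker π) := Submodule.span P {x | x.1 ∈ s ∪ t}
  haveI := hsJ J fun x hx => Submodule.subset_span (Finset.mem_union_left _ hx)
  haveI := htJ J fun x hx => Submodule.subset_span (Finset.mem_union_right _ hx)
  haveI := subsingleton_of_baseChange hsq (↥(RingHom.ker π) ⧸ J)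
  refine Algebra.FinitePresentation.of_surjective hπ ⟨s ∪ t, le_antisymm (Ideal.span_le.mpr fun k hk => ?_) fun k hk => ?_⟩
  · rcases Finset.mem_union.mp (Finset.mem_coe.mp hk) with h | h
    exacts [hs k h, ht k h]
  have hkJ : (⟨k, hk⟩ : ↥(RingHom.ker π)) ∈ J :=
    (Submodule.Quotient.mk_eq_zero J).mp (Subsingleton.elim _ _)
  have hle : J.map (Submodule.subtype (RingHom.ker π)) ≤ Ideal.span ((s ∪ t : Finset P) : Set P) := by
    rw [Submodule.map_span, Submodule.span_le]
    rintro _ ⟨x, hx, rfl⟩
    exact Ideal.subset_span hx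
  exact hle ⟨_, hkJ, rfl⟩

/-- A point of `Spec B'` lifts, with the same residue field, to `Spec B` or to `Spec A'`. -/
theorem residueField_lift (hsq : EtMil.IsFibreSquare B' B A' A) (p : Ideal B') [p.IsPrime] :
    (∃ _ : Algebra B p.ResidueField, IsScalarTower B' B p.ResidueField) ∨
      ∃ _ : Algebra A' p.ResidueField, IsScalarTower B' A' p.ResidueField := by
  have h := weak_of_isFibreSquare hsq
  let k := p.ResidueField
  let g := algebraMap B' k
  have hgker : ∀ b, g b = 0 ↔ b ∈ p := fun b => by
    rw [← RingHom.mem_ker, Ideal.ker_algebraMap_residueField]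
  by_cases hI : RingHom.ker (algebraMap B' B) ≤ p
  · left
    let f : B →+* k := RingHom.liftOfSurjective (algebraMap B' B) h.surjB
      ⟨g, fun b hb => (hgker b).mpr (hI hb)⟩
    letI : Algebra B k := f.toAlgebra
    exact ⟨inferInstance, IsScalarTower.of_algebraMap_eq fun b =>
      (RingHom.liftOfSurjective_comp_apply (algebraMap B' B) h.surjB ⟨g, fun b hb => (hgker b).mpr (hI hb)⟩ b).symm⟩
  · right
    obtain ⟨j, hj, hjp⟩ := SetLike.not_le_iff_exists.mp hI
    rw [RingHom.mem_ker] at hj
    have hgj : g j ≠ 0 := fun e => hjp ((hgker j).mp e)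
    have hjA : algebraMap A' A (algebraMap B' A' j) = 0 := by
      rw [← IsScalarTower.algebraMap_apply, IsScalarTower.algebraMap_apply B' B A, hj, map_zero]
    choose w hw using fun a : A' => hsq.2 0 (a * algebraMap B' A' j) (by simp [hjA])
    have hw1 : ∀ a, algebraMap B' B (w a) = 0 := fun a => (hw a).1.1
    have hw2 : ∀ a, algebraMap B' A' (w a) = a * algebraMap B' A' j := fun a => (hw a).1.2
    let f : A' →+* k :=
      { toFun := fun a => g (w a) / g j
        map_one' := by
          rw [show w 1 = j from ext_of_isFibreSquare hsq ((hw1 1).trans hj.symm) (by simp [hw2]),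
            div_self hgj]
        map_mul' := fun a b => by
          have : w (a * b) * j = w a * w b := ext_of_isFibreSquare hsq (by simp [hw1])
            (by simp [hw2]; ring)
          rw [div_mul_div_comm, ← map_mul g (w a), ← this, map_mul, mul_div_mul_right _ _ hgj]
        map_zero' := by
          rw [show w 0 = 0 from ext_of_isFibreSquare hsq (by simp [hw1]) (by simp [hw2]), map_zero, zero_div]
        map_add' := fun a b => by
          rw [show w (a + b) = w a + w b from ext_of_isFibreSquare hsq (by simp [hw1])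
            (by simp [hw2, add_mul]), map_add, add_div] }
    letI : Algebra A' k := f.toAlgebra
    refine ⟨inferInstance, IsScalarTower.of_algebraMap_eq fun b => ?_⟩
    show g b = g (w (algebraMap B' A' b)) / g j
    rw [show w (algebraMap B' A' b) = b * j from ext_of_isFibreSquare hsq (by simp [hw1, hj]) (by simp [hw2]),
      map_mul, mul_div_assoc, div_self hgj, mul_one]

theorem smooth_of_baseChange (hsq : EtMil.IsFibreSquare B' B A' A)
    [Algebra.Smooth B (B ⊗[B'] D')] [Algebra.Smooth A' (A' ⊗[B'] D')] :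
    Algebra.Smooth B' D' := by
  haveI := finitePresentation_of_baseChange_algebra (D' := D') hsq
  haveI := flat_of_flat_baseChange (L := D') hsq
  refine Algebra.Smooth.of_formallySmooth_fiber fun p _ => ?_
  let k := p.ResidueField
  rcases residueField_lift hsq p with ⟨_, _⟩ | ⟨_, _⟩
  · exact Algebra.FormallySmooth.of_equiv (Algebra.TensorProduct.cancelBaseChange B' B k k D')
  · exact Algebra.FormallySmooth.of_equiv (Algebra.TensorProduct.cancelBaseChange B' A' k k D')

theorem etale_of_baseChange (hsq : EtMil.IsFibreSquare B' B A' A)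
    [Algebra.Etale B (B ⊗[B'] D')] [Algebra.Etale A' (A' ⊗[B'] D')] :
    Algebra.Etale B' D' := by
  haveI := smooth_of_baseChange (D' := D') hsq
  haveI : Subsingleton (B ⊗[B'] Ω[D'⁄B']) := by
    letI : Algebra D' (B ⊗[B'] D') := Algebra.TensorProduct.rightAlgebra
    exact (KaehlerDifferential.tensorKaehlerEquivBase B' B D' (B ⊗[B'] D')).toEquiv.subsingleton
  haveI : Subsingleton (A' ⊗[B'] Ω[D'⁄B']) := by
    letI : Algebra D' (A' ⊗[B'] D') := Algebra.TensorProduct.rightAlgebra
    exact (KaehlerDifferential.tensorKaehlerEquivBase B' A' D' (A' ⊗[B'] D')).toEquiv.subsingleton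
  haveI : Subsingleton Ω[D'⁄B'] := subsingleton_of_baseChange hsq _
  haveI : Algebra.FormallyUnramified B' D' := ⟨inferInstance⟩
  exact Algebra.Etale.of_formallyUnramified_of_flat

end Groth.Agent.H9Hens.Milnor
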