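import Mathlib.RingTheory.LocalRing.ResidueField.Ideal
import Mathlib.RingTheory.Etale.Basic
import Mathlib.RingTheory.Unramified.Finite

/-!
Primes with trivial residue field extension, as points with values in the residue field, and etale
neighbourhoods of such points.
-/

namespace Groth.Agent.H9Hens

universe u v

open scoped TensorProduct

variable {R : Type u} [CommRing R] (p : Ideal R) [p.IsPrime]

/-- A prime over `p` with trivial residue field is the kernel of a point with values in `κ(p)`. -/
theorem exists_point {S : Type v} [CommRing S] [Algebra R S] (q : Ideal S) [q.IsPrime]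
    (hq : p = q.comap (algebraMap R S))
    (hκ : Function.Bijective (Ideal.ResidueField.map p q (algebraMap R S) hq)) :
    ∃ σ : S →ₐ[R] p.ResidueField, RingHom.ker σ = q := by
  let e := RingEquiv.ofBijective _ hκ
  refine ⟨{ e.symm.toRingHom.comp (algebraMap S q.ResidueField) with
    commutes' := fun r => ?_ }, ?_⟩
  · exact e.symm_apply_eq.mpr (Ideal.ResidueField.map_algebraMap p q (algebraMap R S) hq r).symm
  · ext x
    show e.symm (algebraMap S q.ResidueField x) = 0 ↔ _
    rw [EmbeddingLike.map_eq_zero_iff, Ideal.algebraMap_residueField_eq_zero]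

/-- The kernel of a point with values in `κ(p)` lies over `p` with trivial residue field. -/
theorem point_ker {S : Type v} [CommRing S] [Algebra R S] (σ : S →ₐ[R] p.ResidueField) :
    ∃ (hq : p = (RingHom.ker σ.toRingHom).comap (algebraMap R S))
      (_ : (RingHom.ker σ.toRingHom).IsPrime),
      Function.Bijective (Ideal.ResidueField.map p (RingHom.ker σ.toRingHom) (algebraMap R S) hq) := by
  have hq : p = (RingHom.ker σ.toRingHom).comap (algebraMap R S) := by
    rw [RingHom.comap_ker, AlgHom.toRingHom_eq_coe, AlgHom.comp_algebraMap,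
      Ideal.ker_algebraMap_residueField]
  have := RingHom.ker_isPrime σ.toRingHom
  refine ⟨hq, this, RingHom.injective _, fun y => ?_⟩
  let j := Ideal.ResidueField.lift (RingHom.ker σ.toRingHom) σ.toRingHom le_rfl
    (fun x hx => (isUnit_iff_ne_zero.mpr fun h => hx (RingHom.mem_ker.mpr h) :
      IsUnit (σ.toRingHom x)))
  have hj : j.comp (Ideal.ResidueField.map p _ (algebraMap R S) hq) = RingHom.id _ :=
    Ideal.ResidueField.ringHom_ext (RingHom.ext fun r => by
      show j (Ideal.ResidueField.map p _ (algebraMap R S) hq (algebraMap R _ r)) = _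
      rw [Ideal.ResidueField.map_algebraMap]
      refine (Ideal.ResidueField.lift_algebraMap _ _ _ _ _).trans ?_
      exact σ.commutes r)
  exact ⟨j y, j.injective (RingHom.congr_fun hj (j y))⟩

/-- A point whose kernel has trivial residue field is determined by its kernel. -/
theorem point_ext {S : Type v} [CommRing S] [Algebra R S] {σ τ : S →ₐ[R] p.ResidueField}
    (h : RingHom.ker σ = RingHom.ker τ) : σ = τ := by
  obtain ⟨hq, _, hκ⟩ := point_ker p σ
  let jl : ∀ ρ : S →ₐ[R] p.ResidueField, RingHom.ker ρ = RingHom.ker σ →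
      (RingHom.ker σ.toRingHom).ResidueField →+* p.ResidueField := fun ρ hρ =>
    Ideal.ResidueField.lift (RingHom.ker σ.toRingHom) ρ.toRingHom (le_of_eq hρ.symm)
      (fun x hx => (isUnit_iff_ne_zero.mpr fun h0 => hx (hρ ▸ RingHom.mem_ker.mpr h0 :
        x ∈ RingHom.ker σ) : IsUnit (ρ.toRingHom x)))
  have key : ∀ (ρ : S →ₐ[R] p.ResidueField) (hρ : RingHom.ker ρ = RingHom.ker σ),
      (jl ρ hρ).comp (Ideal.ResidueField.map p _ (algebraMap R S) hq) =
      RingHom.id _ := fun ρ hρ => Ideal.ResidueField.ringHom_ext (RingHom.ext fun r => by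
    show jl ρ hρ (Ideal.ResidueField.map p _ (algebraMap R S) hq (algebraMap R _ r)) = _
    rw [Ideal.ResidueField.map_algebraMap]
    refine (Ideal.ResidueField.lift_algebraMap _ _ _ _ _).trans ?_
    exact ρ.commutes r)
  ext x
  obtain ⟨y, hy⟩ := hκ.2 (algebraMap S _ x)
  have h1 : ∀ (ρ : S →ₐ[R] p.ResidueField), RingHom.ker ρ = RingHom.ker σ → ρ x = y :=
    fun ρ hρ => by
    have h2 : jl ρ hρ (algebraMap S _ x) = ρ x := Ideal.ResidueField.lift_algebraMap _ _ _ _ x
    rw [← h2, ← hy]
    exact RingHom.congr_fun (key ρ hρ) y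
  rw [h1 σ rfl, h1 τ h.symm]

/-- Two points over `p` with trivial residue field are dominated by one on their tensor product. -/
theorem exists_point_tensor {S₁ : Type v} {S₂ : Type v} [CommRing S₁] [Algebra R S₁] [CommRing S₂]
    [Algebra R S₂] (σ₁ : S₁ →ₐ[R] p.ResidueField) (σ₂ : S₂ →ₐ[R] p.ResidueField) :
    ∃ σ : S₁ ⊗[R] S₂ →ₐ[R] p.ResidueField, σ.comp Algebra.TensorProduct.includeLeft = σ₁ ∧
      σ.comp Algebra.TensorProduct.includeRight = σ₂ :=
  ⟨Algebra.TensorProduct.lift σ₁ σ₂ fun _ _ => Commute.all _ _,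
    AlgHom.ext fun a => by simp, AlgHom.ext fun a => by simp⟩

end Groth.Agent.H9Hens
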