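import Groth.Agent.H9Hens.LocalHens
import Groth.Agent.H9Hens.PtBase
import Groth.Agent.H9Hens.PointNbhd

/-!
The henselization of the local ring at a prime is a colimit of pointed etale algebras over the ring.
-/

namespace Groth.Agent.H9Hens

universe u

open IsLocalRing

/-- The henselization of `R_p` is the colimit of etale `R`-algebras with a point in `κ(p)`. -/
theorem exists_isPtColim_henselization_atPrime {R : Type u} [CommRing R] (p : Ideal R) [p.IsPrime]
    (Rh : Type u) [CommRing Rh] [IsLocalRing Rh] [Algebra (Localization.AtPrime p) Rh]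
    [IsLocalHom (algebraMap (Localization.AtPrime p) Rh)]
    [Hensel.IsHenselization (Localization.AtPrime p) Rh] [Algebra R Rh]
    [IsScalarTower R (Localization.AtPrime p) Rh] :
    ∃ π : Rh →ₐ[R] p.ResidueField, IsPtColim π := by
  obtain ⟨H, _, _, π, hπ⟩ := exists_isPtColim R p.ResidueField
  have := hπ.isLocalRing
  let Rp := Localization.AtPrime p
  have hker : ∀ r : R, π (algebraMap R H r) = 0 ↔ r ∈ p := fun r => by
    rw [π.commutes, Ideal.algebraMap_residueField_eq_zero]
  have hu : ∀ b : p.primeCompl, IsUnit (algebraMap R H b) := fun b =>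
    hπ.isUnit_iff_ne_zero.mpr fun h => b.2 ((hker b).mp h)
  let : Algebra Rp H := (IsLocalization.lift hu).toAlgebra
  have : IsScalarTower R Rp H :=
    IsScalarTower.of_algebraMap_eq fun r => (IsLocalization.lift_eq hu r).symm
  have hπz : ∀ z : Rp, π (algebraMap Rp H z) = residue Rp z := fun z => by
    have : π.toRingHom.comp (algebraMap Rp H) = residue Rp := by
      refine IsLocalization.ringHom_ext p.primeCompl ?_
      rw [RingHom.comp_assoc, ← IsScalarTower.algebraMap_eq, AlgHom.toRingHom_eq_coe,
        AlgHom.comp_algebraMap]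
      rfl
    exact RingHom.congr_fun this z
  have : IsLocalHom (algebraMap Rp H) := ⟨fun z hz =>
    (IsLocalRing.residue_ne_zero_iff_isUnit z).mp (hπz z ▸ hπ.isUnit_iff_ne_zero.mp hz)⟩
  have hcomap : (RingHom.ker π).comap (algebraMap R H) = p := Ideal.ext fun r => hker r
  have hgen : RingHom.ker π ≤ p.map (algebraMap R H) := fun x hx => by
    have := RingHom.ker_isPrime π
    obtain ⟨c, hc, hcx⟩ := hπ.exists_mul_mem_map (RingHom.ker π) hx
    rw [hcomap] at hcx
    exact (Ideal.unit_mul_mem_iff_mem _
      (hπ.isUnit_iff_ne_zero.mpr fun h => hc (RingHom.mem_ker.mpr h))).mp hcx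
  have hH : Hensel.IsHenselization Rp H := by
    refine ⟨hπ.henselianLocalRing, fun T _ _ f hf => ?_⟩
    let : Algebra R T := (f.comp (algebraMap R Rp)).toAlgebra
    let ρ : p.ResidueField →ₐ[R] T ⧸ maximalIdeal T :=
      { (ResidueField.map f : ResidueField Rp →+* T ⧸ maximalIdeal T) with commutes' := fun _ => rfl }
    obtain ⟨g, hg, hgu⟩ := hπ.existsUnique_algHom ρ
    refine ⟨g.toRingHom, ?_, fun g' hg' => ?_⟩
    · refine IsLocalization.ringHom_ext p.primeCompl ?_
      rw [RingHom.comp_assoc, ← IsScalarTower.algebraMap_eq, AlgHom.toRingHom_eq_coe,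
        AlgHom.comp_algebraMap]
      rfl
    · have hc : ∀ r, g' (algebraMap R H r) = algebraMap R T r := fun r => by
        rw [IsScalarTower.algebraMap_apply R Rp H]
        exact RingHom.congr_fun hg' _
      let g'' : H →ₐ[R] T := { g' with commutes' := hc }
      refine congrArg AlgHom.toRingHom (hgu g'' (AlgHom.ext fun x => ?_))
      obtain ⟨z, hz⟩ := residue_surjective (π x)
      have hx : x - algebraMap Rp H z ∈ p.map (algebraMap R H) := hgen (by
        rw [RingHom.mem_ker, map_sub, hπz, ← hz]; exact sub_self _)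
      have hle : (p.map (algebraMap R H)).map g''.toRingHom ≤ maximalIdeal T := by
        rw [Ideal.map_map, AlgHom.toRingHom_eq_coe, AlgHom.comp_algebraMap,
          Ideal.map_le_iff_le_comap]
        intro r hr
        exact (mem_maximalIdeal _).mpr fun h => (IsLocalization.AtPrime.isUnit_to_map_iff Rp p r).mp
          (isUnit_of_map_unit f _ h) hr
      have h1 : g' x - f z ∈ maximalIdeal T := by
        rw [← RingHom.congr_fun hg' z, RingHom.comp_apply, ← map_sub]
        exact hle (Ideal.mem_map_of_mem g''.toRingHom hx)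
      show Ideal.Quotient.mk (maximalIdeal T) (g' x) = ρ (π x)
      rw [Ideal.Quotient.eq.mpr h1, ← hz]
      rfl
  obtain ⟨e⟩ := henselization_algEquiv (R := Rp) H Rh
  exact ⟨_, hπ.of_algEquiv (e.restrictScalars R)⟩

end Groth.Agent.H9Hens
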