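import Groth.Agent.H9Hens.PtField
import Mathlib.RingTheory.Valuation.ValuationRing
import Mathlib.RingTheory.Unramified.LocalStructure
import Mathlib.RingTheory.Etale.StandardEtale
import Mathlib.Algebra.Polynomial.Div

/-!
Colimits of pointed etale algebras over valuation rings: valuation rings with the same value group.
-/

namespace Groth.Agent.H9Hens

universe u

open Polynomial

theorem exists_forall_dvd_of_nonempty {A ι : Type*} [CommRing A] [IsDomain A] [ValuationRing A]
    (F : ι → A) (s : Finset ι) (hs : s.Nonempty) : ∃ i ∈ s, ∀ j ∈ s, F i ∣ F j := by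
  induction hs using Finset.Nonempty.cons_induction with
  | singleton a => exact ⟨a, Finset.mem_singleton_self a, fun j hj => by
      rw [Finset.mem_singleton.mp hj]⟩
  | cons a s ha _ ih =>
    obtain ⟨i, hi, hmin⟩ := ih
    rcases ValuationRing.dvd_total (F a) (F i) with h | h
    · exact ⟨a, Finset.mem_cons_self _ _, fun j hj => (Finset.mem_cons.mp hj).elim
        (fun e => e ▸ dvd_rfl) fun hj => h.trans (hmin j hj)⟩
    · exact ⟨i, Finset.mem_cons_of_mem hi, fun j hj => (Finset.mem_cons.mp hj).elim
        (fun e => e ▸ h) (hmin j)⟩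

/-- A split eigenvalue of a matrix over a valuation ring is a unit multiple of an element of it. -/
theorem exists_dvd_dvd_of_eigen {A S : Type*} [CommRing A] [IsDomain A] [ValuationRing A] [CommRing S]
    [IsLocalRing S] [Algebra A S] (d : ℕ) : ∀ (Y : Fin d → Fin d → A) (p q p' q' : Fin d → S) (s : S),
    (∀ j, ∑ i, p i * algebraMap A S (Y i j) = s * p' j) →
    (∀ i, ∑ j, algebraMap A S (Y i j) * q' j = s * q i) →
    IsUnit (∑ i, p i * q i) → ∃ a : A, s ∣ algebraMap A S a ∧ algebraMap A S a ∣ s := by
  induction d with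
  | zero =>
    intro Y p q p' q' s _ _ hu
    simp only [Finset.univ_eq_empty, Finset.sum_empty, isUnit_zero_iff] at hu
    exact absurd hu zero_ne_one
  | succ d ih =>
    intro Y p q p' q' s hp hq hu
    by_cases h0 : ∀ i j, Y i j = 0
    · have hs : s * ∑ i, p i * q i = 0 := by
        rw [Finset.mul_sum]
        refine Finset.sum_eq_zero fun i _ => ?_
        rw [mul_left_comm, ← hq i]
        simp [h0]
      exact ⟨0, by simp [hu.mul_left_eq_zero.mp hs]⟩
    push Not at h0
    obtain ⟨i₁, j₁, hne⟩ := h0
    obtain ⟨⟨i₀, j₀⟩, -, hmin⟩ := exists_forall_dvd_of_nonempty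
      (fun z : Fin (d + 1) × Fin (d + 1) => Y z.1 z.2) Finset.univ Finset.univ_nonempty
    set c := Y i₀ j₀ with hc
    have hc0 : c ≠ 0 := fun h => hne (by simpa [h] using hmin (i₁, j₁) (Finset.mem_univ _))
    choose cf hcf using fun i => hmin (i, j₀) (Finset.mem_univ _)
    choose ef hef using fun j => hmin (i₀, j) (Finset.mem_univ _)
    simp only at hcf hef
    have hci : cf i₀ = 1 := mul_left_cancel₀ hc0 (by rw [← hcf, mul_one])
    let r := ∑ i, p i * algebraMap A S (cf i)
    have hr : r * algebraMap A S c = s * p' j₀ := by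
      rw [← hp j₀, Finset.sum_mul]
      refine Finset.sum_congr rfl fun i _ => ?_
      rw [hcf i, map_mul]; ring
    by_cases hru : IsUnit (r * q i₀)
    · refine ⟨c, ?_, ?_⟩
      · obtain ⟨w, hw⟩ := (isUnit_of_mul_isUnit_left hru).exists_right_inv
        refine ⟨p' j₀ * w, ?_⟩
        rw [← mul_assoc, ← hr, mul_right_comm, hw, one_mul]
      · obtain ⟨w, hw⟩ := (isUnit_of_mul_isUnit_right hru).exists_right_inv
        refine ⟨(∑ j, algebraMap A S (ef j) * q' j) * w, ?_⟩
        have : algebraMap A S c * ∑ j, algebraMap A S (ef j) * q' j = s * q i₀ := by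
          rw [← hq i₀, Finset.mul_sum]
          refine Finset.sum_congr rfl fun j _ => ?_
          rw [hef j, map_mul]; ring
        rw [← mul_assoc, this, mul_assoc, hw, mul_one]
    · refine ih (fun i j => Y (i₀.succAbove i) (j₀.succAbove j) -
          cf (i₀.succAbove i) * Y i₀ (j₀.succAbove j))
        (fun i => p (i₀.succAbove i)) (fun i => q (i₀.succAbove i) -
          algebraMap A S (cf (i₀.succAbove i)) * q i₀)
        (fun j => p' (j₀.succAbove j) - p' j₀ * algebraMap A S (ef (j₀.succAbove j)))
        (fun j => q' (j₀.succAbove j)) s (fun j => ?_) (fun i => ?_) ?_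
      · have h1 : ∑ i, p i * algebraMap A S (Y i (j₀.succAbove j) - cf i * Y i₀ (j₀.succAbove j)) =
            s * p' (j₀.succAbove j) - r * algebraMap A S (Y i₀ (j₀.succAbove j)) := by
          rw [← hp, Finset.sum_mul, ← Finset.sum_sub_distrib]
          refine Finset.sum_congr rfl fun i _ => ?_
          rw [map_sub, map_mul]; ring
        rw [Fin.sum_univ_succAbove _ i₀, hci, one_mul, sub_self, map_zero, mul_zero, zero_add] at h1
        rw [h1, hef, map_mul, ← mul_assoc, hr]
        ring
      · have h1 : ∑ j, algebraMap A S (Y (i₀.succAbove i) j - cf (i₀.succAbove i) * Y i₀ j) * q' j =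
            s * q (i₀.succAbove i) - algebraMap A S (cf (i₀.succAbove i)) * (s * q i₀) := by
          rw [← hq, ← hq, Finset.mul_sum, ← Finset.sum_sub_distrib]
          refine Finset.sum_congr rfl fun j _ => ?_
          rw [map_sub, map_mul]; ring
        rw [Fin.sum_univ_succAbove _ j₀, hcf (i₀.succAbove i), ← hc, mul_comm c, sub_self,
          map_zero, zero_mul, zero_add] at h1
        rw [h1]
        ring
      · have h1 : ∑ i, p i * (q i - algebraMap A S (cf i) * q i₀) =
            (∑ i, p i * q i) - r * q i₀ := by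
          rw [Finset.sum_mul, ← Finset.sum_sub_distrib]
          refine Finset.sum_congr rfl fun i _ => ?_
          ring
        rw [Fin.sum_univ_succAbove _ i₀, hci, map_one, one_mul, sub_self, mul_zero, zero_add] at h1
        rw [h1]
        have hm := (IsLocalRing.mem_maximalIdeal _).mpr hru
        by_contra hcon
        refine (IsLocalRing.mem_maximalIdeal _).mp ?_ hu
        simpa using add_mem ((IsLocalRing.mem_maximalIdeal _).mpr hcon) hm

/-- Values of polynomials at a simple root of a monic polynomial over a valuation ring. -/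
theorem exists_dvd_dvd_aeval {A S : Type u} [CommRing A] [IsDomain A] [ValuationRing A] [CommRing S]
    [IsLocalRing S] [Algebra A S] {g : A[X]} (hg : g.Monic) {α : S} (hα : aeval α g = 0)
    (hu : IsUnit (aeval α g.derivative)) (h : A[X]) :
    ∃ a : A, aeval α h ∣ algebraMap A S a ∧ algebraMap A S a ∣ aeval α h := by
  let G := g.map (algebraMap A S)
  have hG : G.Monic := hg.map _
  have hroot : G.IsRoot α := by
    rw [IsRoot, eval_map, ← aeval_def]; exact hα
  let G₂ := G /ₘ (X - C α)
  have hmul : (X - C α) * G₂ = G := mul_divByMonic_eq_iff_isRoot.mpr hroot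
  have hg1 : g ≠ 1 := fun e => by simp [e] at hα
  have hG2deg : G₂.natDegree < g.natDegree := by
    have : G₂.natDegree = G.natDegree - 1 := by
      rw [natDegree_divByMonic _ (monic_X_sub_C α), natDegree_X_sub_C]
    rw [this, hg.natDegree_map]
    exact Nat.sub_lt (Nat.pos_of_ne_zero fun e => hg1 (hg.natDegree_eq_zero.mp e)) one_pos
  let col : ℕ → A[X] := fun j => (h * X ^ j) %ₘ g
  have hcoldeg : ∀ j, (col j).natDegree < g.natDegree := fun j =>
    natDegree_modByMonic_lt _ hg hg1
  refine exists_dvd_dvd_of_eigen g.natDegree (fun i j => (col j).coeff i) (fun i => α ^ (i : ℕ))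
    (fun i => G₂.coeff i) (fun i => α ^ (i : ℕ)) (fun i => G₂.coeff i) (aeval α h)
    (fun j => ?_) (fun i => ?_) ?_
  · calc ∑ i : Fin g.natDegree, α ^ (i : ℕ) * algebraMap A S ((col j).coeff i)
        = aeval α (col j) := by
          rw [aeval_eq_sum_range' (hcoldeg j), ← Fin.sum_univ_eq_sum_range (fun i => (col j).coeff i • α ^ i)]
          exact Finset.sum_congr rfl fun i _ => by rw [Algebra.smul_def, mul_comm]
      _ = aeval α (h * X ^ (j : ℕ)) := aeval_modByMonic_eq_self_of_root (q := g) hα
      _ = aeval α h * α ^ (j : ℕ) := by rw [map_mul, map_pow, aeval_X]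
  · have hsum : ∑ j : Fin g.natDegree, G₂.coeff j • ((h.map (algebraMap A S) * X ^ (j : ℕ)) %ₘ G) =
        C (aeval α h) * G₂ := by
      calc ∑ j : Fin g.natDegree, G₂.coeff j • ((h.map (algebraMap A S) * X ^ (j : ℕ)) %ₘ G)
          = (h.map (algebraMap A S) * G₂) %ₘ G := by
            conv_rhs => rw [as_sum_range_C_mul_X_pow' G₂ hG2deg,
              ← Fin.sum_univ_eq_sum_range (fun j => C (G₂.coeff j) * X ^ j), Finset.mul_sum,
              ← modByMonicHom_apply, map_sum]
            refine Finset.sum_congr rfl fun j _ => ?_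
            rw [modByMonicHom_apply, mul_left_comm, ← smul_eq_C_mul, smul_modByMonic]
        _ = C (aeval α h) * G₂ := by
            obtain ⟨k, hk⟩ := X_sub_C_dvd_sub_C_eval (a := α) (p := h.map (algebraMap A S))
            rw [aeval_def, ← eval_map]
            have h1 : h.map (algebraMap A S) * G₂ =
                C ((h.map (algebraMap A S)).eval α) * G₂ + G * k := by
              rw [← hmul]
              linear_combination G₂ * hk
            rw [h1, add_modByMonic, mul_comm G k, modByMonic_eq_zero_iff_dvd hG |>.mpr (dvd_mul_left _ _),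
              add_zero, modByMonic_eq_self_iff hG]
            refine (degree_mul_le _ _).trans_lt (lt_of_le_of_lt (add_le_add degree_C_le le_rfl) ?_)
            rw [zero_add, degree_eq_natDegree hG.ne_zero, hg.natDegree_map]
            exact lt_of_le_of_lt degree_le_natDegree (by exact_mod_cast hG2deg)
    have := congrArg (fun f => coeff f i) hsum
    simp only [finsetSum_coeff, coeff_smul, coeff_C_mul, smul_eq_mul] at this
    refine Eq.trans (Finset.sum_congr rfl fun j _ => ?_) this
    rw [mul_comm, show h.map (algebraMap A S) * X ^ (j : ℕ) = (h * X ^ (j : ℕ)).map (algebraMap A S)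
      by simp, ← map_modByMonic _ hg, coeff_map]
  · have h2 : ∑ i : Fin g.natDegree, α ^ (i : ℕ) * G₂.coeff i = G₂.eval α := by
      rw [eval_eq_sum_range' hG2deg, ← Fin.sum_univ_eq_sum_range (fun i => G₂.coeff i * α ^ i)]
      exact Finset.sum_congr rfl fun i _ => mul_comm _ _
    have h3 : G.derivative.eval α = G₂.eval α := by
      rw [← hmul]; simp
    rw [h2, ← h3, derivative_map, eval_map, ← aeval_def]
    exact hu

variable {A : Type u} [CommRing A] [IsDomain A] [ValuationRing A] {k : Type u} [Field k] [Algebra A k]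
variable {H : Type u} [CommRing H] [Algebra A H] [IsLocalRing H] {π : H →ₐ[A] k}

/-- Over a valuation ring, every element of the colimit is a unit multiple of one of the base. -/
theorem IsPtColim.exists_eq_unit_mul_algebraMap (hH : IsPtColim π) (x : H) :
    ∃ (a : A) (u : Hˣ), x = u * algebraMap A H a := by
  obtain ⟨S, _, _, _, φ, y, rfl⟩ := hH.exists_rep x
  let q : Ideal S := RingHom.ker (π.comp φ).toRingHom
  have : q.IsPrime := RingHom.ker_isPrime _
  have : Algebra.IsEtaleAt A q := inferInstance
  obtain ⟨f, hf, hstd⟩ := Algebra.IsEtaleAt.exists_isStandardEtale (R := A) q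
  obtain ⟨P⟩ := hstd.nonempty_standardEtalePresentation
  have hfu : IsUnit (φ f) := hH.isUnit_iff_ne_zero.mpr fun h => hf h
  let ψ : Localization.Away f →ₐ[A] H := IsLocalization.Away.liftAlgHom f (f := φ) hfu
  have hψ : ψ (algebraMap S _ y) = φ y := IsLocalization.Away.lift_eq f hfu y
  obtain ⟨h, n, hn⟩ := P.exists_mul_aeval_x_g_pow_eq_aeval_x (algebraMap S _ y)
  obtain ⟨a, ⟨c₁, hc₁⟩, ⟨c₂, hc₂⟩⟩ := exists_dvd_dvd_aeval P.monic_f (α := ψ P.x)
    (by rw [aeval_algHom_apply, P.hasMap.1, map_zero])
    (by rw [aeval_algHom_apply]; exact P.hasMap.isUnit_derivative_f.map ψ) h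
  have hug : IsUnit (aeval (ψ P.x) P.g ^ n) := by
    rw [aeval_algHom_apply]; exact (P.hasMap.2.map ψ).pow n
  have hyh : φ y * aeval (ψ P.x) P.g ^ n = aeval (ψ P.x) h := by
    rw [← hψ, aeval_algHom_apply, aeval_algHom_apply, ← map_pow, ← map_mul, hn]
  set w := aeval (ψ P.x) h with hw
  by_cases hc : IsUnit c₂
  · obtain ⟨w₁, hw₁⟩ := hug.exists_right_inv
    refine ⟨a, (hc.mul (IsUnit.of_mul_eq_one_right _ hw₁)).unit, ?_⟩
    rw [IsUnit.unit_spec]
    calc φ y = φ y * aeval (ψ P.x) P.g ^ n * w₁ := by rw [mul_assoc, hw₁, mul_one]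
      _ = algebraMap A H a * c₂ * w₁ := by rw [hyh, hc₂]
      _ = c₂ * w₁ * algebraMap A H a := by ring
  · have hw0 : w = 0 := by
      have h1 : w * (1 - c₁ * c₂) = 0 := by
        rw [mul_sub, mul_one, ← mul_assoc, ← hc₁, ← hc₂, sub_self]
      refine ((IsLocalRing.isUnit_one_sub_self_of_mem_nonunits _ ?_)).mul_left_eq_zero.mp h1
      exact fun hu => hc (isUnit_of_mul_isUnit_right hu)
    refine ⟨0, 1, ?_⟩
    rw [map_zero, mul_zero]
    exact hug.mul_left_eq_zero.mp (hyh.trans hw0)

/-- The colimit of pointed etale algebras over a valuation ring is a valuation ring with the same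
value group. -/
theorem IsPtColim.valuationRing (hH : IsPtColim π) (hinj : Function.Injective (algebraMap A H)) :
    IsDomain H ∧ ∀ _ : IsDomain H, ValuationRing H := by
  have hdom : IsDomain H := by
    have : NoZeroDivisors H := ⟨fun {x y} hxy => by
      obtain ⟨a, u, rfl⟩ := hH.exists_eq_unit_mul_algebraMap x
      obtain ⟨b, v, rfl⟩ := hH.exists_eq_unit_mul_algebraMap y
      have h1 : algebraMap A H (a * b) = 0 := by
        rw [mul_mul_mul_comm, ← map_mul, ← Units.val_mul, Units.mul_right_eq_zero] at hxy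
        exact hxy
      rcases mul_eq_zero.mp (hinj (h1.trans (map_zero _).symm)) with rfl | rfl
      · exact Or.inl (by simp)
      · exact Or.inr (by simp)⟩
    exact NoZeroDivisors.to_isDomain H
  refine ⟨hdom, fun _ => ValuationRing.iff_dvd_total.mpr ⟨fun x y => ?_⟩⟩
  obtain ⟨a, u, rfl⟩ := hH.exists_eq_unit_mul_algebraMap x
  obtain ⟨b, v, rfl⟩ := hH.exists_eq_unit_mul_algebraMap y
  simp only [Units.mul_left_dvd, Units.dvd_mul_left]
  exact (ValuationRing.dvd_total a b).imp (map_dvd _) (map_dvd _)

end Groth.Agent.H9Hens
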