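import Mathlib

/-!
# Punctured spectra of henselian rings and their completions
-/

set_option linter.style.haveILetI false

universe u

open IsLocalRing TensorProduct

namespace Groth.Agent.H9Hens

variable {H C : Type u} [CommRing H] [HenselianLocalRing H] [IsNoetherianRing H]
  [CommRing C] [IsLocalRing C] [IsNoetherianRing C] [Algebra H C] [Module.Flat H C]

/-- The colon ideal commutes with flat base change. -/
theorem mem_map_colon_of_forall {ι : Type u} [Fintype ι] (d : ι → H) (u : H) {c : C}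
    (hc : ∀ i, algebraMap H C (d i) * c ∈ Ideal.span {algebraMap H C u}) :
    c ∈ Ideal.map (algebraMap H C) (LinearMap.ker (LinearMap.pi fun i =>
      (Ideal.Quotient.mkₐ H (Ideal.span {u})).toLinearMap.comp
        (LinearMap.mulLeft H (d i)) : H →ₗ[H] ι → H ⧸ Ideal.span {u})) := by
  classical
  let f : H →ₗ[H] ι → H ⧸ Ideal.span {u} := LinearMap.pi fun i =>
    (Ideal.Quotient.mkₐ H (Ideal.span {u})).toLinearMap.comp (LinearMap.mulLeft H (d i))
  let L : Ideal H := LinearMap.ker f
  have hex := Module.Flat.lTensor_exact C (LinearMap.exact_subtype_ker_map f)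
  have h0 : f.lTensor C (c ⊗ₜ (1 : H)) = 0 := by
    apply (TensorProduct.piRight H H C fun _ : ι => H ⧸ Ideal.span {u}).injective
    rw [map_zero]
    funext i
    obtain ⟨w, hw⟩ := Ideal.mem_span_singleton.mp (hc i)
    show c ⊗ₜ[H] Ideal.Quotient.mk (Ideal.span {u}) (d i * 1) = 0
    rw [mul_one, ← Ideal.Quotient.algebraMap_eq, Algebra.algebraMap_eq_smul_one, ← TensorProduct.smul_tmul,
      Algebra.smul_def, hw, ← Algebra.smul_def, TensorProduct.smul_tmul, ← Algebra.algebraMap_eq_smul_one,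
      Ideal.Quotient.algebraMap_eq, Ideal.Quotient.eq_zero_iff_mem.mpr (Ideal.mem_span_singleton_self _),
      TensorProduct.tmul_zero]
  obtain ⟨z, hz⟩ := (hex _).mp h0
  have hc' : c = TensorProduct.rid H C (L.subtype.lTensor C z) := by rw [hz]; simp
  rw [hc']
  clear hz hc'
  induction z using TensorProduct.induction_on with
  | zero => simp
  | add x y hx hy => rw [map_add, map_add]; exact add_mem hx hy
  | tmul a b =>
    rw [LinearMap.lTensor_tmul, TensorProduct.rid_tmul, Algebra.smul_def]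
    exact Ideal.mul_mem_right _ _ (Ideal.mem_map_of_mem _ b.2)

/-- With trivial residue extension, elements are congruent to elements of the base modulo powers. -/
theorem exists_sub_mem_map_pow (hm : (maximalIdeal H).map (algebraMap H C) = maximalIdeal C)
    (hres : ∀ x : C, ∃ a : H, x - algebraMap H C a ∈ maximalIdeal C) (N : ℕ) (x : C) :
    ∃ a : H, x - algebraMap H C a ∈ (maximalIdeal H ^ N).map (algebraMap H C) := by
  induction N generalizing x with
  | zero => exact ⟨0, by rw [pow_zero, Ideal.one_eq_top, Ideal.map_top]; trivial⟩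
  | succ N ih =>
    obtain ⟨a, ha⟩ := ih x
    suffices ∀ z ∈ (maximalIdeal H ^ N).map (algebraMap H C),
        ∃ b : H, z - algebraMap H C b ∈ (maximalIdeal H ^ (N + 1)).map (algebraMap H C) by
      obtain ⟨b, hb⟩ := this _ ha
      exact ⟨a + b, by rwa [map_add, ← sub_sub]⟩
    intro z hz
    refine Submodule.span_induction ?_ ⟨0, by simp⟩ ?_ ?_ hz
    · rintro _ ⟨p, _, rfl⟩; exact ⟨p, by simp⟩
    · rintro u v _ _ ⟨a, ha⟩ ⟨b, hb⟩
      refine ⟨a + b, ?_⟩
      rw [map_add, add_sub_add_comm]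
      exact add_mem ha hb
    · intro r u hu ⟨a, ha⟩
      obtain ⟨r', hr'⟩ := hres r
      refine ⟨r' * a, ?_⟩
      rw [smul_eq_mul, map_mul, show r * u - algebraMap H C r' * algebraMap H C a =
        (r - algebraMap H C r') * u + algebraMap H C r' * (u - algebraMap H C a) by ring]
      refine add_mem ?_ (Ideal.mul_mem_left _ _ ha)
      rw [pow_succ', Ideal.map_mul]
      exact Ideal.mul_mem_mul (hm.symm ▸ hr') hu

variable [IsLocalHom (algebraMap H C)]

/-- The image in the localization of the completion. -/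
noncomputable def awayMap (t : H) : Localization.Away t →+* Localization.Away (algebraMap H C t) :=
  Localization.awayMap (algebraMap H C) t

omit [HenselianLocalRing H] [IsNoetherianRing H] [IsLocalRing C] [IsNoetherianRing C] [Module.Flat H C]
  [IsLocalHom (algebraMap H C)] in
theorem awayMap_algebraMap (t a : H) :
    awayMap (C := C) t (algebraMap H _ a) = algebraMap C (Localization.Away (algebraMap H C t)) (algebraMap H C a) :=
  by rw [awayMap, Localization.awayMap, IsLocalization.Away.map, IsLocalization.map_eq]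

/-- An element of `H_t` landing in an ideal of `C` extended from `H` lies in that ideal. -/
theorem exists_eq_algebraMap {t : H} (ht : t ∈ nonZeroDivisors H) (I : Ideal H) (z : Localization.Away t) {c : C}
    (hc : c ∈ I.map (algebraMap H C)) (hz : awayMap (C := C) t z = algebraMap C _ c) :
    ∃ a ∈ I, algebraMap H (Localization.Away t) a = z := by
  have : Module.FaithfullyFlat H C := Module.FaithfullyFlat.of_flat_of_isLocalHom
  obtain ⟨⟨b, ⟨_, k, rfl⟩⟩, hb⟩ := IsLocalization.surj (Submonoid.powers t) z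
  have hreg : algebraMap H C t ∈ nonZeroDivisors C := by
    rw [mem_nonZeroDivisors_iff_right]
    intro x hx
    exact Module.Flat.isSMulRegular_of_nonZeroDivisors (M := C) ht (by
      simpa [Algebra.smul_def, mul_comm] using hx)
  have hinj : Function.Injective (algebraMap C (Localization.Away (algebraMap H C t))) :=
    IsLocalization.injective _ (Submonoid.powers_le.mpr hreg)
  have hb' : awayMap (C := C) t z * awayMap (C := C) t (algebraMap H _ (t ^ k)) =
      awayMap (C := C) t (algebraMap H _ b) := by rw [← map_mul, hb]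
  rw [hz, awayMap_algebraMap, awayMap_algebraMap, ← map_mul] at hb'
  have h1 : algebraMap H C b = c * algebraMap H C (t ^ k) := (hinj hb').symm
  have h2 : b ∈ Ideal.span {t ^ k} * I := by
    rw [← Ideal.comap_map_eq_self_of_faithfullyFlat (B := C) (Ideal.span {t ^ k} * I), Ideal.mem_comap, h1,
      Ideal.map_mul, mul_comm c]
    exact Ideal.mul_mem_mul (Ideal.mem_map_of_mem _ (Ideal.mem_span_singleton_self _)) hc
  obtain ⟨a, ha, rfl⟩ := Ideal.mem_span_singleton_mul.mp h2
  refine ⟨a, ha, ?_⟩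
  have hu : IsUnit (algebraMap H (Localization.Away t) (t ^ k)) :=
    IsLocalization.map_units (Localization.Away t) (⟨t ^ k, k, rfl⟩ : Submonoid.powers t)
  refine hu.mul_right_cancel ?_
  rw [← map_mul, mul_comm a, hb]

/-- Idempotents on punctured spectra descend. -/
theorem exists_descent_idempotent (hm : (maximalIdeal H).map (algebraMap H C) = maximalIdeal C)
    (hres : ∀ x : C, ∃ a : H, x - algebraMap H C a ∈ maximalIdeal C)
    {t : H} (ht : t ∈ nonZeroDivisors H) (e : Localization.Away (algebraMap H C t)) (he : IsIdempotentElem e)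
    (n : ℕ) (hn : ∀ d ∈ maximalIdeal H ^ n, ∃ c, algebraMap C _ (algebraMap H C d) * e = algebraMap C _ c) :
    ∃ e0 : Localization.Away t, awayMap (C := C) t e0 = e := by
  classical
  let m := maximalIdeal H
  let φ := algebraMap H C
  let Ct := Localization.Away (φ t)
  let g := algebraMap C Ct
  obtain ⟨⟨c, ⟨_, k, rfl⟩⟩, hc⟩ := IsLocalization.surj (Submonoid.powers (φ t)) e
  obtain ⟨gens, hgens⟩ := (IsNoetherian.noetherian (m ^ n) : (m ^ n).FG)
  have hreg : φ t ∈ nonZeroDivisors C := by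
    rw [mem_nonZeroDivisors_iff_right]
    intro x hx
    exact Module.Flat.isSMulRegular_of_nonZeroDivisors (M := C) ht (by
      simpa [φ, Algebra.smul_def, mul_comm] using hx)
  have hginj : Function.Injective g := IsLocalization.injective _ (Submonoid.powers_le.mpr hreg)
  let d : gens → H := fun i => i
  have hd : ∀ i, d i ∈ m ^ n := fun i => hgens ▸ Submodule.subset_span i.2
  let L : Ideal H := LinearMap.ker (LinearMap.pi fun i => (Ideal.Quotient.mkₐ H (Ideal.span {t ^ k})).toLinearMap.comp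
      (LinearMap.mulLeft H (d i)) : H →ₗ[H] gens → H ⧸ Ideal.span {t ^ k})
  have hL : ∀ a ∈ L, ∀ x ∈ m ^ n, x * a ∈ Ideal.span {t ^ k} := by
    intro a ha x hx
    rw [← hgens] at hx
    refine Submodule.span_induction ?_ ?_ ?_ ?_ hx
    · intro x hx
      exact Ideal.Quotient.eq_zero_iff_mem.mp (congrFun (LinearMap.mem_ker.mp ha) ⟨x, hx⟩)
    · rw [zero_mul]; exact zero_mem _
    · intro u v _ _ hu hv; rw [add_mul]; exact add_mem hu hv
    · intro r u _ hu; rw [smul_eq_mul, mul_assoc]; exact Ideal.mul_mem_left _ _ hu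
  have hcL : c ∈ L.map φ := by
    refine mem_map_colon_of_forall d (t ^ k) fun i => ?_
    obtain ⟨w, hw⟩ := hn _ (hd i)
    refine Ideal.mem_span_singleton.mpr ⟨w, hginj ?_⟩
    rw [map_mul, map_mul, ← hw, map_pow, ← hc]
    ring
  -- an approximation
  let N := 2 * n + 1
  obtain ⟨a, haL, ha⟩ : ∃ a ∈ L, c - φ a ∈ (m ^ N * L).map φ := by
    refine Submodule.span_induction ?_ ⟨0, zero_mem _, by simp⟩ ?_ ?_ hcL
    · rintro _ ⟨a, ha, rfl⟩; exact ⟨a, ha, by simp⟩
    · rintro u v _ _ ⟨a, ha, hu⟩ ⟨b, hb, hv⟩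
      refine ⟨a + b, add_mem ha hb, ?_⟩
      rw [map_add, add_sub_add_comm]
      exact add_mem hu hv
    · intro r u hu ⟨a, ha, hua⟩
      obtain ⟨r', hr'⟩ := exists_sub_mem_map_pow hm hres N r
      refine ⟨r' * a, L.mul_mem_left _ ha, ?_⟩
      rw [smul_eq_mul, map_mul, show r * u - φ r' * φ a = (r - φ r') * u + φ r' * (u - φ a) by ring]
      refine add_mem ?_ (Ideal.mul_mem_left _ _ hua)
      rw [Ideal.map_mul]
      exact Ideal.mul_mem_mul hr' hu
  obtain ⟨ε, hε, hεc⟩ : ∃ ε ∈ (m ^ (n + 1)).map φ, c - φ a = φ (t ^ k) * ε := by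
    have h1 : (m ^ N * L).map φ ≤ Ideal.span {φ (t ^ k)} * (m ^ (n + 1)).map φ := by
      rw [← Set.image_singleton, ← Ideal.map_span, ← Ideal.map_mul]
      refine Ideal.map_mono ?_
      rw [show N = (n + 1) + n from by omega, pow_add, mul_assoc, mul_comm (Ideal.span {t ^ k})]
      exact Ideal.mul_mono le_rfl (Ideal.mul_le.mpr fun x hx y hy => hL y hy x hx)
    obtain ⟨ε, hε, h⟩ := Ideal.mem_span_singleton_mul.mp (h1 ha)
    exact ⟨ε, hε, h.symm⟩
  have hu : IsUnit (algebraMap H (Localization.Away t) (t ^ k)) :=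
    IsLocalization.map_units (Localization.Away t) (⟨t ^ k, k, rfl⟩ : Submonoid.powers t)
  let μ : Localization.Away t := algebraMap H _ a * ↑hu.unit⁻¹
  have hμ : awayMap (C := C) t μ = e - g ε := by
    have hu' : IsUnit (g (φ (t ^ k))) :=
      IsLocalization.map_units Ct (⟨φ (t ^ k), k, (map_pow φ t k).symm⟩ : Submonoid.powers (φ t))
    refine hu'.mul_right_cancel ?_
    rw [← awayMap_algebraMap (C := C) t (t ^ k), ← map_mul, mul_assoc, hu.val_inv_mul, mul_one,
      awayMap_algebraMap, awayMap_algebraMap, sub_mul, ← map_mul, mul_comm ε, ← hεc, map_sub]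
    rw [show g (φ (t ^ k)) = g ((φ t) ^ k) from by rw [map_pow]]
    rw [← hc]
    exact (sub_sub_cancel _ _).symm
  -- products with `e` of elements of high powers are small
  have hsmall : ∀ x ∈ (m ^ (n + 1)).map φ, ∃ y ∈ maximalIdeal C, g x * e = g y := by
    intro x hx
    refine Submodule.span_induction ?_ ⟨0, zero_mem _, by simp⟩ ?_ ?_ hx
    · rintro _ ⟨p, hp, rfl⟩
      replace hp : p ∈ m * m ^ n := by rw [← pow_succ']; exact hp
      refine Submodule.mul_induction_on hp (fun p hp q hq => ?_) ?_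
      · obtain ⟨w, hw⟩ := hn q hq
        exact ⟨φ p * w, Ideal.mul_mem_right _ _ (hm ▸ Ideal.mem_map_of_mem _ hp),
          by rw [map_mul, map_mul, map_mul, mul_assoc, hw]⟩
      · rintro u v ⟨y, hy, hy'⟩ ⟨z, hz, hz'⟩
        exact ⟨y + z, add_mem hy hz, by rw [map_add, map_add, map_add, add_mul, hy', hz']⟩
    · rintro u v _ _ ⟨y, hy, hy'⟩ ⟨z, hz, hz'⟩
      exact ⟨y + z, add_mem hy hz, by rw [map_add, map_add, add_mul, hy', hz']⟩
    · rintro r u _ ⟨y, hy, hy'⟩
      exact ⟨r * y, Ideal.mul_mem_left _ _ hy, by rw [smul_eq_mul, map_mul, map_mul, mul_assoc, hy']⟩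
  have hle : (m ^ (n + 1)).map φ ≤ maximalIdeal C := by
    rw [← hm]
    exact Ideal.map_mono (Ideal.pow_le_self (by omega))
  -- the error of `μ`
  obtain ⟨yε, hyε, hyε'⟩ := hsmall ε hε
  obtain ⟨δ, hδm, hδ⟩ : ∃ δ ∈ m, algebraMap H (Localization.Away t) δ = μ * μ - μ := by
    refine exists_eq_algebraMap (C := C) ht m _ (c := ε * ε - 2 * yε + ε) ?_ ?_
    · rw [hm]
      exact add_mem (sub_mem (Ideal.mul_mem_left _ _ (hle hε)) (Ideal.mul_mem_left _ _ hyε)) (hle hε)
    · rw [map_sub, map_mul, hμ, map_add, map_sub, map_mul, map_mul, map_ofNat, ← hyε']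
      linear_combination he.eq
  -- Newton
  obtain ⟨v, hv⟩ := (IsLocalRing.notMem_maximalIdeal.mp (fun h : (1 + 4 * δ) ∈ m =>
    (maximalIdeal.isMaximal H).ne_top ((Ideal.eq_top_iff_one _).mpr (by
      have h1 := sub_mem h (Ideal.mul_mem_left m 4 hδm)
      rwa [add_sub_cancel_right] at h1))))
  let δ' := δ * ((v⁻¹ : Hˣ) : H)
  obtain ⟨w, hw0, hwm⟩ := HenselianLocalRing.is_henselian (Polynomial.X ^ 2 + Polynomial.X + Polynomial.C δ')
    (by monicity!) 0 (by rw [show Polynomial.eval 0 (Polynomial.X ^ 2 + Polynomial.X + Polynomial.C δ') = δ' by simp]; exact Ideal.mul_mem_right _ _ hδm) (by simp)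
  rw [Polynomial.IsRoot, Polynomial.eval_add, Polynomial.eval_add, Polynomial.eval_pow, Polynomial.eval_X,
    Polynomial.eval_C] at hw0
  rw [sub_zero] at hwm
  let κ := algebraMap H (Localization.Away t)
  let e0 := μ + (2 * μ - 1) * κ w
  have he0 : e0 * e0 = e0 := by
    have h1 : κ w ^ 2 + κ w + κ δ * κ ((v⁻¹ : Hˣ) : H) = 0 := by
      rw [← map_pow, ← map_mul, ← map_add, ← map_add, hw0, map_zero]
    have h2 : κ ((v⁻¹ : Hˣ) : H) * (1 + 4 * κ δ) = 1 := by
      rw [show (1 : Localization.Away t) + 4 * κ δ = κ (v : H) by rw [hv, map_add, map_one, map_mul, map_ofNat],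
        ← map_mul, Units.inv_mul, map_one]
    have h3 : μ * μ - μ = κ δ := hδ.symm
    show (μ + (2 * μ - 1) * κ w) * (μ + (2 * μ - 1) * κ w) = μ + (2 * μ - 1) * κ w
    linear_combination (1 + 4 * κ δ) * h1 - κ δ * h2 + (1 + 4 * κ w ^ 2 + 4 * κ w) * h3
  refine ⟨e0, ?_⟩
  -- uniqueness of the lift: the difference is a small root of `y ^ 3 = y`
  let f := awayMap (C := C) t
  have hf0 : f e0 * f e0 = f e0 := by rw [← map_mul, he0]
  have hw' : ∃ y ∈ maximalIdeal C, f (μ * κ w) = g y := by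
    -- `w` is a multiple of `δ`
    have hw1 : IsUnit (1 + w) := IsLocalRing.notMem_maximalIdeal.mp fun h =>
      (maximalIdeal.isMaximal H).ne_top ((Ideal.eq_top_iff_one _).mpr (by simpa using sub_mem h hwm))
    obtain ⟨u1, hu1⟩ := hw1
    have hwd : w = δ * (-(((v⁻¹ : Hˣ) : H) * ((u1⁻¹ : Hˣ) : H))) := by
      have h : w * (1 + w) = - δ' := by linear_combination hw0
      rw [← hu1] at h
      have := congrArg (· * ((u1⁻¹ : Hˣ) : H)) h
      simp only [mul_assoc, Units.mul_inv, mul_one] at this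
      rw [this]
      show -δ' * _ = _
      simp only [δ']
      ring
    have hfd : f (μ * κ δ) = (e - g ε) * (g (ε * ε - 2 * yε + ε)) := by
      rw [map_mul, hμ, hδ, map_sub, map_mul, hμ, map_add, map_sub, map_mul,
        map_mul, map_ofNat, ← hyε']
      linear_combination (e - g ε) * he.eq
    obtain ⟨y2, hy2, hy2'⟩ : ∃ y ∈ maximalIdeal C, g yε * e = g y :=
      ⟨yε, hyε, by rw [← hyε', mul_assoc, he.eq]⟩
    obtain ⟨y1, hy1, hy1'⟩ : ∃ y ∈ maximalIdeal C, g (ε * ε) * e = g y :=
      hsmall _ (Ideal.mul_mem_left _ _ hε)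
    refine ⟨(y1 - 2 * y2 + yε - ε * (ε * ε - 2 * yε + ε)) * φ (-(((v⁻¹ : Hˣ) : H) * ((u1⁻¹ : Hˣ) : H))),
      Ideal.mul_mem_right _ _ (sub_mem (add_mem (sub_mem hy1 (Ideal.mul_mem_left _ _ hy2)) hyε)
        (Ideal.mul_mem_right _ _ (hle hε))), ?_⟩
    rw [hwd, map_mul κ, ← mul_assoc, map_mul f, hfd, awayMap_algebraMap, map_mul g]
    congr 1
    simp only [map_sub, map_add, map_mul, map_ofNat] at hy1' hy2' hyε' ⊢
    linear_combination hy1' - 2 * hy2' + hyε'
  obtain ⟨y, hy, hy'⟩ := hw'
  obtain ⟨Y, hY, hYe⟩ : ∃ Y ∈ maximalIdeal C, e - f e0 = g Y := by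
    refine ⟨ε - 2 * y + φ w, add_mem (sub_mem (hle hε) (Ideal.mul_mem_left _ _ hy))
      (hm ▸ Ideal.mem_map_of_mem _ hwm), ?_⟩
    show e - f (μ + (2 * μ - 1) * κ w) = g (ε - 2 * y + φ w)
    rw [show (2 * μ - 1) * κ w = 2 * (μ * κ w) - κ w by ring, map_add f, map_sub f, map_mul f 2, map_ofNat, hμ,
      awayMap_algebraMap, hy', map_add g, map_sub g, map_mul g, map_ofNat]
    ring
  have h3 : (e - f e0) * (1 - (e - f e0) * (e - f e0)) = 0 := by
    linear_combination (-e + 3 * f e0 - 1) * he.eq + (f e0 - 3 * e + 1) * hf0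
  rw [hYe, ← map_mul, ← map_one g, ← map_sub, ← map_mul] at h3
  have h4 := hginj (h3.trans (map_zero g).symm)
  have hu4 : IsUnit (1 - Y * Y) := IsLocalRing.notMem_maximalIdeal.mp fun h =>
    (maximalIdeal.isMaximal C).ne_top ((Ideal.eq_top_iff_one _).mpr (by
      simpa using add_mem h (Ideal.mul_mem_left _ Y hY)))
  rw [hu4.mul_left_eq_zero] at h4
  rw [h4, map_zero, sub_eq_zero] at hYe
  exact hYe.symm

end Groth.Agent.H9Hens
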