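import Groth.Agent.H9Hens.Punctured
import Groth.Agent.H9Hens.BranchNormal

/-!
# Open-closed subsets of punctured spectra descend from completions
-/

set_option linter.style.haveILetI false

universe u

open IsLocalRing TensorProduct

namespace Groth.Agent.H9Hens

theorem exists_regular_mem_maximalIdeal (H : Type u) [CommRing H] [IsNoetherianRing H] [IsLocalRing H] [IsReduced H]
    (h : maximalIdeal H ∉ minimalPrimes H) : ∃ t ∈ maximalIdeal H, t ∈ nonZeroDivisors H := by
  have hfin : (minimalPrimes H).Finite := minimalPrimes.finite_of_isNoetherianRing H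
  have hne : ¬ (maximalIdeal H : Set H) ⊆ ⋃ p ∈ (hfin.toFinset : Set (Ideal H)), (p : Set H) := by
    intro hsub
    obtain ⟨p, hp, hle⟩ := (Ideal.subset_union_prime ⊥ ⊥ fun p hp _ _ => (hfin.mem_toFinset.mp hp).1.1).mp hsub
    rw [hfin.mem_toFinset] at hp
    exact h ((IsLocalRing.maximalIdeal.isMaximal H).eq_of_le hp.1.1.ne_top hle ▸ hp)
  obtain ⟨t, htm, ht⟩ := Set.not_subset.mp hne
  refine ⟨t, htm, mem_nonZeroDivisors_iff_right.mpr fun x hx => ?_⟩
  have hmem : x ∈ sInf (minimalPrimes H) := by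
    rw [Ideal.mem_sInf]
    intro p hp
    exact (hp.1.1.mem_or_mem (hx ▸ p.zero_mem)).resolve_right fun htp =>
      ht (Set.mem_biUnion (hfin.mem_toFinset.mpr hp) htp)
  rw [show sInf (minimalPrimes H) = sInf (Ideal.minimalPrimes (⊥ : Ideal H)) from rfl, Ideal.sInf_minimalPrimes] at hmem
  exact IsReduced.eq_zero x hmem

variable {H C : Type u} [CommRing H] [HenselianLocalRing H] [IsNoetherianRing H]
  [CommRing C] [IsLocalRing C] [IsNoetherianRing C] [Algebra H C] [Module.Flat H C]
  [IsLocalHom (algebraMap H C)]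

/-- Open-closed subsets of the punctured spectrum, for a reduced base. -/
theorem exists_isOpen_preimage_eq_of_isReduced [IsReduced H]
    (hm : (maximalIdeal H).map (algebraMap H C) = maximalIdeal C)
    (hres : ∀ x : C, ∃ a : H, x - algebraMap H C a ∈ maximalIdeal C)
    (V V' : Set (PrimeSpectrum C)) (hV : IsOpen V) (hV' : IsOpen V') (hdisj : Disjoint V V')
    (hcov : V ∪ V' = {closedPoint C}ᶜ) :
    ∃ W : Set (PrimeSpectrum H), IsOpen W ∧ closedPoint H ∉ W ∧
      PrimeSpectrum.comap (algebraMap H C) ⁻¹' W = V := by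
  classical
  let φ := algebraMap H C
  have hclosed : ∀ P : PrimeSpectrum C, maximalIdeal C ≤ P.asIdeal → P = closedPoint C := fun P h =>
    PrimeSpectrum.ext ((maximalIdeal.isMaximal C).eq_of_le P.isPrime.ne_top h).symm
  by_cases hmin : maximalIdeal H ∈ minimalPrimes H
  · refine ⟨∅, isOpen_empty, fun h => h, (Set.preimage_empty).trans (Set.eq_empty_iff_forall_notMem.mpr fun P hP => ?_).symm⟩
    have hne : P ≠ closedPoint C := hcov.le (Or.inl hP)
    refine hne (hclosed P ?_)
    have hle : P.asIdeal.comap φ ≤ maximalIdeal H := le_maximalIdeal (Ideal.IsPrime.comap φ).ne_top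
    have := hmin.2 ⟨Ideal.IsPrime.comap φ, bot_le⟩ hle
    rw [← hm]
    exact Ideal.map_le_iff_le_comap.mpr this
  obtain ⟨t, htm, ht⟩ := exists_regular_mem_maximalIdeal H hmin
  let Ct := Localization.Away (φ t)
  let g := algebraMap C Ct
  have hreg : φ t ∈ nonZeroDivisors C := by
    rw [mem_nonZeroDivisors_iff_right]
    intro x hx
    exact Module.Flat.isSMulRegular_of_nonZeroDivisors (M := C) ht (by
      simpa [φ, Algebra.smul_def, mul_comm] using hx)
  have hginj : Function.Injective g := IsLocalization.injective _ (Submonoid.powers_le.mpr hreg)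
  have htC : φ t ∈ maximalIdeal C := hm.le (Ideal.mem_map_of_mem _ htm)
  -- points of the localization avoid the closed point
  have hpt : ∀ Q : PrimeSpectrum Ct, PrimeSpectrum.comap g Q ∈ V ∪ V' := fun Q => by
    rw [hcov]
    intro hQ
    have h1 : φ t ∉ (PrimeSpectrum.comap g Q).asIdeal := fun h =>
      Q.isPrime.ne_top (Ideal.eq_top_of_isUnit_mem _ h (IsLocalization.Away.algebraMap_isUnit (φ t)))
    rw [show PrimeSpectrum.comap g Q = closedPoint C from hQ] at h1
    exact h1 htC
  have hclop : IsClopen (PrimeSpectrum.comap g ⁻¹' V) := by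
    refine ⟨⟨?_⟩, hV.preimage (PrimeSpectrum.continuous_comap g)⟩
    convert hV'.preimage (PrimeSpectrum.continuous_comap g) using 1
    ext Q
    exact ⟨fun hQ => (hpt Q).resolve_left hQ, fun hQ hQ' => Set.disjoint_left.mp hdisj hQ' hQ⟩
  obtain ⟨e, he, heV⟩ := PrimeSpectrum.isClopen_iff.mp hclop
  -- local triviality of the idempotent
  have hlocal : ∀ P : PrimeSpectrum C, P ≠ closedPoint C →
      ∃ s ∉ P.asIdeal, (P ∈ V → g s * e = g s) ∧ (P ∈ V' → g s * e = 0) := by
    intro P hP
    have key : ∀ (O : Set (PrimeSpectrum C)), IsOpen O → P ∈ O → ∀ f : Ct, IsIdempotentElem f →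
        (∀ Q, PrimeSpectrum.comap g Q ∈ O → f ∈ Q.asIdeal) → ∃ s ∉ P.asIdeal, g s * f = 0 := by
      intro O hO hPO f hf hfO
      obtain ⟨_, ⟨s, rfl⟩, hPs, hsO⟩ :=
        PrimeSpectrum.isTopologicalBasis_basic_opens.exists_subset_of_mem_open hPO hO
      have hnil : IsNilpotent (g s * f) := by
        rw [← mem_nilradical, nilradical_eq_sInf, Ideal.mem_sInf]
        intro Q hQ
        by_cases hs : g s ∈ Q
        · exact Q.mul_mem_right _ hs
        · exact Q.mul_mem_left _ (hfO ⟨Q, hQ⟩ (hsO hs))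
      obtain ⟨j, hj⟩ := hnil
      refine ⟨s ^ (j + 1), fun h => hPs (P.isPrime.mem_of_pow_mem _ h), ?_⟩
      rw [map_pow, ← hf.pow_succ_eq j, ← mul_pow, pow_succ, hj, zero_mul]
    rcases (hcov.ge hP : P ∈ V ∪ V') with h | h
    · obtain ⟨s, hs, hse⟩ := key V hV h (1 - e) he.one_sub fun Q hQ => by
        have : e ∉ Q.asIdeal := heV.le hQ
        exact (Q.isPrime.mem_or_mem (show e * (1 - e) ∈ Q.asIdeal by rw [he.mul_one_sub_self]; exact Q.asIdeal.zero_mem)).resolve_left this
      refine ⟨s, hs, fun _ => ?_, fun h' => (Set.disjoint_left.mp hdisj h h').elim⟩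
      rw [mul_sub, mul_one, sub_eq_zero] at hse
      exact hse.symm
    · obtain ⟨s, hs, hse⟩ := key V' hV' h e he fun Q hQ => by
        by_contra hne
        exact Set.disjoint_left.mp hdisj (heV.ge hne) hQ
      exact ⟨s, hs, fun h' => (Set.disjoint_left.mp hdisj h' h).elim, fun _ => hse⟩
  -- a power of the maximal ideal conducts the idempotent
  let J : Ideal C :=
    { carrier := {c | ∃ c', g c * e = g c'}
      zero_mem' := ⟨0, by simp⟩
      add_mem' := fun {a b} ⟨x, hx⟩ ⟨y, hy⟩ => ⟨x + y, by rw [map_add, map_add, add_mul, hx, hy]⟩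
      smul_mem' := fun r a ⟨x, hx⟩ => ⟨r * x, by rw [smul_eq_mul, map_mul, map_mul, mul_assoc, hx]⟩ }
  obtain ⟨n, hn⟩ : ∃ n, maximalIdeal C ^ n ≤ J := by
    refine Ideal.exists_pow_le_of_le_radical_of_fg ?_ (IsNoetherian.noetherian _)
    rw [Ideal.radical_eq_sInf]
    refine le_sInf fun Q ⟨hJQ, hQ⟩ => ?_
    by_contra hne
    obtain ⟨s, hs, h1, h2⟩ := hlocal ⟨Q, hQ⟩ fun h => hne (congrArg PrimeSpectrum.asIdeal h).ge
    refine hs (hJQ ?_)
    rcases (hcov.ge (fun h => hne (congrArg PrimeSpectrum.asIdeal h).ge) : (⟨Q, hQ⟩ : PrimeSpectrum C) ∈ V ∪ V') with h | h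
    · exact ⟨s, h1 h⟩
    · exact ⟨0, (h2 h).trans (map_zero g).symm⟩
  have hnH : ∀ d ∈ maximalIdeal H ^ n, φ d ∈ maximalIdeal C ^ n := fun d hd => by
    rw [← hm, ← Ideal.map_pow]; exact Ideal.mem_map_of_mem _ hd
  obtain ⟨e0, he0⟩ := exists_descent_idempotent hm hres ht e he n fun d hd => hn (hnH d hd)
  have hx : ∀ d ∈ maximalIdeal H ^ n, ∃ x : H, g (φ d) * e = g (φ x) := fun d hd => by
    obtain ⟨c, hc⟩ := hn (hnH d hd)
    obtain ⟨x, -, hx⟩ := exists_eq_algebraMap (C := C) ht ⊤ (algebraMap H _ d * e0) (c := c)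
      (by rw [Ideal.map_top]; trivial) (by rw [map_mul, awayMap_algebraMap, he0]; exact hc)
    refine ⟨x, ?_⟩
    have := congrArg (awayMap (C := C) t) hx
    rw [map_mul, awayMap_algebraMap, awayMap_algebraMap, he0] at this
    exact this.symm
  choose x hx using hx
  refine ⟨⋃ (d : H) (hd : d ∈ maximalIdeal H ^ n), (PrimeSpectrum.basicOpen (d * x d hd) : Set (PrimeSpectrum H)) \ {closedPoint H},
    isOpen_iUnion fun d => isOpen_iUnion fun hd => (PrimeSpectrum.basicOpen _).isOpen.sdiff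
      (isClosed_singleton_closedPoint H), ?_, ?_⟩
  · simp
  have hcl : ∀ P : PrimeSpectrum C, PrimeSpectrum.comap φ P = closedPoint H → P = closedPoint C := fun P h =>
    hclosed P (hm ▸ Ideal.map_le_iff_le_comap.mpr (congrArg PrimeSpectrum.asIdeal h).ge)
  ext P
  simp only [Set.mem_preimage, Set.mem_iUnion, Set.mem_sdiff, Set.mem_singleton_iff, SetLike.mem_coe,
    PrimeSpectrum.mem_basicOpen]
  constructor
  · rintro ⟨d, hd, hdx, hne⟩
    have hP : P ≠ closedPoint C := fun h => hne (by rw [h]; exact IsLocalRing.comap_closedPoint φ)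
    obtain ⟨s, hs, -, h2⟩ := hlocal P hP
    refine ((hcov.ge hP : P ∈ V ∪ V')).resolve_right fun h => ?_
    have h3 : s * φ (x d hd) = 0 := hginj (by
      rw [map_mul, ← hx d hd, map_zero, mul_left_comm, h2 h, mul_zero])
    have h4 := (P.isPrime.mem_or_mem (h3 ▸ P.asIdeal.zero_mem)).resolve_left hs
    exact hdx (Ideal.mul_mem_left _ _ h4)
  · intro hP
    have hne : P ≠ closedPoint C := hcov.le (Or.inl hP)
    have hne' : PrimeSpectrum.comap φ P ≠ closedPoint H := fun h => hne (hcl P h)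
    have hd : ∃ d ∈ maximalIdeal H ^ n, d ∉ (PrimeSpectrum.comap φ P).asIdeal := by
      by_contra hall
      push Not at hall
      have hle := (PrimeSpectrum.comap φ P).isPrime.le_of_pow_le hall
      exact hne' (PrimeSpectrum.ext ((maximalIdeal.isMaximal H).eq_of_le
        (PrimeSpectrum.comap φ P).isPrime.ne_top hle).symm)
    obtain ⟨d, hd, hdP⟩ := hd
    obtain ⟨s, hs, h1, -⟩ := hlocal P hne
    refine ⟨d, hd, fun hmem => ?_, hne'⟩
    have h3 : s * φ (x d hd) = s * φ d := hginj (by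
      rw [map_mul, map_mul, ← hx d hd, mul_left_comm, h1 hP, mul_comm])
    rcases (PrimeSpectrum.comap φ P).isPrime.mem_or_mem hmem with h | h
    · exact hdP h
    · exact hdP ((P.isPrime.mem_or_mem (h3 ▸ Ideal.mul_mem_left _ s h)).resolve_left hs)

omit [IsLocalHom (algebraMap H C)] in
/-- Open-closed subsets of the punctured spectrum descend. -/
theorem exists_isOpen_preimage_eq (hm : (maximalIdeal H).map (algebraMap H C) = maximalIdeal C)
    (hres : ∀ x : C, ∃ a : H, x - algebraMap H C a ∈ maximalIdeal C)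
    (V V' : Set (PrimeSpectrum C)) (hV : IsOpen V) (hV' : IsOpen V') (hdisj : Disjoint V V')
    (hcov : V ∪ V' = {closedPoint C}ᶜ) :
    ∃ W : Set (PrimeSpectrum H), IsOpen W ∧ closedPoint H ∉ W ∧
      PrimeSpectrum.comap (algebraMap H C) ⁻¹' W = V := by
  let N := nilradical H
  let J := N.map (algebraMap H C)
  have hN : N ≤ maximalIdeal H := nilradical_le_prime _
  have hJ : J ≤ nilradical C := Ideal.map_le_iff_le_comap.mpr fun x hx =>
    (mem_nilradical (R := C)).mpr ((mem_nilradical.mp hx).map _)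
  have hJm : J ≤ maximalIdeal C := hJ.trans (nilradical_le_prime _)
  have : Nontrivial (H ⧸ N) := Ideal.Quotient.nontrivial_iff.mpr
    fun h => (maximalIdeal.isMaximal H).ne_top (top_le_iff.mp (h ▸ hN))
  have : IsLocalRing (H ⧸ N) := .of_surjective' _ Ideal.Quotient.mk_surjective
  have : Nontrivial (C ⧸ J) := Ideal.Quotient.nontrivial_iff.mpr
    fun h => (maximalIdeal.isMaximal C).ne_top (top_le_iff.mp (h ▸ hJm))
  have : IsLocalRing (C ⧸ J) := .of_surjective' _ Ideal.Quotient.mk_surjective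
  have : HenselianLocalRing (H ⧸ N) := henselianLocalRing_quotient _
  have : IsReduced (H ⧸ N) := (Ideal.isRadical_iff_quotient_reduced _).mp (Ideal.radical_isRadical _)
  have : IsLocalHom (Ideal.Quotient.mk N) := IsLocalHom.of_surjective _ Ideal.Quotient.mk_surjective
  have : IsLocalHom (Ideal.Quotient.mk J) := IsLocalHom.of_surjective _ Ideal.Quotient.mk_surjective
  have hsq : (algebraMap (H ⧸ N) (C ⧸ J)).comp (Ideal.Quotient.mk N) = (Ideal.Quotient.mk J).comp (algebraMap H C) :=
    RingHom.ext fun x => rfl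
  have hm0 : (maximalIdeal (H ⧸ N)).map (algebraMap (H ⧸ N) (C ⧸ J)) = maximalIdeal (C ⧸ J) := by
    rw [← IsLocalRing.map_maximalIdeal_of_surjective _ (Ideal.Quotient.mk_surjective (I := N)), Ideal.map_map, hsq,
      ← Ideal.map_map, hm, IsLocalRing.map_maximalIdeal_of_surjective _ (Ideal.Quotient.mk_surjective (I := J))]
  have : IsLocalHom (algebraMap (H ⧸ N) (C ⧸ J)) := ((local_hom_TFAE _).out 2 0).mp hm0.le
  have : Module.Flat (H ⧸ N) (C ⧸ J) := Module.Flat.of_linearEquiv (LinearEquiv.extendScalarsOfSurjective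
    Ideal.Quotient.mk_surjective (((Algebra.TensorProduct.quotIdealMapEquivTensorQuot C N).restrictScalars H).toLinearEquiv.trans
      (TensorProduct.comm H C (H ⧸ N))))
  have hres0 : ∀ x : C ⧸ J, ∃ a : H ⧸ N, x - algebraMap (H ⧸ N) (C ⧸ J) a ∈ maximalIdeal (C ⧸ J) := fun x => by
    obtain ⟨x, rfl⟩ := Ideal.Quotient.mk_surjective x
    obtain ⟨a, ha⟩ := hres x
    refine ⟨Ideal.Quotient.mk N a, ?_⟩
    rw [← IsLocalRing.map_maximalIdeal_of_surjective _ (Ideal.Quotient.mk_surjective (I := J))]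
    have := Ideal.mem_map_of_mem (Ideal.Quotient.mk J) ha
    rwa [map_sub] at this
  have hhH : IsHomeomorph (PrimeSpectrum.comap (Ideal.Quotient.mk N)) := PrimeSpectrum.isHomeomorph_comap _
    (fun x => ⟨1, one_pos, by rw [pow_one]; exact Ideal.Quotient.mk_surjective x⟩) Ideal.mk_ker.le
  have hhC : IsHomeomorph (PrimeSpectrum.comap (Ideal.Quotient.mk J)) := PrimeSpectrum.isHomeomorph_comap _
    (fun x => ⟨1, one_pos, by rw [pow_one]; exact Ideal.Quotient.mk_surjective x⟩) (Ideal.mk_ker.le.trans hJ)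
  let cC := PrimeSpectrum.comap (Ideal.Quotient.mk J)
  obtain ⟨W, hW, hWc, hWV⟩ := exists_isOpen_preimage_eq_of_isReduced hm0 hres0 (cC ⁻¹' V) (cC ⁻¹' V')
    (hV.preimage hhC.continuous) (hV'.preimage hhC.continuous) (hdisj.preimage _) (by
      rw [← Set.preimage_union, hcov, Set.preimage_compl]
      refine congrArg _ (Set.ext fun P => ?_)
      rw [Set.mem_preimage, Set.mem_singleton_iff, Set.mem_singleton_iff,
        show closedPoint C = cC (closedPoint (C ⧸ J)) from (IsLocalRing.comap_closedPoint _).symm]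
      exact hhC.injective.eq_iff)
  refine ⟨PrimeSpectrum.comap (Ideal.Quotient.mk N) '' W, hhH.isOpenMap _ hW, ?_, ?_⟩
  · rw [← IsLocalRing.comap_closedPoint (Ideal.Quotient.mk N)]
    rintro ⟨P, hP, h⟩
    exact hWc (hhH.injective h ▸ hP)
  · apply hhC.surjective.preimage_injective
    rw [← Set.preimage_comp, ← hWV]
    show (fun P => PrimeSpectrum.comap (algebraMap H C) (cC P)) ⁻¹' _ = _
    simp only [cC, ← PrimeSpectrum.comap_comp_apply, ← hsq]
    simp only [PrimeSpectrum.comap_comp_apply]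
    exact (Set.preimage_preimage ..).symm.trans (congrArg _ (Set.preimage_image_eq _ hhH.injective))

end Groth.Agent.H9Hens
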