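import Mathlib.RingTheory.Etale.Basic
import Mathlib.RingTheory.Spectrum.Prime.Topology
import Mathlib.Tactic.Ring

/-!
Principal open neighbourhoods of a closed subset as etale neighbourhoods.
-/

universe u

namespace Groth.Agent.H9Hens

variable {R : Type u} [CommRing R] (J : Ideal R)

/-- An open set containing `V(J)` contains some `D(g)` with `g ≡ 1 mod J`. -/
theorem exists_sub_one_mem_of_isOpen {U : Set (PrimeSpectrum R)} (hU : IsOpen U)
    (h : PrimeSpectrum.zeroLocus (J : Set R) ⊆ U) :
    ∃ g : R, g - 1 ∈ J ∧ (PrimeSpectrum.basicOpen g : Set (PrimeSpectrum R)) ⊆ U := by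
  obtain ⟨s, hs⟩ := (PrimeSpectrum.isClosed_iff_zeroLocus _).mp hU.isClosed_compl
  have htop : Ideal.span s ⊔ J = ⊤ := by
    by_contra hne
    obtain ⟨M, hM, hle⟩ := Ideal.exists_le_maximal _ hne
    have h1 : (⟨M, hM.isPrime⟩ : PrimeSpectrum R) ∈ PrimeSpectrum.zeroLocus s :=
      (Ideal.subset_span).trans (le_sup_left.trans hle : Ideal.span s ≤ M)
    rw [← hs] at h1
    exact h1 (h (le_sup_right.trans hle : J ≤ M))
  obtain ⟨g, hg, c, hc, hgc⟩ := Submodule.mem_sup.mp (htop ▸ Submodule.mem_top : (1 : R) ∈ _)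
  refine ⟨g, ?_, fun q hq => ?_⟩
  · rw [← hgc, sub_add_cancel_left]
    exact neg_mem hc
  · by_contra hcon
    have h1 : q ∈ Uᶜ := hcon
    rw [hs] at h1
    exact hq (Ideal.span_le.mpr h1 hg)

/-- Inverting an element congruent to one does not change the quotient. -/
theorem bijective_quotientMap_away {g : R} (hg : g - 1 ∈ J) :
    Function.Bijective (Ideal.quotientMap (J.map (algebraMap R (Localization.Away g)))
      (algebraMap R (Localization.Away g)) Ideal.le_comap_map) := by
  have hg' : Ideal.Quotient.mk J g = 1 := by rw [← map_one (Ideal.Quotient.mk J)]; exact Ideal.Quotient.eq.mpr hg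
  let ψ : Localization.Away g →+* R ⧸ J := IsLocalization.Away.lift g (g := Ideal.Quotient.mk J) (by rw [hg']; exact isUnit_one)
  have hψ : ∀ a, ψ (algebraMap R _ a) = Ideal.Quotient.mk J a := fun a => IsLocalization.Away.lift_eq g _ a
  refine ⟨(injective_iff_map_eq_zero _).mpr fun y hy => ?_, fun y => ?_⟩
  · obtain ⟨a, rfl⟩ := Ideal.Quotient.mk_surjective y
    rw [Ideal.quotientMap_mk, Ideal.Quotient.eq_zero_iff_mem] at hy
    have h1 := Ideal.mem_map_of_mem ψ hy
    rw [Ideal.map_map, show ψ.comp (algebraMap R _) = Ideal.Quotient.mk J from RingHom.ext hψ,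
      Ideal.map_quotient_self, Ideal.mem_bot, hψ] at h1
    exact h1
  · obtain ⟨y, rfl⟩ := Ideal.Quotient.mk_surjective y
    obtain ⟨a, m, rfl⟩ := IsLocalization.exists_mk'_eq (Submonoid.powers g) y
    obtain ⟨n, hn⟩ := m.2
    let π := Ideal.Quotient.mk (J.map (algebraMap R (Localization.Away g)))
    refine ⟨Ideal.Quotient.mk _ a, ?_⟩
    rw [Ideal.quotientMap_mk]
    have h1 : π (algebraMap R _ g) = 1 := by
      rw [← map_one π, Ideal.Quotient.eq, ← map_one (algebraMap R (Localization.Away g)), ← map_sub]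
      exact Ideal.mem_map_of_mem _ hg
    have h2 := congrArg π (IsLocalization.mk'_spec (Localization.Away g) a m)
    rw [map_mul, ← hn, map_pow, map_pow, h1, one_pow, mul_one] at h2
    exact h2.symm

end Groth.Agent.H9Hens
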